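import Cfsg.Agent.Lib.Helper37.OrthStruct

set_option autoImplicit false

namespace Cfsg.Agent.Lib.Helper37

open Module Matrix Finset

namespace IsGram

variable {κ : Type} [Fintype κ] [DecidableEq κ] {F : Type*} [Field F] [Fintype F] [DecidableEq F]
  {Q : (κ → F) → F} {G : Matrix κ κ F}

/-- a product of reflections on which both sign characters are trivial has even length and
square norm product -/
theorem even_and_isSquare_of_signChar (h : IsGram Q G) (g : ↥(Cfsg.isometryGroup F Q))
    (vs : List (κ → F)) (hvs : ∀ v ∈ vs, Q v ≠ 0)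
    (hg : toMat Q g = (vs.map (fun v => Cfsg.reflectionMatrix Q v)).prod)
    (α : F) (hα : ¬ IsSquare α)
    (h1 : signChar Q 1 g = 1) (hα1 : signChar Q α g = 1) :
    Even vs.length ∧ IsSquare (vs.map (fun v => Q v)).prod := by
  classical
  have hg' : g = (vs.map h.reflG').prod := by
    apply toMat_injective
    rw [hg, h.toMat_list vs hvs]
  rw [hg', h.signChar_list vs hvs, neg_one_pow_eq_one_iff_even] at h1 hα1
  have e1 : vs.countP (fun v => ∃ t : F, t ≠ 0 ∧ Q v * t ^ 2 = 1) =
      vs.countP (fun v => IsSquare (Q v)) := by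
    apply List.countP_congr
    intro v hv
    simp only [decide_eq_true_eq]
    exact exists_sq_one_iff (Q v) (hvs v hv)
  have e2 : vs.countP (fun v => ∃ t : F, t ≠ 0 ∧ Q v * t ^ 2 = α) =
      vs.countP (fun v => ¬ IsSquare (Q v)) := by
    apply List.countP_congr
    intro v hv
    simp only [decide_eq_true_eq]
    exact exists_sq_nonsq_iff (Q v) α (hvs v hv) hα
  rw [e1] at h1
  rw [e2] at hα1
  constructor
  · rw [List.length_eq_countP_add_countP (fun v => IsSquare (Q v)) (l := vs)]
    have : vs.countP (fun a => decide ¬ decide (IsSquare (Q a)) = true) =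
        vs.countP (fun v => ¬ IsSquare (Q v)) := by
      apply List.countP_congr
      intro v _
      simp
    rw [this]
    exact Even.add h1 hα1
  · rw [isSquare_list_prod_iff (vs.map (fun v => Q v))
      (by
        intro a ha
        obtain ⟨v, hv, rfl⟩ := List.mem_map.mp ha
        exact hvs v hv)]
    rw [List.countP_map]
    have : vs.countP ((fun a => decide (¬ IsSquare a)) ∘ fun v => Q v) =
        vs.countP (fun v => ¬ IsSquare (Q v)) := by
      apply List.countP_congr
      intro v _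
      simp
    rw [this]
    exact hα1

/-- a nondegenerate form in dimension at least two over a finite field of odd characteristic
represents every scalar -/
theorem universal (h : IsGram Q G) (hdet : G.det ≠ 0) (hn : 2 ≤ Fintype.card κ) (c : F) :
    ∃ v, Q v = c := by
  obtain ⟨u₁, hu₁, -⟩ := h.exists_nonsingular_perp hdet (k := 0) (fun i => i.elim0)
    (fun i => i.elim0) (fun i => i.elim0) (by omega)
  obtain ⟨u₂, hu₂, hperp⟩ := h.exists_nonsingular_perp hdet (k := 1) (fun _ => u₁)
    (fun i j hij => absurd (Subsingleton.elim i j) hij) (fun _ => hu₁) (by omega)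
  obtain ⟨x, y, hxy⟩ := Cfsg.Agent.S0756.exists_sq_add_sq h.two_ne (Q u₁) (Q u₂) c hu₁ hu₂
  refine ⟨x • u₁ + y • u₂, ?_⟩
  rw [h.Q_add, h.Q_smul, h.Q_smul]
  simp only [map_smul, LinearMap.smul_apply, smul_eq_mul, hperp 0]
  linear_combination hxy

/-- the pair of sign characters -/
def signPair (Q : (κ → F) → F) (α : F) : ↥(Cfsg.isometryGroup F Q) →* ℤˣ × ℤˣ :=
  (signChar Q 1).prod (signChar Q α)

theorem ker_signPair (h : IsGram Q G) (hdet : G.det ≠ 0) (α : F) (hα : ¬ IsSquare α) :
    (signPair Q α).ker = Cfsg.Omega F Q := by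
  apply le_antisymm
  · intro g hg
    rw [MonoidHom.mem_ker] at hg
    have h1 : signChar Q 1 g = 1 := congrArg Prod.fst hg
    have hα1 : signChar Q α g = 1 := congrArg Prod.snd hg
    obtain ⟨vs, hvs, hprod⟩ := h.cartan_dieudonne hdet g
    obtain ⟨hev, hsq⟩ := h.even_and_isSquare_of_signChar g vs hvs hprod α hα h1 hα1
    exact h.mem_omega_of_even_and_isSquare g vs hvs hprod hev hsq
  · intro g hg
    rw [MonoidHom.mem_ker]
    exact Prod.ext (signChar_eq_one_of_mem_omega Q 1 g hg) (signChar_eq_one_of_mem_omega Q α g hg)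

theorem signPair_surjective (h : IsGram Q G) (hdet : G.det ≠ 0) (hn : 2 ≤ Fintype.card κ)
    (α : F) (hα : ¬ IsSquare α) : Function.Surjective (signPair Q α) := by
  obtain ⟨v₁, hv₁⟩ := h.universal hdet hn 1
  obtain ⟨v₂, hv₂⟩ := h.universal hdet hn α
  have hα0 : α ≠ 0 := by
    rintro rfl
    exact hα ⟨0, by simp⟩
  have hv₁0 : Q v₁ ≠ 0 := by rw [hv₁]; exact one_ne_zero
  have hv₂0 : Q v₂ ≠ 0 := by rw [hv₂]; exact hα0
  have a1 : signChar Q 1 (h.reflG v₁ hv₁0) = -1 :=
    (h.signChar_refl v₁ hv₁0 1).1 ⟨1, one_ne_zero, by rw [hv₁]; ring⟩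
  have a2 : signChar Q α (h.reflG v₁ hv₁0) = 1 :=
    (h.signChar_refl v₁ hv₁0 α).2 (by
      rintro ⟨t, _, ht⟩
      apply hα
      refine ⟨t, ?_⟩
      rw [← ht, hv₁]; ring)
  have b1 : signChar Q 1 (h.reflG v₂ hv₂0) = 1 :=
    (h.signChar_refl v₂ hv₂0 1).2 (by
      rintro ⟨t, ht0, ht⟩
      apply hα
      refine ⟨t⁻¹, ?_⟩
      rw [hv₂] at ht
      field_simp
      linear_combination ht)
  have b2 : signChar Q α (h.reflG v₂ hv₂0) = -1 :=
    (h.signChar_refl v₂ hv₂0 α).1 ⟨1, one_ne_zero, by rw [hv₂]; ring⟩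
  have e1 : signPair Q α (h.reflG v₁ hv₁0) = (-1, 1) := Prod.ext a1 a2
  have e2 : signPair Q α (h.reflG v₂ hv₂0) = (1, -1) := Prod.ext b1 b2
  rintro ⟨a, b⟩
  rcases Int.units_eq_one_or a with rfl | rfl <;> rcases Int.units_eq_one_or b with rfl | rfl
  · exact ⟨1, map_one _⟩
  · exact ⟨h.reflG v₂ hv₂0, e2⟩
  · exact ⟨h.reflG v₁ hv₁0, e1⟩
  · refine ⟨h.reflG v₁ hv₁0 * h.reflG v₂ hv₂0, ?_⟩
    rw [map_mul, e1, e2]
    rfl

end IsGram

/-- `Ω` has index four in the isometry group (odd characteristic, dimension at least two) -/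
theorem index_omega_eq_four {κ : Type} [Fintype κ] [DecidableEq κ] {F : Type*} [Field F]
    [Fintype F] {Q : (κ → F) → F} {G : Matrix κ κ F} (h : IsGram Q G) (hdet : G.det ≠ 0)
    (hn : 2 ≤ Fintype.card κ) : (Cfsg.Omega F Q).index = 4 := by
  classical
  obtain ⟨α, hα⟩ := FiniteField.exists_nonsquare (ringChar_ne_two_of_two_ne_zero h.two_ne) (F := F)
  rw [← h.ker_signPair hdet α hα, Subgroup.index_ker,
    MonoidHom.range_eq_top.mpr (h.signPair_surjective hdet hn α hα), Subgroup.card_top,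
    Nat.card_eq_fintype_card, Fintype.card_prod, Fintype.card_units_int]

end Cfsg.Agent.Lib.Helper37
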