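import Cfsg.Agent.Lib.Helper37.PlusType

set_option autoImplicit false

namespace Cfsg.Agent.Lib.Helper37

open Module Matrix

/-- the Gram matrix of the polar form of `quadFormMinus` -/
def gramM (k : ℕ) (F : Type*) [Field F] (a b : F) :
    Matrix ((Fin k ⊕ Fin k) ⊕ Fin 2) ((Fin k ⊕ Fin k) ⊕ Fin 2) F :=
  Matrix.fromBlocks (gramP k F) 0 0 !![2, a; a, 2 * b]

theorem gramM_isSymm (k : ℕ) (F : Type*) [Field F] (a b : F) : (gramM k F a b).IsSymm := by
  unfold gramM
  apply Matrix.IsSymm.fromBlocks (gramP_isSymm k F)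
  · simp
  · ext i j
    fin_cases i <;> fin_cases j <;> rfl

theorem gramM_self (k : ℕ) (F : Type*) [Field F] (a b : F)
    (u : (Fin k ⊕ Fin k) ⊕ Fin 2 → F) :
    Matrix.toBilin' (gramM k F a b) u u = 2 * Cfsg.quadFormMinus k F a b u := by
  rw [Matrix.toBilin'_apply']
  unfold gramM gramP Cfsg.quadFormMinus
  simp [dotProduct, Fintype.sum_sum_type, Matrix.mulVec, Matrix.one_apply, Fin.sum_univ_two]
  have : ∑ x, u (Sum.inl (Sum.inr x)) * u (Sum.inl (Sum.inl x)) =
      ∑ x, u (Sum.inl (Sum.inl x)) * u (Sum.inl (Sum.inr x)) :=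
    Finset.sum_congr rfl (fun x _ => mul_comm _ _)
  rw [this]
  ring

theorem gramM_det (k : ℕ) (F : Type*) [Field F] (a b : F) :
    (gramM k F a b).det = (-1) ^ (k + 1) * (a ^ 2 - 4 * b) := by
  unfold gramM
  rw [Matrix.det_fromBlocks_zero₂₁, gramP_det, Matrix.det_fin_two_of]
  ring

/-- the discriminant of an anisotropic binary form is not a square -/
theorem disc_nonsquare {F : Type*} [Field F] (h2 : (2 : F) ≠ 0) (a b : F)
    (hab : ∀ z₁ z₂ : F, z₁ ^ 2 + a * z₁ * z₂ + b * z₂ ^ 2 = 0 → z₁ = 0 ∧ z₂ = 0) :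
    ¬ IsSquare (a ^ 2 - 4 * b) := by
  rintro ⟨s, hs⟩
  have h := hab ((-a + s) / 2) 1 (by
    field_simp
    linear_combination -hs)
  exact one_ne_zero h.2

/-- multiplying by a nonsquare switches squares and nonsquares -/
theorem isSquare_mul_nonsquare_iff {F : Type*} [Field F] [Fintype F] (x δ : F) (hx : x ≠ 0)
    (hδ : ¬ IsSquare δ) : IsSquare (x * δ) ↔ ¬ IsSquare x := by
  classical
  have hδ0 : δ ≠ 0 := by
    rintro rfl
    exact hδ ⟨0, by simp⟩
  have h1 : quadraticChar F δ = -1 := quadraticChar_neg_one_iff_not_isSquare.mpr hδ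
  rw [← quadraticChar_one_iff_isSquare (mul_ne_zero hx hδ0), map_mul, h1,
    ← quadraticChar_neg_one_iff_not_isSquare]
  constructor
  · intro h; linarith
  · intro h; rw [h]; norm_num

theorem minus_card (m : ℕ) (hm : 1 ≤ m) :
    Fintype.card ((Fin (m - 1) ⊕ Fin (m - 1)) ⊕ Fin 2) = (2 * m - 1) + 1 := by
  simp [Fintype.card_sum]; omega

/-- the discriminant of the minus-type form is a square iff `q ^ m ≡ 3 (mod 4)` -/
theorem isSquare_gramM_det_iff {F : Type*} [Field F] [Fintype F]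
    (hodd : Odd (Fintype.card F)) (m : ℕ) (hm : 1 ≤ m) (a b : F)
    (hab : ∀ z₁ z₂ : F, z₁ ^ 2 + a * z₁ * z₂ + b * z₂ ^ 2 = 0 → z₁ = 0 ∧ z₂ = 0) :
    IsSquare (gramM (m - 1) F a b).det ↔ Fintype.card F ^ m % 4 = 3 := by
  have h2 : (2 : F) ≠ 0 := two_ne_zero_of_odd_card hodd
  have e : m - 1 + 1 = m := by omega
  rw [gramM_det, e, isSquare_mul_nonsquare_iff _ _ (pow_ne_zero _ (by simp))
    (disc_nonsquare h2 a b hab), isSquare_neg_one_pow_iff hodd m]
  have := pow_mod_four_cases (Fintype.card F) m hodd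
  omega

end Cfsg.Agent.Lib.Helper37
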