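import Cfsg.Agent.Lib.Helper37.ReflSign
import Cfsg.Agent.Lib.Helper37.MinusType

set_option autoImplicit false

namespace Cfsg.Agent.Lib.Helper37

open Module Matrix Finset
open scoped commutatorElement

/-- product of signs over a list -/
theorem list_prod_sign {α : Type*} (f : α → ℤˣ) (p : α → Prop) [DecidablePred p] (vs : List α)
    (h1 : ∀ a ∈ vs, p a → f a = -1) (h2 : ∀ a ∈ vs, ¬ p a → f a = 1) :
    (vs.map f).prod = (-1) ^ (vs.countP p) := by
  induction vs with
  | nil => simp
  | cons a l ih =>
    have ih' := ih (fun b hb => h1 b (List.mem_cons_of_mem a hb))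
      (fun b hb => h2 b (List.mem_cons_of_mem a hb))
    rw [List.map_cons, List.prod_cons, ih']
    by_cases hp : p a
    · rw [h1 a List.mem_cons_self hp, List.countP_cons_of_pos (by simpa using hp), pow_succ]
      simp
    · rw [h2 a List.mem_cons_self hp, List.countP_cons_of_neg (by simpa using hp)]
      simp

theorem neg_one_pow_eq_one_iff_even (n : ℕ) : (-1 : ℤˣ) ^ n = 1 ↔ Even n := by
  constructor
  · intro h
    by_contra hn
    rw [Nat.not_even_iff_odd] at hn
    rw [hn.neg_one_pow] at h
    exact absurd h (by decide)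
  · intro h
    exact h.neg_one_pow

/-- squareness of a product in a finite field of odd characteristic -/
theorem isSquare_list_prod_iff {F : Type*} [Field F] [Fintype F] (vs : List F)
    (h0 : ∀ a ∈ vs, a ≠ 0) [DecidablePred (fun a : F => ¬ IsSquare a)] :
    IsSquare vs.prod ↔ Even (vs.countP (fun a => ¬ IsSquare a)) := by
  induction vs with
  | nil => simp
  | cons a l ih =>
    have ih' := ih (fun b hb => h0 b (List.mem_cons_of_mem a hb))
    have ha : a ≠ 0 := h0 a List.mem_cons_self
    have hl : l.prod ≠ 0 := by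
      apply List.prod_ne_zero
      intro h
      exact h0 0 (List.mem_cons_of_mem a h) rfl
    rw [List.prod_cons]
    by_cases hp : IsSquare a
    · rw [List.countP_cons_of_neg (by simpa using hp), ← ih']
      obtain ⟨s, hs⟩ := hp
      have hs0 : s ≠ 0 := by
        rintro rfl
        apply ha; simpa using hs
      constructor
      · rintro ⟨r, hr⟩
        refine ⟨r / s, ?_⟩
        rw [hs] at hr
        field_simp
        linear_combination hr
      · rintro ⟨r, hr⟩
        exact ⟨s * r, by rw [hs, hr]; ring⟩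
    · rw [List.countP_cons_of_pos (by simpa using hp), Nat.even_add_one, ← ih', mul_comm,
        isSquare_mul_nonsquare_iff _ _ hl hp]

theorem int_sign_aux (a b c d : ℤ) (ha : a = 1 ∨ a = -1) (hb : b = 1 ∨ b = -1)
    (hc : c = 1 ∨ c = -1) (hd : d = 1 ∨ d = -1) (h : a * b * (c * d) = 1) :
    (a = c → b * d = 1) ∧ (a ≠ c → b = c → a * d = 1) ∧
      (a ≠ c → b ≠ c → a = b ∧ c * d = 1) := by
  rcases ha with rfl | rfl <;> rcases hb with rfl | rfl <;> rcases hc with rfl | rfl <;>
    rcases hd with rfl | rfl <;> first | (exfalso; norm_num at h; done) | norm_num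

theorem int_sign_aux2 (a b : ℤ) (ha : a = 1 ∨ a = -1) (hb : b = 1 ∨ b = -1)
    (h : a * b = 1) : a = b := by
  rcases ha with rfl | rfl <;> rcases hb with rfl | rfl <;>
    first | (exfalso; norm_num at h; done) | norm_num

/-- the matrix of an isometry, as a monoid homomorphism -/
def toMat {κ : Type} [Fintype κ] [DecidableEq κ] {F : Type*} [Field F] (Q : (κ → F) → F) :
    ↥(Cfsg.isometryGroup F Q) →* Matrix κ κ F :=
  (Units.coeHom (Matrix κ κ F)).comp (Subgroup.subtype _)

theorem toMat_apply {κ : Type} [Fintype κ] [DecidableEq κ] {F : Type*} [Field F]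
    (Q : (κ → F) → F) (g : ↥(Cfsg.isometryGroup F Q)) :
    toMat Q g = ((g : Matrix.GeneralLinearGroup κ F) : Matrix κ κ F) := rfl

theorem toMat_injective {κ : Type} [Fintype κ] [DecidableEq κ] {F : Type*} [Field F]
    (Q : (κ → F) → F) : Function.Injective (toMat Q) := by
  intro a b h
  exact Subtype.ext (Units.ext h)

theorem ringChar_ne_two_of_two_ne_zero {F : Type*} [Field F] (h2 : (2 : F) ≠ 0) :
    ringChar F ≠ 2 := by
  intro h
  apply h2
  have := ringChar.Nat.cast_ringChar (R := F)
  rw [h] at this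
  exact_mod_cast this

namespace IsGram

variable {κ : Type} [Fintype κ] [DecidableEq κ] {F : Type*} [Field F] [Fintype F] [DecidableEq F]
  {Q : (κ → F) → F} {G : Matrix κ κ F}

/-- the reflection in `v`, or the identity when `v` is singular -/
noncomputable def reflG' (h : IsGram Q G) (v : κ → F) : ↥(Cfsg.isometryGroup F Q) :=
  if hv : Q v ≠ 0 then h.reflG v hv else 1

theorem reflG'_of_ne (h : IsGram Q G) (v : κ → F) (hv : Q v ≠ 0) :
    h.reflG' v = h.reflG v hv := dif_pos hv

theorem toMat_list (h : IsGram Q G) (vs : List (κ → F)) (hvs : ∀ v ∈ vs, Q v ≠ 0) :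
    toMat Q ((vs.map h.reflG').prod) = (vs.map (fun v => Cfsg.reflectionMatrix Q v)).prod := by
  rw [map_list_prod, List.map_map]
  congr 1
  apply List.map_congr_left
  intro v hv
  simp only [Function.comp_apply]
  rw [h.reflG'_of_ne v (hvs v hv)]
  rfl

theorem signChar_list (h : IsGram Q G) (vs : List (κ → F)) (hvs : ∀ v ∈ vs, Q v ≠ 0) (c : F)
    [DecidablePred (fun v : κ → F => ∃ t : F, t ≠ 0 ∧ Q v * t ^ 2 = c)] :
    signChar Q c ((vs.map h.reflG').prod) =
      (-1) ^ (vs.countP (fun v => ∃ t : F, t ≠ 0 ∧ Q v * t ^ 2 = c)) := by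
  rw [map_list_prod, List.map_map]
  apply list_prod_sign
  · intro v hv hp
    simp only [Function.comp_apply]
    rw [h.reflG'_of_ne v (hvs v hv)]
    exact (h.signChar_refl v (hvs v hv) c).1 hp
  · intro v hv hp
    simp only [Function.comp_apply]
    rw [h.reflG'_of_ne v (hvs v hv)]
    exact (h.signChar_refl v (hvs v hv) c).2 hp

theorem exists_sq_one_iff (a : F) (ha : a ≠ 0) :
    (∃ t : F, t ≠ 0 ∧ a * t ^ 2 = 1) ↔ IsSquare a := by
  constructor
  · rintro ⟨t, ht, h'⟩
    refine ⟨t⁻¹, ?_⟩
    field_simp
    linear_combination h'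
  · rintro ⟨s, hs⟩
    have hs0 : s ≠ 0 := by
      rintro rfl
      apply ha; simpa using hs
    refine ⟨s⁻¹, inv_ne_zero hs0, ?_⟩
    rw [hs]
    field_simp

theorem exists_sq_nonsq_iff (a α : F) (ha : a ≠ 0) (hα : ¬ IsSquare α) :
    (∃ t : F, t ≠ 0 ∧ a * t ^ 2 = α) ↔ ¬ IsSquare a := by
  constructor
  · rintro ⟨t, ht, h'⟩ ⟨s, hs⟩
    apply hα
    refine ⟨s * t, ?_⟩
    rw [← h', hs]; ring
  · intro hns
    have h1 : IsSquare (a * α) := (isSquare_mul_nonsquare_iff a α ha hα).mpr hns
    obtain ⟨s, hs⟩ := h1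
    have hα0 : α ≠ 0 := by
      rintro rfl
      exact hα ⟨0, by simp⟩
    have hs0 : s ≠ 0 := by
      rintro rfl
      have : a * α = 0 := by simpa using hs
      exact (mul_ne_zero ha hα0) this
    refine ⟨s / a, div_ne_zero hs0 ha, ?_⟩
    field_simp
    linear_combination -hs

/-- forward direction of the spinor norm criterion -/
theorem even_and_isSquare_of_mem_omega (h : IsGram Q G) (g : ↥(Cfsg.isometryGroup F Q))
    (vs : List (κ → F)) (hvs : ∀ v ∈ vs, Q v ≠ 0)
    (hg : toMat Q g = (vs.map (fun v => Cfsg.reflectionMatrix Q v)).prod)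
    (hgΩ : g ∈ Cfsg.Omega F Q) : Even vs.length ∧ IsSquare (vs.map (fun v => Q v)).prod := by
  classical
  have hg' : g = (vs.map h.reflG').prod := by
    apply toMat_injective
    rw [hg, h.toMat_list vs hvs]
  obtain ⟨α, hα⟩ := FiniteField.exists_nonsquare (ringChar_ne_two_of_two_ne_zero h.two_ne) (F := F)
  have h1 := signChar_eq_one_of_mem_omega Q 1 g hgΩ
  have hα1 := signChar_eq_one_of_mem_omega Q α g hgΩ
  rw [hg', h.signChar_list vs hvs, neg_one_pow_eq_one_iff_even] at h1 hα1
  have e1 : vs.countP (fun v => ∃ t : F, t ≠ 0 ∧ Q v * t ^ 2 = 1) =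
      vs.countP (fun v => IsSquare (Q v)) := by
    apply List.countP_congr
    intro v hv
    simp only [decide_eq_true_eq]
    exact exists_sq_one_iff (Q v) (hvs v hv)
  have e2 : vs.countP (fun v => ∃ t : F, t ≠ 0 ∧ Q v * t ^ 2 = α) =
      vs.countP (fun v => ¬ IsSquare (Q v)) := by
    apply List.countP_congr
    intro v hv
    simp only [decide_eq_true_eq]
    exact exists_sq_nonsq_iff (Q v) α (hvs v hv) hα
  rw [e1] at h1
  rw [e2] at hα1
  constructor
  · rw [List.length_eq_countP_add_countP (fun v => IsSquare (Q v)) (l := vs)]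
    have : vs.countP (fun a => decide ¬ decide (IsSquare (Q a)) = true) =
        vs.countP (fun v => ¬ IsSquare (Q v)) := by
      apply List.countP_congr
      intro v _
      simp
    rw [this]
    exact Even.add h1 hα1
  · rw [isSquare_list_prod_iff (vs.map (fun v => Q v))
      (by
        intro a ha
        obtain ⟨v, hv, rfl⟩ := List.mem_map.mp ha
        exact hvs v hv)]
    rw [List.countP_map]
    have : vs.countP ((fun a => decide (¬ IsSquare a)) ∘ fun v => Q v) =
        vs.countP (fun v => ¬ IsSquare (Q v)) := by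
      apply List.countP_congr
      intro v _
      simp
    rw [this]
    exact hα1

theorem reflG_congr (h : IsGram Q G) (u v : κ → F) (hu : Q u ≠ 0) (hv : Q v ≠ 0)
    (hm : Cfsg.reflectionMatrix Q u = Cfsg.reflectionMatrix Q v) : h.reflG u hu = h.reflG v hv := by
  apply Subtype.ext
  apply Units.ext
  exact hm

/-- reflections in vectors of the same norm are conjugate, so their product is a commutator -/
theorem reflG_mul_reflG_mem (h : IsGram Q G) (u v : κ → F) (hu : Q u ≠ 0) (hv : Q v ≠ 0)
    (huv : Q u = Q v) :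
    h.reflG u hu * h.reflG v hv ∈ commutator ↥(Cfsg.isometryGroup F Q) := by
  have h2 := h.two_ne
  -- find `w` with `r_w u = ± v`
  have key : ∃ (w : κ → F) (hw : Q w ≠ 0),
      Cfsg.reflectionMatrix Q (Cfsg.reflectionMatrix Q w *ᵥ u) = Cfsg.reflectionMatrix Q v := by
    by_cases h1 : Q (u - v) ≠ 0
    · refine ⟨u - v, h1, ?_⟩
      congr 1
      rw [h.refl_mulVec]
      have e1 : Matrix.toBilin' G (u - v) u = Q (u - v) := by
        rw [h.Q_sub, ← huv]
        simp only [map_sub, LinearMap.sub_apply, h.self u, h.symmB v u]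
        ring
      rw [e1, inv_mul_cancel₀ h1, one_smul]
      abel
    · rw [not_not] at h1
      have h3 : Q (u + v) ≠ 0 := by
        have e := h.Q_add u v
        have e' := h.Q_sub u v
        rw [h1] at e'
        have : Q (u + v) = 4 * Q u := by
          rw [e, ← huv]
          rw [← huv] at e'
          linear_combination e'
        rw [this]
        have h4 : (4 : F) ≠ 0 := by
          have : (4 : F) = 2 * 2 := by norm_num
          rw [this]; exact mul_ne_zero h2 h2
        exact mul_ne_zero h4 hu
      refine ⟨u + v, h3, ?_⟩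
      have e2 : Cfsg.reflectionMatrix Q (u + v) *ᵥ u = (-1 : F) • v := by
        rw [h.refl_mulVec]
        have e1 : Matrix.toBilin' G (u + v) u = Q (u + v) := by
          rw [h.Q_add, ← huv]
          simp only [map_add, LinearMap.add_apply, h.self u, h.symmB v u]
          ring
        rw [e1, inv_mul_cancel₀ h3, one_smul]
        simp
      rw [e2, h.refl_smul v (-1) (by simp)]
  obtain ⟨w, hw, hconj⟩ := key
  have hbu : Q (Cfsg.reflectionMatrix Q w *ᵥ u) ≠ 0 := by
    rw [h.refl_Q w hw]; exact hu
  have hcj : h.reflG w hw * h.reflG u hu * (h.reflG w hw)⁻¹ = h.reflG v hv := by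
    apply Subtype.ext
    apply Units.ext
    have := h.conj_refl (h.reflG w hw) u
    rw [h.reflG_val] at this
    show Cfsg.reflectionMatrix Q w * Cfsg.reflectionMatrix Q u *
      ((((h.reflG w hw)⁻¹ : ↥(Cfsg.isometryGroup F Q)) : Matrix.GeneralLinearGroup κ F) :
        Matrix κ κ F) = Cfsg.reflectionMatrix Q v
    rw [this, hconj]
  have hcomm : ⁅h.reflG u hu, h.reflG w hw⁆ = h.reflG u hu * h.reflG v hv := by
    rw [commutatorElement_def, ← hcj, h.reflG_inv u hu]
    group
  rw [← hcomm]
  exact Subgroup.commutator_mem_commutator (Subgroup.mem_top _) (Subgroup.mem_top _)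

/-- the class of a reflection in the abelianisation -/
noncomputable def rho (h : IsGram Q G) (v : κ → F) :
    Abelianization ↥(Cfsg.isometryGroup F Q) :=
  Abelianization.of (h.reflG' v)

theorem rho_mul_self (h : IsGram Q G) (v : κ → F) : h.rho v * h.rho v = 1 := by
  unfold rho
  rw [← map_mul]
  by_cases hv : Q v ≠ 0
  · rw [h.reflG'_of_ne v hv, h.reflG_mul_self, map_one]
  · unfold reflG'
    rw [dif_neg hv]
    simp

theorem rho_eq_of_char_eq (h : IsGram Q G) (u v : κ → F) (hu : Q u ≠ 0) (hv : Q v ≠ 0)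
    (hχ : quadraticChar F (Q u) = quadraticChar F (Q v)) : h.rho u = h.rho v := by
  have h1 : quadraticChar F (Q u * Q v) = 1 := by
    rw [map_mul, hχ]
    rcases quadraticChar_dichotomy hv with h' | h' <;> rw [h'] <;> norm_num
  obtain ⟨s, hs⟩ := (quadraticChar_one_iff_isSquare (mul_ne_zero hu hv)).mp h1
  have hs0 : s ≠ 0 := by
    rintro rfl
    have : Q u * Q v = 0 := by simpa using hs
    exact (mul_ne_zero hu hv) this
  have hu' : Q ((s / Q u) • u) = Q v := by
    rw [h.Q_smul]
    field_simp
    rw [pow_two, ← hs]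
  have hu'0 : Q ((s / Q u) • u) ≠ 0 := by rw [hu']; exact hv
  have e1 : h.reflG ((s / Q u) • u) hu'0 = h.reflG u hu :=
    h.reflG_congr _ _ _ _ (h.refl_smul u _ (div_ne_zero hs0 hu))
  have hmem := h.reflG_mul_reflG_mem ((s / Q u) • u) v hu'0 hv hu'
  rw [e1, ← Abelianization.ker_of, MonoidHom.mem_ker, map_mul] at hmem
  have h3 : h.rho u * h.rho v = 1 := by
    unfold rho
    rw [h.reflG'_of_ne u hu, h.reflG'_of_ne v hv]
    exact hmem
  calc h.rho u = h.rho u * (h.rho v * h.rho v) := by rw [h.rho_mul_self, mul_one]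
    _ = (h.rho u * h.rho v) * h.rho v := by rw [mul_assoc]
    _ = h.rho v := by rw [h3, one_mul]

theorem rho_list (h : IsGram Q G) (vs : List (κ → F)) (hvs : ∀ v ∈ vs, Q v ≠ 0) :
    (Even vs.length → ∀ u u' : κ → F, Q u ≠ 0 → Q u' ≠ 0 →
      quadraticChar F (Q u) * quadraticChar F (Q u') *
        quadraticChar F (vs.map (fun v => Q v)).prod = 1 →
      (vs.map h.rho).prod = h.rho u * h.rho u') ∧
    (Odd vs.length → ∀ u : κ → F, Q u ≠ 0 →
      quadraticChar F (Q u) * quadraticChar F (vs.map (fun v => Q v)).prod = 1 →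
      (vs.map h.rho).prod = h.rho u) := by
  induction vs with
  | nil =>
    constructor
    · intro _ u u' hu hu' hχ
      simp only [List.map_nil, List.prod_nil, map_one, mul_one] at hχ ⊢
      have : quadraticChar F (Q u) = quadraticChar F (Q u') :=
        int_sign_aux2 _ _ (quadraticChar_dichotomy hu) (quadraticChar_dichotomy hu') hχ
      rw [h.rho_eq_of_char_eq u u' hu hu' this, h.rho_mul_self]
    · intro hodd
      simp at hodd
  | cons v l ih =>
    have hv : Q v ≠ 0 := hvs v List.mem_cons_self
    have hl : ∀ w ∈ l, Q w ≠ 0 := fun w hw => hvs w (List.mem_cons_of_mem v hw)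
    obtain ⟨ihE, ihO⟩ := ih hl
    have hp0 : (l.map (fun v => Q v)).prod ≠ 0 := by
      apply List.prod_ne_zero
      intro h0
      obtain ⟨w, hw, hw0⟩ := List.mem_map.mp h0
      exact hl w hw hw0
    simp only [List.map_cons, List.prod_cons, List.length_cons, map_mul]
    constructor
    · intro hev u u' hu hu' hχ
      have hodd : Odd l.length := by
        rcases Nat.even_or_odd l.length with h' | h'
        · exfalso
          have := Nat.even_add_one.mp hev
          exact this h'
        · exact h'
      obtain ⟨f1, f2, f3⟩ := int_sign_aux _ _ _ _ (quadraticChar_dichotomy hu)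
        (quadraticChar_dichotomy hu') (quadraticChar_dichotomy hv) (quadraticChar_dichotomy hp0) hχ
      by_cases hac : quadraticChar F (Q u) = quadraticChar F (Q v)
      · have e1 : h.rho u = h.rho v := h.rho_eq_of_char_eq u v hu hv hac
        have e2 := ihO hodd u' hu' (f1 hac)
        rw [e2, e1]
      · by_cases hbc : quadraticChar F (Q u') = quadraticChar F (Q v)
        · have e1 : h.rho u' = h.rho v := h.rho_eq_of_char_eq u' v hu' hv hbc
          have e2 := ihO hodd u hu (f2 hac hbc)
          rw [e2, e1, mul_comm]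
        · obtain ⟨hab, hcd⟩ := f3 hac hbc
          have e1 : h.rho u = h.rho u' := h.rho_eq_of_char_eq u u' hu hu' hab
          have e2 := ihO hodd v hv hcd
          rw [e2, e1, h.rho_mul_self, h.rho_mul_self]
    · intro hodd u hu hχ
      have hev : Even l.length := by
        rcases Nat.even_or_odd l.length with h' | h'
        · exact h'
        · exfalso
          have : Even (l.length + 1) := h'.add_one
          exact (Nat.not_even_iff_odd.mpr hodd) this
      have e2 := ihE hev u v hu hv (by rw [← hχ]; ring)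
      rw [e2]
      calc h.rho v * (h.rho u * h.rho v) = h.rho u * (h.rho v * h.rho v) := by
            rw [mul_comm (h.rho u), ← mul_assoc, mul_comm]
        _ = h.rho u := by rw [h.rho_mul_self, mul_one]

/-- reverse direction of the spinor norm criterion -/
theorem mem_omega_of_even_and_isSquare (h : IsGram Q G) (g : ↥(Cfsg.isometryGroup F Q))
    (vs : List (κ → F)) (hvs : ∀ v ∈ vs, Q v ≠ 0)
    (hg : toMat Q g = (vs.map (fun v => Cfsg.reflectionMatrix Q v)).prod)
    (hev : Even vs.length) (hsq : IsSquare (vs.map (fun v => Q v)).prod) :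
    g ∈ Cfsg.Omega F Q := by
  have hg' : g = (vs.map h.reflG').prod := by
    apply toMat_injective
    rw [hg, h.toMat_list vs hvs]
  show g ∈ commutator ↥(Cfsg.isometryGroup F Q)
  rw [← Abelianization.ker_of, MonoidHom.mem_ker, hg', map_list_prod, List.map_map]
  show (vs.map h.rho).prod = 1
  cases vs with
  | nil => simp
  | cons v l =>
    have hv : Q v ≠ 0 := hvs v List.mem_cons_self
    have hp0 : ((v :: l).map (fun v => Q v)).prod ≠ 0 := by
      apply List.prod_ne_zero
      intro h0
      obtain ⟨w, hw, hw0⟩ := List.mem_map.mp h0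
      exact hvs w hw hw0
    have hχ : quadraticChar F ((v :: l).map (fun v => Q v)).prod = 1 :=
      (quadraticChar_one_iff_isSquare hp0).mpr hsq
    have := (h.rho_list (v :: l) hvs).1 hev v v hv hv (by
      rw [hχ]
      rcases quadraticChar_dichotomy hv with h' | h' <;> rw [h'] <;> norm_num)
    rw [this, h.rho_mul_self]

end IsGram

/-- a quadratic form in characteristic not two has a Gram matrix -/
theorem isGram_of_quadraticForm {κ : Type} [Fintype κ] [DecidableEq κ] {F : Type*} [Field F]
    (h2 : (2 : F) ≠ 0) (Q : QuadraticForm F (κ → F)) :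
    IsGram (⇑Q) (Matrix.of (fun i j : κ =>
      QuadraticMap.polar ⇑Q (Pi.single i 1) (Pi.single j 1))) := by
  set G : Matrix κ κ F :=
    Matrix.of (fun i j : κ => QuadraticMap.polar ⇑Q (Pi.single i 1) (Pi.single j 1)) with hGdef
  have hGB : G = LinearMap.BilinForm.toMatrix' (QuadraticMap.polarBilin Q) := by
    ext i j
    simp [hGdef, LinearMap.BilinForm.toMatrix'_apply]
  have hB : Matrix.toBilin' G = QuadraticMap.polarBilin Q := by
    rw [hGB, Matrix.toBilin'_toMatrix']
  refine ⟨h2, ?_, ?_⟩
  · ext i j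
    simp only [Matrix.transpose_apply, hGdef, Matrix.of_apply]
    exact QuadraticMap.polar_comm _ _ _
  · intro u
    rw [hB]
    simp [QuadraticMap.polarBilin_apply_apply, QuadraticMap.polar_self]

/-- the spinor norm criterion -/
theorem mem_omega_iff {κ : Type} [Fintype κ] [DecidableEq κ] {F : Type*} [Field F] [Fintype F]
    {Q : (κ → F) → F} {G : Matrix κ κ F} (h : IsGram Q G) (g : ↥(Cfsg.isometryGroup F Q))
    (vs : List (κ → F)) (hvs : ∀ v ∈ vs, Q v ≠ 0)
    (hg : ((g : Matrix.GeneralLinearGroup κ F) : Matrix κ κ F) =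
      (vs.map (fun v => Cfsg.reflectionMatrix Q v)).prod) :
    g ∈ Cfsg.Omega F Q ↔ (Even vs.length ∧ IsSquare (vs.map (fun v => Q v)).prod) := by
  classical
  constructor
  · intro hgΩ
    exact h.even_and_isSquare_of_mem_omega g vs hvs hg hgΩ
  · rintro ⟨hev, hsq⟩
    exact h.mem_omega_of_even_and_isSquare g vs hvs hg hev hsq

end Cfsg.Agent.Lib.Helper37
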