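import Cfsg.Agent.Lib.Helper8.Dickson
import Cfsg.Agent.Lib.Helper37.OmegaIndex

set_option autoImplicit false
set_option linter.unusedSectionVars false

namespace Cfsg.Agent.Lib.Helper37

open Matrix Module

variable {ι₁ ι₂ : Type} [Fintype ι₁] [DecidableEq ι₁] [Fintype ι₂] [DecidableEq ι₂]
  {F : Type*} [Field F]

/-- the orthogonal direct sum of two quadratic forms on coordinate spaces -/
noncomputable def sumForm (Q₁ : QuadraticForm F (ι₁ → F)) (Q₂ : QuadraticForm F (ι₂ → F)) :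
    QuadraticForm F (ι₁ ⊕ ι₂ → F) :=
  Q₁.comp (LinearMap.funLeft F F Sum.inl) + Q₂.comp (LinearMap.funLeft F F Sum.inr)

theorem sumForm_apply (Q₁ : QuadraticForm F (ι₁ → F)) (Q₂ : QuadraticForm F (ι₂ → F))
    (v : ι₁ ⊕ ι₂ → F) : sumForm Q₁ Q₂ v = Q₁ (v ∘ Sum.inl) + Q₂ (v ∘ Sum.inr) := rfl

theorem sumForm_coe (Q₁ : QuadraticForm F (ι₁ → F)) (Q₂ : QuadraticForm F (ι₂ → F)) :
    ⇑(sumForm Q₁ Q₂) = fun v : ι₁ ⊕ ι₂ → F => Q₁ (v ∘ Sum.inl) + Q₂ (v ∘ Sum.inr) := rfl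

theorem polar_sumForm (Q₁ : QuadraticForm F (ι₁ → F)) (Q₂ : QuadraticForm F (ι₂ → F))
    (x y : ι₁ ⊕ ι₂ → F) :
    QuadraticMap.polar ⇑(sumForm Q₁ Q₂) x y
      = QuadraticMap.polar ⇑Q₁ (x ∘ Sum.inl) (y ∘ Sum.inl)
        + QuadraticMap.polar ⇑Q₂ (x ∘ Sum.inr) (y ∘ Sum.inr) := by
  simp only [QuadraticMap.polar, sumForm_apply]
  have h1 : (x + y) ∘ (Sum.inl : ι₁ → ι₁ ⊕ ι₂) = x ∘ Sum.inl + y ∘ Sum.inl := rfl
  have h2 : (x + y) ∘ (Sum.inr : ι₂ → ι₁ ⊕ ι₂) = x ∘ Sum.inr + y ∘ Sum.inr := rfl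
  rw [h1, h2]
  ring

theorem sumForm_nondegenerate (Q₁ : QuadraticForm F (ι₁ → F)) (Q₂ : QuadraticForm F (ι₂ → F))
    (h₁ : (QuadraticMap.polarBilin Q₁).Nondegenerate)
    (h₂ : (QuadraticMap.polarBilin Q₂).Nondegenerate) :
    (QuadraticMap.polarBilin (sumForm Q₁ Q₂)).Nondegenerate := by
  have hleft : (QuadraticMap.polarBilin (sumForm Q₁ Q₂)).SeparatingLeft := by
    intro x hx
    have hx' : ∀ y, QuadraticMap.polar ⇑(sumForm Q₁ Q₂) x y = 0 := hx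
    have e1 : x ∘ Sum.inl = 0 := by
      apply h₁.1
      intro y₁
      have := hx' (Sum.elim y₁ 0)
      rw [polar_sumForm] at this
      have hz : (Sum.elim y₁ (0 : ι₂ → F)) ∘ Sum.inr = 0 := rfl
      have hy : (Sum.elim y₁ (0 : ι₂ → F)) ∘ Sum.inl = y₁ := rfl
      rw [hz, hy, QuadraticMap.polar_zero_right, add_zero] at this
      exact this
    have e2 : x ∘ Sum.inr = 0 := by
      apply h₂.1
      intro y₂
      have := hx' (Sum.elim 0 y₂)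
      rw [polar_sumForm] at this
      have hz : (Sum.elim (0 : ι₁ → F) y₂) ∘ Sum.inl = 0 := rfl
      have hy : (Sum.elim (0 : ι₁ → F) y₂) ∘ Sum.inr = y₂ := rfl
      rw [hz, hy, QuadraticMap.polar_zero_right, zero_add] at this
      exact this
    funext j
    rcases j with j | j
    · exact congrFun e1 j
    · exact congrFun e2 j
  refine ⟨hleft, ?_⟩
  intro y hy
  apply hleft
  intro x
  have := hy x
  simp only [QuadraticMap.polarBilin_apply_apply] at this ⊢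
  rw [QuadraticMap.polar_comm]; exact this


/-- block-diagonal embedding `(A, B) ↦ diag(A, B)` of general linear groups -/
noncomputable def blockGL (F : Type*) [Field F] (ι₁ ι₂ : Type) [Fintype ι₁] [DecidableEq ι₁]
    [Fintype ι₂] [DecidableEq ι₂] : GL ι₁ F × GL ι₂ F →* GL (ι₁ ⊕ ι₂) F :=
  MonoidHom.mk' (fun p => ⟨fromBlocks p.1.1 0 0 p.2.1, fromBlocks (p.1⁻¹).1 0 0 (p.2⁻¹).1, by
      rw [fromBlocks_multiply]; simp, by rw [fromBlocks_multiply]; simp⟩)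
    (fun p q => by
      apply Units.ext
      show fromBlocks (p.1 * q.1).1 0 0 (p.2 * q.2).1
        = fromBlocks p.1.1 0 0 p.2.1 * fromBlocks q.1.1 0 0 q.2.1
      rw [fromBlocks_multiply]
      simp)

theorem blockGL_val (A : GL ι₁ F) (B : GL ι₂ F) :
    ((blockGL F ι₁ ι₂ (A, B) : GL (ι₁ ⊕ ι₂) F) : Matrix (ι₁ ⊕ ι₂) (ι₁ ⊕ ι₂) F)
      = fromBlocks A.1 0 0 B.1 := rfl

theorem blockGL_mulVec (A : GL ι₁ F) (B : GL ι₂ F) (v : ι₁ ⊕ ι₂ → F) :
    ((blockGL F ι₁ ι₂ (A, B) : GL (ι₁ ⊕ ι₂) F) : Matrix (ι₁ ⊕ ι₂) (ι₁ ⊕ ι₂) F) *ᵥ v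
      = Sum.elim (A.1 *ᵥ (v ∘ Sum.inl)) (B.1 *ᵥ (v ∘ Sum.inr)) := by
  rw [blockGL_val, fromBlocks_mulVec]
  simp

theorem blockGL_mem (Q₁ : QuadraticForm F (ι₁ → F)) (Q₂ : QuadraticForm F (ι₂ → F))
    (A : GL ι₁ F) (B : GL ι₂ F) (hA : A ∈ Cfsg.isometryGroup F ⇑Q₁)
    (hB : B ∈ Cfsg.isometryGroup F ⇑Q₂) :
    blockGL F ι₁ ι₂ (A, B) ∈ Cfsg.isometryGroup F ⇑(sumForm Q₁ Q₂) := by
  rw [mem_isometryGroup_iff'] at hA hB ⊢
  intro v
  rw [blockGL_mulVec, sumForm_apply, sumForm_apply]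
  have h1 : (Sum.elim (A.1 *ᵥ (v ∘ Sum.inl)) (B.1 *ᵥ (v ∘ Sum.inr))) ∘ Sum.inl
      = A.1 *ᵥ (v ∘ Sum.inl) := rfl
  have h2 : (Sum.elim (A.1 *ᵥ (v ∘ Sum.inl)) (B.1 *ᵥ (v ∘ Sum.inr))) ∘ Sum.inr
      = B.1 *ᵥ (v ∘ Sum.inr) := rfl
  rw [h1, h2, hA, hB]

/-- the block-diagonal embedding of `O(Q₁) × O(Q₂)` into `O(Q₁ ⊕ Q₂)` -/
noncomputable def blockO (Q₁ : QuadraticForm F (ι₁ → F)) (Q₂ : QuadraticForm F (ι₂ → F)) :
    ↥(Cfsg.isometryGroup F ⇑Q₁) × ↥(Cfsg.isometryGroup F ⇑Q₂) →*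
      ↥(Cfsg.isometryGroup F ⇑(sumForm Q₁ Q₂)) :=
  ((blockGL F ι₁ ι₂).comp (MonoidHom.prodMap (Subgroup.subtype _) (Subgroup.subtype _))).codRestrict
    _ (fun p => blockGL_mem Q₁ Q₂ _ _ p.1.2 p.2.2)

theorem blockO_val (Q₁ : QuadraticForm F (ι₁ → F)) (Q₂ : QuadraticForm F (ι₂ → F))
    (g₁ : ↥(Cfsg.isometryGroup F ⇑Q₁)) (g₂ : ↥(Cfsg.isometryGroup F ⇑Q₂)) :
    (((blockO Q₁ Q₂ (g₁, g₂) : ↥(Cfsg.isometryGroup F ⇑(sumForm Q₁ Q₂))) : GL (ι₁ ⊕ ι₂) F) :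
      Matrix (ι₁ ⊕ ι₂) (ι₁ ⊕ ι₂) F) = fromBlocks g₁.1.1 0 0 g₂.1.1 := rfl

/-- embedding of a reflection of the first summand -/
theorem refl_inl (Q₁ : QuadraticForm F (ι₁ → F)) (Q₂ : QuadraticForm F (ι₂ → F)) (v : ι₁ → F) :
    Cfsg.reflectionMatrix ⇑(sumForm Q₁ Q₂) (Sum.elim v 0)
      = fromBlocks (Cfsg.reflectionMatrix ⇑Q₁ v) 0 0 1 := by
  apply Matrix.mulVec_injective
  funext x
  rw [Cfsg.Agent.Lib.Helper13.reflectionMatrix_mulVec, fromBlocks_mulVec,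
    Cfsg.Agent.Lib.Helper13.reflectionMatrix_mulVec, polar_sumForm, sumForm_apply]
  have hz : (Sum.elim v (0 : ι₂ → F)) ∘ Sum.inr = 0 := rfl
  have hy : (Sum.elim v (0 : ι₂ → F)) ∘ Sum.inl = v := rfl
  rw [hz, hy, QuadraticMap.polar_zero_left, map_zero, add_zero, add_zero]
  funext j
  rcases j with j | j <;> simp

theorem refl_inl_list (Q₁ : QuadraticForm F (ι₁ → F)) (Q₂ : QuadraticForm F (ι₂ → F))
    (vs : List (ι₁ → F)) :
    ((vs.map (fun v => (Sum.elim v 0 : ι₁ ⊕ ι₂ → F))).map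
        (fun w => Cfsg.reflectionMatrix ⇑(sumForm Q₁ Q₂) w)).prod
      = fromBlocks ((vs.map (fun v => Cfsg.reflectionMatrix ⇑Q₁ v)).prod) 0 0 1 := by
  induction vs with
  | nil => simp
  | cons a l ih =>
    rw [List.map_cons, List.map_cons, List.prod_cons, ih, refl_inl, fromBlocks_multiply,
      List.map_cons, List.prod_cons]
    simp


open Cfsg.Agent.Lib.Helper8 in
/-- the fixed space of a block-diagonal matrix -/
noncomputable def fixSubBlockEquiv (A : Matrix ι₁ ι₁ F) (B : Matrix ι₂ ι₂ F) :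
    ↥(fixSub (fromBlocks A 0 0 B)) ≃ₗ[F] ↥(fixSub A) × ↥(fixSub B) where
  toFun x := (⟨x.1 ∘ Sum.inl, by
      have hx := (mem_fixSub _ _).mp x.2
      rw [mem_fixSub]
      rw [fromBlocks_mulVec] at hx
      have := congrArg (fun f => f ∘ Sum.inl) hx
      simpa using this⟩, ⟨x.1 ∘ Sum.inr, by
      have hx := (mem_fixSub _ _).mp x.2
      rw [mem_fixSub]
      rw [fromBlocks_mulVec] at hx
      have := congrArg (fun f => f ∘ Sum.inr) hx
      simpa using this⟩)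
  map_add' x y := rfl
  map_smul' c x := rfl
  invFun p := ⟨Sum.elim p.1.1 p.2.1, by
      rw [mem_fixSub, fromBlocks_mulVec]
      have h1 := (mem_fixSub _ _).mp p.1.2
      have h2 := (mem_fixSub _ _).mp p.2.2
      simp [h1, h2]⟩
  left_inv x := by
    apply Subtype.ext
    funext j
    rcases j with j | j <;> rfl
  right_inv p := rfl

open Cfsg.Agent.Lib.Helper8 in
theorem finrank_fixSub_fromBlocks (A : Matrix ι₁ ι₁ F) (B : Matrix ι₂ ι₂ F) :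
    finrank F ↥(fixSub (fromBlocks A 0 0 B)) = finrank F ↥(fixSub A) + finrank F ↥(fixSub B) := by
  rw [(fixSubBlockEquiv A B).finrank_eq, Module.finrank_prod]

open Cfsg.Agent.Lib.Helper8 in
theorem finrank_fixSub_one : finrank F ↥(fixSub (1 : Matrix ι₂ ι₂ F)) = Fintype.card ι₂ := by
  have : fixSub (1 : Matrix ι₂ ι₂ F) = ⊤ := by
    ext x
    simp [mem_fixSub]
  rw [this, finrank_top, Module.finrank_fintype_fun_eq_card]


theorem eq_of_le_of_index_eq_two' {G : Type*} [Group G] (H K : Subgroup G) (hle : H ≤ K)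
    (hH : H.index = 2) (hK : K.index = 2) : H = K := by
  apply le_antisymm hle
  have h1 := Subgroup.relIndex_mul_index hle
  rw [hH, hK] at h1
  have h2 : H.relIndex K = 1 := by omega
  exact Subgroup.relIndex_eq_one.mp h2

open Cfsg.Agent.Lib.Helper8 in
/-- in characteristic two, `Ω` is the kernel of the Dickson parity -/
theorem mem_omega_iff_dicksonPar {ι : Type} [Fintype ι] [DecidableEq ι] [Fintype F]
    (h2 : (2 : F) = 0) (Q : QuadraticForm F (ι → F))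
    (hQ : (QuadraticMap.polarBilin Q).Nondegenerate)
    (hcard : Fintype.card F ≠ 2 ∨ finrank F (ι → F) ≠ 4) (hex : ∃ v, Q v ≠ 0)
    (g : ↥(Cfsg.isometryGroup F ⇑Q)) :
    g ∈ Cfsg.Omega F ⇑Q ↔ dicksonPar Q g = 0 := by
  have hgen := closure_reflSet_eq_top' Q hQ hcard
  have hidx := commutator_index_two_char2 h2 Q hQ hcard hex
  obtain ⟨v0, hv0⟩ := hex
  have hsurj : Function.Surjective (dicksonHom Q hQ hgen) := by
    intro x
    have hx : ∀ a : ZMod 2, a = 0 ∨ a = 1 := by decide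
    rcases hx (Multiplicative.toAdd x) with hx | hx
    · refine ⟨1, ?_⟩
      rw [map_one]
      apply Multiplicative.toAdd.injective
      rw [hx]; rfl
    · refine ⟨reflElt Q v0 hv0, ?_⟩
      apply Multiplicative.toAdd.injective
      rw [hx, dicksonHom_apply]
      exact dicksonPar_refl Q hQ _ (reflElt_mem_reflSet Q v0 hv0)
  have hker : (dicksonHom Q hQ hgen).ker.index = 2 := by
    rw [Subgroup.index_ker, MonoidHom.range_eq_top.2 hsurj, Subgroup.card_top,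
      Nat.card_eq_fintype_card]
    rfl
  have hΩ : Cfsg.Omega F ⇑Q = (dicksonHom Q hQ hgen).ker :=
    eq_of_le_of_index_eq_two' _ _ (Abelianization.commutator_subset_ker _) hidx hker
  rw [hΩ, MonoidHom.mem_ker, dicksonHom_apply]
  rfl

end Cfsg.Agent.Lib.Helper37
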