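import Cfsg.Agent.Lib.Helper37.EvenDim

set_option autoImplicit false

namespace Cfsg.Agent.Lib.Helper37

open Module Matrix

/-- the Gram matrix of the polar form of `quadFormPlus` -/
def gramP (m : ℕ) (F : Type*) [Field F] : Matrix (Fin m ⊕ Fin m) (Fin m ⊕ Fin m) F :=
  Matrix.fromBlocks 0 1 1 0

theorem gramP_isSymm (m : ℕ) (F : Type*) [Field F] : (gramP m F).IsSymm := by
  unfold gramP
  apply Matrix.IsSymm.fromBlocks <;> simp [Matrix.IsSymm]

theorem gramP_self (m : ℕ) (F : Type*) [Field F] (u : Fin m ⊕ Fin m → F) :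
    Matrix.toBilin' (gramP m F) u u = 2 * Cfsg.quadFormPlus m F u := by
  rw [Matrix.toBilin'_apply']
  unfold gramP Cfsg.quadFormPlus
  simp [dotProduct, Fintype.sum_sum_type, Matrix.mulVec, Matrix.one_apply]
  have : ∑ x, u (Sum.inr x) * u (Sum.inl x) = ∑ x, u (Sum.inl x) * u (Sum.inr x) :=
    Finset.sum_congr rfl (fun x _ => mul_comm _ _)
  rw [this]
  ring

theorem gramP_det (m : ℕ) (F : Type*) [Field F] : (gramP m F).det = (-1) ^ m := by
  have h1 : gramP m F = Matrix.J (Fin m) F * Matrix.fromBlocks 1 0 0 (-1) := by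
    unfold gramP Matrix.J
    rw [Matrix.fromBlocks_multiply]
    simp
  rw [h1, Matrix.det_mul, SymplecticGroup.det_eq_one (SymplecticGroup.J_mem (Fin m) F),
    Matrix.det_fromBlocks_zero₂₁, Matrix.det_one, Matrix.det_neg, Matrix.det_one]
  simp

theorem sq_mod_four_of_odd (q : ℕ) (hq : Odd q) : q ^ 2 % 4 = 1 := by
  have h : q % 4 = 1 ∨ q % 4 = 3 := by
    rw [Nat.odd_iff] at hq; omega
  rw [Nat.pow_mod]
  rcases h with h | h <;> rw [h]

theorem pow_mod_four_even (q r : ℕ) (hq : Odd q) : q ^ (2 * r) % 4 = 1 := by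
  rw [pow_mul, Nat.pow_mod, sq_mod_four_of_odd q hq]
  simp

theorem pow_mod_four_odd (q r : ℕ) (hq : Odd q) : q ^ (2 * r + 1) % 4 = q % 4 := by
  rw [pow_succ, Nat.mul_mod, pow_mod_four_even q r hq]
  simp

theorem pow_mod_four_cases (q m : ℕ) (hq : Odd q) : q ^ m % 4 = 1 ∨ q ^ m % 4 = 3 := by
  have : Odd (q ^ m) := hq.pow
  rw [Nat.odd_iff] at this
  omega

theorem isSquare_neg_one_pow_iff {F : Type*} [Field F] [Fintype F]
    (hodd : Odd (Fintype.card F)) (m : ℕ) :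
    IsSquare ((-1 : F) ^ m) ↔ Fintype.card F ^ m % 4 = 1 := by
  rcases Nat.even_or_odd' m with ⟨r, rfl | rfl⟩
  · rw [pow_mod_four_even _ r hodd]
    simp only [iff_true]
    rw [pow_mul]
    simp
  · rw [pow_mod_four_odd _ r hodd, pow_succ, pow_mul]
    simp only [neg_one_sq, one_pow, one_mul]
    rw [FiniteField.isSquare_neg_one_iff]
    have h : Fintype.card F % 4 = 1 ∨ Fintype.card F % 4 = 3 := by
      rw [Nat.odd_iff] at hodd; omega
    omega

theorem plus_card (m : ℕ) (hm : 1 ≤ m) :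
    Fintype.card (Fin m ⊕ Fin m) = (2 * m - 1) + 1 := by
  simp [Fintype.card_sum]; omega

theorem plus_odd (m : ℕ) (hm : 1 ≤ m) : Odd (2 * m - 1) := by
  rw [Nat.odd_iff]; omega

end Cfsg.Agent.Lib.Helper37
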