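import Cfsg.Agent.Lib.Helper37.OmegaKernel
import Cfsg.Agent.Lib.Helper8.OmegaIwasawa

set_option autoImplicit false
set_option linter.unusedSectionVars false
set_option linter.unusedVariables false

namespace Cfsg.Agent.Lib.Helper37

open Matrix Module QuadraticMap
open Cfsg.Agent.Lib.Helper8 Cfsg.Agent.Lib.Helper13

variable {ι : Type} [Fintype ι] [DecidableEq ι] {F : Type*} [Field F]

theorem meig_eq_of_orth (Q : QuadraticForm F (ι → F)) (M : Matrix ι ι F)
    (hn : ∀ v, Q v = 0 → ∃ c : F, M *ᵥ v = c • v) (s s' : ι → F) (hs0 : s ≠ 0)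
    (hs : Q s = 0) (hs' : Q s' = 0) (hss' : polar ⇑Q s s' = 0) (hind : ∀ t : F, s' ≠ t • s)
    (c c' : F) (hc : M *ᵥ s = c • s) (hc' : M *ᵥ s' = c' • s') : c = c' := by
  have hsum : Q (s + s') = 0 := by
    rw [QuadraticMap.map_add Q, hs, hs', hss']; simp
  obtain ⟨d, hd⟩ := hn _ hsum
  rw [Matrix.mulVec_add, hc, hc', smul_add] at hd
  have h1 : (c - d) • s = (d - c') • s' := by
    rw [sub_smul, sub_smul]
    have : c • s + c' • s' - (d • s + d • s') = 0 := sub_eq_zero.mpr hd
    linear_combination (exp := 1) this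
  have h2 : d = c' := by
    by_contra hne
    have hne' : d - c' ≠ 0 := sub_ne_zero.mpr hne
    apply hind ((d - c')⁻¹ * (c - d))
    rw [← smul_smul, h1, smul_smul, inv_mul_cancel₀ hne', one_smul]
  rw [h2, sub_self, zero_smul] at h1
  have h3 : c - c' = 0 := (smul_eq_zero.mp h1).resolve_right hs0
  exact sub_eq_zero.mp h3

section kernel

variable [Fintype F] (Q : QuadraticForm F (ι → F))
  (hQ : (QuadraticMap.polarBilin Q).Nondegenerate) {k : ℕ} {e f : Fin k → ι → F}
  (hfam : HypFam Q k e f) (hk : 3 ≤ k)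
  (hcard : Fintype.card F ≠ 2 ∨ finrank F (ι → F) ≠ 4)

include hQ hfam hk hcard

theorem meig_eq (M : Matrix ι ι F)
    (hn : ∀ v, Q v = 0 → ∃ c : F, M *ᵥ v = c • v) (s s' : ι → F) (hs0 : s ≠ 0)
    (hs : Q s = 0) (hs' : Q s' = 0) (hind : ∀ t : F, s' ≠ t • s)
    (c c' : F) (hc : M *ᵥ s = c • s) (hc' : M *ᵥ s' = c' • s') : c = c' := by
  by_cases hss' : polar ⇑Q s s' = 0
  · exact meig_eq_of_orth Q M hn s s' hs0 hs hs' hss' hind c c' hc hc'
  · obtain ⟨s'', h0, hQ'', h1, h2⟩ :=
      exists_singular_orth_both Q hQ hfam hk hcard s s' hs hs' hss'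
    obtain ⟨c'', hc''⟩ := hn s'' hQ''
    have hs'0 : s' ≠ 0 := by
      rintro rfl
      simp [polar] at hss'
    have e1 : c = c'' := by
      apply meig_eq_of_orth Q M hn s s'' hs0 hs hQ'' (by rw [polar_comm]; exact h1) ?_ c c'' hc hc''
      intro t ht
      rw [ht, polar_smul_left, smul_eq_mul] at h2
      rcases mul_eq_zero.mp h2 with h | h
      · rw [h, zero_smul] at ht
        exact h0 ht
      · exact hss' h
    have e2 : c' = c'' := by
      apply meig_eq_of_orth Q M hn s' s'' hs'0 hs' hQ'' (by rw [polar_comm]; exact h2) ?_ c' c''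
        hc' hc''
      intro t ht
      rw [ht, polar_smul_left, smul_eq_mul, polar_comm] at h1
      rcases mul_eq_zero.mp h1 with h | h
      · rw [h, zero_smul] at ht
        exact h0 ht
      · exact hss' h
    rw [e1, e2]

/-- a matrix fixing every singular point is scalar -/
theorem scalar_of_fix_singular (M : Matrix ι ι F)
    (hn : ∀ v, Q v = 0 → ∃ c : F, M *ᵥ v = c • v) :
    ∃ lam : F, M = lam • (1 : Matrix ι ι F) := by
  set i0 : Fin k := ⟨0, by omega⟩ with hi0
  obtain ⟨lam, hlam⟩ := hn (e i0) (hfam.qe i0)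
  have hsing : ∀ s, Q s = 0 → M *ᵥ s = lam • s := by
    intro s hs
    by_cases hdep : ∃ t : F, s = t • e i0
    · obtain ⟨t, rfl⟩ := hdep
      rw [Matrix.mulVec_smul, hlam, smul_comm]
    · push Not at hdep
      obtain ⟨c, hc⟩ := hn s hs
      have := meig_eq Q hQ hfam hk hcard M hn (e i0) s (hfam.e_ne_zero i0) (hfam.qe i0) hs hdep
        lam c hlam hc
      rw [this]
      exact hc
  have hall : ∀ x, M *ᵥ x = lam • x := by
    intro x
    set x' := x - (polar ⇑Q (f i0) x • e i0 + polar ⇑Q (e i0) x • f i0) with hx'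
    have hxe : polar ⇑Q (e i0) x' = 0 := by
      rw [hx', polar_sub_right, polar_add_right, polar_smul_right, polar_smul_right, hfam.ee,
        hfam.ef, if_pos rfl]
      simp
    have hxf : polar ⇑Q (f i0) x' = 0 := by
      rw [hx', polar_sub_right, polar_add_right, polar_smul_right, polar_smul_right, hfam.ff,
        hfam.fe, if_pos rfl]
      simp
    have h1 : Q (x' + ((1 : F) • e i0 + (- Q x') • f i0)) = 0 := by
      rw [hfam.Q_add_comb i0 _ _ x' hxe hxf]
      ring
    have h2 := hsing _ h1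
    rw [Matrix.mulVec_add, Matrix.mulVec_add, Matrix.mulVec_smul, Matrix.mulVec_smul,
      hsing _ (hfam.qe i0), hsing _ (hfam.qf i0)] at h2
    have h3 : M *ᵥ x' = lam • x' := by
      have : M *ᵥ x' + ((1 : F) • lam • e i0 + -Q x' • lam • f i0)
          - lam • (x' + ((1 : F) • e i0 + -Q x' • f i0)) = 0 := sub_eq_zero.mpr h2
      rw [smul_add, smul_add, smul_comm lam (1 : F), smul_comm lam (-Q x')] at this
      linear_combination (exp := 1) this
    have h4 : x = x' + (polar ⇑Q (f i0) x • e i0 + polar ⇑Q (e i0) x • f i0) := by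
      rw [hx']; abel
    rw [h4, Matrix.mulVec_add, Matrix.mulVec_add, Matrix.mulVec_smul, Matrix.mulVec_smul, h3,
      hsing _ (hfam.qe i0), hsing _ (hfam.qf i0), smul_add, smul_add, smul_comm lam, smul_comm lam]
  refine ⟨lam, ?_⟩
  apply Matrix.mulVec_injective
  funext x
  rw [Matrix.smul_mulVec, Matrix.one_mulVec]
  exact hall x

/-- a matrix commuting with all Eichler transformations is scalar -/
theorem scalar_of_commute_eichler (hn5 : 5 ≤ finrank F (ι → F)) (M : Matrix ι ι F)
    (hM : ∀ (u v : ι → F) (hu : Q u = 0) (huv : polar ⇑Q u v = 0),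
      M * (((eichlerElt Q hQ u v hu huv : ↥(Cfsg.isometryGroup F ⇑Q)) : GL ι F) : Matrix ι ι F)
        = (((eichlerElt Q hQ u v hu huv : ↥(Cfsg.isometryGroup F ⇑Q)) : GL ι F) : Matrix ι ι F)
          * M) :
    ∃ lam : F, M = lam • (1 : Matrix ι ι F) := by
  apply scalar_of_fix_singular Q hQ hfam hk hcard M
  intro u hu
  by_cases hu0 : u = 0
  · exact ⟨0, by rw [hu0, Matrix.mulVec_zero, smul_zero]⟩
  set y := M *ᵥ u with hy
  -- `y` is fixed by all `E(u, v)`
  have hfix : ∀ (v : ι → F) (huv : polar ⇑Q u v = 0),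
      polar ⇑Q u y • v - polar ⇑Q v y • u - (Q v * polar ⇑Q u y) • u = 0 := by
    intro v huv
    have h1 := congrArg (fun N => N *ᵥ u) (hM u v hu huv)
    simp only [← Matrix.mulVec_mulVec] at h1
    rw [eichlerElt_mulVec, eichlerElt_mulVec, polar_self, hu] at h1
    rw [polar_comm ⇑Q v u, huv] at h1
    simp only [smul_zero, zero_smul, add_zero, sub_zero, mul_zero] at h1
    have h2 : y = y + polar ⇑Q u y • v - polar ⇑Q v y • u - (Q v * polar ⇑Q u y) • u := h1
    have h3 : y + polar ⇑Q u y • v - polar ⇑Q v y • u - (Q v * polar ⇑Q u y) • u - y = 0 :=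
      sub_eq_zero.2 h2.symm
    calc polar ⇑Q u y • v - polar ⇑Q v y • u - (Q v * polar ⇑Q u y) • u
        = y + polar ⇑Q u y • v - polar ⇑Q v y • u - (Q v * polar ⇑Q u y) • u - y := by abel
      _ = 0 := h3
  -- first `B(u, y) = 0`
  obtain ⟨v0, hv0, hv0u⟩ := exists_nonsingular_orth_family Q hQ ![u] (by omega)
  have hv0u' : polar ⇑Q u v0 = 0 := by rw [polar_comm]; exact hv0u 0
  have huy : polar ⇑Q u y = 0 := by
    by_contra hne
    have h1 := hfix v0 hv0u'
    have h2 : v0 = ((polar ⇑Q u y)⁻¹ * (polar ⇑Q v0 y + Q v0 * polar ⇑Q u y)) • u := by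
      have h3 : polar ⇑Q u y • v0 = (polar ⇑Q v0 y + Q v0 * polar ⇑Q u y) • u := by
        rw [add_smul]
        linear_combination (exp := 1) h1
      rw [mul_smul, ← h3, smul_smul, inv_mul_cancel₀ hne, one_smul]
    apply hv0
    rw [h2, QuadraticMap.map_smul, hu, smul_zero]
  by_contra hcon
  push Not at hcon
  have hyu : y ∉ Submodule.span F {u} := by
    intro h
    obtain ⟨c, hc⟩ := Submodule.mem_span_singleton.1 h
    exact hcon c hc.symm
  obtain ⟨w, hwu, hwy⟩ := exists_orth_of_notMem Q hQ (Submodule.span F {u}) y hyu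
  have huw : polar ⇑Q u w = 0 := by
    rw [polar_comm]; exact hwu u (Submodule.mem_span_singleton_self u)
  have h1 := hfix w huw
  rw [huy, zero_smul, mul_zero, zero_smul, zero_sub, sub_zero, neg_eq_zero] at h1
  rcases smul_eq_zero.1 h1 with h | h
  · exact hwy h
  · exact hu0 h

end kernel

end Cfsg.Agent.Lib.Helper37
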