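import Cfsg.Agent.Lib.Helper37.AutPOmega
import Cfsg.Agent.Lib.Helper37.ScalarFix

set_option autoImplicit false
set_option linter.unusedSectionVars false
set_option linter.unusedVariables false

namespace Cfsg.Agent.Lib.Helper37

open Matrix Module QuadraticMap
open Cfsg.Agent.Lib.Helper8 Cfsg.Agent.Lib.Helper13
open scoped commutatorElement

universe u

variable {ι : Type} [Fintype ι] [DecidableEq ι] {F : Type u} [Field F]

theorem comm_mul_central_left {G : Type*} [Group G] (x y z : G) (hz : z ∈ Subgroup.center G) :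
    ⁅x * z, y⁆ = ⁅x, y⁆ := by
  have h : z * y = y * z := (Subgroup.mem_center_iff.1 hz y).symm
  rw [commutatorElement_def, commutatorElement_def, _root_.mul_inv_rev]
  calc x * z * y * (z⁻¹ * x⁻¹) * y⁻¹ = x * (z * y) * z⁻¹ * x⁻¹ * y⁻¹ := by group
    _ = x * (y * z) * z⁻¹ * x⁻¹ * y⁻¹ := by rw [h]
    _ = x * y * x⁻¹ * y⁻¹ := by group

theorem comm_mul_central_right {G : Type*} [Group G] (x y z : G) (hz : z ∈ Subgroup.center G) :
    ⁅x, y * z⁆ = ⁅x, y⁆ := by
  have h : z * x⁻¹ = x⁻¹ * z := (Subgroup.mem_center_iff.1 hz x⁻¹).symm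
  rw [commutatorElement_def, commutatorElement_def, _root_.mul_inv_rev]
  calc x * (y * z) * x⁻¹ * (z⁻¹ * y⁻¹) = x * y * (z * x⁻¹) * z⁻¹ * y⁻¹ := by group
    _ = x * y * (x⁻¹ * z) * z⁻¹ * y⁻¹ := by rw [h]
    _ = x * y * x⁻¹ * y⁻¹ := by group

/-- an automorphism of a perfect group inducing the identity modulo the centre is the identity -/
theorem aut_eq_id_of_perfect {G : Type*} [Group G] (hperf : commutator G = ⊤) (σ : MulAut G)
    (h : ∀ s : G, (σ s)⁻¹ * s ∈ Subgroup.center G) (s : G) : σ s = s := by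
  have hform : ∀ a : G, ∃ z ∈ Subgroup.center G, σ a = a * z := by
    intro a
    refine ⟨a⁻¹ * σ a, ?_, by group⟩
    have := Subgroup.inv_mem _ (h a)
    rwa [_root_.mul_inv_rev, inv_inv] at this
  have hle : commutator G ≤ (σ.toMonoidHom.eqLocus (MonoidHom.id G)) := by
    unfold commutator
    rw [Subgroup.commutator_le]
    intro a _ b _
    show σ ⁅a, b⁆ = ⁅a, b⁆
    rw [map_commutatorElement]
    obtain ⟨za, hza, ha⟩ := hform a
    obtain ⟨zb, hzb, hb⟩ := hform b
    rw [ha, hb, comm_mul_central_left _ _ _ hza, comm_mul_central_right _ _ _ hzb]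
  rw [hperf] at hle
  exact hle (Subgroup.mem_top s)

section kernel

variable [Fintype F] (Q : QuadraticForm F (ι → F))
  (hQ : (QuadraticMap.polarBilin Q).Nondegenerate) {k : ℕ} {e f : Fin k → ι → F}
  (hfam : HypFam Q k e f) (hk : 3 ≤ k)
  (hcard : Fintype.card F ≠ 2 ∨ finrank F (ι → F) ≠ 4)
  (hn5 : 5 ≤ finrank F (ι → F)) (hn2 : (2 : F) = 0 → 7 ≤ finrank F (ι → F))

include hQ hfam hk hcard hn5 hn2

theorem Phi_eq_one_iff (g : ↥(Cfsg.Geo.quadSimilarityGroup (F := F) ⇑Q)) :
    Phi ⇑Q g = 1 ↔ ∃ c : F, ((g.1 : GL ι F) : Matrix ι ι F) = c • (1 : Matrix ι ι F) := by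
  constructor
  · intro h
    have hσ : ∀ s : ↥(Cfsg.Omega F ⇑Q),
        (MulAut.characteristic (Cfsg.Omega F ⇑Q) (simConjHom ⇑Q g)) s = s := by
      apply aut_eq_id_of_perfect (commutator_omega_eq_top Q hQ hn5 hn2)
      intro s
      have h1 : Phi ⇑Q g (QuotientGroup.mk s) = QuotientGroup.mk s := by rw [h]; rfl
      rw [Phi_mk] at h1
      exact QuotientGroup.eq.1 h1
    apply scalar_of_commute_eichler Q hQ hfam hk hcard hn5
    intro u v hu huv
    have h1 := hσ ⟨eichlerElt Q hQ u v hu huv, eichlerElt_mem_omega Q hQ hn5 hn2 u v hu huv⟩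
    have h2 := congrArg (fun s : ↥(Cfsg.Omega F ⇑Q) => ((s.1 : GL ι F))) h1
    simp only [Phi_mk_val] at h2
    have h3 : g.1 * (eichlerElt Q hQ u v hu huv).1 = (eichlerElt Q hQ u v hu huv).1 * g.1 := by
      conv_rhs => rw [← h2]
      group
    have h4 := congrArg (fun x : GL ι F => (x : Matrix ι ι F)) h3
    simpa [Units.val_mul] using h4
  · rintro ⟨c, hc⟩
    ext x
    induction x using QuotientGroup.induction_on with
    | H s =>
      rw [Phi_mk]
      show (QuotientGroup.mk _ : Cfsg.POmega F ⇑Q) = QuotientGroup.mk s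
      congr 1
      apply Subtype.ext
      apply Subtype.ext
      rw [Phi_mk_val]
      have h1 : g.1 * s.1.1 = s.1.1 * g.1 := by
        apply Units.ext
        rw [Units.val_mul, Units.val_mul, hc, Matrix.smul_mul, Matrix.mul_smul, Matrix.one_mul,
          Matrix.mul_one]
      rw [h1]; group

end kernel

end Cfsg.Agent.Lib.Helper37
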