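import Cfsg.Agent.Lib.Helper37.CartanDieudonne

set_option autoImplicit false

namespace Cfsg.Agent.Lib.Helper37

open Module Matrix Finset

/-- the polar Gram matrix of a quadratic form with nondegenerate polar form is invertible -/
theorem det_ne_zero_of_nondegenerate {κ : Type} [Fintype κ] [DecidableEq κ] {F : Type*} [Field F]
    (Q : QuadraticForm F (κ → F)) (hQ : (QuadraticMap.polarBilin Q).Nondegenerate) :
    (Matrix.of (fun i j : κ =>
      QuadraticMap.polar ⇑Q (Pi.single i 1) (Pi.single j 1))).det ≠ 0 := by
  have hGB : Matrix.of (fun i j : κ => QuadraticMap.polar ⇑Q (Pi.single i 1) (Pi.single j 1)) =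
      LinearMap.BilinForm.toMatrix' (QuadraticMap.polarBilin Q) := by
    ext i j
    simp [LinearMap.BilinForm.toMatrix'_apply]
  have h1 : (LinearMap.BilinForm.toMatrix' (QuadraticMap.polarBilin Q)).Nondegenerate :=
    LinearMap.BilinForm.nondegenerate_toMatrix'_iff.mpr hQ
  rw [← hGB] at h1
  exact Matrix.nondegenerate_iff_det_ne_zero.mp h1

namespace IsGram

variable {κ : Type} [Fintype κ] [DecidableEq κ] {F : Type*} [Field F]
  {Q : (κ → F) → F} {G : Matrix κ κ F}

/-- reflections have determinant `-1` -/
theorem det_refl (h : IsGram Q G) (v : κ → F) (hv : Q v ≠ 0) :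
    (Cfsg.reflectionMatrix Q v).det = -1 := by
  have h1 : Cfsg.reflectionMatrix Q v =
      1 + Matrix.replicateCol Unit ((-(Q v)⁻¹) • v) * Matrix.replicateRow Unit (Cfsg.polarVec Q v) := by
    unfold Cfsg.reflectionMatrix
    rw [← Matrix.vecMulVec_eq]
    ext i j
    simp [Matrix.vecMulVec_apply]
    ring
  rw [h1, Matrix.det_one_add_replicateCol_mul_replicateRow, dotProduct_smul, h.polarVec_dot,
    h.self v]
  simp only [smul_eq_mul]
  field_simp
  ring

theorem det_list (h : IsGram Q G) (vs : List (κ → F)) (hvs : ∀ v ∈ vs, Q v ≠ 0) :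
    ((vs.map (fun v => Cfsg.reflectionMatrix Q v)).prod).det = (-1) ^ vs.length := by
  induction vs with
  | nil => simp
  | cons a l ih =>
    rw [List.map_cons, List.prod_cons, Matrix.det_mul, h.det_refl a (hvs a List.mem_cons_self),
      ih (fun v hv => hvs v (List.mem_cons_of_mem a hv)), List.length_cons, pow_succ]
    ring

theorem even_of_neg_one_pow (h : IsGram Q G) (n : ℕ) (hn : (-1 : F) ^ n = 1) : Even n := by
  by_contra hodd
  rw [Nat.not_even_iff_odd] at hodd
  rw [hodd.neg_one_pow] at hn
  apply h.two_ne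
  have : (2 : F) = 1 - (-1) := by norm_num
  rw [this, hn]; ring

/-- the set of products of two reflections -/
def pairSet (Q : (κ → F) → F) : Set ↥(Cfsg.isometryGroup F Q) :=
  {g | ∃ u v : κ → F, Q u ≠ 0 ∧ Q v ≠ 0 ∧
    ((g : Matrix.GeneralLinearGroup κ F) : Matrix κ κ F) =
      Cfsg.reflectionMatrix Q u * Cfsg.reflectionMatrix Q v}

theorem even_list_mem_pairs [Fintype F] [DecidableEq F] (h : IsGram Q G) : ∀ (n : ℕ) (vs : List (κ → F)),
    vs.length = 2 * n → (∀ v ∈ vs, Q v ≠ 0) →
    (vs.map h.reflG').prod ∈ Subgroup.closure (pairSet Q) := by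
  intro n
  induction n with
  | zero =>
    intro vs hlen _
    have : vs = [] := List.length_eq_zero_iff.mp (by omega)
    subst this
    simp
  | succ n ih =>
    intro vs hlen hvs
    match vs, hlen, hvs with
    | a :: b :: l, hlen, hvs =>
      have ha : Q a ≠ 0 := hvs a (by simp)
      have hb : Q b ≠ 0 := hvs b (by simp)
      have hl : ∀ v ∈ l, Q v ≠ 0 := fun v hv => hvs v (by simp [hv])
      have hlen' : l.length = 2 * n := by
        simp only [List.length_cons] at hlen; omega
      rw [List.map_cons, List.prod_cons, List.map_cons, List.prod_cons, ← mul_assoc]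
      apply Subgroup.mul_mem
      · apply Subgroup.subset_closure
        refine ⟨a, b, ha, hb, ?_⟩
        rw [h.reflG'_of_ne a ha, h.reflG'_of_ne b hb]
        rfl
      · exact ih l hlen' hl

theorem mem_specialIsometryGroup_iff (g : ↥(Cfsg.isometryGroup F Q)) :
    g ∈ Cfsg.specialIsometryGroup F Q ↔ (toMat Q g).det = 1 := by
  unfold Cfsg.specialIsometryGroup
  rw [MonoidHom.mem_ker]
  constructor
  · intro hg
    have := congrArg Units.val hg
    exact this
  · intro hg
    apply Units.ext
    exact hg

/-- in characteristic not two, the determinant-one isometries of a nondegenerate form are the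
products of pairs of reflections -/
theorem specialIsometryGroup_eq_closure [Fintype F] (h : IsGram Q G) (hdet : G.det ≠ 0) :
    Cfsg.specialIsometryGroup F Q = Subgroup.closure (pairSet Q) := by
  classical
  apply le_antisymm
  · intro g hg
    have hdet1 := (mem_specialIsometryGroup_iff g).mp hg
    obtain ⟨vs, hvs, hprod⟩ := h.cartan_dieudonne hdet g
    rw [hprod, h.det_list vs hvs] at hdet1
    obtain ⟨n, hn⟩ := h.even_of_neg_one_pow _ hdet1
    have hg' : g = (vs.map h.reflG').prod :=
      toMat_injective _ (by rw [hprod, h.toMat_list vs hvs])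
    rw [hg']
    exact h.even_list_mem_pairs n vs (by omega) hvs
  · rw [Subgroup.closure_le]
    rintro g ⟨u, v, hu, hv, hg⟩
    apply (mem_specialIsometryGroup_iff g).mpr
    rw [toMat_apply, hg, Matrix.det_mul, h.det_refl u hu, h.det_refl v hv]
    norm_num

end IsGram

end Cfsg.Agent.Lib.Helper37
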