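import Cfsg.Agent.Lib.Helper37.OmegaCenter3
import Cfsg.Agent.Lib.Helper37.OmegaIndex
import Cfsg.Agent.Lib.Helper37.OrthStruct

set_option autoImplicit false
set_option linter.unusedSectionVars false
set_option linter.unusedVariables false

namespace Cfsg.Agent.Lib.Helper37

open Matrix Module QuadraticMap
open Cfsg.Agent.Lib.Helper8 Cfsg.Agent.Lib.Helper13

variable {ι : Type} [Fintype ι] [DecidableEq ι] {F : Type*} [Field F] [Fintype F]

theorem two_eq_zero_iff_even_card : (2 : F) = 0 ↔ Even (Fintype.card F) := by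
  constructor
  · intro h2
    have hchar : ringChar F = 2 :=
      CharP.ringChar_of_prime_eq_zero Nat.prime_two (by exact_mod_cast h2)
    rw [Nat.even_iff]
    exact FiniteField.even_card_iff_char_two.mp hchar
  · intro hev
    rw [Nat.even_iff] at hev
    have hchar : ringChar F = 2 := FiniteField.even_card_iff_char_two.mpr hev
    have := ringChar.Nat.cast_ringChar (R := F)
    rw [hchar] at this
    exact_mod_cast this

/-- the order of `PΩ` in terms of the order of the orthogonal group -/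
theorem card_pomega_generic (Q : QuadraticForm F (ι → F))
    (hQ : (QuadraticMap.polarBilin Q).Nondegenerate) {k : ℕ} {e f : Fin k → ι → F}
    (hfam : HypFam Q k e f) (hk : 3 ≤ k) (hι : 5 ≤ Fintype.card ι) (X : ℕ)
    (hO : Nat.card ↥(Cfsg.isometryGroup F ⇑Q) = 2 * X) :
    ((2 : F) = 0 → Nat.card (Cfsg.POmega F ⇑Q) = X) ∧
    ((2 : F) ≠ 0 → (∃ g : ↥(Cfsg.isometryGroup F ⇑Q), g ∈ Cfsg.Omega F ⇑Q ∧
      ((g : GL ι F) : Matrix ι ι F) = -1) → 4 * Nat.card (Cfsg.POmega F ⇑Q) = X) ∧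
    ((2 : F) ≠ 0 → (¬ ∃ g : ↥(Cfsg.isometryGroup F ⇑Q), g ∈ Cfsg.Omega F ⇑Q ∧
      ((g : GL ι F) : Matrix ι ι F) = -1) → 2 * Nat.card (Cfsg.POmega F ⇑Q) = X) := by
  have hmul := card_pomega_mul (F := F) (⇑Q)
  rw [hO] at hmul
  refine ⟨fun h2 => ?_, fun h2 hneg => ?_, fun h2 hneg => ?_⟩
  · have hk0 : 0 < k := by omega
    have hex : ∃ v, Q v ≠ 0 := by
      refine ⟨(1 : F) • e ⟨0, hk0⟩ + (1 : F) • f ⟨0, hk0⟩, ?_⟩
      rw [hfam.Q_comb, one_mul]
      exact one_ne_zero
    have hidx := commutator_index_two_char2 h2 Q hQ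
      (Or.inr (by rw [Module.finrank_fintype_fun_eq_card]; omega)) hex
    have hcen := card_center_omega_one Q hQ hfam hk (Or.inl h2)
    have hidx' : (Cfsg.Omega F ⇑Q).index = 2 := hidx
    rw [hcen, hidx'] at hmul
    omega
  · have hidx : (Cfsg.Omega F ⇑Q).index = 4 :=
      index_omega_eq_four (isGram_of_quadraticForm h2 Q) (det_ne_zero_of_nondegenerate Q hQ)
        (by omega)
    have hcen := card_center_omega_two Q hQ hfam hk h2 hneg
    rw [hcen, hidx] at hmul
    omega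
  · have hidx : (Cfsg.Omega F ⇑Q).index = 4 :=
      index_omega_eq_four (isGram_of_quadraticForm h2 Q) (det_ne_zero_of_nondegenerate Q hQ)
        (by omega)
    have hcen := card_center_omega_one Q hQ hfam hk (Or.inr hneg)
    rw [hcen, hidx] at hmul
    omega

theorem gcd_four_of_mod_one (n : ℕ) (h : n % 4 = 1) : Nat.gcd 4 (n - 1) = 4 := by
  apply Nat.gcd_eq_left
  omega

theorem gcd_four_of_mod_three (n : ℕ) (h : n % 4 = 3) : Nat.gcd 4 (n - 1) = 2 := by
  rw [Nat.gcd_rec]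
  have : (n - 1) % 4 = 2 := by omega
  rw [this]
  rfl

theorem gcd_four_of_mod_three' (n : ℕ) (h : n % 4 = 3) : Nat.gcd 4 (n + 1) = 4 := by
  apply Nat.gcd_eq_left
  omega

theorem gcd_four_of_mod_one' (n : ℕ) (h : n % 4 = 1) : Nat.gcd 4 (n + 1) = 2 := by
  rw [Nat.gcd_rec]
  have : (n + 1) % 4 = 2 := by omega
  rw [this]
  rfl

theorem gcd_four_of_odd (n : ℕ) (h : n % 2 = 1) : Nat.gcd 4 n = 1 := by
  rw [Nat.gcd_rec]
  have : n % 4 = 1 ∨ n % 4 = 3 := by omega
  rcases this with h | h <;> rw [h] <;> rfl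

end Cfsg.Agent.Lib.Helper37
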