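import Cfsg.Agent.Lib.Helper37.SimGroup
import Cfsg.Agent.Lib.Helper37.AutPOmegaKer
import Cfsg.Agent.Lib.Helper37.PlusType
import Cfsg.Agent.S0293

set_option autoImplicit false
set_option linter.unusedSectionVars false
set_option linter.unusedVariables false

namespace Cfsg.Agent.Lib.Helper37

open Matrix Module
open Cfsg.Agent.Lib.Helper8 Cfsg.Agent.Lib.Helper43

universe u

variable {F : Type u} [Field F]

theorem plus_isGram (h2 : (2 : F) ≠ 0) (m : ℕ) :
    IsGram (Cfsg.quadFormPlus m F) (gramP m F) :=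
  ⟨h2, gramP_isSymm m F, gramP_self m F⟩

theorem gramP_det_ne_zero (m : ℕ) : (gramP m F).det ≠ 0 := by
  rw [gramP_det]
  exact pow_ne_zero _ (by simp)

theorem plus_card_two_mul (m : ℕ) : Fintype.card (Fin m ⊕ Fin m) = 2 * m := by
  simp [Fintype.card_sum]; omega

/-- the kernel of the action of the conformal group on `PΩ⁺` consists of the scalars -/
theorem plus_hker [Fintype F] {m : ℕ} (hm : 4 ≤ m) :
    ∀ g : ↥(Cfsg.Geo.quadSimilarityGroup (F := F) (Cfsg.quadFormPlus m F)),
      Phi (Cfsg.quadFormPlus m F) g = 1 ↔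
        ∃ c : F, ((g.1 : GL (Fin m ⊕ Fin m) F) : Matrix (Fin m ⊕ Fin m) (Fin m ⊕ Fin m) F)
          = c • (1 : Matrix (Fin m ⊕ Fin m) (Fin m ⊕ Fin m) F) := by
  rw [plusForm_coe]
  have hfr : Module.finrank F (Fin m ⊕ Fin m → F) = m + m := by simp
  exact Phi_eq_one_iff (plusForm m F) (plusForm_nondegenerate m F)
    (Cfsg.Agent.S0293.plus_hypFam m F) (by omega) (Or.inr (by omega)) (by omega)
    (fun _ => by omega)

/-- a similarity of the hyperbolic form with multiplier `c` -/
def plusSim (m : ℕ) (c : Fˣ) :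
    ↥(Cfsg.Geo.quadSimilarityGroup (F := F) (Cfsg.quadFormPlus m F)) :=
  ⟨⟨Matrix.diagonal (Sum.elim (fun _ => (c : F)) (fun _ => 1)),
    Matrix.diagonal (Sum.elim (fun _ => ((c⁻¹ : Fˣ) : F)) (fun _ => 1)),
    by
      rw [Matrix.diagonal_mul_diagonal, ← Matrix.diagonal_one]
      congr 1
      funext i
      rcases i with i | i <;> simp,
    by
      rw [Matrix.diagonal_mul_diagonal, ← Matrix.diagonal_one]
      congr 1
      funext i
      rcases i with i | i <;> simp⟩,
    c, fun v => by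
      show Cfsg.quadFormPlus m F (Matrix.diagonal (Sum.elim (fun _ => (c : F)) (fun _ => 1)) *ᵥ v)
        = (c : F) * Cfsg.quadFormPlus m F v
      unfold Cfsg.quadFormPlus
      rw [Finset.mul_sum]
      apply Finset.sum_congr rfl
      intro i _
      rw [Matrix.mulVec_diagonal, Matrix.mulVec_diagonal]
      simp only [Sum.elim_inl, Sum.elim_inr]
      ring⟩

theorem simMult_plusSim [Fintype F] [DecidableEq F] (h2 : (2 : F) ≠ 0) {m : ℕ} (hm : 1 ≤ m)
    (c : Fˣ) : simMult (Cfsg.quadFormPlus m F) (plusSim m c) = c := by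
  apply simMult_unique
  · exact exists_Q_eq_one (plus_isGram h2 m) (gramP_det_ne_zero m)
      (by rw [plus_card_two_mul]; omega)
  · intro v
    show Cfsg.quadFormPlus m F (Matrix.diagonal (Sum.elim (fun _ => (c : F)) (fun _ => 1)) *ᵥ v)
      = (c : F) * Cfsg.quadFormPlus m F v
    unfold Cfsg.quadFormPlus
    rw [Finset.mul_sum]
    apply Finset.sum_congr rfl
    intro i _
    rw [Matrix.mulVec_diagonal, Matrix.mulVec_diagonal]
    simp only [Sum.elim_inl, Sum.elim_inr]
    ring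

theorem exists_nonsquare_unit [Fintype F] (h2 : (2 : F) ≠ 0) : ∃ c : Fˣ, ¬ IsSquare (c : F) := by
  obtain ⟨α, hα⟩ := FiniteField.exists_nonsquare (ringChar_ne_two_of_two_ne_zero h2) (F := F)
  have hα0 : α ≠ 0 := by
    rintro rfl
    exact hα ⟨0, by simp⟩
  exact ⟨Units.mk0 α hα0, hα⟩

theorem plus_exists_sim [Fintype F] [DecidableEq F] (h2 : (2 : F) ≠ 0) {m : ℕ} (hm : 1 ≤ m) :
    ∃ d : ↥(Cfsg.Geo.quadSimilarityGroup (F := F) (Cfsg.quadFormPlus m F)),
      ¬ IsSquare (simMult (Cfsg.quadFormPlus m F) d : F) := by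
  obtain ⟨c, hc⟩ := exists_nonsquare_unit h2 (F := F)
  exact ⟨plusSim m c, by rw [simMult_plusSim h2 hm]; exact hc⟩

end Cfsg.Agent.Lib.Helper37
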