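import Cfsg.Agent.Lib.Helper37.SimGroup
import Cfsg.Agent.Lib.Helper37.AutPOmegaKer
import Cfsg.Agent.Lib.Helper37.MinusType
import Cfsg.Agent.Lib.Helper37.PlusAut
import Cfsg.Agent.S0294

set_option autoImplicit false
set_option linter.unusedSectionVars false
set_option linter.unusedVariables false

namespace Cfsg.Agent.Lib.Helper37

open Matrix Module
open Cfsg.Agent.Lib.Helper8 Cfsg.Agent.Lib.Helper43

universe u

variable {F : Type u} [Field F]

theorem minus_isGram (h2 : (2 : F) ≠ 0) (m : ℕ) (a b : F) :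
    IsGram (Cfsg.quadFormMinus m F a b) (gramM m F a b) :=
  ⟨h2, gramM_isSymm m F a b, gramM_self m F a b⟩

theorem gramM_det_ne_zero (h2 : (2 : F) ≠ 0) (m : ℕ) (a b : F)
    (hab : ∀ z₁ z₂ : F, z₁ ^ 2 + a * z₁ * z₂ + b * z₂ ^ 2 = 0 → z₁ = 0 ∧ z₂ = 0) :
    (gramM m F a b).det ≠ 0 := by
  rw [gramM_det]
  apply mul_ne_zero (pow_ne_zero _ (by simp))
  intro h0
  exact disc_nonsquare h2 a b hab (by rw [h0]; exact ⟨0, by simp⟩)

theorem minus_card_two_mul (m : ℕ) :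
    Fintype.card ((Fin m ⊕ Fin m) ⊕ Fin 2) = 2 * (m + 1) := by
  simp [Fintype.card_sum]; omega

/-- the kernel of the action of the conformal group on `PΩ⁻` consists of the scalars -/
theorem minus_hker [Fintype F] {m : ℕ} (hm : 3 ≤ m) (a b : F)
    (hab : ∀ z₁ z₂ : F, z₁ ^ 2 + a * z₁ * z₂ + b * z₂ ^ 2 = 0 → z₁ = 0 ∧ z₂ = 0) :
    ∀ g : ↥(Cfsg.Geo.quadSimilarityGroup (F := F) (Cfsg.quadFormMinus m F a b)),
      Phi (Cfsg.quadFormMinus m F a b) g = 1 ↔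
        ∃ c : F, ((g.1 : GL ((Fin m ⊕ Fin m) ⊕ Fin 2) F) :
          Matrix ((Fin m ⊕ Fin m) ⊕ Fin 2) ((Fin m ⊕ Fin m) ⊕ Fin 2) F)
          = c • (1 : Matrix ((Fin m ⊕ Fin m) ⊕ Fin 2) ((Fin m ⊕ Fin m) ⊕ Fin 2) F) := by
  rw [minusForm_coe]
  have hfr : Module.finrank F ((Fin m ⊕ Fin m) ⊕ Fin 2 → F) = m + m + 2 := by simp
  have hnd : (QuadraticMap.polarBilin (minusForm m F a b)).Nondegenerate :=
    (minus_family m F a b).nondegenerate (minusForm_zero_nondegenerate F a b hab)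
  exact Phi_eq_one_iff (minusForm m F a b) hnd
    (Cfsg.Agent.S0294.minus_hypFam m F a b) (by omega) (Or.inr (by omega)) (by omega)
    (fun _ => by omega)

/-- the matrix of a similarity of the minus-type form -/
def minusSimMat (m : ℕ) (a b w1 w2 : F) :
    Matrix ((Fin m ⊕ Fin m) ⊕ Fin 2) ((Fin m ⊕ Fin m) ⊕ Fin 2) F :=
  Matrix.fromBlocks
    (Matrix.diagonal (Sum.elim (fun _ => w1 ^ 2 + a * w1 * w2 + b * w2 ^ 2) (fun _ => 1))) 0 0
    !![w1, -b * w2; w2, w1 + a * w2]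

theorem minusSimMat_Q (m : ℕ) (a b w1 w2 : F) (v : (Fin m ⊕ Fin m) ⊕ Fin 2 → F) :
    Cfsg.quadFormMinus m F a b (minusSimMat m a b w1 w2 *ᵥ v) =
      (w1 ^ 2 + a * w1 * w2 + b * w2 ^ 2) * Cfsg.quadFormMinus m F a b v := by
  have e1 : ∀ i, (minusSimMat m a b w1 w2 *ᵥ v) (.inl (.inl i)) =
      (w1 ^ 2 + a * w1 * w2 + b * w2 ^ 2) * v (.inl (.inl i)) := by
    intro i
    unfold minusSimMat
    rw [Matrix.fromBlocks_mulVec, Sum.elim_inl, Matrix.zero_mulVec, add_zero,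
      Matrix.mulVec_diagonal]
    rfl
  have e2 : ∀ i, (minusSimMat m a b w1 w2 *ᵥ v) (.inl (.inr i)) = v (.inl (.inr i)) := by
    intro i
    unfold minusSimMat
    rw [Matrix.fromBlocks_mulVec, Sum.elim_inl, Matrix.zero_mulVec, add_zero,
      Matrix.mulVec_diagonal]
    simp
  have e3 : (minusSimMat m a b w1 w2 *ᵥ v) (.inr 0) = w1 * v (.inr 0) - b * w2 * v (.inr 1) := by
    unfold minusSimMat
    rw [Matrix.fromBlocks_mulVec, Sum.elim_inr, Matrix.zero_mulVec, zero_add]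
    simp [Matrix.mulVec, dotProduct, Fin.sum_univ_two]
    ring
  have e4 : (minusSimMat m a b w1 w2 *ᵥ v) (.inr 1) =
      w2 * v (.inr 0) + (w1 + a * w2) * v (.inr 1) := by
    unfold minusSimMat
    rw [Matrix.fromBlocks_mulVec, Sum.elim_inr, Matrix.zero_mulVec, zero_add]
    simp [Matrix.mulVec, dotProduct, Fin.sum_univ_two]
  have hsum : ∑ i : Fin m, (minusSimMat m a b w1 w2 *ᵥ v) (.inl (.inl i)) *
      (minusSimMat m a b w1 w2 *ᵥ v) (.inl (.inr i)) =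
      (w1 ^ 2 + a * w1 * w2 + b * w2 ^ 2) * ∑ i : Fin m, v (.inl (.inl i)) * v (.inl (.inr i)) := by
    rw [Finset.mul_sum]
    apply Finset.sum_congr rfl
    intro i _
    rw [e1, e2]
    ring
  unfold Cfsg.quadFormMinus
  rw [e3, e4, hsum]
  ring

theorem minusSimMat_det (m : ℕ) (a b w1 w2 : F) :
    (minusSimMat m a b w1 w2).det =
      (w1 ^ 2 + a * w1 * w2 + b * w2 ^ 2) ^ m * (w1 ^ 2 + a * w1 * w2 + b * w2 ^ 2) := by
  unfold minusSimMat
  rw [Matrix.det_fromBlocks_zero₂₁, Matrix.det_diagonal, Fintype.prod_sum_type,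
    Matrix.det_fin_two_of]
  simp only [Sum.elim_inl, Sum.elim_inr, Finset.prod_const, Finset.card_univ, Fintype.card_fin,
    one_pow, mul_one]
  ring

/-- a similarity of the minus-type form with multiplier `w1² + a w1 w2 + b w2²` -/
noncomputable def minusSim (m : ℕ) (a b w1 w2 : F)
    (hw : w1 ^ 2 + a * w1 * w2 + b * w2 ^ 2 ≠ 0) :
    ↥(Cfsg.Geo.quadSimilarityGroup (F := F) (Cfsg.quadFormMinus m F a b)) :=
  ⟨Matrix.GeneralLinearGroup.mkOfDetNeZero (minusSimMat m a b w1 w2) (by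
      rw [minusSimMat_det]
      exact mul_ne_zero (pow_ne_zero _ hw) hw),
    Units.mk0 _ hw, fun v => minusSimMat_Q m a b w1 w2 v⟩

theorem minus_exists_sim [Fintype F] [DecidableEq F] (h2 : (2 : F) ≠ 0) (m : ℕ) (a b : F)
    (hab : ∀ z₁ z₂ : F, z₁ ^ 2 + a * z₁ * z₂ + b * z₂ ^ 2 = 0 → z₁ = 0 ∧ z₂ = 0) :
    ∃ d : ↥(Cfsg.Geo.quadSimilarityGroup (F := F) (Cfsg.quadFormMinus m F a b)),
      ¬ IsSquare (simMult (Cfsg.quadFormMinus m F a b) d : F) := by
  obtain ⟨c, hc⟩ := exists_nonsquare_unit h2 (F := F)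
  obtain ⟨w, hw⟩ := (minus_isGram h2 0 a b).universal (gramM_det_ne_zero h2 0 a b hab)
    (by rw [minus_card_two_mul]) (c : F)
  have hw' : w (.inr 0) ^ 2 + a * w (.inr 0) * w (.inr 1) + b * w (.inr 1) ^ 2 = (c : F) := by
    rw [← hw]
    unfold Cfsg.quadFormMinus
    simp
  have hw0 : w (.inr 0) ^ 2 + a * w (.inr 0) * w (.inr 1) + b * w (.inr 1) ^ 2 ≠ 0 := by
    rw [hw']; exact c.ne_zero
  refine ⟨minusSim m a b (w (.inr 0)) (w (.inr 1)) hw0, ?_⟩
  have : simMult (Cfsg.quadFormMinus m F a b) (minusSim m a b (w (.inr 0)) (w (.inr 1)) hw0)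
      = Units.mk0 _ hw0 := by
    apply simMult_unique
    · exact exists_Q_eq_one (minus_isGram h2 m a b) (gramM_det_ne_zero h2 m a b hab)
        (by rw [minus_card_two_mul]; omega)
    · intro v
      exact minusSimMat_Q m a b _ _ v
  rw [this, Units.val_mk0, hw']
  exact hc

end Cfsg.Agent.Lib.Helper37
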