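import Cfsg.Agent.Lib.Helper37.OmegaGeom

set_option autoImplicit false
set_option linter.unusedSectionVars false
set_option linter.unusedVariables false

namespace Cfsg.Agent.Lib.Helper37

open Matrix Module QuadraticMap
open Cfsg.Agent.Lib.Helper8 Cfsg.Agent.Lib.Helper13

variable {ι : Type} [Fintype ι] [DecidableEq ι] {F : Type*} [Field F]

theorem act_injective (Q : QuadraticForm F (ι → F)) (g : ↥(Cfsg.isometryGroup F ⇑Q))
    (x y : ι → F) (h : act Q g x = act Q g y) : x = y := by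
  have h1 := act_inv_eq Q g x _ rfl
  have h2 := act_inv_eq Q g y _ rfl
  rw [← h1, h, h2]

/-- the stabiliser in `Ω` of the point spanned by `u` -/
def stabPt (Q : QuadraticForm F (ι → F)) (u : ι → F) : Subgroup ↥(Cfsg.Omega F ⇑Q) where
  carrier := {g | ∃ c : F, act Q g.1 u = c • u}
  one_mem' := ⟨1, by rw [Subgroup.coe_one, act_one, one_smul]⟩
  mul_mem' := by
    rintro a b ⟨c, hc⟩ ⟨d, hd⟩
    refine ⟨d * c, ?_⟩
    rw [Subgroup.coe_mul, act_mul, hd, act_smul, hc, smul_smul]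
  inv_mem' := by
    rintro a ⟨c, hc⟩
    by_cases hu : u = 0
    · refine ⟨0, ?_⟩
      rw [hu, act_zero, smul_zero]
    · have hc0 : c ≠ 0 := by
        rintro rfl
        rw [zero_smul] at hc
        exact hu (act_eq_zero Q _ _ hc)
      refine ⟨c⁻¹, ?_⟩
      have h1 : act Q (a.1)⁻¹ (c • u) = u := act_inv_eq Q a.1 u _ hc
      rw [act_smul] at h1
      rw [Subgroup.coe_inv]
      calc act Q (a.1)⁻¹ u = c⁻¹ • (c • act Q (a.1)⁻¹ u) := by
            rw [smul_smul, inv_mul_cancel₀ hc0, one_smul]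
        _ = c⁻¹ • u := by rw [h1]

theorem mem_stabPt (Q : QuadraticForm F (ι → F)) (u : ι → F) (g : ↥(Cfsg.Omega F ⇑Q)) :
    g ∈ stabPt Q u ↔ ∃ c : F, act Q g.1 u = c • u := Iff.rfl

section maximal

variable [Fintype F] (Q : QuadraticForm F (ι → F))
  (hQ : (QuadraticMap.polarBilin Q).Nondegenerate) {k : ℕ} {e f : Fin k → ι → F}
  (hfam : HypFam Q k e f) (hk : 3 ≤ k)
  (hcard : Fintype.card F ≠ 2 ∨ finrank F (ι → F) ≠ 4)

include hQ hfam hk hcard

theorem stabPt_ne_top (u : ι → F) (hu0 : u ≠ 0) (hu : Q u = 0) : stabPt Q u ≠ ⊤ := by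
  intro htop
  have h01 : (⟨0, by omega⟩ : Fin k) ≠ ⟨1, by omega⟩ := by
    intro hh; have := congrArg Fin.val hh; simp at this
  obtain ⟨g₁, hg₁, h1⟩ := omega_to_e0 Q hQ hfam hk hcard u hu0 hu
  obtain ⟨g₂, hg₂, h2⟩ := omega_to_e0 Q hQ hfam hk hcard (e ⟨1, by omega⟩)
    (hfam.e_ne_zero _) (hfam.qe _)
  have hmem : (⟨g₁⁻¹ * g₂⁻¹ * g₁, Subgroup.mul_mem _ (Subgroup.mul_mem _
      (Subgroup.inv_mem _ hg₁) (Subgroup.inv_mem _ hg₂)) hg₁⟩ : ↥(Cfsg.Omega F ⇑Q)) ∈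
      stabPt Q u := by
    rw [htop]; trivial
  obtain ⟨c, hc⟩ := hmem
  simp only at hc
  rw [act_mul, act_mul, h1, act_inv_eq Q g₂ _ _ h2] at hc
  have h5 := congrArg (act Q g₁) hc
  rw [act_smul, h1, ← act_mul, mul_inv_cancel, act_one] at h5
  have := congrArg (fun x => polar ⇑Q x (f ⟨1, by omega⟩)) h5
  simp only [polar_smul_left, hfam.ef, if_neg h01] at this
  simp at this

/-- the stabiliser of a singular point is a maximal subgroup of `Ω` -/
theorem stabPt_isCoatom (u : ι → F) (hu0 : u ≠ 0) (hu : Q u = 0) : IsCoatom (stabPt Q u) := by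
  refine ⟨stabPt_ne_top Q hQ hfam hk hcard u hu0 hu, ?_⟩
  intro K hHK
  set P : (ι → F) → Prop :=
    fun v => ∃ κ ∈ K, ∃ c : F, act Q (κ : ↥(Cfsg.Omega F ⇑Q)).1 u = c • v with hP
  have hHle : stabPt Q u ≤ K := le_of_lt hHK
  have hc0 : ∀ (κ : ↥(Cfsg.Omega F ⇑Q)) (c : F) (v : ι → F), act Q κ.1 u = c • v → c ≠ 0 := by
    intro κ c v h hc
    rw [hc, zero_smul] at h
    exact hu0 (act_eq_zero Q _ _ h)
  have hQv : ∀ (κ : ↥(Cfsg.Omega F ⇑Q)) (c : F) (v : ι → F), act Q κ.1 u = c • v → Q v = 0 := by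
    intro κ c v h
    have h1 := Q_act Q κ.1 u
    rw [h, QuadraticMap.map_smul, hu, smul_eq_mul] at h1
    have hc := hc0 κ c v h
    rcases mul_eq_zero.mp h1 with h2 | h2
    · exact absurd (mul_self_eq_zero.mp h2) hc
    · exact h2
  -- F1
  have F1 : ∀ v, P v → ∀ g : ↥(Cfsg.Omega F ⇑Q), (∃ d : F, act Q g.1 v = d • v) → g ∈ K := by
    rintro v ⟨κ, hκ, c, hc⟩ g ⟨d, hd⟩
    have hc0' := hc0 κ c v hc
    have hinv : act Q (κ.1)⁻¹ v = c⁻¹ • u := by
      have h1 : act Q (κ.1)⁻¹ (c • v) = u := act_inv_eq Q κ.1 u _ hc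
      rw [act_smul] at h1
      rw [← h1, smul_smul, inv_mul_cancel₀ hc0', one_smul]
    have hmem : κ⁻¹ * g * κ ∈ stabPt Q u := by
      refine ⟨d, ?_⟩
      rw [Subgroup.coe_mul, Subgroup.coe_mul, Subgroup.coe_inv, act_mul, act_mul, hc, act_smul,
        hd, act_smul, act_smul, hinv, smul_smul, smul_smul]
      congr 1
      field_simp
    have h1 := hHle hmem
    have h2 : g = κ * (κ⁻¹ * g * κ) * κ⁻¹ := by group
    rw [h2]
    exact K.mul_mem (K.mul_mem hκ h1) (K.inv_mem hκ)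
  have F2 : ∀ v, P v → ∀ g ∈ K, P (act Q (g : ↥(Cfsg.Omega F ⇑Q)).1 v) := by
    rintro v ⟨κ, hκ, c, hc⟩ g hg
    exact ⟨g * κ, K.mul_mem hg hκ, c, by rw [Subgroup.coe_mul, act_mul, hc, act_smul]⟩
  have F2' : ∀ v, P v → ∀ t : F, t ≠ 0 → P (t • v) := by
    rintro v ⟨κ, hκ, c, hc⟩ t ht
    exact ⟨κ, hκ, c * t⁻¹, by rw [hc, smul_smul, mul_assoc, inv_mul_cancel₀ ht, mul_one]⟩
  have F2'' : ∀ (v : ι → F) (d : F), P (d • v) → P v := by
    rintro v d ⟨κ, hκ, c, hc⟩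
    exact ⟨κ, hκ, c * d, by rw [hc, smul_smul]⟩
  have hPu : P u := ⟨1, K.one_mem, 1, by rw [Subgroup.coe_one, act_one, one_smul]⟩
  suffices hall : ∀ r : ι → F, r ≠ 0 → Q r = 0 → P r by
    rw [eq_top_iff]
    intro g _
    have hgu0 : act Q g.1 u ≠ 0 := fun h => hu0 (act_eq_zero Q _ _ h)
    obtain ⟨κ, hκ, c, hc⟩ := hall (act Q g.1 u) hgu0 (by rw [Q_act]; exact hu)
    have hmem : g⁻¹ * κ ∈ stabPt Q u := by
      refine ⟨c, ?_⟩
      rw [Subgroup.coe_mul, Subgroup.coe_inv, act_mul, hc, act_smul, act_inv_eq Q g.1 u _ rfl]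
    have h1 := hHle hmem
    have h2 : g = κ * (g⁻¹ * κ)⁻¹ := by group
    rw [h2]
    exact K.mul_mem hκ (K.inv_mem h1)
  obtain ⟨κ₀, hκ₀K, hκ₀H⟩ := SetLike.exists_of_lt hHK
  set v₀ := act Q κ₀.1 u with hv₀
  have hPv₀ : P v₀ := ⟨κ₀, hκ₀K, 1, by rw [one_smul]⟩
  have hv₀ind : ∀ c : F, v₀ ≠ c • u := fun c hc => hκ₀H ⟨c, hc⟩
  have hv₀Q : Q v₀ = 0 := by rw [hv₀, Q_act]; exact hu
  by_cases horth : polar ⇑Q u v₀ = 0
  · -- Case A
    have claimA : ∀ v, P v → ∀ w, Q w = 0 → (∀ c : F, w ≠ c • v) → polar ⇑Q v w = 0 → P w := by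
      rintro v ⟨κ, hκ, c, hc⟩ w hw hwind hvw
      have hc0' := hc0 κ c v hc
      have hvQ : Q v = 0 := hQv κ c v hc
      have hv0 : v ≠ 0 := by
        rintro rfl
        rw [smul_zero] at hc
        exact hu0 (act_eq_zero Q _ _ hc)
      set v₁ := act Q κ.1 v₀ with hv₁
      have hPv₁ : P v₁ := F2 v₀ hPv₀ κ hκ
      have hv₁Q : Q v₁ = 0 := by rw [hv₁, Q_act]; exact hv₀Q
      have hvv₁ : polar ⇑Q v v₁ = 0 := by
        have h1 := polar_act Q κ.1 u v₀
        rw [hc, polar_smul_left, horth, smul_eq_mul] at h1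
        exact (mul_eq_zero.mp h1).resolve_left hc0'
      have hv₁ind : ∀ t : F, v₁ ≠ t • v := by
        intro t ht
        apply hv₀ind (t * c⁻¹)
        have h2 : act Q κ.1 v₀ = act Q κ.1 ((t * c⁻¹) • u) := by
          rw [act_smul, hc, smul_smul, mul_assoc, inv_mul_cancel₀ hc0', mul_one]
          exact ht
        exact act_injective Q κ.1 _ _ h2
      obtain ⟨g, hg, hgv, hgv₁⟩ := stab_trans_orth Q hQ hfam hk hcard v v₁ w hv0 hvQ hv₁Q hw
        hvv₁ hvw hv₁ind hwind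
      have hgK : (⟨g, hg⟩ : ↥(Cfsg.Omega F ⇑Q)) ∈ K :=
        F1 v ⟨κ, hκ, c, hc⟩ ⟨g, hg⟩ ⟨1, by rw [one_smul]; exact hgv⟩
      have h4 := F2 v₁ hPv₁ ⟨g, hg⟩ hgK
      simp only at h4
      rwa [hgv₁] at h4
    intro r hr0 hrQ
    by_cases hru : ∃ t : F, r = t • u
    · obtain ⟨t, rfl⟩ := hru
      have ht : t ≠ 0 := by
        rintro rfl
        exact hr0 (zero_smul _ _)
      exact F2' u hPu t ht
    · push Not at hru
      by_cases hur : polar ⇑Q u r = 0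
      · exact claimA u hPu r hrQ hru hur
      · obtain ⟨s, hs0, hsQ, hsu, hsr⟩ :=
          exists_singular_orth_both Q hQ hfam hk hcard u r hu hrQ hur
        have hsind : ∀ c : F, s ≠ c • u := by
          intro c hc
          rw [hc, polar_smul_left, smul_eq_mul] at hsr
          rcases mul_eq_zero.mp hsr with h | h
          · rw [h, zero_smul] at hc
            exact hs0 hc
          · exact hur h
        have hPs : P s := claimA u hPu s hsQ hsind (by rw [polar_comm]; exact hsu)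
        have hrind : ∀ c : F, r ≠ c • s := by
          intro c hc
          apply hur
          rw [hc, polar_smul_right, polar_comm, hsu, smul_zero]
        exact claimA s hPs r hrQ hrind hsr
  · -- Case B
    have claimB : ∀ v, P v → ∀ w, Q w = 0 → polar ⇑Q v w ≠ 0 → P w := by
      rintro v ⟨κ, hκ, c, hc⟩ w hw hvw
      have hc0' := hc0 κ c v hc
      have hvQ : Q v = 0 := hQv κ c v hc
      set v₁ := act Q κ.1 v₀ with hv₁
      have hPv₁ : P v₁ := F2 v₀ hPv₀ κ hκ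
      have hv₁Q : Q v₁ = 0 := by rw [hv₁, Q_act]; exact hv₀Q
      have hvv₁ : polar ⇑Q v v₁ ≠ 0 := by
        have h1 := polar_act Q κ.1 u v₀
        rw [hc, polar_smul_left] at h1
        intro h0
        rw [h0, smul_zero] at h1
        exact horth h1.symm
      obtain ⟨g, hg, hgv, d, hgv₁⟩ := stab_trans_nonorth Q hQ hfam hk hcard v v₁ w hvQ hv₁Q hw
        hvv₁ hvw
      have hgK : (⟨g, hg⟩ : ↥(Cfsg.Omega F ⇑Q)) ∈ K :=
        F1 v ⟨κ, hκ, c, hc⟩ ⟨g, hg⟩ ⟨1, by rw [one_smul]; exact hgv⟩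
      have h4 := F2 v₁ hPv₁ ⟨g, hg⟩ hgK
      simp only at h4
      rw [hgv₁] at h4
      exact F2'' w d h4
    intro r hr0 hrQ
    by_cases hru : ∃ t : F, r = t • u
    · obtain ⟨t, rfl⟩ := hru
      have ht : t ≠ 0 := by
        rintro rfl
        exact hr0 (zero_smul _ _)
      exact F2' u hPu t ht
    · push Not at hru
      by_cases hur : polar ⇑Q u r = 0
      · obtain ⟨t, htQ, htu, htr⟩ :=
          exists_singular_nonorth_both Q hQ hfam hk hcard u r hu0 hu hrQ hur hru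
        have hPt : P t := claimB u hPu t htQ (by rw [polar_comm]; exact htu)
        exact claimB t hPt r hrQ htr
      · exact claimB u hPu r hrQ hur

end maximal

end Cfsg.Agent.Lib.Helper37
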