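import Mathlib
import Cfsg.Agent.Lib.Helper8.OmegaIwasawa
import Cfsg.Agent.Lib.Helper8.OmegaTransitive
import Cfsg.Agent.Lib.Helper37.OmegaMaximal

set_option autoImplicit false
set_option linter.unusedSectionVars false

namespace Cfsg.Agent.Lib.Helper37

open Matrix Module QuadraticMap
open Cfsg.Agent.Lib.Helper8 Cfsg.Agent.Lib.Helper13

variable {ι : Type} [Fintype ι] [DecidableEq ι] {F : Type*} [Field F]

/-- all Eichler transformations based at `u` belong to `M` -/
def rootFull (Q : QuadraticForm F (ι → F)) (hQ : (QuadraticMap.polarBilin Q).Nondegenerate)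
    (M : Subgroup ↥(Cfsg.isometryGroup F ⇑Q)) (u : ι → F) : Prop :=
  ∀ (v : ι → F) (hu : Q u = 0) (huv : polar ⇑Q u v = 0), eichlerElt Q hQ u v hu huv ∈ M

theorem act_eichlerElt (Q : QuadraticForm F (ι → F))
    (hQ : (QuadraticMap.polarBilin Q).Nondegenerate) (u v : ι → F) (hu : Q u = 0)
    (huv : polar ⇑Q u v = 0) (x : ι → F) :
    act Q (eichlerElt Q hQ u v hu huv) x
      = x + polar ⇑Q u x • v - polar ⇑Q v x • u - (Q v * polar ⇑Q u x) • u :=
  eichlerElt_mulVec Q hQ u v hu huv x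

theorem rootFull_act (Q : QuadraticForm F (ι → F))
    (hQ : (QuadraticMap.polarBilin Q).Nondegenerate)
    (M : Subgroup ↥(Cfsg.isometryGroup F ⇑Q)) (g : ↥(Cfsg.isometryGroup F ⇑Q)) (hg : g ∈ M)
    (u : ι → F) (h : rootFull Q hQ M u) : rootFull Q hQ M (act Q g u) := by
  intro v' hu' huv'
  have hu : Q u = 0 := by rw [← Q_act Q g u]; exact hu'
  have hv : act Q g (act Q g⁻¹ v') = v' := by
    rw [← act_mul, mul_inv_cancel, act_one]
  have huv : polar ⇑Q u (act Q g⁻¹ v') = 0 := by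
    rw [← polar_act Q g, hv]; exact huv'
  have h1 := conj_eichlerElt Q hQ g u (act Q g⁻¹ v') hu huv
  have h2 : eichlerElt Q hQ (act Q g u) v' hu' huv'
      = g * eichlerElt Q hQ u (act Q g⁻¹ v') hu huv * g⁻¹ := by
    rw [h1]
    exact eichlerElt_congr Q hQ _ _ _ _ _ _ _ _ rfl hv.symm
  rw [h2]
  exact M.mul_mem (M.mul_mem hg (h _ hu huv)) (M.inv_mem hg)

theorem rootFull_smul (Q : QuadraticForm F (ι → F))
    (hQ : (QuadraticMap.polarBilin Q).Nondegenerate)
    (M : Subgroup ↥(Cfsg.isometryGroup F ⇑Q)) (c : F)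
    (u : ι → F) (hu : Q u = 0) (h : rootFull Q hQ M u) : rootFull Q hQ M (c • u) := by
  intro v hu' huv'
  by_cases hc : c = 0
  · subst hc
    have : eichlerElt Q hQ ((0 : F) • u) v hu' huv' = 1 := by
      rw [eichlerElt_congr Q hQ ((0 : F) • u) v 0 v hu' huv' (QuadraticMap.map_zero _)
        (polar_zero_left _ _) (zero_smul _ _) rfl]
      exact eichlerElt_zero_left Q hQ v
    rw [this]; exact M.one_mem
  · have huv : polar ⇑Q u v = 0 := by
      rw [polar_smul_left, smul_eq_mul] at huv'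
      rcases mul_eq_zero.1 huv' with h | h
      · exact absurd h hc
      · exact h
    have h1 := eichlerElt_smul_left Q hQ u v hu huv c
    rw [h1]
    exact h _ hu _

theorem rootFull_spread (Q : QuadraticForm F (ι → F))
    (hQ : (QuadraticMap.polarBilin Q).Nondegenerate)
    (M : Subgroup ↥(Cfsg.isometryGroup F ⇑Q)) (u u' x : ι → F) (hu : Q u = 0) (hu' : Q u' = 0)
    (hx : Q x = 0) (hfu : rootFull Q hQ M u) (hfu' : rootFull Q hQ M u')
    (huu' : polar ⇑Q u u' ≠ 0) (hux : polar ⇑Q u x ≠ 0) : rootFull Q hQ M x := by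
  set c : F := polar ⇑Q u u' / polar ⇑Q u x with hc
  have hc0 : c ≠ 0 := div_ne_zero huu' hux
  have hb : Q (c • x) = 0 := by rw [QuadraticMap.map_smul, hx, smul_zero]
  have hab : Q u' = Q (c • x) := by rw [hu', hb]
  have hub : polar ⇑Q u (c • x - u') = 0 := by
    rw [polar_sub_right, polar_smul_right, smul_eq_mul, hc, div_mul_cancel₀ _ hux, sub_self]
  have hmove := eichler_move' Q hQ u' (c • x) u hab hu hub huu'
  have hfl : rootFull Q hQ M ((polar ⇑Q u u')⁻¹ • u) := rootFull_smul Q hQ M _ u hu hfu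
  have hmem := hfl (c • x - u') (by rw [QuadraticMap.map_smul, hu, smul_zero])
    (by rw [polar_smul_left, hub, smul_zero])
  have h1 := rootFull_act Q hQ M _ hmem u' hfu'
  have h2 : act Q (eichlerElt Q hQ ((polar ⇑Q u u')⁻¹ • u) (c • x - u')
      (by rw [QuadraticMap.map_smul, hu, smul_zero])
      (by rw [polar_smul_left, hub, smul_zero])) u' = c • x := hmove
  rw [h2] at h1
  have h3 := rootFull_smul Q hQ M c⁻¹ (c • x) hb h1
  rwa [smul_smul, inv_mul_cancel₀ hc0, one_smul] at h3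

theorem rootFull_all (Q : QuadraticForm F (ι → F))
    (hQ : (QuadraticMap.polarBilin Q).Nondegenerate)
    (M : Subgroup ↥(Cfsg.isometryGroup F ⇑Q)) (u u' : ι → F) (hu : Q u = 0) (hu' : Q u' = 0)
    (hfu : rootFull Q hQ M u) (hfu' : rootFull Q hQ M u')
    (huu' : polar ⇑Q u u' ≠ 0) (y : ι → F) (hy : Q y = 0) : rootFull Q hQ M y := by
  by_cases hy0 : y = 0
  · subst hy0
    intro v h1 h2
    rw [eichlerElt_zero_left Q hQ v]; exact M.one_mem
  have hu0 : u ≠ 0 := by
    rintro rfl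
    exact huu' (polar_zero_left _ _)
  by_cases huy : polar ⇑Q u y ≠ 0
  · exact rootFull_spread Q hQ M u u' y hu hu' hy hfu hfu' huu' huy
  push Not at huy
  obtain ⟨x, hxu, hxy⟩ := exists_polar_ne_zero_two Q hQ u y hu0 hy0
  set c : F := - Q x / polar ⇑Q u x with hc
  set t : ι → F := x + c • u with ht
  have hQt : Q t = 0 := by
    rw [ht, QuadraticMap.map_add Q, QuadraticMap.map_smul, hu, smul_zero, add_zero,
      polar_smul_right, smul_eq_mul, polar_comm, hc, div_mul_cancel₀ _ hxu, add_neg_cancel]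
  have hut : polar ⇑Q u t ≠ 0 := by
    rw [ht, polar_add_right, polar_smul_right, polar_self, hu]
    simpa using hxu
  have hyt : polar ⇑Q t y ≠ 0 := by
    rw [ht, polar_add_left, polar_smul_left, huy, smul_zero, add_zero, polar_comm]
    exact hxy
  have hft := rootFull_spread Q hQ M u u' t hu hu' hQt hfu hfu' huu' hut
  have htu : polar ⇑Q t u ≠ 0 := by rw [polar_comm]; exact hut
  exact rootFull_spread Q hQ M t u y hQt hu hy hft hfu htu hyt

theorem omega_le_of_rootFull [Fintype F] (Q : QuadraticForm F (ι → F))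
    (hQ : (QuadraticMap.polarBilin Q).Nondegenerate) (hn : 5 ≤ finrank F (ι → F))
    (hn2 : (2 : F) = 0 → 7 ≤ finrank F (ι → F))
    (M : Subgroup ↥(Cfsg.isometryGroup F ⇑Q))
    (h : ∀ y : ι → F, Q y = 0 → rootFull Q hQ M y) :
    commutator ↥(Cfsg.isometryGroup F ⇑Q) ≤ M := by
  rw [omega_eq_closure_longRoot Q hQ hn hn2, Subgroup.closure_le]
  rintro g ⟨u, v, hu, huv, -, rfl⟩
  exact h u hu v hu huv


theorem ts_rootFull [Fintype F] (Q : QuadraticForm F (ι → F))
    (hQ : (QuadraticMap.polarBilin Q).Nondegenerate) (hn : 5 ≤ finrank F (ι → F))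
    (hn2 : (2 : F) = 0 → 7 ≤ finrank F (ι → F))
    (W : Submodule F (ι → F)) (hW : ∀ w ∈ W, Q w = 0)
    (M : Subgroup ↥(Cfsg.isometryGroup F ⇑Q))
    (hM : stabSub Q W ⊓ commutator ↥(Cfsg.isometryGroup F ⇑Q) ≤ M) (w : ι → F) (hw : w ∈ W) :
    rootFull Q hQ M w := by
  intro v hu huv
  apply hM
  refine ⟨?_, eichlerElt_mem_omega Q hQ hn hn2 w v hu huv⟩
  apply mem_stabSub_of_le
  intro x hx
  rw [eichlerElt_mulVec]
  have h0 : polar ⇑Q w x = 0 := polar_eq_zero_of_quad_zero Q W hW w x hw hx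
  rw [h0, zero_smul, add_zero, mul_zero, zero_smul, sub_zero]
  exact W.sub_mem hx (W.smul_mem _ hw)

theorem parabolic_max [Fintype F] (Q : QuadraticForm F (ι → F))
    (hQ : (QuadraticMap.polarBilin Q).Nondegenerate) (hn : 5 ≤ finrank F (ι → F))
    (hn2 : (2 : F) = 0 → 7 ≤ finrank F (ι → F))
    (W : Submodule F (ι → F)) (hW : ∀ w ∈ W, Q w = 0)
    (hdim : ∀ U : Submodule F (ι → F), W < U → (∀ u ∈ U, Q u = 0) →
      finrank F ↥U ≤ finrank F ↥W + 1 → 2 * finrank F ↥U < finrank F (ι → F))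
    (M : Subgroup ↥(Cfsg.isometryGroup F ⇑Q))
    (hPM : stabSub Q W ⊓ commutator ↥(Cfsg.isometryGroup F ⇑Q) ≤ M)
    (g : ↥(Cfsg.isometryGroup F ⇑Q)) (hgM : g ∈ M) (hg : g ∉ stabSub Q W) :
    commutator ↥(Cfsg.isometryGroup F ⇑Q) ≤ M := by
  have h1 : ∃ w ∈ W, act Q g w ∉ W := by
    by_contra hcon
    push Not at hcon
    exact hg (mem_stabSub_of_le Q W g hcon)
  obtain ⟨w, hwW, hx⟩ := h1
  set x := act Q g w with hxdef
  have hQx : Q x = 0 := by rw [hxdef, Q_act]; exact hW w hwW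
  have hfx : rootFull Q hQ M x :=
    rootFull_act Q hQ M g hgM w (ts_rootFull Q hQ hn hn2 W hW M hPM w hwW)
  apply omega_le_of_rootFull Q hQ hn hn2 M
  by_cases hA : ∃ w' ∈ W, polar ⇑Q w' x ≠ 0
  · obtain ⟨w', hw'W, hw'x⟩ := hA
    exact rootFull_all Q hQ M w' x (hW w' hw'W) hQx
      (ts_rootFull Q hQ hn hn2 W hW M hPM w' hw'W) hfx hw'x
  · push Not at hA
    obtain ⟨z, hzW, hzx⟩ := exists_orth_of_notMem Q hQ W x hx
    obtain ⟨z', hz'x, hz'W⟩ : ∃ z' : ι → F, polar ⇑Q z' x = 1 ∧ ∀ w' ∈ W, polar ⇑Q z' w' = 0 := by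
      refine ⟨(polar ⇑Q z x)⁻¹ • z, ?_, ?_⟩
      · rw [polar_smul_left, smul_eq_mul, inv_mul_cancel₀ hzx]
      · intro w' hw'
        rw [polar_smul_left, hzW w' hw', smul_zero]
    obtain ⟨y, hQy, hyx, hyW⟩ : ∃ y : ι → F, Q y = 0 ∧ polar ⇑Q y x = 1 ∧
        ∀ w' ∈ W, polar ⇑Q y w' = 0 := by
      refine ⟨z' - Q z' • x, ?_, ?_, ?_⟩
      · rw [sub_eq_add_neg, ← neg_smul, QuadraticMap.map_add Q, QuadraticMap.map_smul, hQx,
          smul_zero, add_zero, polar_smul_right, hz'x, smul_eq_mul, mul_one, add_neg_cancel]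
      · rw [polar_sub_left, polar_smul_left, polar_self, hQx, hz'x]
        simp
      · intro w' hw'
        rw [polar_sub_left, polar_smul_left, hz'W w' hw', polar_comm ⇑Q x w', hA w' hw']
        simp
    have hyW' : y ∉ W := by
      intro h
      have h2 := hA y h
      rw [hyx] at h2
      exact one_ne_zero h2
    set U : Submodule F (ι → F) := W ⊔ Submodule.span F {y} with hU
    have hWU : W < U := by
      refine lt_of_le_of_ne le_sup_left ?_
      intro h
      apply hyW'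
      rw [h]
      exact Submodule.mem_sup_right (Submodule.mem_span_singleton_self y)
    have hU0 : ∀ u ∈ U, Q u = 0 := by
      intro u hu
      obtain ⟨a, ha, b, hb, rfl⟩ := Submodule.mem_sup.1 hu
      obtain ⟨c, rfl⟩ := Submodule.mem_span_singleton.1 hb
      rw [QuadraticMap.map_add Q, hW a ha, QuadraticMap.map_smul, hQy, polar_smul_right,
        polar_comm, hyW a ha]
      simp
    have hUdim : finrank F ↥U ≤ finrank F ↥W + 1 := by
      have h1 := Submodule.finrank_add_le_finrank_add_finrank W (Submodule.span F {y})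
      have hy0 : y ≠ 0 := by
        rintro rfl
        exact hyW' W.zero_mem
      have h2 : finrank F ↥(Submodule.span F {y}) = 1 := finrank_span_singleton hy0
      rw [hU]
      omega
    obtain ⟨v, hv, hvU⟩ := exists_nonsingular_orth_ts Q hQ U (hdim U hWU hU0 hUdim)
    have hvW : ∀ w' ∈ W, polar ⇑Q v w' = 0 := fun w' hw' => hvU w' (Submodule.mem_sup_left hw')
    have hvy : polar ⇑Q v y = 0 :=
      hvU y (Submodule.mem_sup_right (Submodule.mem_span_singleton_self y))
    have hyv : polar ⇑Q y v = 0 := by rw [polar_comm]; exact hvy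
    have hpM : eichlerElt Q hQ y v hQy hyv ∈ M := by
      apply hPM
      refine ⟨?_, eichlerElt_mem_omega Q hQ hn hn2 y v hQy hyv⟩
      apply mem_stabSub_of_le
      intro w' hw'
      rw [eichlerElt_mulVec_of_orth Q hQ y v w' hQy hyv (hyW w' hw') (hvW w' hw')]
      exact hw'
    have hfpx : rootFull Q hQ M (act Q (eichlerElt Q hQ y v hQy hyv) x) :=
      rootFull_act Q hQ M _ hpM x hfx
    have hpol : polar ⇑Q x (act Q (eichlerElt Q hQ y v hQy hyv) x) ≠ 0 := by
      rw [act_eichlerElt, hyx, polar_sub_right, polar_sub_right, polar_add_right,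
        polar_smul_right, polar_smul_right, polar_smul_right, polar_self, hQx,
        polar_comm ⇑Q x y, hyx, polar_comm ⇑Q x v]
      simp only [smul_eq_mul, mul_one, one_mul]
      simpa using hv
    intro y' hy'
    exact rootFull_all Q hQ M x _ hQx (by rw [Q_act]; exact hQx) hfx hfpx hpol y' hy'

theorem exists_not_mem_stabSub [Fintype F] (Q : QuadraticForm F (ι → F))
    (hQ : (QuadraticMap.polarBilin Q).Nondegenerate) (hn : 5 ≤ finrank F (ι → F))
    (hn2 : (2 : F) = 0 → 7 ≤ finrank F (ι → F))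
    (W : Submodule F (ι → F)) (hW : ∀ w ∈ W, Q w = 0) (hW0 : W ≠ ⊥) :
    ∃ g ∈ commutator ↥(Cfsg.isometryGroup F ⇑Q), g ∉ stabSub Q W := by
  obtain ⟨w, hwW, hw0⟩ := Submodule.exists_mem_ne_zero_of_ne_bot hW0
  obtain ⟨f, hf, hwf⟩ := exists_hyp_partner Q hQ w hw0 (hW w hwW)
  obtain ⟨v, hv, hvf⟩ := exists_nonsingular_orth_family Q hQ ![f] (by omega)
  have hvf' : polar ⇑Q v f = 0 := hvf 0
  have hfv : polar ⇑Q f v = 0 := by rw [polar_comm]; exact hvf'
  refine ⟨eichlerElt Q hQ f v hf hfv, eichlerElt_mem_omega Q hQ hn hn2 f v hf hfv, ?_⟩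
  intro hmem
  have h1 : act Q (eichlerElt Q hQ f v hf hfv) w ∈ W := by
    rw [mem_stabSub] at hmem
    rw [← hmem]
    exact (mem_mapSub Q _ W _).2 ⟨w, hwW, rfl⟩
  have h0 := polar_eq_zero_of_quad_zero Q W hW w _ hwW h1
  have hfw : polar ⇑Q f w = 1 := by rw [polar_comm]; exact hwf
  rw [act_eichlerElt, hfw, polar_sub_right, polar_sub_right, polar_add_right,
    polar_smul_right, polar_smul_right, polar_smul_right, polar_self, hW w hwW, hwf,
    polar_comm ⇑Q w v] at h0
  simp only [smul_eq_mul, mul_one, one_mul] at h0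
  apply hv
  simpa using h0

end Cfsg.Agent.Lib.Helper37
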