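import Mathlib
import Cfsg.Prelude.Def_GeometricClasses
import Cfsg.Agent.Lib.Helper37.ParabolicMax

set_option autoImplicit false
set_option linter.unusedSectionVars false

namespace Cfsg.Agent.Lib.Helper37

open Matrix Module QuadraticMap
open Cfsg.Agent.Lib.Helper8 Cfsg.Agent.Lib.Helper13

variable {ι : Type} [Fintype ι] [DecidableEq ι] {F : Type*} [Field F]

/-- a bare function satisfying the Prelude's axioms, bundled as a Mathlib quadratic form -/
noncomputable def toQF (Q : (ι → F) → F) (hQ : Cfsg.Geo.IsNondegenerateQuadraticForm Q) :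
    QuadraticForm F (ι → F) where
  toFun := Q
  toFun_smul := fun a x => by rw [hQ.smul, smul_eq_mul, pow_two]
  exists_companion' :=
    ⟨LinearMap.mk₂ F (polar Q) hQ.polar_bilinear.add_left
        (fun c x v => by rw [hQ.polar_bilinear.smul_left, smul_eq_mul])
        hQ.polar_bilinear.add_right
        (fun c v x => by rw [hQ.polar_bilinear.smul_right, smul_eq_mul]),
      fun x y => by simp [polar]⟩

theorem toQF_coe (Q : (ι → F) → F) (hQ : Cfsg.Geo.IsNondegenerateQuadraticForm Q) :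
    ⇑(toQF Q hQ) = Q := rfl

theorem toQF_nondeg (Q : (ι → F) → F) (hQ : Cfsg.Geo.IsNondegenerateQuadraticForm Q) :
    (QuadraticMap.polarBilin (toQF Q hQ)).Nondegenerate := by
  constructor
  · intro x hx
    by_contra hx0
    obtain ⟨-, y, hy⟩ := hQ.nondegenerate x hx0
    exact hy (hx y)
  · intro x hx
    by_contra hx0
    obtain ⟨⟨y, hy⟩, -⟩ := hQ.nondegenerate x hx0
    exact hy (hx y)

theorem two_mul_finrank_le_of_ts (Q : QuadraticForm F (ι → F))
    (hQ : (QuadraticMap.polarBilin Q).Nondegenerate) (U : Submodule F (ι → F))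
    (hU : ∀ u ∈ U, Q u = 0) : 2 * finrank F ↥U ≤ finrank F (ι → F) := by
  have h1 := LinearMap.BilinForm.finrank_orthogonal hQ U
  have h2 : U ≤ LinearMap.BilinForm.orthogonal (QuadraticMap.polarBilin Q) U := by
    intro x hx
    rw [LinearMap.BilinForm.mem_orthogonal_iff]
    intro y hy
    exact polar_eq_zero_of_quad_zero Q U hU y x hy hx
  have h3 := Submodule.finrank_mono h2
  have h4 := Submodule.finrank_le U
  omega

theorem mem_stabSub_iff (Q : QuadraticForm F (ι → F)) (W : Submodule F (ι → F))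
    (g : ↥(Cfsg.isometryGroup F ⇑Q)) :
    g ∈ stabSub Q W ↔ (g : Matrix.GeneralLinearGroup ι F) ∈ Cfsg.Geo.subspaceStabilizer W := by
  constructor
  · intro hg v
    show v ∈ W ↔ act Q g v ∈ W
    constructor
    · intro hv
      rw [mem_stabSub] at hg
      rw [← hg]
      exact (mem_mapSub Q g W _).2 ⟨v, hv, rfl⟩
    · intro hv
      rw [mem_stabSub] at hg
      rw [← hg] at hv
      obtain ⟨v', hv', h⟩ := (mem_mapSub Q g W _).1 hv
      have : v' = v := act_injective Q g v' v h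
      rw [← this]; exact hv'
  · intro hg
    apply mem_stabSub_of_le
    intro x hx
    exact (hg x).1 hx

theorem isMaximalIn_stab_of (Q : QuadraticForm F (ι → F)) (W : Submodule F (ι → F))
    (hproper : ∃ g ∈ commutator ↥(Cfsg.isometryGroup F ⇑Q), g ∉ stabSub Q W)
    (hmax : ∀ M : Subgroup ↥(Cfsg.isometryGroup F ⇑Q),
      stabSub Q W ⊓ commutator ↥(Cfsg.isometryGroup F ⇑Q) ≤ M →
      ∀ g ∈ M, g ∉ stabSub Q W → commutator ↥(Cfsg.isometryGroup F ⇑Q) ≤ M) :
    Cfsg.Geo.IsMaximalIn (Cfsg.Geo.omegaGL ⇑Q)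
      (Cfsg.Geo.subspaceStabilizer W ⊓ Cfsg.Geo.omegaGL ⇑Q) := by
  have hmemΩ : ∀ x : Matrix.GeneralLinearGroup ι F, x ∈ Cfsg.Geo.omegaGL ⇑Q ↔
      ∃ g : ↥(Cfsg.isometryGroup F ⇑Q), g ∈ commutator ↥(Cfsg.isometryGroup F ⇑Q) ∧
        (g : Matrix.GeneralLinearGroup ι F) = x := by
    intro x
    unfold Cfsg.Geo.omegaGL
    rw [Subgroup.mem_map]
    rfl
  refine ⟨lt_of_le_of_ne inf_le_right ?_, ?_⟩
  · intro heq
    obtain ⟨g, hgΩ, hg⟩ := hproper
    have h1 : (g : Matrix.GeneralLinearGroup ι F) ∈ Cfsg.Geo.omegaGL ⇑Q :=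
      (hmemΩ _).2 ⟨g, hgΩ, rfl⟩
    rw [← heq] at h1
    exact hg ((mem_stabSub_iff Q W g).2 h1.1)
  · intro M hHM hMK
    by_cases hMH : M ≤ Cfsg.Geo.subspaceStabilizer W ⊓ Cfsg.Geo.omegaGL ⇑Q
    · exact Or.inl (le_antisymm hMH hHM)
    · right
      apply le_antisymm hMK
      obtain ⟨x, hxM, hxH⟩ := SetLike.not_le_iff_exists.1 hMH
      obtain ⟨g, hgΩ, rfl⟩ := (hmemΩ x).1 (hMK hxM)
      have hgS : g ∉ stabSub Q W := by
        intro h
        exact hxH ⟨(mem_stabSub_iff Q W g).1 h, hMK hxM⟩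
      have h2 := hmax (M.comap (Cfsg.isometryGroup F ⇑Q).subtype) (by
        intro a ha
        rw [Subgroup.mem_comap]
        apply hHM
        exact ⟨(mem_stabSub_iff Q W a).1 ha.1, (hmemΩ _).2 ⟨a, ha.2, rfl⟩⟩) g
        (by rw [Subgroup.mem_comap]; exact hxM) hgS
      intro y hy
      obtain ⟨a, haΩ, rfl⟩ := (hmemΩ y).1 hy
      exact h2 haΩ

end Cfsg.Agent.Lib.Helper37
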