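import Cfsg.Agent.Lib.Helper37.EichlerClosure

set_option autoImplicit false
set_option linter.unusedSectionVars false
set_option linter.unusedVariables false

namespace Cfsg.Agent.Lib.Helper37

open Matrix Module QuadraticMap
open Cfsg.Agent.Lib.Helper8 Cfsg.Agent.Lib.Helper13
open scoped commutatorElement

variable {ι : Type} [Fintype ι] [DecidableEq ι] {F : Type*} [Field F]

section perfect

variable [Fintype F] (Q : QuadraticForm F (ι → F))
  (hQ : (QuadraticMap.polarBilin Q).Nondegenerate) {k : ℕ} {e f : Fin k → ι → F}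
  (hfam : HypFam Q k e f) (hk : 3 ≤ k)
  (hcard : Fintype.card F ≠ 2 ∨ finrank F (ι → F) ≠ 4)

include hQ hfam hk hcard

/-- moving a pair (singular, orthogonal vector of norm `c`) to standard position -/
theorem omega_to_e0_e1cf1 (u v : ι → F) (hu0 : u ≠ 0) (hu : Q u = 0)
    (huv : polar ⇑Q u v = 0) (hind : ∀ c : F, v ≠ c • u) :
    ∃ g : ↥(Cfsg.isometryGroup F ⇑Q), g ∈ Cfsg.Omega F ⇑Q ∧ act Q g u = e ⟨0, by omega⟩ ∧
      act Q g v = e ⟨1, by omega⟩ + Q v • f ⟨1, by omega⟩ := by
  have h01 : (⟨0, by omega⟩ : Fin k) ≠ ⟨1, by omega⟩ := by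
    intro hh; have := congrArg Fin.val hh; simp at this
  obtain ⟨h1, h2, h3⟩ := hfam.compl_vec ⟨1, by omega⟩ (Q v)
  obtain ⟨g, hg, hgx⟩ := omega_witt_frame Q hQ hcard 2 ![u, v]
    ![e ⟨0, by omega⟩, e ⟨1, by omega⟩ + Q v • f ⟨1, by omega⟩]
    ((LinearIndependent.pair_iff' hu0).mpr (fun a ha => hind a ha.symm))
    ((LinearIndependent.pair_iff' (hfam.e_ne_zero _)).mpr (by
      intro a ha
      have := congrArg (fun x => polar ⇑Q x (f ⟨1, by omega⟩)) ha
      simp only [polar_smul_left, polar_add_left, hfam.ef, hfam.ff, if_neg h01] at this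
      simp at this))
    (by
      intro i; fin_cases i
      · simp [hu, hfam.qe]
      · simp only [Fin.mk_one, Fin.isValue, Matrix.cons_val_one, Matrix.cons_val_fin_one]
        exact h1)
    (by
      intro i j; fin_cases i <;> fin_cases j
      · simp only [Fin.zero_eta, Fin.isValue, Matrix.cons_val_zero]
        rw [polar_self, polar_self, hu, hfam.qe]
      · simp only [Fin.zero_eta, Fin.isValue, Matrix.cons_val_zero, Fin.mk_one,
          Matrix.cons_val_one, Matrix.cons_val_fin_one]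
        rw [huv, polar_comm]
        exact h2 _ h01
      · simp only [Fin.zero_eta, Fin.isValue, Matrix.cons_val_zero, Fin.mk_one,
          Matrix.cons_val_one, Matrix.cons_val_fin_one]
        rw [polar_comm ⇑Q v u, huv]
        exact h2 _ h01
      · simp only [Fin.isValue, Fin.mk_one, Matrix.cons_val_one, Matrix.cons_val_fin_one]
        rw [polar_self, polar_self, h1])
    (by
      intro c hc
      obtain ⟨h1', h2', h3'⟩ := hfam.compl_vec ⟨2, by omega⟩ c
      refine ⟨_, h1', ?_⟩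
      intro i; fin_cases i
      · exact h2' _ (by intro hh; have := congrArg Fin.val hh; simp at this)
      · simp only [Fin.mk_one, Fin.isValue, Matrix.cons_val_one, Matrix.cons_val_fin_one]
        rw [polar_add_right, polar_smul_right,
          h2' _ (by intro hh; have := congrArg Fin.val hh; simp at this),
          h3' _ (by intro hh; have := congrArg Fin.val hh; simp at this)]
        simp)
  exact ⟨g, hg, hgx 0, hgx 1⟩

/-- the standard Eichler transformation is a commutator of elements of `Ω` -/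
theorem eichler_std_mem (c : F)
    (hpol : polar ⇑Q (e ⟨0, by omega⟩) (e ⟨1, by omega⟩ + c • f ⟨1, by omega⟩) = 0) :
    eichler Q (e ⟨0, by omega⟩) (e ⟨1, by omega⟩ + c • f ⟨1, by omega⟩) (hfam.qe _) hpol ∈
      ⁅Cfsg.Omega F ⇑Q, Cfsg.Omega F ⇑Q⁆ := by
  set i0 : Fin k := ⟨0, by omega⟩ with hi0
  set i1 : Fin k := ⟨1, by omega⟩ with hi1
  set i2 : Fin k := ⟨2, by omega⟩ with hi2
  have h01 : i0 ≠ i1 := by intro hh; have := congrArg Fin.val hh; simp [hi0, hi1] at this
  have h02 : i0 ≠ i2 := by intro hh; have := congrArg Fin.val hh; simp [hi0, hi2] at this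
  have h12 : i1 ≠ i2 := by intro hh; have := congrArg Fin.val hh; simp [hi1, hi2] at this
  set v₀ := e i1 + c • f i1 with hv₀
  set w := -(f i2) - c • f i1 with hw
  have hQv₀ : Q v₀ = c := (hfam.compl_vec i1 c).1
  have p1 : polar ⇑Q (e i2) v₀ = 0 := by
    rw [hv₀, polar_add_right, polar_smul_right, hfam.ee, hfam.ef, if_neg (Ne.symm h12)]; simp
  have p2 : polar ⇑Q (e i0) w = 0 := by
    rw [hw, polar_sub_right, polar_neg_right, polar_smul_right, hfam.ef, hfam.ef, if_neg h02,
      if_neg h01]; simp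
  have p3 : polar ⇑Q w v₀ = -c := by
    rw [hw, hv₀]
    simp only [polar_sub_left, polar_neg_left, polar_smul_left, polar_add_right,
      polar_smul_right, hfam.fe, hfam.ff, if_neg (Ne.symm h12), if_pos]
    simp
  have p4 : polar ⇑Q w (e i2) = -1 := by
    rw [hw]
    simp only [polar_sub_left, polar_neg_left, polar_smul_left, hfam.fe, if_neg h12, if_pos]
    simp
  have p5 : polar ⇑Q (e i0) v₀ = 0 := hpol
  have p6 : polar ⇑Q (e i0) (e i2) = 0 := hfam.ee _ _
  set g' := eichler Q (e i2) v₀ (hfam.qe _) p1 with hg'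
  set E := eichler Q (e i0) w (hfam.qe _) p2 with hE
  have hg'Ω : g' ∈ Cfsg.Omega F ⇑Q := eichler_mem_omega Q hQ hfam hk hcard _ _ _ _
  have hEΩ : E ∈ Cfsg.Omega F ⇑Q := eichler_mem_omega Q hQ hfam hk hcard _ _ _ _
  have hcomm : ⁅g', E⁆ = eichler Q (e i0) v₀ (hfam.qe _) hpol := by
    rw [commutatorElement_def, hE, eichler_conj, eichler_inv]
    have e1 : act Q g' (e i0) = e i0 := by
      rw [hg', act_eichler, eichlerLin_apply, p5, p6]; simp
    have e2 : act Q g' w = w + v₀ := by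
      rw [hg', act_eichler, eichlerLin_apply, p3, p4, hQv₀]
      module
    rw [eichler_congr_left Q _ _ _ _ _ _ e1 e2, eichler_mul]
    exact eichler_congr Q _ _ _ _ _ (by abel)
  rw [← hcomm]
  exact Subgroup.commutator_mem_commutator hg'Ω hEΩ

/-- `Ω` is perfect -/
theorem omega_perfect : commutator ↥(Cfsg.Omega F ⇑Q) = ⊤ := by
  have hD : eichlerAll Q ≤ ⁅Cfsg.Omega F ⇑Q, Cfsg.Omega F ⇑Q⁆ := by
    unfold eichlerAll
    rw [Subgroup.closure_le]
    rintro x ⟨u, v, hu, huv, rfl⟩
    rw [SetLike.mem_coe]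
    by_cases hu0 : u = 0
    · subst hu0
      rw [eichler_zero_left]
      exact Subgroup.one_mem _
    by_cases hdep : ∃ c : F, v = c • u
    · obtain ⟨c, rfl⟩ := hdep
      rw [eichler_smul_self]
      exact Subgroup.one_mem _
    push Not at hdep
    obtain ⟨g, hg, hgu, hgv⟩ := omega_to_e0_e1cf1 Q hQ hfam hk hcard u v hu0 hu huv hdep
    have hpol : polar ⇑Q (e ⟨0, by omega⟩) (e ⟨1, by omega⟩ + Q v • f ⟨1, by omega⟩) = 0 := by
      rw [← hgu, ← hgv, polar_act]; exact huv
    have hstd := eichler_std_mem Q hQ hfam hk hcard (Q v) hpol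
    have hnorm : (⁅Cfsg.Omega F ⇑Q, Cfsg.Omega F ⇑Q⁆).Normal := inferInstance
    have h1 := hnorm.conj_mem _ hstd g⁻¹
    rw [eichler_conj] at h1
    have e1 : act Q g⁻¹ (e ⟨0, by omega⟩) = u := act_inv_eq Q g _ _ hgu
    have e2 : act Q g⁻¹ (e ⟨1, by omega⟩ + Q v • f ⟨1, by omega⟩) = v := act_inv_eq Q g _ _ hgv
    rw [eichler_congr_left Q _ _ _ _ _ _ e1 e2] at h1
    exact h1
  rw [eq_top_iff]
  intro x _
  have hx : x.1 ∈ ⁅Cfsg.Omega F ⇑Q, Cfsg.Omega F ⇑Q⁆ :=
    hD (omega_le_eichlerAll Q hQ hfam hk hcard x.2)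
  rw [← Subgroup.map_subtype_commutator, Subgroup.mem_map] at hx
  obtain ⟨y, hy, hyx⟩ := hx
  have : y = x := Subtype.ext hyx
  rw [← this]
  exact hy

end perfect

end Cfsg.Agent.Lib.Helper37
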