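import Mathlib
import Cfsg.Agent.Lib.Helper5.AutPSLnMaps
import Cfsg.Agent.Lib.Helper5.AutPSLnGraphField
import Cfsg.Agent.Lib.Helper5.PSUSimple
import Cfsg.Agent.S0780

set_option autoImplicit false
set_option linter.unusedSectionVars false
set_option linter.unusedVariables false

/-!
# The automorphisms of `PSU_n(q)` induced by `GU_n(q)` and by field automorphisms
-/

namespace Cfsg.Agent.Lib.Helper37.PSUAut

open Matrix Cfsg.Agent.Lib.Helper5.AutPSLn

section Generic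

open scoped commutatorElement

variable {G : Type*} [Group G]

/-- the automorphisms stabilizing a subgroup -/
def stabAut (H : Subgroup G) : Subgroup (MulAut G) where
  carrier := {φ | ∀ x, φ x ∈ H ↔ x ∈ H}
  one_mem' := fun x => Iff.rfl
  mul_mem' := fun {a b} ha hb x => by
    rw [MulAut.mul_apply, ha, hb]
  inv_mem' := fun {a} ha x => by
    rw [← ha (a⁻¹ x), MulAut.apply_inv_self]

theorem mem_stabAut_of (H : Subgroup G) (φ : MulAut G) (h1 : ∀ x ∈ H, φ x ∈ H)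
    (h2 : ∀ x ∈ H, φ⁻¹ x ∈ H) : φ ∈ stabAut H := by
  intro x
  constructor
  · intro h
    have := h2 _ h
    rwa [MulAut.inv_apply_self] at this
  · exact h1 x

/-- restriction of automorphisms to a stable subgroup -/
def restr (H : Subgroup G) : ↥(stabAut H) →* MulAut ↥H where
  toFun φ :=
    { toFun := fun x => ⟨φ.1 x.1, (φ.2 _).2 x.2⟩
      invFun := fun x => ⟨φ.1⁻¹ x.1, (((stabAut H).inv_mem φ.2) _).2 x.2⟩
      left_inv := fun x => Subtype.ext (MulAut.inv_apply_self _ _ _)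
      right_inv := fun x => Subtype.ext (MulAut.apply_inv_self _ _ _)
      map_mul' := fun x y => Subtype.ext (map_mul φ.1 _ _) }
  map_one' := by
    ext x
    rfl
  map_mul' a b := by
    ext x
    rfl

theorem restr_coe (H : Subgroup G) (φ : ↥(stabAut H)) (x : ↥H) :
    ((restr H φ x : ↥H) : G) = φ.1 x.1 := rfl

theorem commutatorElement_mul_central_left (x y z : G) (hz : z ∈ Subgroup.center G) :
    ⁅x * z, y⁆ = ⁅x, y⁆ := by
  have h := Subgroup.mem_center_iff.1 hz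
  rw [commutatorElement_def, commutatorElement_def, _root_.mul_inv_rev]
  calc x * z * y * (z⁻¹ * x⁻¹) * y⁻¹ = x * (z * y) * z⁻¹ * x⁻¹ * y⁻¹ := by group
    _ = x * (y * z) * z⁻¹ * x⁻¹ * y⁻¹ := by rw [h y]
    _ = x * y * x⁻¹ * y⁻¹ := by group

theorem commutatorElement_mul_central_right (x y z : G) (hz : z ∈ Subgroup.center G) :
    ⁅x, y * z⁆ = ⁅x, y⁆ := by
  have h := Subgroup.mem_center_iff.1 hz
  rw [commutatorElement_def, commutatorElement_def, _root_.mul_inv_rev]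
  calc x * (y * z) * x⁻¹ * (z⁻¹ * y⁻¹) = x * y * (z * x⁻¹) * z⁻¹ * y⁻¹ := by group
    _ = x * y * (x⁻¹ * z) * z⁻¹ * y⁻¹ := by rw [h x⁻¹]
    _ = x * y * x⁻¹ * y⁻¹ := by group

/-- on a perfect group, an automorphism is determined by its action on the central quotient -/
theorem desc_injective (hperf : commutator G = ⊤) :
    Function.Injective
      (Cfsg.Agent.Lib.Helper5.AutPSL2.desc : MulAut G →* MulAut (G ⧸ Subgroup.center G)) := by
  rw [injective_iff_map_eq_one]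
  intro a ha
  have hc : ∀ x : G, x⁻¹ * a x ∈ Subgroup.center G := by
    intro x
    have h1 : Cfsg.Agent.Lib.Helper5.AutPSL2.desc a
        (QuotientGroup.mk x : G ⧸ Subgroup.center G) = QuotientGroup.mk x := by
      rw [ha]; rfl
    rw [Cfsg.Agent.Lib.Helper5.AutPSL2.desc_mk] at h1
    exact QuotientGroup.eq.1 h1.symm
  have hle : commutator G ≤ MonoidHom.eqLocus a.toMonoidHom (MonoidHom.id G) := by
    rw [commutator_def, Subgroup.commutator_le]
    intro x _ y _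
    show a ⁅x, y⁆ = ⁅x, y⁆
    rw [map_commutatorElement]
    have hx : a x = x * (x⁻¹ * a x) := by group
    have hy : a y = y * (y⁻¹ * a y) := by group
    rw [hx, hy, commutatorElement_mul_central_left _ _ _ (hc x),
      commutatorElement_mul_central_right _ _ _ (hc y)]
  ext x
  have hx : x ∈ MonoidHom.eqLocus a.toMonoidHom (MonoidHom.id G) := by
    apply hle
    rw [hperf]
    exact Subgroup.mem_top x
  exact hx

end Generic

variable {n : ℕ} {F : Type*} [Field F] {q : ℕ}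

/-- the projection `SU_n → PSU_n` -/
def prU : ↥(Cfsg.SU n F q) →* Cfsg.PSU n F q := QuotientGroup.mk' _

theorem prU_surjective : Function.Surjective (prU : ↥(Cfsg.SU n F q) →* Cfsg.PSU n F q) :=
  QuotientGroup.mk'_surjective _

theorem prU_def (x : ↥(Cfsg.SU n F q)) : prU x = (QuotientGroup.mk x : Cfsg.PSU n F q) := rfl

theorem mem_SU_iff (s : SpecialLinearGroup (Fin n) F) :
    s ∈ Cfsg.SU n F q ↔ ∀ u v, Cfsg.hermForm n F q (s.1 *ᵥ u) (s.1 *ᵥ v) =
      Cfsg.hermForm n F q u v := Iff.rfl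

theorem mem_GU_iff' (g : GL (Fin n) F) :
    g ∈ Cfsg.GU n F q ↔ ∀ u v, Cfsg.hermForm n F q (g.1 *ᵥ u) (g.1 *ᵥ v) =
      Cfsg.hermForm n F q u v := Iff.rfl

theorem conjS_mem_SU (g : GL (Fin n) F) (hg : g ∈ Cfsg.GU n F q)
    (x : SpecialLinearGroup (Fin n) F) (hx : x ∈ Cfsg.SU n F q) :
    conjS g x ∈ Cfsg.SU n F q := by
  rw [mem_SU_iff]
  intro u v
  have hg' := (mem_GU_iff' g⁻¹).1 ((Cfsg.GU n F q).inv_mem hg)
  rw [Cfsg.Agent.Lib.Helper5.AutPSLn.conjS_coe, ← Matrix.mulVec_mulVec, ← Matrix.mulVec_mulVec, ← Matrix.mulVec_mulVec,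
    ← Matrix.mulVec_mulVec, (mem_GU_iff' g).1 hg, (mem_SU_iff x).1 hx, hg']

theorem conjS_mem_stab (g : GL (Fin n) F) (hg : g ∈ Cfsg.GU n F q) :
    conjS g ∈ stabAut (Cfsg.SU n F q) := by
  apply mem_stabAut_of
  · exact fun x hx => conjS_mem_SU g hg x hx
  · intro x hx
    rw [← map_inv]
    exact conjS_mem_SU g⁻¹ ((Cfsg.GU n F q).inv_mem hg) x hx

theorem herm_sigma (σ : F ≃+* F) (u v : Fin n → F) :
    Cfsg.hermForm n F q (fun i => σ (u i)) (fun i => σ (v i)) = σ (Cfsg.hermForm n F q u v) := by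
  unfold Cfsg.hermForm
  rw [map_sum]
  apply Finset.sum_congr rfl
  intro i _
  rw [map_mul, map_pow]

theorem sigma_mulVec' (σ : F ≃+* F) (A : Matrix (Fin n) (Fin n) F) (v : Fin n → F) :
    (fun i => σ ((A *ᵥ v) i)) = (A.map σ) *ᵥ (fun i => σ (v i)) := by
  ext i
  simp [Matrix.mulVec, dotProduct, map_sum]

theorem herm_map_mulVec (σ : F ≃+* F) (A : Matrix (Fin n) (Fin n) F)
    (hA : ∀ u v, Cfsg.hermForm n F q (A *ᵥ u) (A *ᵥ v) = Cfsg.hermForm n F q u v)
    (u v : Fin n → F) :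
    Cfsg.hermForm n F q ((A.map σ) *ᵥ u) ((A.map σ) *ᵥ v) = Cfsg.hermForm n F q u v := by
  have key : ∀ u' v' : Fin n → F,
      Cfsg.hermForm n F q ((A.map σ) *ᵥ (fun i => σ (u' i))) ((A.map σ) *ᵥ (fun i => σ (v' i))) =
        Cfsg.hermForm n F q (fun i => σ (u' i)) (fun i => σ (v' i)) := by
    intro u' v'
    rw [← sigma_mulVec', ← sigma_mulVec', herm_sigma, hA, herm_sigma]
  have := key (fun i => σ.symm (u i)) (fun i => σ.symm (v i))
  simpa using this

theorem fieldS_mem_SU (σ : F ≃+* F) (x : SpecialLinearGroup (Fin n) F)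
    (hx : x ∈ Cfsg.SU n F q) : fieldS σ x ∈ Cfsg.SU n F q := by
  rw [mem_SU_iff]
  intro u v
  rw [fieldS_coe']
  exact herm_map_mulVec σ x.1 ((mem_SU_iff x).1 hx) u v

theorem fieldS_mem_stab (σ : F ≃+* F) :
    (fieldS σ : MulAut (SpecialLinearGroup (Fin n) F)) ∈ stabAut (Cfsg.SU n F q) := by
  apply mem_stabAut_of
  · exact fun x hx => fieldS_mem_SU σ x hx
  · intro x hx
    rw [← map_inv]
    exact fieldS_mem_SU σ⁻¹ x hx

/-- conjugation by an element of `GU_n` on `SU_n` -/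
def conjU : ↥(Cfsg.GU n F q) →* MulAut ↥(Cfsg.SU n F q) :=
  (restr _).comp ((conjS.comp (Cfsg.GU n F q).subtype).codRestrict (stabAut _)
    (fun g => conjS_mem_stab g.1 g.2))

/-- a field automorphism acting entrywise on `SU_n` -/
def fieldU : (F ≃+* F) →* MulAut ↥(Cfsg.SU n F q) :=
  (restr _).comp (fieldS.codRestrict (stabAut _) fieldS_mem_stab)

theorem conjU_coe (g : ↥(Cfsg.GU n F q)) (x : ↥(Cfsg.SU n F q)) :
    ((conjU g x : ↥(Cfsg.SU n F q)) : SpecialLinearGroup (Fin n) F).1 =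
      g.1.1 * x.1.1 * (g.1⁻¹).1 := rfl

theorem fieldU_coe (σ : F ≃+* F) (x : ↥(Cfsg.SU n F q)) :
    ((fieldU σ x : ↥(Cfsg.SU n F q)) : SpecialLinearGroup (Fin n) F).1 = x.1.1.map σ := rfl

theorem su_ext' {x y : ↥(Cfsg.SU n F q)} (h : x.1.1 = y.1.1) : x = y :=
  Subtype.ext (Subtype.ext h)

/-- the automorphism of `PSU_n` induced by an element of `GU_n` -/
noncomputable def GamU : ↥(Cfsg.GU n F q) →* MulAut (Cfsg.PSU n F q) :=
  Cfsg.Agent.Lib.Helper5.AutPSL2.desc.comp conjU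

/-- the automorphism of `PSU_n` induced by a field automorphism -/
noncomputable def PhiU : (F ≃+* F) →* MulAut (Cfsg.PSU n F q) :=
  Cfsg.Agent.Lib.Helper5.AutPSL2.desc.comp fieldU

theorem GamU_pr (g : ↥(Cfsg.GU n F q)) (x : ↥(Cfsg.SU n F q)) :
    GamU g (prU x) = prU (conjU g x) := rfl

theorem PhiU_pr (σ : F ≃+* F) (x : ↥(Cfsg.SU n F q)) :
    (PhiU σ : MulAut (Cfsg.PSU n F q)) (prU x) = prU (fieldU σ x) := rfl

theorem isInnerDiag_iff (β : MulAut (Cfsg.PSU n F q)) :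
    Cfsg.IsInnerDiagonalAutPSU β ↔ ∃ g : ↥(Cfsg.GU n F q), β = GamU g := by
  constructor
  · rintro ⟨g, hg, h⟩
    refine ⟨⟨g, hg⟩, ?_⟩
    ext y
    obtain ⟨x, rfl⟩ := prU_surjective y
    rw [GamU_pr]
    exact h x (conjU ⟨g, hg⟩ x) rfl
  · rintro ⟨g, rfl⟩
    refine ⟨g.1, g.2, ?_⟩
    intro s s' hs
    have : s' = conjU g s := su_ext' hs
    rw [this]
    rfl

theorem isFieldAutOf_iff (σ : F ≃+* F) (β : MulAut (Cfsg.PSU n F q)) :
    Cfsg.IsFieldAutPSUOf σ β ↔ β = PhiU σ := by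
  constructor
  · intro h
    ext y
    obtain ⟨x, rfl⟩ := prU_surjective y
    rw [PhiU_pr]
    exact h x (fieldU σ x) rfl
  · rintro rfl
    intro s s' hs
    have : s' = fieldU σ s := su_ext' hs
    rw [this]
    rfl

theorem inndiag_eq : Cfsg.inndiagPSU n F q = (GamU : ↥(Cfsg.GU n F q) →* _).range := by
  unfold Cfsg.inndiagPSU Cfsg.autSubgroupOf
  have : {β : MulAut (Cfsg.PSU n F q) | Cfsg.IsInnerDiagonalAutPSU β} =
      ((GamU : ↥(Cfsg.GU n F q) →* _).range : Set (MulAut (Cfsg.PSU n F q))) := by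
    ext β
    rw [Set.mem_ofPred_eq, isInnerDiag_iff]
    constructor
    · rintro ⟨g, rfl⟩; exact ⟨g, rfl⟩
    · rintro ⟨g, rfl⟩; exact ⟨g, rfl⟩
  rw [this, Subgroup.closure_eq]

theorem mem_inndiag_iff (β : MulAut (Cfsg.PSU n F q)) :
    β ∈ Cfsg.inndiagPSU n F q ↔ ∃ g : ↥(Cfsg.GU n F q), GamU g = β := by
  rw [inndiag_eq]; rfl

theorem map_mem_GU (σ : F ≃+* F) (g : GL (Fin n) F) (hg : g ∈ Cfsg.GU n F q) :
    Matrix.GeneralLinearGroup.map σ.toRingHom g ∈ Cfsg.GU n F q := by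
  rw [mem_GU_iff']
  intro u v
  exact herm_map_mulVec σ g.1 ((mem_GU_iff' g).1 hg) u v

/-- a field automorphism acting entrywise on `GU_n` -/
def mapGU (σ : F ≃+* F) : ↥(Cfsg.GU n F q) →* ↥(Cfsg.GU n F q) :=
  ((Matrix.GeneralLinearGroup.map σ.toRingHom).comp (Cfsg.GU n F q).subtype).codRestrict _
    (fun g => map_mem_GU σ g.1 g.2)

theorem mapGU_coe (σ : F ≃+* F) (g : ↥(Cfsg.GU n F q)) :
    (mapGU σ g).1 = Matrix.GeneralLinearGroup.map σ.toRingHom g.1 := rfl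

theorem mapGU_val (σ : F ≃+* F) (g : ↥(Cfsg.GU n F q)) :
    (mapGU σ g).1.1 = g.1.1.map σ := rfl

theorem PhiU_mul_GamU (σ : F ≃+* F) (h : ↥(Cfsg.GU n F q)) :
    (PhiU σ : MulAut (Cfsg.PSU n F q)) * GamU h = GamU (mapGU σ h) * PhiU σ := by
  ext y
  obtain ⟨z, rfl⟩ := prU_surjective y
  rw [MulAut.mul_apply, MulAut.mul_apply, GamU_pr, PhiU_pr, PhiU_pr, GamU_pr]
  congr 1
  apply su_ext'
  have e1 : ((mapGU σ h).1)⁻¹ = Matrix.GeneralLinearGroup.map σ.toRingHom (h.1⁻¹) := by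
    rw [mapGU_coe, map_inv]
  rw [fieldU_coe, conjU_coe, conjU_coe, fieldU_coe, e1]
  show σ.toRingHom.mapMatrix (h.1.1 * z.1.1 * (h.1⁻¹).1) =
    σ.toRingHom.mapMatrix h.1.1 * σ.toRingHom.mapMatrix z.1.1 * σ.toRingHom.mapMatrix (h.1⁻¹).1
  rw [map_mul, map_mul]

end Cfsg.Agent.Lib.Helper37.PSUAut
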