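import Mathlib
import Cfsg.Agent.Lib.Helper37.AutPOmegaKer
import Cfsg.Agent.Lib.Helper37.PSUAut1

set_option autoImplicit false
set_option linter.unusedSectionVars false
set_option linter.unusedVariables false

/-!
# Automorphisms of `PΩ(Q)` induced by semisimilarities
-/

namespace Cfsg.Agent.Lib.Helper37.OrthField

open Matrix
open Cfsg.Agent.Lib.Helper37
open Cfsg.Agent.Lib.Helper37.PSUAut (stabAut restr mem_stabAut_of restr_coe)

universe u

variable {ι : Type} [Fintype ι] [DecidableEq ι] {F : Type u} [Field F]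

/-- entrywise field automorphism on `GL` -/
def gm (σ : F ≃+* F) : GL ι F →* GL ι F :=
  Units.map (RingHom.mapMatrix (σ : F →+* F)).toMonoidHom

theorem gm_val (σ : F ≃+* F) (g : GL ι F) : ((gm σ g : GL ι F) : Matrix ι ι F) = g.1.map σ := rfl

/-- applying a field automorphism to a vector -/
def vm (σ : F ≃+* F) (v : ι → F) : ι → F := fun i => σ (v i)

theorem vm_apply (σ : F ≃+* F) (v : ι → F) (i : ι) : vm σ v i = σ (v i) := rfl

theorem vm_add (σ : F ≃+* F) (v w : ι → F) : vm σ (v + w) = vm σ v + vm σ w := by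
  ext i; simp [vm]

theorem vm_sub (σ : F ≃+* F) (v w : ι → F) : vm σ (v - w) = vm σ v - vm σ w := by
  ext i; simp [vm]

theorem vm_smul (σ : F ≃+* F) (c : F) (v : ι → F) : vm σ (c • v) = σ c • vm σ v := by
  ext i; simp [vm]

theorem vm_zero (σ : F ≃+* F) : vm σ (0 : ι → F) = 0 := by
  ext i; simp [vm]

theorem vm_symm (σ : F ≃+* F) (v : ι → F) : vm σ (vm σ.symm v) = v := by
  ext i; simp [vm]

theorem vm_symm' (σ : F ≃+* F) (v : ι → F) : vm σ.symm (vm σ v) = v := by
  ext i; simp [vm]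

theorem vm_mul (σ τ : F ≃+* F) (v : ι → F) : vm (σ * τ) v = vm σ (vm τ v) := rfl

theorem vm_one (v : ι → F) : vm (1 : F ≃+* F) v = v := rfl

theorem vm_eq_zero (σ : F ≃+* F) (v : ι → F) (h : vm σ v = 0) : v = 0 := by
  ext i
  have := congrFun h i
  simpa [vm] using this

theorem map_mulVec_vm (σ : F ≃+* F) (M : Matrix ι ι F) (w : ι → F) :
    (M.map σ) *ᵥ (vm σ w) = vm σ (M *ᵥ w) := by
  ext i
  simp [Matrix.mulVec, dotProduct, vm, map_sum, map_mul]

/-- the entrywise automorphisms of `GL` -/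
def gmAut : (F ≃+* F) →* MulAut (GL ι F) where
  toFun σ :=
    { toFun := gm σ
      invFun := gm σ.symm
      left_inv := fun g => by
        apply Units.ext
        ext i j
        simp [gm_val]
      right_inv := fun g => by
        apply Units.ext
        ext i j
        simp [gm_val]
      map_mul' := map_mul (gm σ) }
  map_one' := by
    ext g i j
    rfl
  map_mul' σ τ := by
    ext g i j
    rfl

theorem gmAut_apply (σ : F ≃+* F) (g : GL ι F) : gmAut σ g = gm σ g := rfl

/-- the group of pairs `(g, σ)` -/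
abbrev GamL (ι : Type) [Fintype ι] [DecidableEq ι] (F : Type u) [Field F] :=
  GL ι F ⋊[(gmAut : (F ≃+* F) →* MulAut (GL ι F))] (F ≃+* F)

/-- the semilinear map attached to a pair -/
def sm (p : GamL ι F) (v : ι → F) : ι → F := (p.left : Matrix ι ι F) *ᵥ vm p.right v

theorem sm_mul (p p' : GamL ι F) (v : ι → F) : sm (p * p') v = sm p (sm p' v) := by
  unfold sm
  rw [SemidirectProduct.mul_left, SemidirectProduct.mul_right, Units.val_mul, gmAut_apply, gm_val,
    ← Matrix.mulVec_mulVec, vm_mul, map_mulVec_vm]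

theorem sm_one (v : ι → F) : sm (1 : GamL ι F) v = v := by
  unfold sm
  rw [SemidirectProduct.one_left, SemidirectProduct.one_right, Units.val_one, Matrix.one_mulVec,
    vm_one]

theorem sm_inv_sm (p : GamL ι F) (v : ι → F) : sm p⁻¹ (sm p v) = v := by
  rw [← sm_mul, inv_mul_cancel, sm_one]

theorem sm_sm_inv (p : GamL ι F) (v : ι → F) : sm p (sm p⁻¹ v) = v := by
  rw [← sm_mul, mul_inv_cancel, sm_one]

theorem sm_add (p : GamL ι F) (v w : ι → F) : sm p (v + w) = sm p v + sm p w := by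
  unfold sm
  rw [vm_add, Matrix.mulVec_add]

theorem sm_sub (p : GamL ι F) (v w : ι → F) : sm p (v - w) = sm p v - sm p w := by
  unfold sm
  rw [vm_sub, Matrix.mulVec_sub]

theorem sm_smul (p : GamL ι F) (c : F) (v : ι → F) : sm p (c • v) = p.right c • sm p v := by
  unfold sm
  rw [vm_smul, Matrix.mulVec_smul]

theorem sm_zero (p : GamL ι F) : sm p (0 : ι → F) = 0 := by
  unfold sm
  rw [vm_zero, Matrix.mulVec_zero]

theorem sm_eq_zero (p : GamL ι F) (v : ι → F) (h : sm p v = 0) : v = 0 := by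
  have := sm_inv_sm p v
  rw [h, sm_zero] at this
  exact this.symm

/-- the semisimilarities of `Q` -/
def semiO (Q : (ι → F) → F) : Subgroup (GamL ι F) where
  carrier := {p | ∃ c : Fˣ, ∀ v : ι → F, Q (sm p v) = (c : F) * p.right (Q v)}
  one_mem' := ⟨1, fun v => by rw [sm_one]; simp⟩
  mul_mem' := by
    rintro a b ⟨c, hc⟩ ⟨d, hd⟩
    refine ⟨c * Units.map (a.right : F →* F) d, fun v => ?_⟩
    rw [sm_mul, hc, hd, SemidirectProduct.mul_right, map_mul, Units.val_mul, Units.coe_map,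
      RingAut.mul_apply, mul_assoc]
    rfl
  inv_mem' := by
    rintro a ⟨c, hc⟩
    refine ⟨Units.map (a.right.symm : F →* F) c⁻¹, fun v => ?_⟩
    have h1 := hc (sm a⁻¹ v)
    rw [sm_sm_inv] at h1
    have h2 : a.right (Q (sm a⁻¹ v)) = (c⁻¹ : Fˣ) * Q v := by
      rw [h1, ← mul_assoc, ← Units.val_mul, inv_mul_cancel, Units.val_one, one_mul]
    have h3 : Q (sm a⁻¹ v) = a.right.symm ((c⁻¹ : Fˣ) * Q v) := by
      rw [← h2, RingEquiv.symm_apply_apply]
    rw [h3, map_mul, SemidirectProduct.inv_right]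
    rfl

theorem mem_semiO (Q : (ι → F) → F) (p : GamL ι F) :
    p ∈ semiO Q ↔ ∃ c : Fˣ, ∀ v : ι → F, Q (sm p v) = (c : F) * p.right (Q v) := Iff.rfl

theorem mem_semiO_iff_pair (Q : (ι → F) → F) (p : GamL ι F) :
    p ∈ semiO Q ↔ Cfsg.IsSemisimilarityPair Q p.left p.right := Iff.rfl

/-- the action of pairs on `GL` -/
def actGL : GamL ι F →* MulAut (GL ι F) where
  toFun p := MulAut.conj p.left * gmAut p.right
  map_one' := by
    rw [SemidirectProduct.one_left, SemidirectProduct.one_right, map_one, map_one, one_mul]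
  map_mul' a b := by
    ext1 x
    simp only [MulAut.mul_apply, MulAut.conj_apply, SemidirectProduct.mul_left,
      SemidirectProduct.mul_right, map_mul, map_inv, gmAut_apply]

theorem actGL_apply (p : GamL ι F) (x : GL ι F) :
    actGL p x = p.left * gm p.right x * p.left⁻¹ := rfl

theorem actGL_mulVec (p : GamL ι F) (x : GL ι F) (v : ι → F) :
    ((actGL p x : GL ι F) : Matrix ι ι F) *ᵥ (sm p v) = sm p ((x : Matrix ι ι F) *ᵥ v) := by
  rw [actGL_apply, Units.val_mul, Units.val_mul, ← Matrix.mulVec_mulVec, ← Matrix.mulVec_mulVec]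
  unfold sm
  rw [Matrix.mulVec_mulVec (vm p.right v), ← Units.val_mul, inv_mul_cancel, Units.val_one,
    Matrix.one_mulVec, gm_val, map_mulVec_vm]

theorem actGL_mem_iso (Q : (ι → F) → F) (p : GamL ι F) (hp : p ∈ semiO Q) (x : GL ι F)
    (hx : x ∈ Cfsg.isometryGroup F Q) : actGL p x ∈ Cfsg.isometryGroup F Q := by
  rw [Cfsg.Agent.Lib.Helper94.mem_isom] at hx ⊢
  obtain ⟨c, hc⟩ := hp
  intro u
  have hu : u = sm p (sm p⁻¹ u) := (sm_sm_inv p u).symm
  rw [hu, actGL_mulVec, hc, hc, hx]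

theorem actGL_mem_stab (Q : (ι → F) → F) (p : ↥(semiO Q)) :
    actGL p.1 ∈ stabAut (Cfsg.isometryGroup F Q) := by
  apply mem_stabAut_of
  · exact fun x hx => actGL_mem_iso Q p.1 p.2 x hx
  · intro x hx
    rw [← map_inv]
    exact actGL_mem_iso Q p.1⁻¹ ((semiO Q).inv_mem p.2) x hx

/-- the action on the isometry group -/
def actIso (Q : (ι → F) → F) : ↥(semiO Q) →* MulAut ↥(Cfsg.isometryGroup F Q) :=
  (restr (Cfsg.isometryGroup F Q)).comp
    ((actGL.comp (semiO Q).subtype).codRestrict (stabAut (Cfsg.isometryGroup F Q))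
      (fun p => actGL_mem_stab Q p))

theorem actIso_val (Q : (ι → F) → F) (p : ↥(semiO Q)) (x : ↥(Cfsg.isometryGroup F Q)) :
    ((actIso Q p x : ↥(Cfsg.isometryGroup F Q)) : GL ι F) =
      p.1.left * gm p.1.right x.1 * p.1.left⁻¹ := rfl

/-- the action on `PΩ(Q)` -/
def Psi (Q : (ι → F) → F) : ↥(semiO Q) →* MulAut (Cfsg.POmega F Q) :=
  (autQuotCenter ↥(Cfsg.Omega F Q)).comp
    ((MulAut.characteristic (Cfsg.Omega F Q)).comp (actIso Q))

theorem Psi_mk (Q : (ι → F) → F) (p : ↥(semiO Q)) (s : ↥(Cfsg.Omega F Q)) :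
    Psi Q p (QuotientGroup.mk s) =
      QuotientGroup.mk (MulAut.characteristic (Cfsg.Omega F Q) (actIso Q p) s) := rfl

theorem Psi_mk_val (Q : (ι → F) → F) (p : ↥(semiO Q)) (s : ↥(Cfsg.Omega F Q)) :
    (((MulAut.characteristic (Cfsg.Omega F Q) (actIso Q p) s : ↥(Cfsg.Omega F Q)) :
      ↥(Cfsg.isometryGroup F Q)) : GL ι F) = p.1.left * gm p.1.right s.1.1 * p.1.left⁻¹ := rfl

theorem isInduced_iff_Psi (Q : (ι → F) → F) (p : ↥(semiO Q))
    (β : Cfsg.POmega F Q ≃* Cfsg.POmega F Q) :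
    Cfsg.IsInducedBySemilinearPOmega Q p.1.left p.1.right β ↔ β = Psi Q p := by
  constructor
  · intro h
    ext x
    induction x using QuotientGroup.induction_on with
    | H s =>
      rw [Psi_mk]
      apply h s
      rw [Psi_mk_val]
      simp [Units.val_mul, gm_val]
  · rintro rfl s s' hs
    rw [Psi_mk]
    congr 1
    apply Subtype.ext
    apply Subtype.ext
    apply Units.ext
    rw [Psi_mk_val, hs]
    simp [Units.val_mul, gm_val]

/-- the similarities as pairs -/
def simToSemi (Q : (ι → F) → F) :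
    ↥(Cfsg.Geo.quadSimilarityGroup (F := F) Q) →* ↥(semiO Q) where
  toFun g := ⟨SemidirectProduct.inl g.1, by
    obtain ⟨c, hc⟩ := g.2
    refine ⟨c, fun v => ?_⟩
    have : sm (SemidirectProduct.inl g.1 : GamL ι F) v = (g.1 : Matrix ι ι F) *ᵥ v := rfl
    rw [this, hc]
    rfl⟩
  map_one' := by
    apply Subtype.ext
    exact map_one _
  map_mul' a b := by
    apply Subtype.ext
    exact map_mul _ _ _

theorem simToSemi_left (Q : (ι → F) → F) (g : ↥(Cfsg.Geo.quadSimilarityGroup (F := F) Q)) :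
    (simToSemi Q g).1.left = g.1 := rfl

theorem simToSemi_right (Q : (ι → F) → F) (g : ↥(Cfsg.Geo.quadSimilarityGroup (F := F) Q)) :
    (simToSemi Q g).1.right = 1 := rfl

theorem gm_one (x : GL ι F) : gm (1 : F ≃+* F) x = x := by
  apply Units.ext
  ext i j
  rfl

theorem Psi_simToSemi (Q : (ι → F) → F) (g : ↥(Cfsg.Geo.quadSimilarityGroup (F := F) Q)) :
    Psi Q (simToSemi Q g) = Phi Q g := by
  ext x
  induction x using QuotientGroup.induction_on with
  | H s =>
    rw [Psi_mk, Phi_mk]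
    congr 1

theorem mem_sim_of_right_eq_one (Q : (ι → F) → F) (p : ↥(semiO Q)) (h : p.1.right = 1) :
    p.1.left ∈ Cfsg.Geo.quadSimilarityGroup (F := F) Q := by
  obtain ⟨c, hc⟩ := p.2
  refine ⟨c, fun v => ?_⟩
  have := hc v
  rw [h] at this
  have h2 : sm p.1 v = (p.1.left : Matrix ι ι F) *ᵥ v := by
    unfold sm
    rw [h, vm_one]
  rw [h2] at this
  exact this

theorem eq_simToSemi_of_right_eq_one (Q : (ι → F) → F) (p : ↥(semiO Q)) (h : p.1.right = 1) :
    p = simToSemi Q ⟨p.1.left, mem_sim_of_right_eq_one Q p h⟩ := by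
  apply Subtype.ext
  apply SemidirectProduct.ext
  · rfl
  · rw [h]; rfl

end Cfsg.Agent.Lib.Helper37.OrthField
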