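import Mathlib
import Cfsg.Agent.Lib.Helper37.OrthField1
import Cfsg.Agent.Lib.Helper37.OmegaPerfect

set_option autoImplicit false
set_option linter.unusedSectionVars false
set_option linter.unusedVariables false

/-!
# The kernel of the action of semisimilarities on `PΩ(Q)`; field automorphisms
-/

namespace Cfsg.Agent.Lib.Helper37.OrthField

open Matrix Module QuadraticMap
open Cfsg.Agent.Lib.Helper37
open Cfsg.Agent.Lib.Helper8 Cfsg.Agent.Lib.Helper13

universe u

variable {ι : Type} [Fintype ι] [DecidableEq ι] {F : Type u} [Field F]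

section kernel

variable [Fintype F] (Q : QuadraticForm F (ι → F))
  (hQ : (QuadraticMap.polarBilin Q).Nondegenerate) {k : ℕ} {e f : Fin k → ι → F}
  (hfam : HypFam Q k e f) (hk : 3 ≤ k)
  (hcard : Fintype.card F ≠ 2 ∨ finrank F (ι → F) ≠ 4)
  (hn5 : 5 ≤ finrank F (ι → F)) (hn2 : (2 : F) = 0 → 7 ≤ finrank F (ι → F))

include hQ hfam hk hcard hn5 hn2

theorem right_eq_one_of_Psi_eq_one (p : ↥(semiO ⇑Q)) (h : Psi ⇑Q p = 1) : p.1.right = 1 := by
  have hσ : ∀ s : ↥(Cfsg.Omega F ⇑Q),
      (MulAut.characteristic (Cfsg.Omega F ⇑Q) (actIso ⇑Q p)) s = s := by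
    apply aut_eq_id_of_perfect (commutator_omega_eq_top Q hQ hn5 hn2)
    intro s
    have h1 : Psi ⇑Q p (QuotientGroup.mk s) = QuotientGroup.mk s := by rw [h]; rfl
    rw [Psi_mk] at h1
    exact QuotientGroup.eq.1 h1
  have hcomm : ∀ (s : ↥(Cfsg.isometryGroup F ⇑Q)) (hs : s ∈ Cfsg.Omega F ⇑Q) (v : ι → F),
      act Q s (sm p.1 v) = sm p.1 (act Q s v) := by
    intro s hs v
    have h1 := hσ ⟨s, hs⟩
    have h2 : actGL p.1 s.1 = s.1 := by
      have := congrArg (fun s : ↥(Cfsg.Omega F ⇑Q) => ((s.1 : GL ι F))) h1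
      exact this
    unfold act
    rw [← actGL_mulVec, h2]
  set i0 : Fin k := ⟨0, by omega⟩ with hi0
  set i1 : Fin k := ⟨1, by omega⟩ with hi1
  have h01 : i1 ≠ i0 := by
    intro hh
    have := congrArg Fin.val hh
    simp [hi0, hi1] at this
  have hSu : sm p.1 (e i0) ≠ 0 := fun hh => hfam.e_ne_zero i0 (sm_eq_zero _ _ hh)
  have key : ∀ c : F, c • sm p.1 (e i0) = p.1.right c • sm p.1 (e i0) := by
    have hE : ∀ c : F, ∃ Y : ι → F, ∀ c : F,
        c • Y = p.1.right c • sm p.1 (e i0) := by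
      intro _
      refine ⟨polar ⇑Q (sm p.1 (f i1)) (e i1) • e i0 - polar ⇑Q (sm p.1 (f i1)) (e i0) • e i1, ?_⟩
      intro c
      have huv : polar ⇑Q (e i0) (c • e i1) = 0 := by
        rw [polar_smul_right, hfam.ee, smul_zero]
      have hmem := eichler_mem_omega Q hQ hfam hk hcard (e i0) (c • e i1) (hfam.qe i0) huv
      have h3 := hcomm _ hmem (f i1)
      rw [act_eichler, act_eichler, eichlerLin_apply, eichlerLin_apply, QuadraticMap.map_smul,
        hfam.qe, polar_smul_right, polar_smul_right, hfam.fe, hfam.fe, if_pos rfl, if_neg h01] at h3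
      simp only [smul_eq_mul, mul_zero, zero_mul, zero_smul, sub_zero, mul_one] at h3
      rw [sm_add, sm_smul] at h3
      have h4 : sm p.1 (f i1) + (c * polar ⇑Q (sm p.1 (f i1)) (e i1)) • e i0
          - polar ⇑Q (sm p.1 (f i1)) (e i0) • c • e i1
          = sm p.1 (f i1) + c • (polar ⇑Q (sm p.1 (f i1)) (e i1) • e i0
            - polar ⇑Q (sm p.1 (f i1)) (e i0) • e i1) := by
        module
      rw [h4] at h3
      exact add_left_cancel h3
    obtain ⟨Y, hY⟩ := hE 0
    have h1 := hY 1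
    rw [one_smul, map_one, one_smul] at h1
    intro c
    rw [← hY c, h1]
  ext c
  have h5 := key c
  have h6 : (c - p.1.right c) • sm p.1 (e i0) = 0 := by
    rw [sub_smul, h5, sub_self]
  rcases smul_eq_zero.1 h6 with h7 | h7
  · rw [RingAut.one_apply]
    exact (sub_eq_zero.1 h7).symm
  · exact absurd h7 hSu

theorem Psi_eq_one_iff (p : ↥(semiO ⇑Q)) :
    Psi ⇑Q p = 1 ↔ p.1.right = 1 ∧
      ∃ c : F, ((p.1.left : GL ι F) : Matrix ι ι F) = c • (1 : Matrix ι ι F) := by
  constructor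
  · intro h
    have h1 := right_eq_one_of_Psi_eq_one Q hQ hfam hk hcard hn5 hn2 p h
    refine ⟨h1, ?_⟩
    rw [eq_simToSemi_of_right_eq_one ⇑Q p h1, Psi_simToSemi] at h
    exact (Phi_eq_one_iff Q hQ hfam hk hcard hn5 hn2 _).1 h
  · rintro ⟨h1, hc⟩
    rw [eq_simToSemi_of_right_eq_one ⇑Q p h1, Psi_simToSemi]
    exact (Phi_eq_one_iff Q hQ hfam hk hcard hn5 hn2 _).2 hc

/-- two pairs inducing the same automorphism have the same field automorphism -/
theorem right_eq_of_Psi_eq (p p' : ↥(semiO ⇑Q)) (h : Psi ⇑Q p = Psi ⇑Q p') :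
    p.1.right = p'.1.right := by
  have h1 : Psi ⇑Q (p'⁻¹ * p) = 1 := by
    rw [map_mul, map_inv, h, inv_mul_cancel]
  have h2 := right_eq_one_of_Psi_eq_one Q hQ hfam hk hcard hn5 hn2 _ h1
  rw [Subgroup.coe_mul, Subgroup.coe_inv, SemidirectProduct.mul_right,
    SemidirectProduct.inv_right] at h2
  exact (inv_mul_eq_one.1 h2).symm

end kernel

/-! ### scalars -/

/-- scalar pairs -/
def sc : Fˣ →* GamL ι F :=
  (SemidirectProduct.inl).comp (Matrix.GeneralLinearGroup.scalar ι)

theorem sc_left (c : Fˣ) : ((sc c : GamL ι F).left : Matrix ι ι F) = (c : F) • (1 : Matrix ι ι F) := by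
  show ((Matrix.GeneralLinearGroup.scalar ι c : GL ι F) : Matrix ι ι F) = _
  rw [Matrix.GeneralLinearGroup.coe_scalar, Matrix.smul_one_eq_diagonal]
  rfl

theorem sc_right (c : Fˣ) : (sc c : GamL ι F).right = 1 := rfl

theorem sm_sc (c : Fˣ) (v : ι → F) : sm (sc c : GamL ι F) v = (c : F) • v := by
  unfold sm
  rw [sc_left, sc_right, vm_one, Matrix.smul_mulVec, Matrix.one_mulVec]

/-- a pair is determined by its semilinear map -/
theorem sm_injective (p p' : GamL ι F) (hr : p.right = p'.right) (h : ∀ v, sm p v = sm p' v) :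
    p = p' := by
  refine SemidirectProduct.ext ?_ hr
  apply Units.ext
  apply Matrix.mulVec_injective
  funext w
  have := h (vm p.right.symm w)
  unfold sm at this
  rw [← hr, vm_symm] at this
  exact this

theorem mul_sc (p : GamL ι F) (c : Fˣ) :
    p * sc c = sc (Units.map (p.right : F →* F) c) * p := by
  apply sm_injective
  · rw [SemidirectProduct.mul_right, SemidirectProduct.mul_right, sc_right, sc_right, mul_one,
      one_mul]
  · intro v
    rw [sm_mul, sm_mul, sm_sc, sm_sc, sm_smul]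
    rfl

theorem sc_mem_semiO (Q : QuadraticForm F (ι → F)) (c : Fˣ) : (sc c : GamL ι F) ∈ semiO ⇑Q := by
  refine ⟨c * c, fun v => ?_⟩
  rw [sm_sc, QuadraticMap.map_smul, sc_right, Units.val_mul]
  rfl

/-- norm-like product -/
def nrm (σ : F ≃+* F) (z : Fˣ) : ℕ → Fˣ
  | 0 => 1
  | (k + 1) => z * Units.map (σ : F →* F) (nrm σ z k)

theorem sc_mul_pow (p : GamL ι F) (z : Fˣ) (k : ℕ) :
    (sc z * p) ^ k = sc (nrm p.right z k) * p ^ k := by
  induction k with
  | zero => simp [nrm]
  | succ k ih =>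
    rw [pow_succ', ih, pow_succ', nrm, map_mul]
    calc sc z * p * (sc (nrm p.right z k) * p ^ k)
        = sc z * (p * sc (nrm p.right z k)) * p ^ k := by group
      _ = _ := by rw [mul_sc]; group

end Cfsg.Agent.Lib.Helper37.OrthField
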