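import Mathlib
import Cfsg.Agent.Lib.Helper37.OrthField2
import Cfsg.Agent.Lib.Helper45.AutPSLField

set_option autoImplicit false
set_option linter.unusedSectionVars false
set_option linter.unusedVariables false

/-!
# Hilbert 90 for semilinear maps of finite order
-/

namespace Cfsg.Agent.Lib.Helper37.OrthField

open Matrix Module
open Cfsg.Agent.Lib.Helper37
open Cfsg.Agent.Lib.Helper45.AutPSL (dedekind_pow tw uS norm_surj h90_units)

universe u

variable {ι : Type} [Fintype ι] [DecidableEq ι] {F : Type u} [Field F]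

theorem sm_pow (p : GamL ι F) (k : ℕ) (v : ι → F) : sm (p ^ k) v = (sm p)^[k] v := by
  induction k generalizing v with
  | zero => rw [pow_zero, sm_one]; rfl
  | succ k ih => rw [pow_succ, sm_mul, ih, Function.iterate_succ_apply]

theorem sm_sum (p : GamL ι F) {κ : Type*} (s : Finset κ) (g : κ → ι → F) :
    sm p (∑ k ∈ s, g k) = ∑ k ∈ s, sm p (g k) := by
  classical
  induction s using Finset.induction_on with
  | empty => simp [sm_zero]
  | insert a s ha ih => rw [Finset.sum_insert ha, Finset.sum_insert ha, sm_add, ih]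

theorem pow_right (p : GamL ι F) (k : ℕ) : (p ^ k).right = p.right ^ k :=
  map_pow (SemidirectProduct.rightHom : GamL ι F →* (F ≃+* F)) p k

theorem sm_iterate_smul (p : GamL ι F) (k : ℕ) (c : F) (v : ι → F) :
    (sm p)^[k] (c • v) = (p.right ^ k) c • (sm p)^[k] v := by
  rw [← sm_pow, ← sm_pow, sm_smul, pow_right]

/-- **Hilbert 90**: a semilinear map of finite order, attached to a field automorphism of
the same order, fixes a basis -/
theorem h90 (p : GamL ι F) (r : ℕ) (hr : orderOf p.right = r) (hr0 : 0 < r) (hp : p ^ r = 1) :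
    ∃ b : GL ι F, p.left * gm p.right b = b := by
  classical
  set T := sm p with hT
  have hTr : ∀ v, T^[r] v = v := by
    intro v
    rw [hT, ← sm_pow, hp, sm_one]
  let bb : (ι → F) → (ι → F) := fun v => ∑ k ∈ Finset.range r, T^[k] v
  have hb : ∀ v, T (bb v) = bb v := by
    intro v
    show T (∑ k ∈ Finset.range r, T^[k] v) = ∑ k ∈ Finset.range r, T^[k] v
    rw [hT, sm_sum, ← hT]
    have h1 : ∑ k ∈ Finset.range r, T (T^[k] v) = ∑ k ∈ Finset.range r, T^[k + 1] v := by
      refine Finset.sum_congr rfl fun k _ => ?_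
      rw [Function.iterate_succ_apply']
    rw [h1]
    have h2 := Finset.sum_range_succ' (fun k => T^[k] v) r
    have h3 := Finset.sum_range_succ (fun k => T^[k] v) r
    rw [h3, hTr] at h2
    simp only [Function.iterate_zero, id_eq] at h2
    exact (add_right_cancel h2).symm
  have hspan : Submodule.span F (Set.range bb) = ⊤ := by
    by_contra hne
    obtain ⟨φ, hφ0, hφ⟩ := Submodule.exists_le_ker_of_lt_top _ (lt_top_iff_ne_top.2 hne)
    apply hφ0
    refine LinearMap.ext fun v => ?_
    have h1 : ∀ x : F, ∑ k ∈ Finset.range r, φ (T^[k] v) * (p.right ^ k) x = 0 := by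
      intro x
      have h2 : φ (bb (x • v)) = 0 := by
        have : bb (x • v) ∈ Submodule.span F (Set.range bb) := Submodule.subset_span ⟨_, rfl⟩
        exact LinearMap.mem_ker.1 (hφ this)
      change φ (∑ k ∈ Finset.range r, T^[k] (x • v)) = 0 at h2
      rw [map_sum] at h2
      rw [← h2]
      refine Finset.sum_congr rfl fun k _ => ?_
      rw [hT, sm_iterate_smul, map_smul, smul_eq_mul, mul_comm]
    have h3 := dedekind_pow p.right r hr (fun k => φ (T^[k] v)) h1 0 hr0
    simpa using h3
  let 𝔟 := Module.Basis.ofSpan (K := F) (s := Set.range bb) hspan.ge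
  have hcard : Fintype.card ((linearIndepOn_empty F id).extend (Set.empty_subset (Set.range bb)))
      = Fintype.card ι := by
    rw [← Module.finrank_eq_card_basis 𝔟, Module.finrank_fintype_fun_eq_card]
  let e : ι ≃ ((linearIndepOn_empty F id).extend (Set.empty_subset (Set.range bb))) :=
    (Fintype.equivOfCardEq hcard).symm
  let 𝔟' : Module.Basis ι F (ι → F) := 𝔟.reindex e.symm
  have hfix : ∀ j, T (𝔟' j) = 𝔟' j := by
    intro j
    have : 𝔟' j ∈ Set.range bb := by
      apply Module.Basis.ofSpan_subset hspan.ge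
      exact ⟨e j, by simp [𝔟', 𝔟]⟩
    obtain ⟨v, hv⟩ := this
    rw [← hv, hb]
  let hm : Matrix ι ι F := (Pi.basisFun F ι).toMatrix 𝔟'
  let hm' : Matrix ι ι F := 𝔟'.toMatrix (Pi.basisFun F ι)
  have h12 : hm * hm' = 1 := Module.Basis.toMatrix_mul_toMatrix_flip _ _
  have h21 : hm' * hm = 1 := Module.Basis.toMatrix_mul_toMatrix_flip _ _
  refine ⟨⟨hm, hm', h12, h21⟩, ?_⟩
  apply Units.ext
  rw [Units.val_mul, gm_val]
  show p.left.1 * hm.map p.right = hm
  ext i j
  have h4 := congrFun (hfix j) i
  rw [hT] at h4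
  unfold sm vm at h4
  rw [Matrix.mul_apply]
  simp only [Matrix.mulVec, dotProduct] at h4
  simpa [hm, Module.Basis.toMatrix_apply] using h4

/-- rescaling a pair of finite order modulo scalars to a pair of finite order -/
theorem exists_scalar_adjust [Fintype F] (p : GamL ι F) (r : ℕ) (hr : orderOf p.right = r)
    (hr0 : 0 < r) [Nonempty ι] (c : Fˣ) (hp : p ^ r = sc c) :
    ∃ z : Fˣ, (sc z * p) ^ r = 1 := by
  have hσr : p.right ^ r = 1 := by rw [← hr]; exact pow_orderOf_eq_one _
  -- `c` is fixed
  have hc : Units.map (p.right : F →* F) c = c := by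
    have h1 : p * p ^ r = p ^ r * p := by rw [← pow_succ', ← pow_succ]
    rw [hp, mul_sc] at h1
    have h2 := mul_right_cancel h1
    have h3 : ∀ a b : Fˣ, (sc a : GamL ι F) = sc b → a = b := by
      intro a b hab
      obtain ⟨i⟩ := (inferInstance : Nonempty ι)
      have h4 := congrFun (congrArg (fun q : GamL ι F => sm q (Pi.single i 1)) hab) i
      simp only [sm_sc, Pi.smul_apply, Pi.single_eq_same, smul_eq_mul, mul_one] at h4
      exact Units.ext h4
    exact h3 _ _ h2
  obtain ⟨μ, hμ⟩ := norm_surj p.right r hr hr0 c⁻¹ (by rw [uS, map_inv, ← uS]; exact congrArg _ hc)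
  refine ⟨μ, ?_⟩
  rw [sc_mul_pow, hp, ← map_mul]
  have h5 : nrm p.right μ r = tw (uS p.right) μ r := by
    have : ∀ k, nrm p.right μ k = tw (uS p.right) μ k := by
      intro k
      induction k with
      | zero => rfl
      | succ k ih => rw [nrm, Cfsg.Agent.Lib.Helper45.AutPSL.tw_succ, ih]; rfl
    exact this r
  rw [h5, hμ, inv_mul_cancel, map_one]

end Cfsg.Agent.Lib.Helper37.OrthField
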