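import Mathlib
import Cfsg.Agent.Lib.Helper37.OrthField3

set_option autoImplicit false
set_option linter.unusedSectionVars false
set_option linter.unusedVariables false

/-!
# Descent of quadratic forms along a field automorphism; the conjugacy theorem
-/

namespace Cfsg.Agent.Lib.Helper37.OrthField

open Matrix Module QuadraticMap
open Cfsg.Agent.Lib.Helper37
open Cfsg.Agent.Lib.Helper45.AutPSL (tw uS norm_surj h90_units)

universe u

variable {ι : Type} [Fintype ι] [DecidableEq ι] {F : Type u} [Field F]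
variable {F₀ : Type*} [Field F₀] (j : F₀ →+* F)

/-- base change of vectors -/
def jv (w : ι → F₀) : ι → F := fun i => j (w i)

theorem jv_apply (w : ι → F₀) (i : ι) : jv j w i = j (w i) := rfl

theorem jv_add (w w' : ι → F₀) : jv j (w + w') = jv j w + jv j w' := by
  ext i; simp [jv]

theorem jv_smul (a : F₀) (w : ι → F₀) : jv j (a • w) = j a • jv j w := by
  ext i; simp [jv]

theorem jv_zero : jv j (0 : ι → F₀) = 0 := by
  ext i; simp [jv]

theorem jv_single (i : ι) : jv j (Pi.single i (1 : F₀)) = Pi.single i (1 : F) := by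
  ext k
  by_cases h : k = i
  · subst h; simp [jv]
  · simp [jv, Pi.single_eq_of_ne h]

theorem jv_injective : Function.Injective (jv j : (ι → F₀) → (ι → F)) := by
  intro w w' h
  ext i
  exact j.injective (congrFun h i)

/-- base change of `GL` -/
def mapGL : GL ι F₀ →* GL ι F := Units.map (RingHom.mapMatrix j).toMonoidHom

theorem mapGL_val (g : GL ι F₀) : ((mapGL j g : GL ι F) : Matrix ι ι F) = g.1.map j := rfl

theorem mapGL_mulVec (g : GL ι F₀) (w : ι → F₀) :
    ((mapGL j g : GL ι F) : Matrix ι ι F) *ᵥ jv j w = jv j (g.1 *ᵥ w) := by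
  ext i
  simp [Matrix.mulVec, dotProduct, jv, map_sum, map_mul, mapGL_val]

theorem mapGL_injective : Function.Injective (mapGL j : GL ι F₀ →* GL ι F) := by
  intro a b h
  apply Units.ext
  ext x y
  have := congrFun (congrFun (congrArg (fun g : GL ι F => (g : Matrix ι ι F)) h) x) y
  simp only [mapGL_val, Matrix.map_apply] at this
  exact j.injective this

section descent

variable (P : QuadraticForm F (ι → F)) (hP : ∀ w : ι → F₀, P (jv j w) ∈ Set.range j)

theorem desc_polar_aux (x y : ι → F₀) :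
    j (polar (fun w => Classical.choose (hP w)) x y) = polar ⇑P (jv j x) (jv j y) := by
  unfold polar
  rw [map_sub, map_sub, Classical.choose_spec (hP _), Classical.choose_spec (hP _),
    Classical.choose_spec (hP _), jv_add]

/-- descent of a quadratic form with rational values on the rational lattice -/
noncomputable def descQ : QuadraticForm F₀ (ι → F₀) :=
  QuadraticMap.ofPolar (fun w => Classical.choose (hP w))
    (by
      intro a x
      apply j.injective
      rw [Classical.choose_spec (hP _), jv_smul, QuadraticMap.map_smul, smul_eq_mul, smul_eq_mul,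
        map_mul, map_mul, Classical.choose_spec (hP _)])
    (by
      intro x x' y
      apply j.injective
      rw [map_add, desc_polar_aux, desc_polar_aux, desc_polar_aux, jv_add, polar_add_left])
    (by
      intro a x y
      apply j.injective
      rw [smul_eq_mul, map_mul, desc_polar_aux, desc_polar_aux, jv_smul, polar_smul_left,
        smul_eq_mul])

theorem descQ_spec (w : ι → F₀) : j (descQ j P hP w) = P (jv j w) :=
  Classical.choose_spec (hP w)

theorem polar_descQ (x y : ι → F₀) :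
    j (polar ⇑(descQ j P hP) x y) = polar ⇑P (jv j x) (jv j y) :=
  desc_polar_aux j P hP x y

end descent

/-- two quadratic forms which agree on the rational lattice are equal -/
theorem quad_eq_of_lattice (Q₁ Q₂ : QuadraticForm F (ι → F))
    (h : ∀ w : ι → F₀, Q₁ (jv j w) = Q₂ (jv j w)) : ∀ v, Q₁ v = Q₂ v := by
  classical
  have he : ∀ a : ι, Q₁ (Pi.single a 1) = Q₂ (Pi.single a 1) := by
    intro a
    have := h (Pi.single a 1)
    rwa [jv_single] at this
  have hpe : ∀ a b : ι, polar ⇑Q₁ (Pi.single a 1) (Pi.single b 1)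
      = polar ⇑Q₂ (Pi.single a 1) (Pi.single b 1) := by
    intro a b
    unfold polar
    have := h (Pi.single a 1 + Pi.single b 1)
    rw [jv_add, jv_single, jv_single] at this
    rw [this, he, he]
  have hpol : polarBilin Q₁ = polarBilin Q₂ := by
    apply LinearMap.BilinForm.ext_basis (Pi.basisFun F ι)
    intro a b
    simp only [Pi.basisFun_apply, polarBilin_apply_apply]
    exact hpe a b
  have hpol' : ∀ x y, polar ⇑Q₁ x y = polar ⇑Q₂ x y := by
    intro x y
    have := LinearMap.congr_fun (LinearMap.congr_fun hpol x) y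
    simpa using this
  intro v
  have key : ∀ s : Finset ι, Q₁ (∑ i ∈ s, v i • (Pi.single i (1 : F) : ι → F))
      = Q₂ (∑ i ∈ s, v i • (Pi.single i (1 : F) : ι → F)) := by
    intro s
    induction s using Finset.induction_on with
    | empty => simp
    | insert a s ha ih =>
      rw [Finset.sum_insert ha, QuadraticMap.map_add Q₁, QuadraticMap.map_add Q₂, ih, hpol',
        QuadraticMap.map_smul, QuadraticMap.map_smul, he]
  have hv : v = ∑ i, v i • (Pi.single i (1 : F) : ι → F) := by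
    ext k
    simp [Finset.sum_apply, Pi.single_apply]
  rw [hv]
  exact key Finset.univ

theorem sm_inl (t : GL ι F) (v : ι → F) :
    sm (SemidirectProduct.inl t : GamL ι F) v = (t : Matrix ι ι F) *ᵥ v := rfl

theorem sm_inr (σ : F ≃+* F) (v : ι → F) :
    sm (SemidirectProduct.inr σ : GamL ι F) v = vm σ v := by
  unfold sm
  rw [SemidirectProduct.left_inr, SemidirectProduct.right_inr, Units.val_one, Matrix.one_mulVec]

theorem inr_mem_semiO (Q : (ι → F) → F) (σ : F ≃+* F) (hσQ : ∀ v, Q (vm σ v) = σ (Q v)) :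
    (SemidirectProduct.inr σ : GamL ι F) ∈ semiO Q := by
  refine ⟨1, fun v => ?_⟩
  rw [sm_inr, hσQ, SemidirectProduct.right_inr, Units.val_one, one_mul]

theorem vm_jv (σ : F ≃+* F) (hj : ∀ a, σ a = a ↔ a ∈ Set.range j) (w : ι → F₀) :
    vm σ (jv j w) = jv j w := by
  ext i
  exact (hj _).2 ⟨w i, rfl⟩

theorem gm_mapGL (σ : F ≃+* F) (hj : ∀ a, σ a = a ↔ a ∈ Set.range j) (k : GL ι F₀) :
    gm σ (mapGL j k) = mapGL j k := by
  apply Units.ext
  ext x y
  rw [gm_val, mapGL_val, Matrix.map_apply, Matrix.map_apply]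
  exact (hj _).2 ⟨_, rfl⟩

/-- the main conjugacy theorem: an element of finite order modulo scalars in the coset of a
field automorphism is conjugate to it, given the classification of rational forms -/
theorem master [Fintype F] [Nonempty ι] (Q : QuadraticForm F (ι → F))
    (Q₀ : QuadraticForm F₀ (ι → F₀)) (hQ₀ : ∀ w, j (Q₀ w) = Q (jv j w))
    (hne : ∃ v, Q v ≠ 0)
    (σ : F ≃+* F) (hj : ∀ a, σ a = a ↔ a ∈ Set.range j)
    (r : ℕ) (hr : orderOf σ = r) (hr0 : 0 < r)
    (hcls : ∀ (P₀ : QuadraticForm F₀ (ι → F₀)) (b : GL ι F) (μ : Fˣ),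
      (∀ w, j (P₀ w) = μ * Q ((b : Matrix ι ι F) *ᵥ jv j w)) →
        ∃ (k₀ : GL ι F₀) (l : F₀ˣ), ∀ w, P₀ ((k₀ : Matrix ι ι F₀) *ᵥ w) = l * Q₀ w)
    (p : GamL ι F) (hp : p ∈ semiO ⇑Q) (hpr : p.right = σ) (c : Fˣ) (hpc : p ^ r = sc c) :
    ∃ (t : GL ι F) (z : Fˣ), t ∈ Cfsg.Geo.quadSimilarityGroup (F := F) ⇑Q ∧
      sc z * p * SemidirectProduct.inl t = SemidirectProduct.inl t * SemidirectProduct.inr σ := by
  classical
  obtain ⟨z, hz⟩ := exists_scalar_adjust p r (by rw [hpr]; exact hr) hr0 c hpc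
  set p' : GamL ι F := sc z * p with hp'
  clear_value p'
  have hp'r : p'.right = σ := by
    rw [hp', SemidirectProduct.mul_right, sc_right, one_mul, hpr]
  have hp'm : p' ∈ semiO ⇑Q := by
    rw [hp']
    exact (semiO ⇑Q).mul_mem (sc_mem_semiO Q z) hp
  obtain ⟨b, hb⟩ := h90 p' r (by rw [hp'r]; exact hr) hr0 hz
  rw [hp'r] at hb
  have hsb : ∀ v, sm p' ((b : Matrix ι ι F) *ᵥ v) = (b : Matrix ι ι F) *ᵥ vm σ v := by
    intro v
    unfold sm
    rw [hp'r, ← map_mulVec_vm, Matrix.mulVec_mulVec, ← gm_val, ← Units.val_mul, hb]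
  obtain ⟨c', hc'⟩ := hp'm
  rw [hp'r] at hc'
  set P : QuadraticForm F (ι → F) := Q.comp (Matrix.mulVecLin (b : Matrix ι ι F)) with hPdef
  have hPa : ∀ v, P v = Q ((b : Matrix ι ι F) *ᵥ v) := fun v => rfl
  have hPσ : ∀ v, P (vm σ v) = c' * σ (P v) := by
    intro v
    rw [hPa, ← hsb, hc', hPa]
  have hPk : ∀ (k : ℕ) (v : ι → F), P (vm (σ ^ k) v) = nrm σ c' k * (σ ^ k) (P v) := by
    intro k
    induction k with
    | zero => intro v; simp [nrm, vm_one]
    | succ k ih =>
      intro v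
      rw [pow_succ', vm_mul, hPσ, ih, nrm, map_mul, Units.val_mul, Units.coe_map, mul_assoc]
      rfl
  have hσr : σ ^ r = 1 := by rw [← hr]; exact pow_orderOf_eq_one σ
  obtain ⟨v₀, hv₀⟩ := hne
  have hnrm : nrm σ c' r = 1 := by
    have h1 := hPk r (((b⁻¹ : GL ι F) : Matrix ι ι F) *ᵥ v₀)
    rw [hσr, vm_one, RingAut.one_apply] at h1
    have h2 : P (((b⁻¹ : GL ι F) : Matrix ι ι F) *ᵥ v₀) ≠ 0 := by
      rw [hPa, Cfsg.Agent.Lib.Helper94.mulVec_inv_mulVec]
      exact hv₀
    have h3 : ((nrm σ c' r : Fˣ) : F) = 1 := by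
      have : (1 - ((nrm σ c' r : Fˣ) : F)) * P (((b⁻¹ : GL ι F) : Matrix ι ι F) *ᵥ v₀) = 0 := by
        rw [sub_mul, one_mul, ← h1, sub_self]
      rcases mul_eq_zero.1 this with h4 | h4
      · exact (sub_eq_zero.1 h4).symm
      · exact absurd h4 h2
    exact Units.ext h3
  have htw : tw (uS σ) c' r = 1 := by
    have : ∀ k, nrm σ c' k = tw (uS σ) c' k := by
      intro k
      induction k with
      | zero => rfl
      | succ k ih => rw [nrm, Cfsg.Agent.Lib.Helper45.AutPSL.tw_succ, ih]; rfl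
    rw [← this, hnrm]
  obtain ⟨μ, hμ⟩ := h90_units σ r hr hr0 c' htw
  have hμ' : (c' : F) * σ (μ : F) = μ := by
    have := congrArg Units.val hμ
    rw [Units.val_mul] at this
    exact this
  set P'' : QuadraticForm F (ι → F) := ((μ⁻¹ : Fˣ) : F) • P with hP''def
  have hP''a : ∀ v, P'' v = ((μ⁻¹ : Fˣ) : F) * Q ((b : Matrix ι ι F) *ᵥ v) := fun v => rfl
  have hP''σ : ∀ v, P'' (vm σ v) = σ (P'' v) := by
    intro v
    have h1 : P'' (vm σ v) = ((μ⁻¹ : Fˣ) : F) * (c' * σ (P v)) := by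
      rw [hP''a, ← hPa, hPσ]
    have h2 : σ (P'' v) = σ ((μ⁻¹ : Fˣ) : F) * σ (P v) := by
      rw [hP''a, map_mul, ← hPa]
    rw [h1, h2]
    have h3 : ((μ⁻¹ : Fˣ) : F) * (c' : F) = σ ((μ⁻¹ : Fˣ) : F) := by
      have hμ0 : (μ : F) ≠ 0 := μ.ne_zero
      have hσμ0 : σ (μ : F) ≠ 0 := by
        intro hh
        exact hμ0 ((map_eq_zero σ).1 hh)
      rw [Units.val_inv_eq_inv_val, map_inv₀]
      apply eq_inv_of_mul_eq_one_left
      rw [mul_assoc, hμ', inv_mul_cancel₀ hμ0]
    rw [← mul_assoc, h3]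
  have hP''r : ∀ w : ι → F₀, P'' (jv j w) ∈ Set.range j := by
    intro w
    rw [← hj, ← hP''σ, vm_jv j σ hj]
  set P₀ := descQ j P'' hP''r with hP₀
  have hP₀s : ∀ w, j (P₀ w) = ((μ⁻¹ : Fˣ) : F) * Q ((b : Matrix ι ι F) *ᵥ jv j w) := by
    intro w
    rw [hP₀, descQ_spec, hP''a]
  obtain ⟨k₀, l, hk₀⟩ := hcls P₀ b μ⁻¹ hP₀s
  set t : GL ι F := b * mapGL j k₀ with ht
  have htQ : ∀ w : ι → F₀, Q ((t : Matrix ι ι F) *ᵥ jv j w)
      = ((μ : F) * j l) * Q (jv j w) := by
    intro w
    have h1 := hP₀s ((k₀ : Matrix ι ι F₀) *ᵥ w)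
    rw [hk₀, map_mul, hQ₀, ← mapGL_mulVec, Matrix.mulVec_mulVec, ← Units.val_mul, ← ht] at h1
    have hμ0 : (μ : F) ≠ 0 := μ.ne_zero
    rw [Units.val_inv_eq_inv_val] at h1
    field_simp at h1
    rw [← h1]
    ring
  have hl0 : (μ : F) * j l ≠ 0 := by
    apply mul_ne_zero μ.ne_zero
    intro hh
    exact l.ne_zero ((map_eq_zero j).1 hh)
  have htmem : t ∈ Cfsg.Geo.quadSimilarityGroup (F := F) ⇑Q := by
    refine ⟨Units.mk0 _ hl0, ?_⟩
    have := quad_eq_of_lattice j (Q.comp (Matrix.mulVecLin (t : Matrix ι ι F)))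
      (((μ : F) * j l) • Q) htQ
    intro v
    exact this v
  refine ⟨t, z, htmem, ?_⟩
  rw [← hp']
  apply sm_injective
  · rw [SemidirectProduct.mul_right, SemidirectProduct.mul_right, hp'r,
      SemidirectProduct.right_inl, SemidirectProduct.right_inr, mul_one, one_mul]
  · intro v
    rw [sm_mul, sm_mul, sm_inl, sm_inl, sm_inr, ht, Units.val_mul, ← Matrix.mulVec_mulVec, hsb,
      ← Matrix.mulVec_mulVec, ← map_mulVec_vm, ← gm_val, gm_mapGL j σ hj]

end Cfsg.Agent.Lib.Helper37.OrthField
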