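import Mathlib
import Cfsg.Agent.Lib.Helper37.OrthField4
import Cfsg.Agent.Lib.Helper43.WittClass
import Cfsg.Agent.Lib.Helper43.OrthCardForms

set_option autoImplicit false
set_option linter.unusedSectionVars false
set_option linter.unusedVariables false

/-!
# Canonical forms of quadratic forms over finite fields; the odd-dimensional classification
-/

namespace Cfsg.Agent.Lib.Helper37.OrthField

open Matrix Module QuadraticMap
open Cfsg.Agent.Lib.Helper37 Cfsg.Agent.Lib.Helper43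

universe u

variable {ι : Type} [Fintype ι] [DecidableEq ι]

/-- the element of `GL` of a linear equivalence -/
noncomputable def glOfEquiv {K : Type*} [Field K] (L : (ι → K) ≃ₗ[K] (ι → K)) : GL ι K :=
  ⟨LinearMap.toMatrix' L.toLinearMap, LinearMap.toMatrix' L.symm.toLinearMap,
    by rw [← LinearMap.toMatrix'_comp]; simp,
    by rw [← LinearMap.toMatrix'_comp]; simp⟩

theorem glOfEquiv_mulVec {K : Type*} [Field K] (L : (ι → K) ≃ₗ[K] (ι → K)) (v : ι → K) :
    ((glOfEquiv L : GL ι K) : Matrix ι ι K) *ᵥ v = L v := by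
  show (LinearMap.toMatrix' L.toLinearMap) *ᵥ v = L v
  rw [LinearMap.toMatrix'_mulVec]
  rfl

/-- Witt decomposition in coordinates -/
theorem canon_form {K : Type u} [Field K] [Finite K] (P : QuadraticForm K (ι → K))
    (hP : (polarBilin P).Nondegenerate) :
    ∃ (k d : ℕ) (_ : d ≤ 2) (_ : Fintype.card ι = 2 * k + d)
      (Θ : (ι → K) ≃ₗ[K] ((Fin k ⊕ Fin k) ⊕ Fin d → K)) (Q₁ : QuadraticForm K (Fin d → K)),
      (∀ x, Q₁ x = 0 → x = 0) ∧
      ∀ v, P v = ∑ i, Θ v (Sum.inl (Sum.inl i)) * Θ v (Sum.inl (Sum.inr i)) +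
        Q₁ (fun t => Θ v (Sum.inr t)) := by
  obtain ⟨k, e, f, W, H, hW2, haniso, hnd⟩ := witt_family (ι → K) P hP
  obtain ⟨d, hd⟩ : ∃ d, finrank K W = d := ⟨_, rfl⟩
  let Θ₁ : W ≃ₗ[K] (Fin d → K) := (Module.finBasisOfFinrankEq K W hd).equivFun
  obtain ⟨Θ, hΘ⟩ := H.exists_coords hnd Θ₁
  refine ⟨k, d, hd ▸ hW2, ?_, Θ, (P.comp W.subtype).comp Θ₁.symm.toLinearMap, ?_, ?_⟩
  · have h1 := Θ.finrank_eq
    rw [Module.finrank_fintype_fun_eq_card, Module.finrank_fintype_fun_eq_card] at h1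
    simp only [Fintype.card_sum, Fintype.card_fin] at h1
    omega
  · intro x hx
    have h1 := haniso (Θ₁.symm x) hx
    exact (LinearEquiv.map_eq_zero_iff Θ₁.symm).1 h1
  · intro v
    rw [hΘ]
    rfl

theorem nondeg_of_rel {F : Type u} [Field F] {F₀ : Type*} [Field F₀] (j : F₀ →+* F)
    (Q : QuadraticForm F (ι → F)) (hQ : (polarBilin Q).Nondegenerate)
    (P₀ : QuadraticForm F₀ (ι → F₀)) (b : GL ι F) (μ : Fˣ)
    (h : ∀ w, j (P₀ w) = μ * Q ((b : Matrix ι ι F) *ᵥ jv j w)) :
    (polarBilin P₀).Nondegenerate := by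
  have hpol : ∀ x y, j (polar ⇑P₀ x y)
      = μ * polar ⇑Q ((b : Matrix ι ι F) *ᵥ jv j x) ((b : Matrix ι ι F) *ᵥ jv j y) := by
    intro x y
    unfold polar
    rw [map_sub, map_sub, h, h, h, jv_add, Matrix.mulVec_add]
    ring
  have hleft : (polarBilin P₀).SeparatingLeft := by
    intro x hx
    have hx' : ∀ y, polar ⇑P₀ x y = 0 := hx
    have h1 : ∀ v : ι → F, polar ⇑Q ((b : Matrix ι ι F) *ᵥ jv j x) ((b : Matrix ι ι F) *ᵥ v) = 0 := by
      have hlin : (polarBilin Q ((b : Matrix ι ι F) *ᵥ jv j x)).comp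
          (Matrix.mulVecLin (b : Matrix ι ι F)) = 0 := by
        apply (Pi.basisFun F ι).ext
        intro a
        have h2 := hpol x (Pi.single a 1)
        rw [hx', map_zero, jv_single] at h2
        have h3 := (mul_eq_zero.1 h2.symm).resolve_left μ.ne_zero
        simpa using h3
      intro v
      have := LinearMap.congr_fun hlin v
      simpa using this
    have h2 : (b : Matrix ι ι F) *ᵥ jv j x = 0 := by
      apply hQ.1
      intro v
      have := h1 (((b⁻¹ : GL ι F) : Matrix ι ι F) *ᵥ v)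
      rw [Cfsg.Agent.Lib.Helper94.mulVec_inv_mulVec] at this
      exact this
    have h3 : jv j x = 0 := by
      have := congrArg (fun v => ((b⁻¹ : GL ι F) : Matrix ι ι F) *ᵥ v) h2
      simp only [Matrix.mulVec_mulVec, ← Units.val_mul, inv_mul_cancel, Units.val_one,
        Matrix.one_mulVec, Matrix.mulVec_zero] at this
      exact this
    apply jv_injective j
    rw [h3, jv_zero]
  refine ⟨hleft, ?_⟩
  intro y hy
  apply hleft
  intro x
  have := hy x
  simp only [polarBilin_apply_apply] at this ⊢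
  rw [polar_comm]
  exact this

/-- the reindexing used for the odd-dimensional form -/
def rhoOdd (m : ℕ) : (Fin m ⊕ Fin m) ⊕ Fin 1 ≃ Unit ⊕ (Fin m ⊕ Fin m) where
  toFun := Sum.elim Sum.inr (fun _ => Sum.inl ())
  invFun := Sum.elim (fun _ => Sum.inr 0) Sum.inl
  left_inv := by
    rintro (x | x)
    · rfl
    · simp only [Sum.elim_inr, Sum.elim_inl]
      congr 1
      exact Subsingleton.elim _ _
  right_inv := by
    rintro (x | x)
    · rfl
    · rfl

/-- classification of nondegenerate quadratic forms of odd dimension over a finite field, up to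
similarity -/
theorem hcls_odd {K : Type u} [Field K] [Finite K] (m : ℕ)
    (P : QuadraticForm K (Unit ⊕ (Fin m ⊕ Fin m) → K)) (hP : (polarBilin P).Nondegenerate) :
    ∃ (k₀ : GL (Unit ⊕ (Fin m ⊕ Fin m)) K) (l : Kˣ),
      ∀ w, P ((k₀ : Matrix _ _ K) *ᵥ w) = l * Cfsg.quadFormOdd m K w := by
  classical
  obtain ⟨k, d, hd2, hcard, Θ, Q₁, haniso, hform⟩ := canon_form P hP
  have hc : Fintype.card (Unit ⊕ (Fin m ⊕ Fin m)) = 2 * m + 1 := by
    simp only [Fintype.card_sum, Fintype.card_fin, Fintype.card_unit]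
    omega
  rw [hc] at hcard
  have hd1 : d = 1 := by omega
  have hkm : k = m := by omega
  subst hd1
  subst hkm
  set one : Fin 1 → K := fun _ => 1 with hone
  have hone0 : one ≠ 0 := by
    intro h
    have := congrFun h 0
    simp [hone] at this
  have hl0 : Q₁ one ≠ 0 := fun h => hone0 (haniso _ h)
  have hQ₁ : ∀ g : Fin 1 → K, Q₁ g = g 0 * g 0 * Q₁ one := by
    intro g
    have : g = g 0 • one := by
      funext t
      have : t = 0 := Subsingleton.elim _ _
      subst this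
      simp [hone]
    conv_lhs => rw [this]
    rw [QuadraticMap.map_smul, smul_eq_mul]
  let dcoef : (Fin k ⊕ Fin k) ⊕ Fin 1 → K := fun x =>
    match x with
    | Sum.inl (Sum.inr _) => Q₁ one
    | _ => 1
  have hdcoef : ∀ x, dcoef x ≠ 0 := by
    rintro ((x | x) | x)
    · exact one_ne_zero
    · exact hl0
    · exact one_ne_zero
  let D : ((Fin k ⊕ Fin k) ⊕ Fin 1 → K) ≃ₗ[K] ((Fin k ⊕ Fin k) ⊕ Fin 1 → K) :=
    LinearEquiv.piCongrRight (fun x => LinearEquiv.smulOfNeZero K K (dcoef x) (hdcoef x))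
  let L : (Unit ⊕ (Fin k ⊕ Fin k) → K) ≃ₗ[K] (Unit ⊕ (Fin k ⊕ Fin k) → K) :=
    ((LinearEquiv.funCongrLeft K K (rhoOdd k)).trans D).trans Θ.symm
  refine ⟨glOfEquiv L, Units.mk0 _ hl0, fun w => ?_⟩
  rw [glOfEquiv_mulVec, hform]
  have hΘL : ∀ x, Θ (L w) x = dcoef x * w (rhoOdd k x) := by
    intro x
    show Θ (Θ.symm (D (LinearEquiv.funCongrLeft K K (rhoOdd k) w))) x = _
    rw [LinearEquiv.apply_symm_apply]
    rfl
  rw [hQ₁]
  simp only [hΘL]
  unfold Cfsg.quadFormOdd
  simp only [dcoef, rhoOdd, Equiv.coe_fn_mk, Sum.elim_inl, Sum.elim_inr, one_mul, Units.val_mk0]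
  rw [mul_add, Finset.mul_sum]
  rw [add_comm]
  congr 1
  · ring
  · apply Finset.sum_congr rfl
    intro i _
    ring

end Cfsg.Agent.Lib.Helper37.OrthField
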