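import Cfsg.Agent.Lib.Helper37.SpinorNorm

set_option autoImplicit false

namespace Cfsg.Agent.Lib.Helper37

open Module Matrix Finset

namespace IsGram

variable {κ : Type} [Fintype κ] [DecidableEq κ] {F : Type*} [Field F]
  {Q : (κ → F) → F} {G : Matrix κ κ F}

theorem bilin_single (_h : IsGram Q G) (a b : κ) (hGa : ∀ k, G a k = if k = b then 1 else 0)
    (x : κ → F) : Matrix.toBilin' G (Pi.single a 1) x = x b := by
  rw [Matrix.toBilin'_apply', single_one_dotProduct]
  simp only [Matrix.mulVec, dotProduct, hGa]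
  simp

/-- the product of the two reflections attached to a hyperbolic pair of coordinates -/
theorem hyp_pair (h : IsGram Q G) (a b : κ) (hab : a ≠ b)
    (hGa : ∀ k, G a k = if k = b then 1 else 0) (hGb : ∀ k, G b k = if k = a then 1 else 0) :
    Q (Pi.single a 1 + Pi.single b 1) = 1 ∧ Q (Pi.single a 1 - Pi.single b 1) = -1 ∧
    Cfsg.reflectionMatrix Q (Pi.single a 1 + Pi.single b 1) *
      Cfsg.reflectionMatrix Q (Pi.single a 1 - Pi.single b 1) =
      Matrix.diagonal (fun k => if k = a ∨ k = b then (-1 : F) else 1) := by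
  have h2 := h.two_ne
  have hBa := h.bilin_single a b hGa
  have hBb := h.bilin_single b a hGb
  have hQp : Q (Pi.single a 1 + Pi.single b 1) = 1 := by
    apply mul_left_cancel₀ h2
    rw [← h.self]
    simp only [map_add, LinearMap.add_apply, hBa, hBb, Pi.add_apply]
    simp [hab, Ne.symm hab]
    norm_num
  have hQm : Q (Pi.single a 1 - Pi.single b 1) = -1 := by
    apply mul_left_cancel₀ h2
    rw [← h.self]
    simp only [map_sub, LinearMap.sub_apply, hBa, hBb, Pi.sub_apply]
    simp [hab, Ne.symm hab]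
    norm_num
  refine ⟨hQp, hQm, ?_⟩
  apply Matrix.mulVec_injective
  funext x
  rw [← Matrix.mulVec_mulVec, h.refl_mulVec _ (Cfsg.reflectionMatrix Q _ *ᵥ x), h.refl_mulVec _ x,
    hQp, hQm]
  funext k
  rw [Matrix.mulVec_diagonal]
  simp only [map_add, map_sub, LinearMap.add_apply, LinearMap.sub_apply, hBa, hBb, map_smul,
    smul_eq_mul, Pi.sub_apply, Pi.add_apply, Pi.smul_apply]
  by_cases hka : k = a
  · subst hka
    simp [hab, Ne.symm hab]
  · by_cases hkb : k = b
    · subst hkb
      simp [hab, Ne.symm hab]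
    · simp [hka, hkb, hab, Ne.symm hab]

/-- a list of reflections whose product negates the first `i` hyperbolic pairs -/
theorem hyp_list (h : IsGram Q G) (idx : κ → ℕ) (i₀ m : ℕ) (a b : Fin m → κ)
    (hpair : ∀ j : Fin m, (j : ℕ) < i₀ → a j ≠ b j ∧
      (∀ k, G (a j) k = if k = b j then 1 else 0) ∧
      (∀ k, G (b j) k = if k = a j then 1 else 0) ∧
      (∀ k, idx k = (j : ℕ) ↔ k = a j ∨ k = b j))
    (hi₀ : i₀ ≤ m) :
    ∀ i, i ≤ i₀ → ∃ vs : List (κ → F), (∀ v ∈ vs, Q v ≠ 0) ∧
      (vs.map (fun v => Cfsg.reflectionMatrix Q v)).prod =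
        Matrix.diagonal (fun k => if idx k < i then (-1 : F) else 1) ∧
      Even vs.length ∧ (vs.map (fun v => Q v)).prod = (-1) ^ i := by
  intro i
  induction i with
  | zero =>
    intro _
    refine ⟨[], by simp, by simp, by simp, by simp⟩
  | succ i ih =>
    intro hi
    obtain ⟨vs, hvs, hprod, hlen, hQ⟩ := ih (by omega)
    have hjm : i < m := by omega
    obtain ⟨hab, hGa, hGb, hidx⟩ := hpair ⟨i, hjm⟩ (by simp; omega)
    obtain ⟨hQp, hQm, hE⟩ := h.hyp_pair (a ⟨i, hjm⟩) (b ⟨i, hjm⟩) hab hGa hGb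
    refine ⟨vs ++ [Pi.single (a ⟨i, hjm⟩) 1 + Pi.single (b ⟨i, hjm⟩) 1,
      Pi.single (a ⟨i, hjm⟩) 1 - Pi.single (b ⟨i, hjm⟩) 1], ?_, ?_, ?_, ?_⟩
    · intro v hv
      rcases List.mem_append.mp hv with hv | hv
      · exact hvs v hv
      · simp only [List.mem_cons, List.not_mem_nil, or_false] at hv
        rcases hv with rfl | rfl
        · rw [hQp]; exact one_ne_zero
        · rw [hQm]; simp
    · rw [List.map_append, List.prod_append, hprod]
      simp only [List.map_cons, List.map_nil, List.prod_cons, List.prod_nil, mul_one]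
      rw [hE, Matrix.diagonal_mul_diagonal]
      congr 1
      funext k
      have hk := hidx k
      simp only [] at hk
      by_cases h1 : idx k < i
      · have h3 : ¬ (k = a ⟨i, hjm⟩ ∨ k = b ⟨i, hjm⟩) := by
          rw [← hk]; omega
        have h4 : idx k < i + 1 := by omega
        simp [h1, h3, h4]
      · by_cases h5 : idx k = i
        · have h3 : (k = a ⟨i, hjm⟩ ∨ k = b ⟨i, hjm⟩) := hk.mp h5
          have h4 : idx k < i + 1 := by omega
          simp [h1, h3, h4]
        · have h3 : ¬ (k = a ⟨i, hjm⟩ ∨ k = b ⟨i, hjm⟩) := by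
            rw [← hk]; exact h5
          have h4 : ¬ idx k < i + 1 := by omega
          simp [h1, h3, h4]
    · rw [List.length_append]
      exact hlen.add ⟨1, rfl⟩
    · rw [List.map_append, List.prod_append, hQ]
      simp only [List.map_cons, List.map_nil, List.prod_cons, List.prod_nil, hQp, hQm]
      ring

end IsGram

/-- the involution negating the first `i₀` hyperbolic pairs lies in `Ω` iff `(-1) ^ i₀` is a
square -/
theorem hyp_involution_mem_omega_iff {κ : Type} [Fintype κ] [DecidableEq κ] {F : Type*} [Field F]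
    [Fintype F] {Q : (κ → F) → F} {G : Matrix κ κ F} (h : IsGram Q G) (idx : κ → ℕ) (i₀ m : ℕ)
    (a b : Fin m → κ)
    (hpair : ∀ j : Fin m, (j : ℕ) < i₀ → a j ≠ b j ∧
      (∀ k, G (a j) k = if k = b j then 1 else 0) ∧
      (∀ k, G (b j) k = if k = a j then 1 else 0) ∧
      (∀ k, idx k = (j : ℕ) ↔ k = a j ∨ k = b j))
    (hi₀ : i₀ ≤ m) :
    (∃ g : ↥(Cfsg.isometryGroup F Q), g ∈ Cfsg.Omega F Q ∧
      ((g : Matrix.GeneralLinearGroup κ F) : Matrix κ κ F) =
        Matrix.diagonal (fun k => if idx k < i₀ then (-1 : F) else 1)) ↔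
      IsSquare ((-1 : F) ^ i₀) := by
  classical
  obtain ⟨vs, hvs, hprod, hlen, hQ⟩ := h.hyp_list idx i₀ m a b hpair hi₀ i₀ le_rfl
  constructor
  · rintro ⟨g, hgΩ, hg⟩
    have := ((mem_omega_iff h g vs hvs (hg.trans hprod.symm)).mp hgΩ).2
    rw [hQ] at this
    exact this
  · intro hsq
    refine ⟨(vs.map h.reflG').prod, ?_, ?_⟩
    · apply (mem_omega_iff h _ vs hvs (h.toMat_list vs hvs)).mpr
      refine ⟨hlen, ?_⟩
      rw [hQ]; exact hsq
    · have := h.toMat_list vs hvs
      rw [hprod] at this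
      exact this

end Cfsg.Agent.Lib.Helper37
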