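import Cfsg.Agent.S2612
import Cfsg.Agent.Lib.Helper37.HypInvolution
import Cfsg.Agent.Lib.Helper37.PlusType

set_option autoImplicit false
open scoped commutatorElement

namespace Cfsg.Agent.Lib.Helper37

open Matrix Cfsg.Agent.S2612

variable {F : Type*} [Field F] {m : ℕ}

/-- the Levi embedding `A ↦ diag(A, A⁻ᵀ)` into `GL` -/
noncomputable def leviGL (m : ℕ) (F : Type*) [Field F] :
    GL (Fin m) F →* GL (Fin m ⊕ Fin m) F :=
  MonoidHom.mk' (fun A => ⟨fromBlocks A.1 0 0 (A⁻¹.1)ᵀ, fromBlocks (A⁻¹.1) 0 0 (A.1)ᵀ, by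
      rw [fromBlocks_multiply]
      simp [← Matrix.transpose_mul], by
      rw [fromBlocks_multiply]
      simp [← Matrix.transpose_mul]⟩)
    (fun A B => by
      apply Units.ext
      show fromBlocks (A * B).1 0 0 ((A * B)⁻¹.1)ᵀ
        = fromBlocks A.1 0 0 (A⁻¹.1)ᵀ * fromBlocks B.1 0 0 (B⁻¹.1)ᵀ
      rw [fromBlocks_multiply]
      simp [← Matrix.transpose_mul])

theorem leviGL_val (A : GL (Fin m) F) :
    ((leviGL m F A : GL (Fin m ⊕ Fin m) F) : Matrix (Fin m ⊕ Fin m) (Fin m ⊕ Fin m) F)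
      = fromBlocks A.1 0 0 (A⁻¹.1)ᵀ := rfl

theorem leviGL_mulVec (A : GL (Fin m) F) (v : Fin m ⊕ Fin m → F) :
    ((leviGL m F A : GL (Fin m ⊕ Fin m) F) : Matrix (Fin m ⊕ Fin m) (Fin m ⊕ Fin m) F) *ᵥ v
      = Sum.elim (A.1 *ᵥ (v ∘ Sum.inl)) ((A⁻¹.1)ᵀ *ᵥ (v ∘ Sum.inr)) := by
  rw [leviGL_val, fromBlocks_mulVec]
  simp

theorem leviGL_mem (A : GL (Fin m) F) :
    leviGL m F A ∈ Cfsg.isometryGroup F (Cfsg.quadFormPlus m F) := by
  rw [mem_isometryGroup_iff']
  intro v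
  rw [leviGL_mulVec]
  have hQ : ∀ w : Fin m ⊕ Fin m → F,
      Cfsg.quadFormPlus m F w = (w ∘ Sum.inl) ⬝ᵥ (w ∘ Sum.inr) := fun w => rfl
  rw [hQ, hQ]
  have h1 : (Sum.elim (A.1 *ᵥ (v ∘ Sum.inl)) ((A⁻¹.1)ᵀ *ᵥ (v ∘ Sum.inr))) ∘ Sum.inl
      = A.1 *ᵥ (v ∘ Sum.inl) := rfl
  have h2 : (Sum.elim (A.1 *ᵥ (v ∘ Sum.inl)) ((A⁻¹.1)ᵀ *ᵥ (v ∘ Sum.inr))) ∘ Sum.inr
      = (A⁻¹.1)ᵀ *ᵥ (v ∘ Sum.inr) := rfl
  rw [h1, h2, Matrix.mulVec_transpose, dotProduct_comm, ← Matrix.dotProduct_mulVec,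
    Matrix.mulVec_mulVec, Units.inv_mul, Matrix.one_mulVec, dotProduct_comm]

/-- the Levi embedding into the isometry group of the plus-type form -/
noncomputable def levi (m : ℕ) (F : Type*) [Field F] :
    GL (Fin m) F →* ↥(Cfsg.isometryGroup F (Cfsg.quadFormPlus m F)) :=
  (leviGL m F).codRestrict _ leviGL_mem

theorem levi_val (A : GL (Fin m) F) :
    ((levi m F A : ↥(Cfsg.isometryGroup F (Cfsg.quadFormPlus m F))) : GL (Fin m ⊕ Fin m) F)
      = leviGL m F A := rfl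


theorem gl_ext_mulVec {ι : Type} [Fintype ι] [DecidableEq ι] (g h : GL ι F)
    (H : ∀ v : ι → F, (g : Matrix ι ι F) *ᵥ v = (h : Matrix ι ι F) *ᵥ v) : g = h := by
  apply Units.ext
  apply Matrix.mulVec_injective
  funext v
  exact H v

theorem comm_mulVec {ι : Type} [Fintype ι] [DecidableEq ι] (a b : GL ι F) (v : ι → F) :
    ((⁅a, b⁆ : GL ι F) : Matrix ι ι F) *ᵥ v
      = (a : Matrix ι ι F) *ᵥ ((b : Matrix ι ι F) *ᵥ (((a⁻¹ : GL ι F) : Matrix ι ι F) *ᵥ
          (((b⁻¹ : GL ι F) : Matrix ι ι F) *ᵥ v))) := by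
  rw [commutatorElement_def]
  simp only [Units.val_mul, Matrix.mulVec_mulVec, Matrix.mul_assoc]

/-- invertible diagonal matrices -/
noncomputable def dgl {ι : Type} [Fintype ι] [DecidableEq ι] (F : Type*) [Field F] :
    (ι → Fˣ) →* GL ι F :=
  (Units.map ((Matrix.diagonalRingHom ι F : (ι → F) →* Matrix ι ι F))).comp
    MulEquiv.piUnits.symm.toMonoidHom

theorem dgl_val {ι : Type} [Fintype ι] [DecidableEq ι] (D : ι → Fˣ) :
    ((dgl F D : GL ι F) : Matrix ι ι F) = Matrix.diagonal (fun i => (D i : F)) := rfl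

theorem dgl_mulVec {ι : Type} [Fintype ι] [DecidableEq ι] (D : ι → Fˣ) (v : ι → F) :
    ((dgl F D : GL ι F) : Matrix ι ι F) *ᵥ v = fun i => (D i : F) * v i := by
  rw [dgl_val]
  funext i
  rw [Matrix.mulVec_diagonal]

/-- commutator of a diagonal matrix and a permutation matrix -/
theorem comm_dgl_glHom {ι : Type} [Fintype ι] [DecidableEq ι] (D : ι → Fˣ) (σ : Equiv.Perm ι) :
    ⁅dgl F D, glHom ι F σ⁆ = dgl F (fun i => D i * (D (σ.symm i))⁻¹) := by
  apply gl_ext_mulVec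
  intro v
  rw [comm_mulVec, ← map_inv, ← map_inv, glHom_mulVec, glHom_mulVec, dgl_mulVec, dgl_mulVec,
    dgl_mulVec]
  funext i
  simp only [Function.comp_apply, Pi.inv_apply, Units.val_mul]
  have : (σ⁻¹).symm (σ.symm i) = i := by
    show σ (σ.symm i) = i
    simp
  rw [this]
  ring

theorem levi_dgl_mulVec (D : Fin m → Fˣ) (v : Fin m ⊕ Fin m → F) :
    ((leviGL m F (dgl F D) : GL (Fin m ⊕ Fin m) F) : Matrix _ _ F) *ᵥ v
      = fun x => (Sum.elim (fun i => (D i : F)) (fun i => ((D i)⁻¹ : Fˣ)) x) * v x := by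
  rw [leviGL_mulVec, ← map_inv, dgl_val, dgl_val, Matrix.diagonal_transpose]
  funext x
  rcases x with i | i
  · simp only [Sum.elim_inl, Matrix.mulVec_diagonal, Function.comp_apply]
  · simp only [Sum.elim_inr, Matrix.mulVec_diagonal, Function.comp_apply, Pi.inv_apply]

theorem leviGL_dgl (D : Fin m → Fˣ) :
    leviGL m F (dgl F D) = dgl F (Sum.elim D D⁻¹) := by
  apply gl_ext_mulVec
  intro v
  rw [levi_dgl_mulVec, dgl_mulVec]
  funext x
  rcases x with i | i <;> simp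


open Matrix.SpecialLinearGroup in
theorem comm_transvection {ι : Type} [Fintype ι] [DecidableEq ι] {i j k : ι} (hik : i ≠ k)
    (hkj : k ≠ j) (hij : i ≠ j) (a b : F) :
    ⁅(transvection hik a : SpecialLinearGroup ι F), transvection hkj b⁆
      = transvection hij (a * b) := by
  rw [commutatorElement_def, transvection_inv, transvection_inv]
  apply Subtype.ext
  show ((1 : Matrix ι ι F) + Matrix.single i k a) * (1 + Matrix.single k j b)
      * (1 + Matrix.single i k (-a)) * (1 + Matrix.single k j (-b)) = 1 + Matrix.single i j (a * b)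
  simp only [mul_add, add_mul, mul_one, one_mul, Matrix.single_mul_single_same,
    Matrix.single_mul_single_of_ne _ _ _ _ hik.symm, Matrix.single_mul_single_of_ne _ _ _ _ hkj.symm,
    Matrix.single_mul_single_of_ne _ _ _ _ hij.symm,
    ← Matrix.single_neg, add_zero, zero_add, mul_neg, neg_mul, mul_zero, zero_mul, neg_zero, neg_neg]
  abel


theorem transvection_mulVec {ι : Type} [Fintype ι] [DecidableEq ι] {i j : ι} (hij : i ≠ j) (b : F)
    (v : ι → F) :
    ((SpecialLinearGroup.toGL (SpecialLinearGroup.transvection hij b) : GL ι F) : Matrix ι ι F) *ᵥ v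
      = fun k => if k = i then v i + b * v j else v k := by
  rw [SpecialLinearGroup.coe_GL_coe_matrix, SpecialLinearGroup.transvection_coe, Matrix.add_mulVec,
    Matrix.one_mulVec, Matrix.single_mulVec_eq]
  funext k
  by_cases hk : k = i
  · subst hk; simp
  · simp [hk]

theorem comm_dgl_transvection {ι : Type} [Fintype ι] [DecidableEq ι] {i j : ι} (hij : i ≠ j)
    (c : Fˣ) (b : F) :
    ⁅dgl F (Function.update (1 : ι → Fˣ) i c),
      SpecialLinearGroup.toGL (SpecialLinearGroup.transvection hij b)⁆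
      = SpecialLinearGroup.toGL (SpecialLinearGroup.transvection hij (((c : F) - 1) * b)) := by
  apply gl_ext_mulVec
  intro v
  rw [comm_mulVec, ← map_inv, ← map_inv, SpecialLinearGroup.transvection_inv,
    transvection_mulVec, transvection_mulVec, transvection_mulVec, dgl_mulVec, dgl_mulVec]
  funext k
  have hc : (c : F) ≠ 0 := c.ne_zero
  by_cases hk : k = i
  · subst hk
    simp [hij.symm]
    field_simp
    ring
  · simp [hk, Function.update_of_ne hk]


theorem gramP_inl (i₀ : Fin m) (k : Fin m ⊕ Fin m) :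
    gramP m F (Sum.inl i₀) k = if k = Sum.inr i₀ then 1 else 0 := by
  cases k with
  | inl k' => simp [gramP]
  | inr k' => simp [gramP, Matrix.one_apply, eq_comm]

theorem gramP_inr (i₀ : Fin m) (k : Fin m ⊕ Fin m) :
    gramP m F (Sum.inr i₀) k = if k = Sum.inl i₀ then 1 else 0 := by
  cases k with
  | inl k' => simp [gramP, Matrix.one_apply, eq_comm]
  | inr k' => simp [gramP]

/-- the torus element `t_c` on one hyperbolic plane is a product of two reflections -/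
theorem levi_mulSingle_eq_refl (h2 : (2 : F) ≠ 0) (i₀ : Fin m) (c : Fˣ) :
    Cfsg.quadFormPlus m F (Pi.single (Sum.inl i₀) 1 - ((c⁻¹ : Fˣ) : F) • Pi.single (Sum.inr i₀) 1)
        = -((c⁻¹ : Fˣ) : F) ∧
    Cfsg.quadFormPlus m F (Pi.single (Sum.inl i₀) 1 - Pi.single (Sum.inr i₀) 1) = -1 ∧
    ((leviGL m F (dgl F (Pi.mulSingle i₀ c)) : GL (Fin m ⊕ Fin m) F) : Matrix _ _ F)
      = Cfsg.reflectionMatrix (Cfsg.quadFormPlus m F)
          (Pi.single (Sum.inl i₀) 1 - ((c⁻¹ : Fˣ) : F) • Pi.single (Sum.inr i₀) 1) *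
        Cfsg.reflectionMatrix (Cfsg.quadFormPlus m F)
          (Pi.single (Sum.inl i₀) 1 - Pi.single (Sum.inr i₀) 1) := by
  have h : IsGram (Cfsg.quadFormPlus m F) (gramP m F) := ⟨h2, gramP_isSymm m F, gramP_self m F⟩
  have hBa := h.bilin_single (Sum.inl i₀) (Sum.inr i₀) (gramP_inl i₀)
  have hBb := h.bilin_single (Sum.inr i₀) (Sum.inl i₀) (gramP_inr i₀)
  have hab : (Sum.inl i₀ : Fin m ⊕ Fin m) ≠ Sum.inr i₀ := by simp
  have hc : ((c⁻¹ : Fˣ) : F) ≠ 0 := (c⁻¹).ne_zero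
  have hc' : (c : F) ≠ 0 := c.ne_zero
  have hcc : ((c⁻¹ : Fˣ) : F) = (c : F)⁻¹ := by simp
  have hQw : Cfsg.quadFormPlus m F
      (Pi.single (Sum.inl i₀) 1 - ((c⁻¹ : Fˣ) : F) • Pi.single (Sum.inr i₀) 1)
        = -((c⁻¹ : Fˣ) : F) := by
    apply mul_left_cancel₀ h2
    rw [← h.self]
    simp only [map_sub, map_smul, LinearMap.sub_apply, LinearMap.smul_apply, hBa, hBb,
      Pi.sub_apply, Pi.smul_apply, smul_eq_mul]
    simp
    ring
  have hQu : Cfsg.quadFormPlus m F (Pi.single (Sum.inl i₀) 1 - Pi.single (Sum.inr i₀) 1) = -1 := by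
    apply mul_left_cancel₀ h2
    rw [← h.self]
    simp only [map_sub, LinearMap.sub_apply, hBa, hBb, Pi.sub_apply]
    simp
    ring
  refine ⟨hQw, hQu, ?_⟩
  apply Matrix.mulVec_injective
  funext x
  rw [← Matrix.mulVec_mulVec, h.refl_mulVec _ (Cfsg.reflectionMatrix _ _ *ᵥ x), h.refl_mulVec _ x,
    hQw, hQu, levi_dgl_mulVec]
  funext k
  simp only [map_sub, map_smul, LinearMap.sub_apply, LinearMap.smul_apply, hBa, hBb,
    smul_eq_mul, Pi.sub_apply, Pi.smul_apply]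
  rcases k with k | k
  · by_cases hk : k = i₀
    · subst hk
      simp [hcc]
      field_simp
      ring
    · simp [hk, Pi.mulSingle_apply]
  · by_cases hk : k = i₀
    · subst hk
      simp [hcc]
      field_simp
      ring
    · simp [hk, Pi.mulSingle_apply]

end Cfsg.Agent.Lib.Helper37
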