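import Cfsg.Agent.Lib.Helper37.SimDiag
import Cfsg.Agent.Lib.Helper37.SpinorNorm

set_option autoImplicit false
set_option linter.unusedSectionVars false
set_option linter.unusedVariables false
set_option linter.style.haveILetI false

namespace Cfsg.Agent.Lib.Helper37

open Polynomial Module

universe u

/-- every element of a finite field of odd order is a square in a quadratic extension -/
theorem isSquare_algebraMap_of_finrank_two {F K : Type*} [Field F] [Fintype F] [Field K]
    [Algebra F K] (hodd : Odd (Fintype.card F)) (hK : finrank F K = 2) (x : F) :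
    IsSquare (algebraMap F K x) := by
  by_cases hx : x = 0
  · subst hx
    rw [map_zero]
    exact ⟨0, (mul_zero 0).symm⟩
  haveI : Module.Finite F K := Module.finite_of_finrank_pos (by rw [hK]; norm_num)
  haveI : Finite K := Module.finite_of_finite F
  letI : Fintype K := Fintype.ofFinite K
  have hcardK : Fintype.card K = Fintype.card F ^ 2 := by
    rw [Module.card_eq_pow_finrank (K := F) (V := K), hK]
  have h2F : (2 : F) ≠ 0 := two_ne_zero_of_odd_card hodd
  have h2K : (2 : K) ≠ 0 := by
    intro h
    apply h2F
    apply (algebraMap F K).injective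
    rw [map_ofNat, map_zero]
    exact h
  have hchar : ringChar K ≠ 2 := ringChar_ne_two_of_two_ne_zero h2K
  have hx' : algebraMap F K x ≠ 0 := by
    intro h
    apply hx
    apply (algebraMap F K).injective
    rw [h, map_zero]
  rw [FiniteField.isSquare_iff hchar hx']
  obtain ⟨t, ht⟩ := hodd
  have h1 : Fintype.card K / 2 = (Fintype.card F - 1) * (t + 1) := by
    rw [hcardK, ht]
    have : (2 * t + 1) ^ 2 = 2 * (2 * t * (t + 1)) + 1 := by ring
    rw [this, Nat.mul_add_div (by norm_num)]
    have : 2 * t + 1 - 1 = 2 * t := by omega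
    rw [this]
    norm_num
  rw [h1, pow_mul, ← map_pow, FiniteField.pow_card_sub_one_eq_one x hx, map_one, one_pow]

/-- a quadratic polynomial over a finite field of odd order has a root in any quadratic
extension -/
theorem exists_root_of_finrank_two {F K : Type*} [Field F] [Fintype F] [Field K]
    [Algebra F K] (hodd : Odd (Fintype.card F)) (hK : finrank F K = 2) (a b : F) :
    ∃ θ : K, θ ^ 2 + algebraMap F K a * θ + algebraMap F K b = 0 := by
  obtain ⟨s, hs⟩ := isSquare_algebraMap_of_finrank_two hodd hK (a ^ 2 - 4 * b)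
  have h2F : (2 : F) ≠ 0 := two_ne_zero_of_odd_card hodd
  have h2K : (2 : K) ≠ 0 := by
    intro h
    apply h2F
    apply (algebraMap F K).injective
    rw [map_ofNat, map_zero]
    exact h
  refine ⟨(s - algebraMap F K a) / 2, ?_⟩
  rw [map_sub, map_pow, map_mul, map_ofNat] at hs
  field_simp
  linear_combination -hs

/-- a quadratic extension of a finite field of odd order, in the same universe -/
theorem exists_quadratic_extension {F : Type u} [Field F] (a b : F)
    (hab : ∀ z₁ z₂ : F, z₁ ^ 2 + a * z₁ * z₂ + b * z₂ ^ 2 = 0 → z₁ = 0 ∧ z₂ = 0) :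
    ∃ (K : Type u) (_ : Field K) (_ : Algebra F K), finrank F K = 2 := by
  have hdeg : degree (C a * X + C b : F[X]) < ((2 : ℕ) : WithBot ℕ) :=
    lt_of_le_of_lt degree_linear_le (by norm_num)
  have hmonic : (X ^ 2 + (C a * X + C b) : F[X]).Monic := monic_X_pow_add hdeg
  have hnat : (X ^ 2 + (C a * X + C b) : F[X]).natDegree = 2 := by
    rw [natDegree_add_eq_left_of_degree_lt (by rw [degree_X_pow]; exact hdeg), natDegree_X_pow]
  have hirr : Irreducible (X ^ 2 + (C a * X + C b) : F[X]) := by
    rw [hmonic.irreducible_iff_roots_eq_zero_of_degree_le_three (by rw [hnat]) (by rw [hnat]; norm_num)]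
    apply Multiset.eq_zero_of_forall_notMem
    intro x hx
    rw [mem_roots hmonic.ne_zero, IsRoot.def] at hx
    simp only [eval_add, eval_pow, eval_X, eval_mul, eval_C] at hx
    have := (hab x 1 (by rw [← hx]; ring)).2
    exact one_ne_zero this
  haveI : Fact (Irreducible (X ^ 2 + (C a * X + C b) : F[X])) := ⟨hirr⟩
  refine ⟨AdjoinRoot (X ^ 2 + (C a * X + C b) : F[X]), inferInstance, inferInstance, ?_⟩
  rw [(AdjoinRoot.powerBasis hmonic.ne_zero).finrank, AdjoinRoot.powerBasis_dim, hnat]

end Cfsg.Agent.Lib.Helper37
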