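import Cfsg.Agent.Lib.Helper37.SimGroup
import Cfsg.Agent.Lib.Helper37.OrthStruct
import Cfsg.Agent.Lib.Helper14.HypQuad3
import Cfsg.Agent.Lib.Helper8.Dickson

set_option autoImplicit false
set_option linter.unusedSectionVars false
set_option linter.unusedVariables false

namespace Cfsg.Agent.Lib.Helper37

open Matrix Module Cfsg.Agent.Lib.Helper14

universe u

variable {κ : Type} [Fintype κ] [DecidableEq κ] {K : Type u} [Field K]
  {Q : (κ → K) → K} {G : Matrix κ κ K}

theorem IsGram.qsys (h : IsGram Q G) (hdet : G.det ≠ 0) : QSys Q (Matrix.toBilin' G) where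
  add := fun x y => h.Q_add x y
  smul := fun c x => h.Q_smul c x
  nondeg := LinearMap.BilinForm.nondegenerate_toBilin'_of_det_ne_zero' G hdet
  symm := fun x y => h.symmB x y

/-- the image of a subspace under an invertible matrix -/
noncomputable def imgS (g : GL κ K) (U : Submodule K (κ → K)) : Submodule K (κ → K) :=
  U.map (Matrix.mulVecLin (g : Matrix κ κ K))

theorem imageSubmodule_eq_imgS (g : GL κ K) (U : Submodule K (κ → K)) :
    Cfsg.imageSubmodule (g : Matrix κ κ K) U = imgS g U := by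
  unfold Cfsg.imageSubmodule imgS
  rw [Matrix.toLin'_apply']

theorem gl_inv_mulVec (g : GL κ K) (v : κ → K) :
    ((g⁻¹ : GL κ K) : Matrix κ κ K) *ᵥ ((g : Matrix κ κ K) *ᵥ v) = v := by
  rw [Matrix.mulVec_mulVec, ← Units.val_mul, inv_mul_cancel, Units.val_one, Matrix.one_mulVec]

theorem gl_mulVecLin_injective (g : GL κ K) :
    Function.Injective (Matrix.mulVecLin (g : Matrix κ κ K)) := by
  intro x y hxy
  rw [Matrix.mulVecLin_apply, Matrix.mulVecLin_apply] at hxy
  rw [← gl_inv_mulVec g x, hxy, gl_inv_mulVec g y]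

theorem imgS_inf (g : GL κ K) (U W : Submodule K (κ → K)) :
    imgS g (U ⊓ W) = imgS g U ⊓ imgS g W :=
  Submodule.map_inf _ (gl_mulVecLin_injective g)

theorem finrank_imgS (g : GL κ K) (U : Submodule K (κ → K)) :
    finrank K (imgS g U) = finrank K U :=
  (LinearEquiv.finrank_eq (Submodule.equivMapOfInjective _ (gl_mulVecLin_injective g) U)).symm

theorem imgS_mul (g g' : GL κ K) (U : Submodule K (κ → K)) :
    imgS (g * g') U = imgS g (imgS g' U) := by
  unfold imgS
  rw [Units.val_mul, Matrix.mulVecLin_mul, Submodule.map_comp]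

theorem imgS_one (U : Submodule K (κ → K)) : imgS (1 : GL κ K) U = U := by
  unfold imgS
  rw [Units.val_one, Matrix.mulVecLin_one]
  exact Submodule.map_id U

theorem mem_imgS (g : GL κ K) (U : Submodule K (κ → K)) (w : κ → K) :
    w ∈ imgS g U ↔ ∃ v ∈ U, (g : Matrix κ κ K) *ᵥ v = w := by
  unfold imgS
  rw [Submodule.mem_map]
  simp only [Matrix.mulVecLin_apply]

theorem imgS_ts (g : ↥(Cfsg.Geo.quadSimilarityGroup (F := K) Q)) (U : Submodule K (κ → K))
    (hU : ∀ w ∈ U, Q w = 0) : ∀ w ∈ imgS g.1 U, Q w = 0 := by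
  intro w hw
  obtain ⟨v, hv, rfl⟩ := (mem_imgS _ _ _).1 hw
  rw [simMult_spec Q, hU v hv, mul_zero]

section hyperbolic

variable (h : IsGram Q G) (hdet : G.det ≠ 0) {N : ℕ} (hN : Fintype.card κ = 2 * N)
  (E : Submodule K (κ → K)) (hE : finrank K E = N) (hEs : ∀ w ∈ E, Q w = 0)

include h hdet hN

theorem finrank_total : finrank K (κ → K) = 2 * N := by
  rw [Module.finrank_fintype_fun_eq_card, hN]

theorem ts_finrank_le (W : Submodule K (κ → K)) (hW : ∀ w ∈ W, Q w = 0) :
    finrank K W ≤ N := by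
  have h1 := Submodule.finrank_mono ((h.qsys hdet).le_orthogonal W hW)
  rw [LinearMap.BilinForm.finrank_orthogonal (h.qsys hdet).nondeg, finrank_total h hdet hN] at h1
  omega

include hE hEs

theorem exists_singular_of_lt (W : Submodule K (κ → K)) (hW : ∀ w ∈ W, Q w = 0)
    (hlt : finrank K W < N) :
    ∃ w ∈ (Matrix.toBilin' G).orthogonal W, w ∉ W ∧ Q w = 0 := by
  have hq := h.qsys hdet
  have hV := finrank_total h hdet hN
  by_contra hcon
  push Not at hcon
  have hEperp : (Matrix.toBilin' G).orthogonal E = E := hq.orthogonal_eq_self N hV E hE hEs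
  have hle : (Matrix.toBilin' G).orthogonal (E ⊔ W) ≤ E ⊓ W := by
    rw [hq.orthogonal_sup_eq, hEperp]
    rintro x ⟨hxE, hxW⟩
    refine ⟨hxE, ?_⟩
    by_contra hxW'
    exact hcon x hxW hxW' (hEs x hxE)
  have h1 := Submodule.finrank_mono hle
  rw [LinearMap.BilinForm.finrank_orthogonal hq.nondeg, hV] at h1
  have h2 := Submodule.finrank_sup_add_finrank_inf_eq E W
  have h3 : finrank K ↥(E ⊔ W) ≤ 2 * N := hV ▸ Submodule.finrank_le _
  omega

theorem finrank_of_isMax (U : Submodule K (κ → K)) (hU : Cfsg.IsMaxTotallySingular Q U) :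
    finrank K U = N := by
  have hq := h.qsys hdet
  by_contra hne
  have hle := ts_finrank_le h hdet hN U hU.1
  obtain ⟨w, hwU, hwn, hQw⟩ := exists_singular_of_lt h hdet hN E hE hEs U hU.1 (by omega)
  have h1 := hU.2 (U ⊔ Submodule.span K {w}) (hq.ts_sup_span U hU.1 w hwU hQw) le_sup_left
  apply hwn
  rw [← h1]
  exact Submodule.mem_sup_right (Submodule.mem_span_singleton_self w)

omit hE hEs in
theorem isMax_of_finrank (U : Submodule K (κ → K)) (hU : finrank K U = N)
    (hUs : ∀ w ∈ U, Q w = 0) : Cfsg.IsMaxTotallySingular Q U := by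
  refine ⟨hUs, ?_⟩
  intro W hW hUW
  have hle := ts_finrank_le h hdet hN W hW
  exact (Submodule.eq_of_le_of_finrank_le hUW (by omega)).symm

omit hE hEs in
/-- the parity relation between three maximal totally singular subspaces -/
theorem par3 (U W X : Submodule K (κ → K))
    (hU : finrank K U = N ∧ ∀ l ∈ U, Q l = 0) (hW : finrank K W = N ∧ ∀ l ∈ W, Q l = 0)
    (hX : finrank K X = N ∧ ∀ l ∈ X, Q l = 0) :
    Even ((N - finrank K ↥(U ⊓ W)) + (N - finrank K ↥(W ⊓ X)) + (N - finrank K ↥(U ⊓ X))) :=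
  (h.qsys hdet).parity N (finrank_total h hdet hN) _ U W X hU hW hX rfl

omit hE hEs in
theorem finrank_inf_le (U W : Submodule K (κ → K)) (hU : finrank K U = N) :
    finrank K ↥(U ⊓ W) ≤ N := hU ▸ Submodule.finrank_mono inf_le_left

/-- the class parity of a similarity does not depend on the subspace -/
theorem parity_img (g : ↥(Cfsg.Geo.quadSimilarityGroup (F := K) Q)) (U : Submodule K (κ → K))
    (hU : finrank K U = N) (hUs : ∀ w ∈ U, Q w = 0) :
    (N - finrank K ↥(U ⊓ imgS g.1 U)) % 2 = (N - finrank K ↥(E ⊓ imgS g.1 E)) % 2 := by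
  have hgU : finrank K (imgS g.1 U) = N ∧ ∀ l ∈ imgS g.1 U, Q l = 0 :=
    ⟨(finrank_imgS _ _).trans hU, imgS_ts g U hUs⟩
  have hgE : finrank K (imgS g.1 E) = N ∧ ∀ l ∈ imgS g.1 E, Q l = 0 :=
    ⟨(finrank_imgS _ _).trans hE, imgS_ts g E hEs⟩
  have k1 := par3 h hdet hN U (imgS g.1 U) (imgS g.1 E) ⟨hU, hUs⟩ hgU hgE
  have k2 := par3 h hdet hN U E (imgS g.1 E) ⟨hU, hUs⟩ ⟨hE, hEs⟩ hgE
  have e1 : finrank K ↥(imgS g.1 U ⊓ imgS g.1 E) = finrank K ↥(U ⊓ E) := by
    rw [← imgS_inf, finrank_imgS]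
  rw [e1] at k1
  have b1 := finrank_inf_le h hdet hN U (imgS g.1 U) hU
  have b2 := finrank_inf_le h hdet hN U E hU
  have b3 := finrank_inf_le h hdet hN U (imgS g.1 E) hU
  have b4 := finrank_inf_le h hdet hN E (imgS g.1 E) hE
  rw [Nat.even_iff] at k1 k2
  omega

/-- a reflection moves a maximal totally singular subspace to one meeting it in a hyperplane -/
theorem par_refl (v : κ → K) (hv : Q v ≠ 0) (g : GL κ K)
    (hg : (g : Matrix κ κ K) = Cfsg.reflectionMatrix Q v) :
    finrank K ↥(E ⊓ imgS g E) + 1 = N := by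
  have hq := h.qsys hdet
  have hV := finrank_total h hdet hN
  have hEperp : (Matrix.toBilin' G).orthogonal E = E := hq.orthogonal_eq_self N hV E hE hEs
  have hvE : v ∉ E := fun hmem => hv (hEs v hmem)
  have hnot : ¬ E ≤ LinearMap.ker (Matrix.toBilin' G v) := by
    intro hle
    apply hvE
    rw [← hEperp, LinearMap.BilinForm.mem_orthogonal_iff]
    intro e he
    have := hle he
    rw [LinearMap.mem_ker] at this
    rw [h.symmB]
    exact this
  have heq : E ⊓ imgS g E = E ⊓ LinearMap.ker (Matrix.toBilin' G v) := by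
    ext y
    constructor
    · rintro ⟨hy1, hy2⟩
      obtain ⟨x, hx, rfl⟩ := (mem_imgS _ _ _).1 hy2
      rw [hg] at hy1 ⊢
      by_cases hx0 : Matrix.toBilin' G v x = 0
      · rw [h.refl_fixes v x hx0]
        exact ⟨hx, hx0⟩
      · exfalso
        apply hvE
        rw [SetLike.mem_coe, h.refl_mulVec] at hy1
        have h3 : ((Q v)⁻¹ * Matrix.toBilin' G v x) • v ∈ E := by
          have := E.sub_mem hx hy1
          rwa [sub_sub_cancel] at this
        have h4 : (Q v)⁻¹ * Matrix.toBilin' G v x ≠ 0 := mul_ne_zero (inv_ne_zero hv) hx0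
        have := E.smul_mem ((Q v)⁻¹ * Matrix.toBilin' G v x)⁻¹ h3
        rwa [smul_smul, inv_mul_cancel₀ h4, one_smul] at this
    · rintro ⟨hy1, hy2⟩
      refine ⟨hy1, ?_⟩
      rw [SetLike.mem_coe, mem_imgS]
      refine ⟨y, hy1, ?_⟩
      rw [hg]
      exact h.refl_fixes v y hy2
  have hfr := (Cfsg.Agent.Lib.Helper8.finrank_inf_ker E (Matrix.toBilin' G v)).2 hnot
  rw [heq, hfr, hE]

/-- the class parity of a product of reflections is the parity of their number -/
theorem par_list : ∀ (vs : List (κ → K)), (∀ v ∈ vs, Q v ≠ 0) →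
    ∀ k : ↥(Cfsg.isometryGroup K Q),
      toMat Q k = (vs.map (fun v => Cfsg.reflectionMatrix Q v)).prod →
      (N - finrank K ↥(E ⊓ imgS k.1 E)) % 2 = vs.length % 2 := by
  intro vs
  induction vs with
  | nil =>
    intro _ k hk
    have hk1 : k.1 = 1 := by
      apply Units.ext
      rw [List.map_nil, List.prod_nil] at hk
      exact hk
    rw [hk1, imgS_one, inf_idem, hE]
    simp
  | cons a l ih =>
    intro hvs k hk
    have ha : Q a ≠ 0 := hvs a List.mem_cons_self
    have hl : ∀ v ∈ l, Q v ≠ 0 := fun v hv => hvs v (List.mem_cons_of_mem a hv)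
    obtain ⟨k', hk'⟩ : ∃ k' : ↥(Cfsg.isometryGroup K Q), k' = h.reflG a ha * k := ⟨_, rfl⟩
    have hk'mat : toMat Q k' = (l.map (fun v => Cfsg.reflectionMatrix Q v)).prod := by
      rw [hk', map_mul, hk, List.map_cons, List.prod_cons, ← mul_assoc]
      show Cfsg.reflectionMatrix Q a * Cfsg.reflectionMatrix Q a * _ = _
      rw [h.refl_refl a ha, one_mul]
    have hkk : k = h.reflG a ha * k' := by
      rw [hk', ← mul_assoc, h.reflG_mul_self, one_mul]
    have ih' := ih hl k' hk'mat
    have hr := par_refl h hdet hN E hE hEs a ha (h.reflG a ha).1 rfl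
    -- the three subspaces E, rE, r k' E
    have hiso : ∀ x : ↥(Cfsg.isometryGroup K Q), finrank K (imgS x.1 E) = N ∧
        ∀ l ∈ imgS x.1 E, Q l = 0 := by
      intro x
      exact ⟨(finrank_imgS _ _).trans hE, imgS_ts (isoGO Q x) E hEs⟩
    have k1 := par3 h hdet hN E (imgS (h.reflG a ha).1 E) (imgS k.1 E) ⟨hE, hEs⟩
      (hiso _) (hiso _)
    have e1 : finrank K ↥(imgS (h.reflG a ha).1 E ⊓ imgS k.1 E) = finrank K ↥(E ⊓ imgS k'.1 E) := by
      rw [hkk, Subgroup.coe_mul, imgS_mul, ← imgS_inf, finrank_imgS]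
    rw [e1] at k1
    have b1 := finrank_inf_le h hdet hN E (imgS (h.reflG a ha).1 E) hE
    have b2 := finrank_inf_le h hdet hN E (imgS k'.1 E) hE
    have b3 := finrank_inf_le h hdet hN E (imgS k.1 E) hE
    rw [Nat.even_iff] at k1
    rw [List.length_cons]
    omega

/-- an isometry preserves the classes iff it has determinant one -/
theorem par_iso (k : ↥(Cfsg.isometryGroup K Q)) :
    Even (N - finrank K ↥(E ⊓ imgS k.1 E)) ↔ (toMat Q k).det = 1 := by
  obtain ⟨vs, hvs, hprod⟩ := h.cartan_dieudonne hdet k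
  have h1 := par_list h hdet hN E hE hEs vs hvs k hprod
  rw [hprod, h.det_list vs hvs, Nat.even_iff, h1, ← Nat.even_iff]
  constructor
  · intro hev
    exact hev.neg_one_pow
  · intro h2
    exact h.even_of_neg_one_pow _ h2

/-- a similarity preserves the two classes of maximal totally singular subspaces iff its
determinant is the `N`-th power of its multiplier -/
theorem preserves_iff (hne : ∃ v, Q v ≠ 0)
    (g s : ↥(Cfsg.Geo.quadSimilarityGroup (F := K) Q))
    (hsμ : simMult Q s = simMult Q g) (hsE : imgS s.1 E = E)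
    (hsdet : (s.1 : Matrix κ κ K).det = (simMult Q g : K) ^ N) :
    Cfsg.PreservesSingularClasses Q (g.1 : Matrix κ κ K) ↔
      (g.1 : Matrix κ κ K).det = (simMult Q g : K) ^ N := by
  -- the isometry `k = s⁻¹ g`
  have hkmem : (s⁻¹ * g).1 ∈ Cfsg.isometryGroup K Q := by
    rw [Cfsg.Agent.Lib.Helper94.mem_isom]
    intro v
    have h1 := simMult_spec Q (s⁻¹ * g) v
    have h2 : simMult Q (s⁻¹ * g) = 1 := by
      have : simMult Q (s⁻¹ * g) = (simMult Q s)⁻¹ * simMult Q g := by
        have := (simMultHom hne).map_mul s⁻¹ g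
        rw [map_inv] at this
        exact this
      rw [this, hsμ, inv_mul_cancel]
    rw [h2, Units.val_one, one_mul] at h1
    exact h1
  obtain ⟨k, hk⟩ : ∃ k : ↥(Cfsg.isometryGroup K Q), k = ⟨(s⁻¹ * g).1, hkmem⟩ := ⟨_, rfl⟩
  have hgk : g.1 = s.1 * k.1 := by
    rw [hk]
    show g.1 = s.1 * (s⁻¹ * g).1
    rw [Subgroup.coe_mul, Subgroup.coe_inv]
    group
  have hpar : finrank K ↥(E ⊓ imgS g.1 E) = finrank K ↥(E ⊓ imgS k.1 E) := by
    rw [hgk, imgS_mul]
    conv_lhs => rw [← hsE]
    rw [← imgS_inf, finrank_imgS, hsE]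
  have hdetk : (g.1 : Matrix κ κ K).det = (simMult Q g : K) ^ N ↔ (toMat Q k).det = 1 := by
    rw [hgk, Units.val_mul, Matrix.det_mul, hsdet, toMat_apply]
    have hμ : ((simMult Q g : Kˣ) : K) ^ N ≠ 0 := pow_ne_zero _ (simMult Q g).ne_zero
    constructor
    · intro h1
      have : ((simMult Q g : Kˣ) : K) ^ N * (k.1 : Matrix κ κ K).det
          = ((simMult Q g : Kˣ) : K) ^ N * 1 := by rw [h1, mul_one]
      exact mul_left_cancel₀ hμ this
    · intro h1
      rw [h1, mul_one]
  rw [hdetk, ← par_iso h hdet hN E hE hEs k, ← hpar]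
  constructor
  · intro hP
    have h1 := hP E (isMax_of_finrank h hdet hN E hE hEs)
    unfold Cfsg.SameParityClass at h1
    rw [imageSubmodule_eq_imgS, hE] at h1
    exact h1
  · intro hev U hU
    have hUN := finrank_of_isMax h hdet hN E hE hEs U hU
    unfold Cfsg.SameParityClass
    rw [imageSubmodule_eq_imgS, hUN, Nat.even_iff, parity_img h hdet hN E hE hEs g U hUN hU.1,
      ← Nat.even_iff]
    exact hev

end hyperbolic

end Cfsg.Agent.Lib.Helper37
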