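import Cfsg.Agent.Lib.Helper37.InnDiag
import Cfsg.Agent.Lib.Helper37.SingClass
import Cfsg.Agent.Lib.Helper37.MinusAut
import Cfsg.Agent.Lib.Helper37.QuadExt
import Cfsg.Agent.Lib.Helper37.LeviPlus

set_option autoImplicit false
set_option linter.unusedSectionVars false
set_option linter.unusedVariables false
set_option linter.style.haveILetI false

namespace Cfsg.Agent.Lib.Helper37

open Matrix Module IsGram

universe u

section general

variable {κ : Type} [Fintype κ] [DecidableEq κ] {F K : Type*} [Field F] [Field K]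

/-- a matrix identity `Mᵀ G M = c G` extends scalars to a similarity of the extended form -/
theorem map_sim_of_gram {QK : (κ → K) → K} {G : Matrix κ κ F} (f : F →+* K)
    (hK : IsGram QK (G.map f)) (M : Matrix κ κ F) (c : F) (hM : Mᵀ * G * M = c • G)
    (v : κ → K) : QK ((M.map f) *ᵥ v) = f c * QK v := by
  have key : (M.map f)ᵀ * G.map f * M.map f = f c • G.map f := by
    have := congrArg (fun A : Matrix κ κ F => A.map f) hM
    beta_reduce at this
    rw [Matrix.map_mul, Matrix.map_mul, Matrix.transpose_map,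
      Matrix.map_smul' f c G (fun a b => map_mul f a b)] at this
    exact this
  apply mul_left_cancel₀ hK.two_ne
  rw [← hK.self, Matrix.toBilin'_apply']
  have h1 : (M.map f *ᵥ v) ⬝ᵥ (G.map f *ᵥ (M.map f *ᵥ v)) =
      v ⬝ᵥ (((M.map f)ᵀ * G.map f * M.map f) *ᵥ v) := by
    rw [← Matrix.mulVec_mulVec, ← Matrix.mulVec_mulVec, Matrix.dotProduct_mulVec v,
      Matrix.vecMul_transpose]
  rw [h1, key, Matrix.smul_mulVec, dotProduct_smul, smul_eq_mul, ← Matrix.toBilin'_apply',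
    hK.self]
  ring

end general

variable {F : Type u} [Field F] {m : ℕ}

theorem gramM_map {K : Type*} [Field K] (f : F →+* K) (a b : F) :
    (gramM m F a b).map f = gramM m K (f a) (f b) := by
  unfold gramM gramP
  rw [Matrix.fromBlocks_map, Matrix.fromBlocks_map]
  congr 1
  · congr 1
    · exact Matrix.map_zero f (map_zero f)
    · exact Matrix.map_one f (map_zero f) (map_one f)
    · exact Matrix.map_one f (map_zero f) (map_one f)
    · exact Matrix.map_zero f (map_zero f)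
  · exact Matrix.map_zero f (map_zero f)
  · exact Matrix.map_zero f (map_zero f)
  · ext i j
    fin_cases i <;> fin_cases j <;> simp [map_ofNat]

theorem minus_Q_single (a b : F) :
    Cfsg.quadFormMinus m F a b (Pi.single (Sum.inr 0) 1) = 1 := by
  unfold Cfsg.quadFormMinus
  simp

theorem minus_hne (a b : F) : ∃ v, Cfsg.quadFormMinus m F a b v ≠ 0 :=
  ⟨Pi.single (Sum.inr 0) 1, by rw [minus_Q_single]; exact one_ne_zero⟩

/-- the linear map cutting out the standard maximal totally singular subspace of the split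
minus-type form -/
noncomputable def minusL (m : ℕ) {K : Type*} [Field K] (θ : K) :
    ((Fin m ⊕ Fin m) ⊕ Fin 2 → K) →ₗ[K] (Fin m ⊕ Unit → K) :=
  LinearMap.pi (Sum.elim (fun i => LinearMap.proj (Sum.inl (Sum.inr i)))
    (fun _ => LinearMap.proj (Sum.inr 0) - θ • LinearMap.proj (Sum.inr 1)))

theorem mem_ker_minusL {K : Type*} [Field K] (θ : K) (v : (Fin m ⊕ Fin m) ⊕ Fin 2 → K) :
    v ∈ LinearMap.ker (minusL m θ) ↔
      (∀ i, v (Sum.inl (Sum.inr i)) = 0) ∧ v (Sum.inr 0) = θ * v (Sum.inr 1) := by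
  rw [LinearMap.mem_ker]
  unfold minusL
  constructor
  · intro h
    constructor
    · intro i
      have := congrFun h (Sum.inl i)
      simpa using this
    · have := congrFun h (Sum.inr ())
      simp only [LinearMap.pi_apply, Sum.elim_inr, LinearMap.sub_apply, LinearMap.proj_apply,
        LinearMap.smul_apply, smul_eq_mul, Pi.zero_apply] at this
      exact sub_eq_zero.1 this
  · rintro ⟨h1, h2⟩
    funext j
    rcases j with i | j
    · simpa using h1 i
    · simp only [LinearMap.pi_apply, Sum.elim_inr, LinearMap.sub_apply, LinearMap.proj_apply,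
        LinearMap.smul_apply, smul_eq_mul, Pi.zero_apply]
      exact sub_eq_zero.2 h2

theorem minusL_surjective {K : Type*} [Field K] (θ : K) : Function.Surjective (minusL m θ) := by
  intro y
  refine ⟨Sum.elim (Sum.elim (fun _ => 0) (fun i => y (Sum.inl i)))
    (fun j => if j = 0 then y (Sum.inr ()) else 0), ?_⟩
  funext j
  unfold minusL
  rcases j with i | j
  · simp
  · simp

theorem finrank_ker_minusL {K : Type*} [Field K] (θ : K) :
    finrank K (LinearMap.ker (minusL m θ)) = m + 1 := by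
  have h1 := LinearMap.finrank_range_add_finrank_ker (minusL m θ)
  rw [LinearMap.range_eq_top.mpr (minusL_surjective θ), finrank_top,
    Module.finrank_fintype_fun_eq_card, Module.finrank_fintype_fun_eq_card] at h1
  simp only [Fintype.card_sum, Fintype.card_fin, Fintype.card_unit] at h1
  omega

theorem ker_minusL_singular {K : Type*} [Field K] (a b θ : K) (hθ : θ ^ 2 + a * θ + b = 0) :
    ∀ v ∈ LinearMap.ker (minusL m θ), Cfsg.quadFormMinus m K a b v = 0 := by
  intro v hv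
  rw [mem_ker_minusL] at hv
  unfold Cfsg.quadFormMinus
  rw [hv.2]
  have : ∑ i : Fin m, v (Sum.inl (Sum.inl i)) * v (Sum.inl (Sum.inr i)) = 0 := by
    apply Finset.sum_eq_zero
    intro i _
    rw [hv.1 i, mul_zero]
  rw [this]
  linear_combination (v (Sum.inr 1)) ^ 2 * hθ


theorem ker_minusL_smul_img {K : Type u} [Field K] (θ : K) {QK : ((Fin m ⊕ Fin m) ⊕ Fin 2 → K) → K}
    {G : Matrix ((Fin m ⊕ Fin m) ⊕ Fin 2) ((Fin m ⊕ Fin m) ⊕ Fin 2) K} (h : IsGram QK G) (ν : Kˣ) :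
    imgS (scalarGO h ν).1 (LinearMap.ker (minusL m θ)) = LinearMap.ker (minusL m θ) := by
  symm
  apply Submodule.eq_of_le_of_finrank_eq
  · intro v hv
    rw [mem_imgS]
    refine ⟨((ν⁻¹ : Kˣ) : K) • v, Submodule.smul_mem _ _ hv, ?_⟩
    rw [scalarGO_mulVec, smul_smul, ← Units.val_mul, mul_inv_cancel, Units.val_one, one_smul]
  · rw [finrank_imgS]

theorem minus_preservesK_iff [Fintype F] {K : Type u} [Field K] [Algebra F K]
    (hodd : Odd (Fintype.card F)) (hK : finrank F K = 2) (a b : F)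
    (hab : ∀ z₁ z₂ : F, z₁ ^ 2 + a * z₁ * z₂ + b * z₂ ^ 2 = 0 → z₁ = 0 ∧ z₂ = 0)
    (g : ↥(Cfsg.Geo.quadSimilarityGroup (F := F) (Cfsg.quadFormMinus m F a b))) :
    Cfsg.PreservesSingularClasses
        (Cfsg.quadFormMinus m K (algebraMap F K a) (algebraMap F K b))
        (((g.1 : GL ((Fin m ⊕ Fin m) ⊕ Fin 2) F) :
          Matrix ((Fin m ⊕ Fin m) ⊕ Fin 2) ((Fin m ⊕ Fin m) ⊕ Fin 2) F).map (algebraMap F K)) ↔
      ((g.1 : GL ((Fin m ⊕ Fin m) ⊕ Fin 2) F) :
          Matrix ((Fin m ⊕ Fin m) ⊕ Fin 2) ((Fin m ⊕ Fin m) ⊕ Fin 2) F).det =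
        (simMult (Cfsg.quadFormMinus m F a b) g : F) ^ (m + 1) := by
  classical
  have hinj : Function.Injective (algebraMap F K) := (algebraMap F K).injective
  have h2F : (2 : F) ≠ 0 := two_ne_zero_of_odd_card hodd
  have h2K : (2 : K) ≠ 0 := by
    intro h
    apply h2F
    apply hinj
    rw [map_ofNat, map_zero]
    exact h
  have hF := minus_isGram h2F m a b
  have hKg := minus_isGram h2K m (algebraMap F K a) (algebraMap F K b)
  have hdetK : (gramM m K (algebraMap F K a) (algebraMap F K b)).det ≠ 0 := by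
    rw [← gramM_map]
    have h1 : ((gramM m F a b).map (algebraMap F K)).det = algebraMap F K (gramM m F a b).det :=
      (RingHom.map_det (algebraMap F K) (gramM m F a b)).symm
    rw [h1]
    intro h0
    exact gramM_det_ne_zero h2F m a b hab (hinj (by rw [h0, map_zero]))
  have hne := minus_hne (m := m) (algebraMap F K a) (algebraMap F K b)
  obtain ⟨gK, hgK⟩ : ∃ gK : ↥(Cfsg.Geo.quadSimilarityGroup (F := K)
      (Cfsg.quadFormMinus m K (algebraMap F K a) (algebraMap F K b))),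
      gK.1 = Matrix.GeneralLinearGroup.map (algebraMap F K) g.1 := by
    refine ⟨⟨Matrix.GeneralLinearGroup.map (algebraMap F K) g.1,
      Units.map (algebraMap F K : F →* K) (simMult _ g), fun v => ?_⟩, rfl⟩
    exact map_sim_of_gram (algebraMap F K) (by rw [gramM_map]; exact hKg)
      (g.1 : Matrix ((Fin m ⊕ Fin m) ⊕ Fin 2) ((Fin m ⊕ Fin m) ⊕ Fin 2) F) _ (sim_gram hF g) v
  have hgKmat : ((gK.1 : GL ((Fin m ⊕ Fin m) ⊕ Fin 2) K) :
      Matrix ((Fin m ⊕ Fin m) ⊕ Fin 2) ((Fin m ⊕ Fin m) ⊕ Fin 2) K) =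
      ((g.1 : GL ((Fin m ⊕ Fin m) ⊕ Fin 2) F) :
        Matrix ((Fin m ⊕ Fin m) ⊕ Fin 2) ((Fin m ⊕ Fin m) ⊕ Fin 2) F).map (algebraMap F K) := by
    rw [hgK]
    rfl
  have hμ : simMult _ gK = Units.map (algebraMap F K : F →* K) (simMult _ g) := by
    apply simMult_unique hne
    intro v
    rw [hgKmat]
    exact map_sim_of_gram (algebraMap F K) (by rw [gramM_map]; exact hKg)
      (g.1 : Matrix ((Fin m ⊕ Fin m) ⊕ Fin 2) ((Fin m ⊕ Fin m) ⊕ Fin 2) F) _ (sim_gram hF g) v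
  obtain ⟨ν, hν⟩ : ∃ ν : Kˣ, Units.map (algebraMap F K : F →* K) (simMult _ g) = ν * ν := by
    obtain ⟨t, ht⟩ := isSquare_algebraMap_of_finrank_two hodd hK
      ((simMult (Cfsg.quadFormMinus m F a b) g : Fˣ) : F)
    have ht0 : t ≠ 0 := by
      rintro rfl
      rw [mul_zero] at ht
      exact (simMult (Cfsg.quadFormMinus m F a b) g).ne_zero (hinj (by rw [ht, map_zero]))
    refine ⟨Units.mk0 t ht0, ?_⟩
    apply Units.ext
    rw [Units.val_mul, Units.val_mk0, ← ht]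
    rfl
  obtain ⟨θ, hθ⟩ := exists_root_of_finrank_two hodd hK a b
  have hsμ : simMult _ (scalarGO hKg ν) = simMult _ gK := by
    rw [simMult_scalarGO hKg hne, hμ, hν]
  have hsdet : ((scalarGO hKg ν).1 : Matrix ((Fin m ⊕ Fin m) ⊕ Fin 2)
      ((Fin m ⊕ Fin m) ⊕ Fin 2) K).det = (simMult _ gK : K) ^ (m + 1) := by
    rw [scalarGO_val, Matrix.det_smul, Matrix.det_one, mul_one, minus_card_two_mul, hμ, hν,
      Units.val_mul, pow_mul, pow_two]
  have key := preserves_iff hKg hdetK (minus_card_two_mul m) (LinearMap.ker (minusL m θ))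
    (finrank_ker_minusL θ) (ker_minusL_singular _ _ θ hθ) hne gK (scalarGO hKg ν) hsμ
    (ker_minusL_smul_img θ hKg ν) hsdet
  rw [hgKmat] at key
  rw [key]
  have h1 : (((g.1 : GL ((Fin m ⊕ Fin m) ⊕ Fin 2) F) :
      Matrix ((Fin m ⊕ Fin m) ⊕ Fin 2) ((Fin m ⊕ Fin m) ⊕ Fin 2) F).map (algebraMap F K)).det =
      algebraMap F K ((g.1 : GL ((Fin m ⊕ Fin m) ⊕ Fin 2) F) :
      Matrix ((Fin m ⊕ Fin m) ⊕ Fin 2) ((Fin m ⊕ Fin m) ⊕ Fin 2) F).det :=
    (RingHom.map_det (algebraMap F K) _).symm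
  rw [h1, hμ]
  have h3 : ((Units.map (algebraMap F K : F →* K) (simMult _ g) : Kˣ) : K) ^ (m + 1) =
      algebraMap F K ((simMult (Cfsg.quadFormMinus m F a b) g : F) ^ (m + 1)) := by
    rw [map_pow]
    rfl
  rw [h3]
  exact hinj.eq_iff

theorem minus_preserves_iff [Fintype F] (hodd : Odd (Fintype.card F)) (a b : F)
    (hab : ∀ z₁ z₂ : F, z₁ ^ 2 + a * z₁ * z₂ + b * z₂ ^ 2 = 0 → z₁ = 0 ∧ z₂ = 0)
    (g : ↥(Cfsg.Geo.quadSimilarityGroup (F := F) (Cfsg.quadFormMinus m F a b))) :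
    Cfsg.PreservesSingularClassesMinus m a b
        ((g.1 : GL ((Fin m ⊕ Fin m) ⊕ Fin 2) F) :
          Matrix ((Fin m ⊕ Fin m) ⊕ Fin 2) ((Fin m ⊕ Fin m) ⊕ Fin 2) F) ↔
      ((g.1 : GL ((Fin m ⊕ Fin m) ⊕ Fin 2) F) :
          Matrix ((Fin m ⊕ Fin m) ⊕ Fin 2) ((Fin m ⊕ Fin m) ⊕ Fin 2) F).det =
        (simMult (Cfsg.quadFormMinus m F a b) g : F) ^ (m + 1) := by
  constructor
  · rintro ⟨K, _, _, hK, hP⟩
    exact (minus_preservesK_iff hodd hK a b hab g).1 hP
  · intro hd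
    obtain ⟨K, _, _, hK⟩ := exists_quadratic_extension a b hab
    exact ⟨K, _, _, hK, (minus_preservesK_iff hodd hK a b hab g).2 hd⟩


/-- the matrix of an isometry of the minus-type form of determinant `(-1)^(m+1)` -/
def minusRMat (m : ℕ) (a : F) :
    Matrix ((Fin m ⊕ Fin m) ⊕ Fin 2) ((Fin m ⊕ Fin m) ⊕ Fin 2) F :=
  Matrix.fromBlocks (gramP m F) 0 0 !![1, a; 0, -1]

theorem minusRMat_det (a : F) : (minusRMat m a).det = (-1) ^ (m + 1) := by
  unfold minusRMat
  rw [Matrix.det_fromBlocks_zero₂₁, gramP_det, Matrix.det_fin_two_of]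
  ring

theorem minusRMat_Q (a b : F) (v : (Fin m ⊕ Fin m) ⊕ Fin 2 → F) :
    Cfsg.quadFormMinus m F a b (minusRMat m a *ᵥ v) = Cfsg.quadFormMinus m F a b v := by
  have e1 : ∀ i, (minusRMat m a *ᵥ v) (.inl (.inl i)) = v (.inl (.inr i)) := by
    intro i
    unfold minusRMat
    rw [Matrix.fromBlocks_mulVec, Sum.elim_inl, Matrix.zero_mulVec, add_zero]
    simp [Matrix.mulVec, dotProduct, gramP_inl]
  have e2 : ∀ i, (minusRMat m a *ᵥ v) (.inl (.inr i)) = v (.inl (.inl i)) := by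
    intro i
    unfold minusRMat
    rw [Matrix.fromBlocks_mulVec, Sum.elim_inl, Matrix.zero_mulVec, add_zero]
    simp [Matrix.mulVec, dotProduct, gramP_inr]
  have e3 : (minusRMat m a *ᵥ v) (.inr 0) = v (.inr 0) + a * v (.inr 1) := by
    unfold minusRMat
    rw [Matrix.fromBlocks_mulVec, Sum.elim_inr, Matrix.zero_mulVec, zero_add]
    simp [Matrix.mulVec, dotProduct, Fin.sum_univ_two]
  have e4 : (minusRMat m a *ᵥ v) (.inr 1) = - v (.inr 1) := by
    unfold minusRMat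
    rw [Matrix.fromBlocks_mulVec, Sum.elim_inr, Matrix.zero_mulVec, zero_add]
    simp [Matrix.mulVec, dotProduct, Fin.sum_univ_two]
  have hsum : ∑ i : Fin m, (minusRMat m a *ᵥ v) (.inl (.inl i)) *
      (minusRMat m a *ᵥ v) (.inl (.inr i)) =
      ∑ i : Fin m, v (.inl (.inl i)) * v (.inl (.inr i)) := by
    apply Finset.sum_congr rfl
    intro i _
    rw [e1, e2, mul_comm]
  unfold Cfsg.quadFormMinus
  rw [e3, e4, hsum]
  ring

/-- an isometry of the minus-type form of determinant `(-1)^(m+1)` -/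
noncomputable def minusR (m : ℕ) (a b : F) :
    ↥(Cfsg.isometryGroup F (Cfsg.quadFormMinus m F a b)) :=
  ⟨Matrix.GeneralLinearGroup.mkOfDetNeZero (minusRMat m a) (by
      rw [minusRMat_det]
      exact pow_ne_zero _ (by simp)), by
    rw [Cfsg.Agent.Lib.Helper94.mem_isom]
    intro v
    exact minusRMat_Q a b v⟩

theorem minusR_det (a b : F) :
    (toMat (Cfsg.quadFormMinus m F a b) (minusR m a b)).det = (-1) ^ (m + 1) :=
  minusRMat_det a

theorem minusSimMat_mul_R_sq (a b w1 w2 : F) :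
    (minusSimMat m a b w1 w2 * minusRMat m a) * (minusSimMat m a b w1 w2 * minusRMat m a) =
      (w1 ^ 2 + a * w1 * w2 + b * w2 ^ 2) •
        (1 : Matrix ((Fin m ⊕ Fin m) ⊕ Fin 2) ((Fin m ⊕ Fin m) ⊕ Fin 2) F) := by
  have hA : (Matrix.diagonal (Sum.elim (fun _ : Fin m => w1 ^ 2 + a * w1 * w2 + b * w2 ^ 2)
      (fun _ : Fin m => (1 : F))) * gramP m F) *
      (Matrix.diagonal (Sum.elim (fun _ : Fin m => w1 ^ 2 + a * w1 * w2 + b * w2 ^ 2)
      (fun _ : Fin m => (1 : F))) * gramP m F) =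
      (w1 ^ 2 + a * w1 * w2 + b * w2 ^ 2) • (1 : Matrix (Fin m ⊕ Fin m) (Fin m ⊕ Fin m) F) := by
    have hd : Matrix.diagonal (Sum.elim (fun _ : Fin m => w1 ^ 2 + a * w1 * w2 + b * w2 ^ 2)
        (fun _ : Fin m => (1 : F))) =
        Matrix.fromBlocks ((w1 ^ 2 + a * w1 * w2 + b * w2 ^ 2) • (1 : Matrix (Fin m) (Fin m) F))
          0 0 1 := by
      rw [← Matrix.fromBlocks_diagonal]
      congr 1
      rw [Matrix.smul_one_eq_diagonal]
    rw [hd]
    unfold gramP
    rw [Matrix.fromBlocks_multiply, Matrix.fromBlocks_multiply]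
    ext i j
    rcases i with i | i <;> rcases j with j | j <;> simp [Matrix.one_apply]
  have hD : (!![w1, -b * w2; w2, w1 + a * w2] * !![1, a; 0, -1]) *
      (!![w1, -b * w2; w2, w1 + a * w2] * !![1, a; 0, -1]) =
      (w1 ^ 2 + a * w1 * w2 + b * w2 ^ 2) • (1 : Matrix (Fin 2) (Fin 2) F) := by
    ext i j
    fin_cases i <;> fin_cases j <;>
      simp [Matrix.mul_apply, Fin.sum_univ_two, Matrix.one_apply] <;> ring
  unfold minusSimMat minusRMat
  rw [Matrix.fromBlocks_multiply, Matrix.fromBlocks_multiply]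
  simp only [Matrix.mul_zero, Matrix.zero_mul, add_zero, zero_add]
  rw [hA, hD]
  ext i j
  rcases i with i | i <;> rcases j with j | j <;> simp [Matrix.one_apply]

theorem minusSim_R_sq (h2 : (2 : F) ≠ 0) (a b w1 w2 : F)
    (hw : w1 ^ 2 + a * w1 * w2 + b * w2 ^ 2 ≠ 0) :
    (minusSim m a b w1 w2 hw * isoGO (Cfsg.quadFormMinus m F a b) (minusR m a b)) *
      (minusSim m a b w1 w2 hw * isoGO (Cfsg.quadFormMinus m F a b) (minusR m a b)) =
      scalarGO (minus_isGram h2 m a b) (Units.mk0 _ hw) := by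
  apply Subtype.ext
  apply Units.ext
  rw [scalarGO_val, Units.val_mk0]
  exact minusSimMat_mul_R_sq a b w1 w2

theorem minus_inndiag_eq [Fintype F] [DecidableEq F] (hodd : Odd (Fintype.card F))
    (hm : 3 ≤ m) (a b : F)
    (hab : ∀ z₁ z₂ : F, z₁ ^ 2 + a * z₁ * z₂ + b * z₂ ^ 2 = 0 → z₁ = 0 ∧ z₂ = 0) :
    Cfsg.inndiagPOmegaMinus m F a b =
      (simC (minus_isGram (two_ne_zero_of_odd_card hodd) m a b)
        (gramM_det_ne_zero (two_ne_zero_of_odd_card hodd) m a b hab) (minus_card_two_mul m)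
        (by rw [minus_card_two_mul]; omega)).map (Phi (Cfsg.quadFormMinus m F a b)) := by
  have h2 : (2 : F) ≠ 0 := two_ne_zero_of_odd_card hodd
  have hP : ∀ g : ↥(Cfsg.Geo.quadSimilarityGroup (F := F) (Cfsg.quadFormMinus m F a b)),
      Cfsg.PreservesSingularClassesMinus m a b
        (g.1 : Matrix ((Fin m ⊕ Fin m) ⊕ Fin 2) ((Fin m ⊕ Fin m) ⊕ Fin 2) F) ↔
      g ∈ simC (minus_isGram h2 m a b) (gramM_det_ne_zero h2 m a b hab) (minus_card_two_mul m)
        (by rw [minus_card_two_mul]; omega) := by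
    intro g
    rw [mem_simC_iff _ _ _ _ (minus_hker hm a b hab), minus_preserves_iff hodd a b hab]
  have key := autSubgroupOf_eq_map
    (fun g : GL ((Fin m ⊕ Fin m) ⊕ Fin 2) F => Cfsg.PreservesSingularClassesMinus m a b
      (g : Matrix ((Fin m ⊕ Fin m) ⊕ Fin 2) ((Fin m ⊕ Fin m) ⊕ Fin 2) F)) _ hP
  unfold Cfsg.inndiagPOmegaMinus Cfsg.IsInnerDiagonalAutPOmegaMinus
  exact key

theorem exists_nonsquare_norm [Fintype F] [DecidableEq F] (h2 : (2 : F) ≠ 0) (a b : F)
    (hab : ∀ z₁ z₂ : F, z₁ ^ 2 + a * z₁ * z₂ + b * z₂ ^ 2 = 0 → z₁ = 0 ∧ z₂ = 0) :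
    ∃ w1 w2 : F, ¬ IsSquare (w1 ^ 2 + a * w1 * w2 + b * w2 ^ 2) := by
  obtain ⟨c, hc⟩ := exists_nonsquare_unit h2 (F := F)
  obtain ⟨w, hw⟩ := (minus_isGram h2 0 a b).universal (gramM_det_ne_zero h2 0 a b hab)
    (by rw [minus_card_two_mul 0]) (c : F)
  have hw' : w (.inr 0) ^ 2 + a * w (.inr 0) * w (.inr 1) + b * w (.inr 1) ^ 2 = (c : F) := by
    rw [← hw]
    unfold Cfsg.quadFormMinus
    simp
  exact ⟨w (.inr 0), w (.inr 1), by rw [hw']; exact hc⟩

/-- the structure of `Inndiag(PΩ⁻) / Inn` in abstract form -/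
theorem minus_inndiag_structure [Fintype F] [DecidableEq F] (h2 : (2 : F) ≠ 0) (hm : 3 ≤ m)
    (a b : F)
    (hab : ∀ z₁ z₂ : F, z₁ ^ 2 + a * z₁ * z₂ + b * z₂ ^ 2 = 0 → z₁ = 0 ∧ z₂ = 0)
    (R : Subgroup (MulAut (Cfsg.POmega F (Cfsg.quadFormMinus m F a b))))
    (hR : R = (simC (minus_isGram h2 m a b) (gramM_det_ne_zero h2 m a b hab)
        (minus_card_two_mul m)
        (by rw [minus_card_two_mul]; omega)).map (Phi (Cfsg.quadFormMinus m F a b))) :
    (¬ (∃ g : ↥(Cfsg.isometryGroup F (Cfsg.quadFormMinus m F a b)),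
        g ∈ Cfsg.Omega F (Cfsg.quadFormMinus m F a b) ∧
        ((g : GL ((Fin m ⊕ Fin m) ⊕ Fin 2) F) :
          Matrix ((Fin m ⊕ Fin m) ⊕ Fin 2) ((Fin m ⊕ Fin m) ⊕ Fin 2) F) = -1) →
      ∃ φ : ↥R →* Multiplicative (ZMod 2), Function.Surjective φ ∧
        φ.ker = (Cfsg.Inn (Cfsg.POmega F (Cfsg.quadFormMinus m F a b))).subgroupOf R) ∧
    ((∃ g : ↥(Cfsg.isometryGroup F (Cfsg.quadFormMinus m F a b)),
        g ∈ Cfsg.Omega F (Cfsg.quadFormMinus m F a b) ∧
        ((g : GL ((Fin m ⊕ Fin m) ⊕ Fin 2) F) :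
          Matrix ((Fin m ⊕ Fin m) ⊕ Fin 2) ((Fin m ⊕ Fin m) ⊕ Fin 2) F) = -1) → Even m →
      ∃ φ : ↥R →* Multiplicative (ZMod 4), Function.Surjective φ ∧
        φ.ker = (Cfsg.Inn (Cfsg.POmega F (Cfsg.quadFormMinus m F a b))).subgroupOf R) := by
  subst hR
  have h := minus_isGram h2 m a b
  have hdet := gramM_det_ne_zero h2 m a b hab
  have hN := minus_card_two_mul m
  have hn : 2 ≤ Fintype.card ((Fin m ⊕ Fin m) ⊕ Fin 2) := by rw [minus_card_two_mul]; omega
  have hker := minus_hker hm a b hab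
  have hne := exists_Q_eq_one h hdet hn
  obtain ⟨w1, w2, hc⟩ := exists_nonsquare_norm h2 a b hab
  have hw0 : w1 ^ 2 + a * w1 * w2 + b * w2 ^ 2 ≠ 0 := by
    intro h0
    apply hc
    rw [h0]
    exact ⟨0, (mul_zero 0).symm⟩
  have hμ : simMult (Cfsg.quadFormMinus m F a b) (minusSim m a b w1 w2 hw0)
      = Units.mk0 _ hw0 := by
    apply simMult_unique hne
    intro v
    exact minusSimMat_Q m a b _ _ v
  have hd : ¬ IsSquare (simMult (Cfsg.quadFormMinus m F a b)
      (minusSim m a b w1 w2 hw0) : F) := by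
    rw [hμ, Units.val_mk0]; exact hc
  have hdC : minusSim m a b w1 w2 hw0 ∈ simC h hdet hN hn := by
    rw [mem_simC_iff h hdet hN hn hker, hμ, Units.val_mk0]
    show (minusSimMat m a b w1 w2).det = _
    rw [minusSimMat_det]
    ring
  have hiff := negOne_iff h
  refine ⟨?_, ?_⟩
  · intro hneg
    exact inndiag_mod_inn_two h hdet hN hn hker _ hd hdC (fun h' => hneg (hiff.2 h'))
  · intro hneg hev
    have hneg' := hiff.1 hneg
    apply inndiag_mod_inn_four h hdet hN hn hker _ hd hdC hneg'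
    rw [sq_mem_innPre_iff h hdet hN hn hker hneg' _ hd (minusR m a b) _
      (minusSim_R_sq h2 a b _ _ hw0), minusR_det, pow_succ, hev.neg_one_pow, one_mul]
    intro h1
    apply h2
    linear_combination -h1

end Cfsg.Agent.Lib.Helper37
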