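import Cfsg.Agent.Lib.Helper37.SimDihedral

set_option autoImplicit false
set_option linter.unusedSectionVars false
set_option linter.unusedVariables false

namespace Cfsg.Agent.Lib.Helper37

open Matrix Module IsGram

universe u

variable {κ : Type} [Fintype κ] [DecidableEq κ] {F : Type u} [Field F] [Fintype F] [DecidableEq F]
  {Q : (κ → F) → F} {G : Matrix κ κ F}

theorem isoGO_simConjHom (d : ↥(Cfsg.Geo.quadSimilarityGroup (F := F) Q))
    (k : ↥(Cfsg.isometryGroup F Q)) :
    isoGO Q (simConjHom Q d k) = d * isoGO Q k * d⁻¹ := by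
  apply Subtype.ext
  rfl

/-- conjugation by a similarity with non-square multiplier swaps the two sign characters -/
theorem signPair_conj_list (h : IsGram Q G) (α : F) (hα : ¬ IsSquare α)
    (d : ↥(Cfsg.Geo.quadSimilarityGroup (F := F) Q)) (hd : ¬ IsSquare (simMult Q d : F)) :
    ∀ (vs : List (κ → F)), (∀ v ∈ vs, Q v ≠ 0) → ∀ k : ↥(Cfsg.isometryGroup F Q),
      toMat Q k = (vs.map (fun v => Cfsg.reflectionMatrix Q v)).prod →
      signPair Q α (simConjHom Q d k) = Prod.swap (signPair Q α k) := by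
  intro vs
  induction vs with
  | nil =>
    intro _ k hk
    have hk1 : k = 1 := by
      apply toMat_injective
      rw [hk, map_one]
      rfl
    rw [hk1, map_one, map_one]
    rfl
  | cons a l ih =>
    intro hvs k hk
    have ha : Q a ≠ 0 := hvs a List.mem_cons_self
    have hl : ∀ v ∈ l, Q v ≠ 0 := fun v hv => hvs v (List.mem_cons_of_mem a hv)
    obtain ⟨k', hk'⟩ : ∃ k' : ↥(Cfsg.isometryGroup F Q), k' = h.reflG a ha * k := ⟨_, rfl⟩
    have hk'mat : toMat Q k' = (l.map (fun v => Cfsg.reflectionMatrix Q v)).prod := by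
      rw [hk', map_mul, hk, List.map_cons, List.prod_cons, ← mul_assoc]
      show Cfsg.reflectionMatrix Q a * Cfsg.reflectionMatrix Q a * _ = _
      rw [h.refl_refl a ha, one_mul]
    have hkk : k = h.reflG a ha * k' := by
      rw [hk', ← mul_assoc, h.reflG_mul_self, one_mul]
    have ih' := ih hl k' hk'mat
    have hconj : simConjHom Q d (h.reflG a ha) =
        h.reflG ((d.1 : Matrix κ κ F) *ᵥ a) (IsGram.Q_sim_ne_zero d a ha) := by
      apply isoGO_injective
      rw [isoGO_simConjHom, h.conj_reflG_sim]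
    have hsw : signPair Q α (simConjHom Q d (h.reflG a ha)) =
        Prod.swap (signPair Q α (h.reflG a ha)) := by
      rw [hconj]
      have hiff : IsSquare (Q ((d.1 : Matrix κ κ F) *ᵥ a)) ↔ ¬ IsSquare (Q a) := by
        rw [simMult_spec Q, mul_comm]
        exact isSquare_mul_nonsquare_iff _ _ ha hd
      by_cases hsq : IsSquare (Q a)
      · rw [(h.signPair_reflG a ha α hα).1 hsq,
          (h.signPair_reflG _ (IsGram.Q_sim_ne_zero d a ha) α hα).2 (by rw [hiff]; exact not_not.2 hsq)]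
        rfl
      · rw [(h.signPair_reflG a ha α hα).2 hsq,
          (h.signPair_reflG _ (IsGram.Q_sim_ne_zero d a ha) α hα).1 (hiff.2 hsq)]
        rfl
    rw [hkk, map_mul, map_mul, map_mul, hsw, ih']
    rfl

theorem signPair_conj (h : IsGram Q G) (hdet : G.det ≠ 0) (α : F) (hα : ¬ IsSquare α)
    (d : ↥(Cfsg.Geo.quadSimilarityGroup (F := F) Q)) (hd : ¬ IsSquare (simMult Q d : F))
    (k : ↥(Cfsg.isometryGroup F Q)) :
    signPair Q α (simConjHom Q d k) = Prod.swap (signPair Q α k) := by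
  obtain ⟨vs, hvs, hprod⟩ := h.cartan_dieudonne hdet k
  exact signPair_conj_list h α hα d hd vs hvs k hprod

theorem scalarGO_comm (h : IsGram Q G) (c : Fˣ)
    (x : ↥(Cfsg.Geo.quadSimilarityGroup (F := F) Q)) : scalarGO h c * x = x * scalarGO h c := by
  apply Subtype.ext
  apply Units.ext
  rw [Subgroup.coe_mul, Subgroup.coe_mul, Units.val_mul, Units.val_mul, scalarGO_val,
    Matrix.smul_mul, Matrix.mul_smul, Matrix.one_mul, Matrix.mul_one]

section withKer

variable (h : IsGram Q G) (hdet : G.det ≠ 0) {N : ℕ} (hN : Fintype.card κ = 2 * N)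
  (hn : 2 ≤ Fintype.card κ)
  (hker : ∀ g : ↥(Cfsg.Geo.quadSimilarityGroup (F := F) Q),
      Phi Q g = 1 ↔ ∃ c : F, ((g.1 : GL κ F) : Matrix κ κ F) = c • (1 : Matrix κ κ F))

include h hdet hN hn hker

theorem scalarGO_mem_innPre (c : Fˣ) : scalarGO h c ∈ innPre Q := by
  rw [mem_innPre_iff h (exists_Q_eq_one h hdet hn) hker]
  exact ⟨c, 1, Subgroup.one_mem _, by rw [map_one, mul_one]⟩

theorem isoGO_mem_innPre_iff (hneg : h.negO ∈ Cfsg.Omega F Q) (k : ↥(Cfsg.isometryGroup F Q)) :
    isoGO Q k ∈ innPre Q ↔ k ∈ Cfsg.Omega F Q := by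
  unfold innPre
  rw [Subgroup.mem_comap, Phi_iso_mem_inn_iff h (exists_Q_eq_one h hdet hn) hker]
  constructor
  · rintro (hk | hk)
    · exact hk
    · have := Subgroup.mul_mem _ hneg hk
      rwa [← mul_assoc, negO_mul_self, one_mul] at this
  · intro hk
    exact Or.inl hk

/-- if `(d R)²` is scalar for an isometry `R` and a similarity `d` with non-square multiplier,
then `d²` induces an inner automorphism iff `det R = 1` -/
theorem sq_mem_innPre_iff (hneg : h.negO ∈ Cfsg.Omega F Q)
    (d : ↥(Cfsg.Geo.quadSimilarityGroup (F := F) Q)) (hd : ¬ IsSquare (simMult Q d : F))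
    (R : ↥(Cfsg.isometryGroup F Q)) (c : Fˣ)
    (hR : (d * isoGO Q R) * (d * isoGO Q R) = scalarGO h c) :
    d * d ∈ innPre Q ↔ (toMat Q R).det = 1 := by
  have hne := exists_Q_eq_one h hdet hn
  obtain ⟨α, hα⟩ := FiniteField.exists_nonsquare (ringChar_ne_two_of_two_ne_zero h.two_ne) (F := F)
  -- d² = c · R⁻¹ · (d⁻¹ R⁻¹ d)
  have h1 : d * d = scalarGO h c * (isoGO Q R⁻¹ * isoGO Q (simConjHom Q d⁻¹ R⁻¹)) := by
    rw [isoGO_simConjHom, ← hR, map_inv]
    group
  have hd' : ¬ IsSquare (simMult Q d⁻¹ : F) := by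
    have : simMult Q d⁻¹ = (simMult Q d)⁻¹ := (simMultHom hne).map_inv d
    rw [this, Units.val_inv_eq_inv_val]
    intro hsq
    apply hd
    have := hsq.inv
    rwa [inv_inv] at this
  rw [h1, Subgroup.mul_mem_cancel_left _ (scalarGO_mem_innPre h hdet hN hn hker c), ← map_mul,
    isoGO_mem_innPre_iff h hdet hN hn hker hneg, ← h.ker_signPair hdet α hα, MonoidHom.mem_ker,
    map_mul, signPair_conj h hdet α hα d⁻¹ hd']
  have h2 : (toMat Q R).det = 1 ↔ (toMat Q R⁻¹).det = 1 := by
    have h3 : (toMat Q R).det * (toMat Q R⁻¹).det = 1 := by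
      rw [← Matrix.det_mul, ← map_mul, mul_inv_cancel, map_one, Matrix.det_one]
    constructor
    · intro h4; rw [h4, one_mul] at h3; exact h3
    · intro h4; rw [h4, mul_one] at h3; exact h3
  rw [h2, ← h.signChar_mul_eq_one_iff hdet α hα]
  have h0 : signPair Q α R⁻¹ = (signChar Q 1 R⁻¹, signChar Q α R⁻¹) := rfl
  rw [h0]
  generalize signChar Q 1 R⁻¹ = p1
  generalize signChar Q α R⁻¹ = p2
  revert p1 p2
  decide

/-- `GO / (Z Ω)` is dihedral of order eight when `-1 ∈ Ω` -/
theorem dihedral_equiv_quot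
    (d : ↥(Cfsg.Geo.quadSimilarityGroup (F := F) Q)) (hd : ¬ IsSquare (simMult Q d : F))
    (hneg : h.negO ∈ Cfsg.Omega F Q) :
    Nonempty (DihedralGroup 4 ≃* ↥(Cfsg.Geo.quadSimilarityGroup (F := F) Q) ⧸ innPre Q) := by
  have hne := exists_Q_eq_one h hdet hn
  obtain ⟨α, hα⟩ := FiniteField.exists_nonsquare (ringChar_ne_two_of_two_ne_zero h.two_ne) (F := F)
  have hisoN : ∀ k : ↥(Cfsg.isometryGroup F Q), isoGO Q k ∈ innPre Q ↔ signPair Q α k = 1 := by
    intro k
    rw [isoGO_mem_innPre_iff h hdet hN hn hker hneg, ← h.ker_signPair hdet α hα,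
      MonoidHom.mem_ker]
  have hNa : innPre Q ≤ (simA hne).ker := by
    intro g hg
    obtain ⟨c, s, -, rfl⟩ := (mem_innPre_iff h hne hker g).1 hg
    rw [MonoidHom.mem_ker, map_mul, simA_scalarGO h hne, simA_isoGO hne, one_mul]
  have hmkiso : ∀ k k' : ↥(Cfsg.isometryGroup F Q), signPair Q α k = signPair Q α k' →
      (QuotientGroup.mk (isoGO Q k) : ↥(Cfsg.Geo.quadSimilarityGroup (F := F) Q) ⧸ innPre Q) =
        QuotientGroup.mk (isoGO Q k') := by
    intro k k' hkk
    rw [QuotientGroup.eq, ← map_inv, ← map_mul, hisoN, map_mul, map_inv, hkk, inv_mul_cancel]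
  have hmkscalar : ∀ c : Fˣ,
      (QuotientGroup.mk (scalarGO h c) : ↥(Cfsg.Geo.quadSimilarityGroup (F := F) Q) ⧸ innPre Q)
        = 1 := by
    intro c
    rw [QuotientGroup.eq_one_iff]
    exact scalarGO_mem_innPre h hdet hN hn hker c
  obtain ⟨v₁, hv₁⟩ := h.universal hdet hn 1
  have hv₁0 : Q v₁ ≠ 0 := by rw [hv₁]; exact one_ne_zero
  have hv₂0 : Q ((d.1 : Matrix κ κ F) *ᵥ v₁) ≠ 0 := IsGram.Q_sim_ne_zero d v₁ hv₁0
  have hv₂ : ¬ IsSquare (Q ((d.1 : Matrix κ κ F) *ᵥ v₁)) := by
    rw [simMult_spec Q, hv₁, mul_one]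
    exact hd
  have e1 : signPair Q α (h.reflG v₁ hv₁0) = (-1, 1) :=
    (h.signPair_reflG v₁ hv₁0 α hα).1 (by rw [hv₁]; exact ⟨1, by ring⟩)
  have e2 : signPair Q α (h.reflG _ hv₂0) = (1, -1) :=
    (h.signPair_reflG _ hv₂0 α hα).2 hv₂
  have hconj := h.conj_reflG_sim d v₁ hv₁0
  exact dihedral_of_klein_swap
    (QuotientGroup.lift (innPre Q) (simA hne) hNa)
    (QuotientGroup.mk (isoGO Q (h.reflG v₁ hv₁0)))
    (QuotientGroup.mk d)
    (by
      rw [← QuotientGroup.mk_mul, ← map_mul, h.reflG_mul_self, map_one]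
      rfl)
    (by
      rw [← QuotientGroup.mk_inv, ← QuotientGroup.mk_mul, ← QuotientGroup.mk_mul, hconj,
        ← QuotientGroup.mk_mul, ← QuotientGroup.mk_mul, ← map_mul, ← map_mul]
      apply hmkiso
      rw [map_mul, map_mul, mul_comm])
    (by
      rw [QuotientGroup.lift_mk]
      exact simA_isoGO hne _)
    (by
      rw [QuotientGroup.lift_mk]
      exact (simA_eq_neg_one_iff hne d).2 hd)
    (by
      rw [← QuotientGroup.mk_inv, ← QuotientGroup.mk_mul, ← QuotientGroup.mk_mul, hconj]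
      intro heq
      rw [QuotientGroup.eq, ← map_inv, ← map_mul, hisoN, map_mul, map_inv, e1, e2] at heq
      exact absurd heq (by decide))
    (by
      intro g
      induction g using QuotientGroup.induction_on with
      | H g =>
        intro hg
        rw [QuotientGroup.lift_mk] at hg
        obtain ⟨c, k, rfl⟩ := exists_of_simA_eq_one h hne g hg
        rw [← QuotientGroup.mk_inv, ← QuotientGroup.mk_mul, ← QuotientGroup.mk_mul, hconj,
          ← QuotientGroup.mk_mul, ← map_mul, QuotientGroup.mk_mul, hmkscalar, one_mul]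
        have hk4 : signPair Q α k = 1 ∨ signPair Q α k = (-1, 1) ∨ signPair Q α k = (1, -1) ∨
            signPair Q α k = (-1, -1) := by
          generalize signPair Q α k = p
          revert p
          decide
        rcases hk4 with h1 | h1 | h1 | h1
        · left
          rw [QuotientGroup.eq_one_iff, hisoN]
          exact h1
        · right; left
          apply hmkiso
          rw [h1, e1]
        · right; right; left
          apply hmkiso
          rw [h1, e2]
        · right; right; right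
          apply hmkiso
          rw [h1, map_mul, e1, e2]
          rfl)

theorem index_innPre (d : ↥(Cfsg.Geo.quadSimilarityGroup (F := F) Q))
    (hd : ¬ IsSquare (simMult Q d : F)) (hneg : h.negO ∈ Cfsg.Omega F Q) :
    (innPre Q).index = 8 := by
  obtain ⟨E⟩ := dihedral_equiv_quot h hdet hN hn hker d hd hneg
  rw [Subgroup.index_eq_card, ← Nat.card_congr E.toEquiv, DihedralGroup.nat_card]

/-- the similarities whose determinant is the `N`-th power of the multiplier -/
noncomputable def simC : Subgroup ↥(Cfsg.Geo.quadSimilarityGroup (F := F) Q) :=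
  (simD h hdet (exists_Q_eq_one h hdet hn) hN).ker

theorem mem_simC_iff (g : ↥(Cfsg.Geo.quadSimilarityGroup (F := F) Q)) :
    g ∈ simC h hdet hN hn ↔ (g.1 : Matrix κ κ F).det = (simMult Q g : F) ^ N := by
  unfold simC
  rw [MonoidHom.mem_ker, simD_eq_one_iff]

theorem simD_isoGO_refl (v : κ → F) (hv : Q v ≠ 0) :
    simD h hdet (exists_Q_eq_one h hdet hn) hN (isoGO Q (h.reflG v hv)) = -1 := by
  rcases Int.units_eq_one_or (simD h hdet (exists_Q_eq_one h hdet hn) hN
    (isoGO Q (h.reflG v hv))) with h1 | h1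
  · exfalso
    rw [simD_eq_one_iff, simMult_isoGO (exists_Q_eq_one h hdet hn), Units.val_one, one_pow] at h1
    have h2 : (Cfsg.reflectionMatrix Q v).det = 1 := h1
    rw [h.det_refl v hv] at h2
    apply h.two_ne
    linear_combination -h2
  · exact h1

theorem index_simC : (simC h hdet hN hn).index = 2 := by
  unfold simC
  rw [Subgroup.index_ker]
  have hsurj : Function.Surjective (simD h hdet (exists_Q_eq_one h hdet hn) hN) := by
    obtain ⟨v₁, hv₁⟩ := h.universal hdet hn 1
    have hv₁0 : Q v₁ ≠ 0 := by rw [hv₁]; exact one_ne_zero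
    intro u
    rcases Int.units_eq_one_or u with rfl | rfl
    · exact ⟨1, map_one _⟩
    · exact ⟨_, simD_isoGO_refl h hdet hN hn hker v₁ hv₁0⟩
  rw [MonoidHom.range_eq_top.2 hsurj, Subgroup.card_top, Nat.card_eq_fintype_card]
  rfl

theorem innPre_le_simC : innPre Q ≤ simC h hdet hN hn := by
  intro g hg
  have hne := exists_Q_eq_one h hdet hn
  obtain ⟨α, hα⟩ := FiniteField.exists_nonsquare (ringChar_ne_two_of_two_ne_zero h.two_ne) (F := F)
  obtain ⟨c, s, hs, rfl⟩ := (mem_innPre_iff h hne hker g).1 hg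
  unfold simC
  rw [MonoidHom.mem_ker, map_mul]
  have h1 : simPsi h hdet hne hN (scalarGO h c) = 1 := simPsi_scalarGO h hdet hne hN c
  have h2 : simD h hdet hne hN (scalarGO h c) = 1 := congrArg Prod.snd h1
  have h3 : simPsi h hdet hne hN (isoGO Q s) = 1 := by
    rw [simPsi_isoGO, ← h.signChar_mul_eq_one_iff hdet α hα,
      signChar_eq_one_of_mem_omega Q 1 s hs, signChar_eq_one_of_mem_omega Q α s hs, one_mul]
  have h4 : simD h hdet hne hN (isoGO Q s) = 1 := congrArg Prod.snd h3
  rw [h2, h4, one_mul]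

theorem relIndex_innPre_simC (d : ↥(Cfsg.Geo.quadSimilarityGroup (F := F) Q))
    (hd : ¬ IsSquare (simMult Q d : F)) (hneg : h.negO ∈ Cfsg.Omega F Q) :
    (innPre Q).relIndex (simC h hdet hN hn) = 4 := by
  have h1 := Subgroup.relIndex_mul_index (innPre_le_simC h hdet hN hn hker)
  rw [index_simC h hdet hN hn hker, index_innPre h hdet hN hn hker d hd hneg] at h1
  omega

end withKer

/-- `ℤˣ` is cyclic of order two -/
def unitsFun : ℤˣ → Multiplicative (ZMod 2) := fun p =>
  Multiplicative.ofAdd (if p = 1 then 0 else 1)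

theorem unitsFun_mul : ∀ p q : ℤˣ, unitsFun (p * q) = unitsFun p * unitsFun q := by decide

theorem unitsFun_bij : Function.Bijective unitsFun := by decide

noncomputable def unitsEquiv : ℤˣ ≃* Multiplicative (ZMod 2) :=
  MulEquiv.ofBijective (MonoidHom.mk' unitsFun unitsFun_mul) unitsFun_bij

/-- transfer a quotient description of a subgroup `C` of the conformal group to its image -/
theorem transfer_sub {D : Type*} [Group D]
    (C : Subgroup ↥(Cfsg.Geo.quadSimilarityGroup (F := F) Q)) (hNC : innPre Q ≤ C)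
    (ψ : ↥C →* D) (hψ : Function.Surjective ψ) (hψk : ψ.ker = (innPre Q).subgroupOf C) :
    ∃ φ : ↥(C.map (Phi Q)) →* D, Function.Surjective φ ∧
      φ.ker = (Cfsg.Inn (Cfsg.POmega F Q)).subgroupOf (C.map (Phi Q)) := by
  have hΦker : ((Phi Q).comp C.subtype).ker ≤ ψ.ker := by
    rw [hψk]
    intro g hg
    rw [MonoidHom.mem_ker, MonoidHom.comp_apply] at hg
    rw [Subgroup.mem_subgroupOf]
    unfold innPre
    rw [Subgroup.mem_comap]
    have : (Phi Q) (C.subtype g) = 1 := hg
    rw [Subgroup.coe_subtype] at this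
    rw [this]
    exact Subgroup.one_mem _
  obtain ⟨φ, hφs, hφk⟩ := transfer_hom ((Phi Q).comp C.subtype) ψ hψ hΦker
  have hrange : ((Phi Q).comp C.subtype).range = C.map (Phi Q) := by
    rw [MonoidHom.range_comp, Subgroup.range_subtype]
  have hmap : ψ.ker.map ((Phi Q).comp C.subtype) = Cfsg.Inn (Cfsg.POmega F Q) ⊓ (Phi Q).range := by
    rw [hψk, ← Subgroup.map_map, Subgroup.subgroupOf_map_subtype, inf_eq_left.2 hNC]
    unfold innPre
    rw [Subgroup.map_comap_eq, inf_comm]
  rw [hmap] at hφk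
  have key : ∀ R : Subgroup (MulAut (Cfsg.POmega F Q)), R = ((Phi Q).comp C.subtype).range →
      R ≤ (Phi Q).range →
      ∃ φ : ↥R →* D, Function.Surjective φ ∧
        φ.ker = (Cfsg.Inn (Cfsg.POmega F Q)).subgroupOf R := by
    rintro R rfl hR
    refine ⟨φ, hφs, ?_⟩
    rw [hφk]
    ext x
    rw [Subgroup.mem_subgroupOf, Subgroup.mem_subgroupOf, Subgroup.mem_inf]
    constructor
    · intro hx; exact hx.1
    · intro hx; exact ⟨hx, hR x.2⟩
  exact key _ hrange.symm (Subgroup.map_le_range _ _)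

/-- the subgroup generated by the automorphisms induced by a subgroup of similarities cut out
by a predicate -/
theorem autSubgroupOf_eq_map (P : GL κ F → Prop)
    (C : Subgroup ↥(Cfsg.Geo.quadSimilarityGroup (F := F) Q))
    (hP : ∀ g : ↥(Cfsg.Geo.quadSimilarityGroup (F := F) Q), P g.1 ↔ g ∈ C) :
    Cfsg.autSubgroupOf (fun β : Cfsg.POmega F Q ≃* Cfsg.POmega F Q =>
      ∃ g : GL κ F, g ∈ Cfsg.Geo.quadSimilarityGroup (F := F) Q ∧ P g ∧
        Cfsg.IsInducedBySemilinearPOmega Q g (RingEquiv.refl F) β) = C.map (Phi Q) := by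
  unfold Cfsg.autSubgroupOf
  have : {β : MulAut (Cfsg.POmega F Q) | ∃ g : GL κ F,
      g ∈ Cfsg.Geo.quadSimilarityGroup (F := F) Q ∧ P g ∧
        Cfsg.IsInducedBySemilinearPOmega Q g (RingEquiv.refl F) β}
      = ((C.map (Phi Q) : Subgroup _) : Set (MulAut (Cfsg.POmega F Q))) := by
    ext β
    constructor
    · rintro ⟨g, hg, hPg, hβ⟩
      rw [isInduced_iff Q g hg] at hβ
      exact ⟨⟨g, hg⟩, (hP ⟨g, hg⟩).1 hPg, hβ.symm⟩
    · rintro ⟨g, hg, rfl⟩
      exact ⟨g.1, g.2, (hP g).2 hg, (isInduced_iff Q g.1 g.2 _).2 rfl⟩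
  rw [this, Subgroup.closure_eq]

section withKer2

variable (h : IsGram Q G) (hdet : G.det ≠ 0) {N : ℕ} (hN : Fintype.card κ = 2 * N)
  (hn : 2 ≤ Fintype.card κ)
  (hker : ∀ g : ↥(Cfsg.Geo.quadSimilarityGroup (F := F) Q),
      Phi Q g = 1 ↔ ∃ c : F, ((g.1 : GL κ F) : Matrix κ κ F) = c • (1 : Matrix κ κ F))

include h hdet hN hn hker

/-- when `-1 ∉ Ω`, the similarities inducing inner automorphisms are the scalars times `SO` -/
theorem innPre_eq_ker (hneg : h.negO ∉ Cfsg.Omega F Q) :
    innPre Q = (simPsi h hdet (exists_Q_eq_one h hdet hn) hN).ker := by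
  have hne := exists_Q_eq_one h hdet hn
  have h1 := (inn_relIndex_pso h hdet hN hn hker).2 (by rw [negOne_iff h]; exact hneg)
  rw [Subgroup.relIndex_eq_one] at h1
  have heq : Cfsg.Inn (Cfsg.POmega F Q) = Cfsg.psoAut F Q :=
    le_antisymm (inn_le_psoAut h hdet) h1
  ext g
  unfold innPre
  rw [Subgroup.mem_comap, heq, mem_psoAut_iff, MonoidHom.mem_ker]
  constructor
  · rintro ⟨k, hk, hgk⟩
    obtain ⟨c, rfl⟩ := Phi_eq_imp h hne hker _ _ hgk
    rw [map_mul, simPsi_scalarGO, one_mul, simPsi_isoGO]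
    exact hk
  · intro hg
    obtain ⟨c, k, hk, rfl⟩ := exists_of_simPsi_eq_one h hdet hne hN g hg
    refine ⟨k, hk, ?_⟩
    rw [map_mul, Phi_scalarGO h hker, one_mul]

/-- the image of the class-preserving similarities modulo the inner automorphisms, case
`-1 ∉ Ω` -/
theorem inndiag_mod_inn_two
    (d : ↥(Cfsg.Geo.quadSimilarityGroup (F := F) Q)) (hd : ¬ IsSquare (simMult Q d : F))
    (hdC : d ∈ simC h hdet hN hn) (hneg : h.negO ∉ Cfsg.Omega F Q) :
    ∃ φ : ↥((simC h hdet hN hn).map (Phi Q)) →* Multiplicative (ZMod 2),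
      Function.Surjective φ ∧
      φ.ker = (Cfsg.Inn (Cfsg.POmega F Q)).subgroupOf ((simC h hdet hN hn).map (Phi Q)) := by
  have hne := exists_Q_eq_one h hdet hn
  apply transfer_sub (simC h hdet hN hn) (innPre_le_simC h hdet hN hn hker)
    (unitsEquiv.toMonoidHom.comp ((simA hne).comp (simC h hdet hN hn).subtype))
  · apply unitsEquiv.surjective.comp
    intro u
    rcases Int.units_eq_one_or u with rfl | rfl
    · exact ⟨1, map_one _⟩
    · exact ⟨⟨d, hdC⟩, (simA_eq_neg_one_iff hne d).2 hd⟩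
  · ext g
    rw [MonoidHom.mem_ker, MonoidHom.comp_apply,
      show unitsEquiv.toMonoidHom (((simA hne).comp (simC h hdet hN hn).subtype) g) = 1 ↔
        ((simA hne).comp (simC h hdet hN hn).subtype) g = 1 from unitsEquiv.map_eq_one_iff,
      Subgroup.mem_subgroupOf, innPre_eq_ker h hdet hN hn hker hneg, MonoidHom.mem_ker]
    have hg2 : simD h hdet hne hN g.1 = 1 := g.2
    constructor
    · intro h1
      exact Prod.ext h1 hg2
    · intro h1
      exact congrArg Prod.fst h1

theorem card_quot_simC (d : ↥(Cfsg.Geo.quadSimilarityGroup (F := F) Q))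
    (hd : ¬ IsSquare (simMult Q d : F)) (hneg : h.negO ∈ Cfsg.Omega F Q) :
    Nat.card (↥(simC h hdet hN hn) ⧸ (innPre Q).subgroupOf (simC h hdet hN hn)) = 4 := by
  rw [← Subgroup.index_eq_card]
  exact relIndex_innPre_simC h hdet hN hn hker d hd hneg

/-- transfer from an isomorphism of `C / N` -/
theorem inndiag_of_equiv {D : Type*} [Group D]
    (E : (↥(simC h hdet hN hn) ⧸ (innPre Q).subgroupOf (simC h hdet hN hn)) ≃* D) :
    ∃ φ : ↥((simC h hdet hN hn).map (Phi Q)) →* D,
      Function.Surjective φ ∧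
      φ.ker = (Cfsg.Inn (Cfsg.POmega F Q)).subgroupOf ((simC h hdet hN hn).map (Phi Q)) := by
  apply transfer_sub (simC h hdet hN hn) (innPre_le_simC h hdet hN hn hker)
    (E.toMonoidHom.comp (QuotientGroup.mk' ((innPre Q).subgroupOf (simC h hdet hN hn))))
  · exact E.surjective.comp (QuotientGroup.mk'_surjective _)
  · ext g
    rw [MonoidHom.mem_ker, MonoidHom.comp_apply,
      show E.toMonoidHom (QuotientGroup.mk' ((innPre Q).subgroupOf (simC h hdet hN hn)) g) = 1 ↔
        QuotientGroup.mk' ((innPre Q).subgroupOf (simC h hdet hN hn)) g = 1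
        from E.map_eq_one_iff]
    exact QuotientGroup.eq_one_iff g

/-- case `-1 ∈ Ω`, `d² ∉ Z Ω`: cyclic of order four -/
theorem inndiag_mod_inn_four
    (d : ↥(Cfsg.Geo.quadSimilarityGroup (F := F) Q)) (hd : ¬ IsSquare (simMult Q d : F))
    (hdC : d ∈ simC h hdet hN hn) (hneg : h.negO ∈ Cfsg.Omega F Q)
    (hd2 : d * d ∉ innPre Q) :
    ∃ φ : ↥((simC h hdet hN hn).map (Phi Q)) →* Multiplicative (ZMod 4),
      Function.Surjective φ ∧
      φ.ker = (Cfsg.Inn (Cfsg.POmega F Q)).subgroupOf ((simC h hdet hN hn).map (Phi Q)) := by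
  have hcard := card_quot_simC h hdet hN hn hker d hd hneg
  haveI : Finite (↥(simC h hdet hN hn) ⧸ (innPre Q).subgroupOf (simC h hdet hN hn)) :=
    Nat.finite_of_card_ne_zero (by rw [hcard]; norm_num)
  obtain ⟨x, hx⟩ : ∃ x : ↥(simC h hdet hN hn) ⧸ (innPre Q).subgroupOf (simC h hdet hN hn),
      x = QuotientGroup.mk ⟨d, hdC⟩ := ⟨_, rfl⟩
  have hx2 : x ^ 2 ≠ 1 := by
    rw [hx, pow_two, ← QuotientGroup.mk_mul, Ne, QuotientGroup.eq_one_iff,
      Subgroup.mem_subgroupOf]
    exact hd2
  have hord : orderOf x = 4 := by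
    have h1 : orderOf x ∣ 4 := by rw [← hcard]; exact orderOf_dvd_natCard x
    have h2 : ¬ orderOf x ∣ 2 := by rw [orderOf_dvd_iff_pow_eq_one]; exact hx2
    have h3 : orderOf x ≤ 4 := Nat.le_of_dvd (by norm_num) h1
    have h4 : 0 < orderOf x := Nat.pos_of_dvd_of_pos h1 (by norm_num)
    interval_cases (orderOf x)
    · exact absurd (one_dvd 2) h2
    · exact absurd (dvd_refl 2) h2
    · norm_num at h1
    · rfl
  have hcyc : IsCyclic (↥(simC h hdet hN hn) ⧸ (innPre Q).subgroupOf (simC h hdet hN hn)) :=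
    isCyclic_of_orderOf_eq_card x (by rw [hord, hcard])
  have E : Nonempty ((↥(simC h hdet hN hn) ⧸ (innPre Q).subgroupOf (simC h hdet hN hn)) ≃*
      Multiplicative (ZMod 4)) := by
    rw [← hcard]
    exact ⟨(zmodCyclicMulEquiv hcyc).symm⟩
  obtain ⟨E⟩ := E
  exact inndiag_of_equiv h hdet hN hn hker E

/-- case `-1 ∈ Ω`, `d² ∈ Z Ω`: a four-group -/
theorem inndiag_mod_inn_klein
    (d : ↥(Cfsg.Geo.quadSimilarityGroup (F := F) Q)) (hd : ¬ IsSquare (simMult Q d : F))
    (hdC : d ∈ simC h hdet hN hn) (hneg : h.negO ∈ Cfsg.Omega F Q)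
    (hd2 : d * d ∈ innPre Q) :
    ∃ φ : ↥((simC h hdet hN hn).map (Phi Q)) →* Multiplicative (ZMod 2 × ZMod 2),
      Function.Surjective φ ∧
      φ.ker = (Cfsg.Inn (Cfsg.POmega F Q)).subgroupOf ((simC h hdet hN hn).map (Phi Q)) := by
  have hne := exists_Q_eq_one h hdet hn
  obtain ⟨α, hα⟩ := FiniteField.exists_nonsquare (ringChar_ne_two_of_two_ne_zero h.two_ne) (F := F)
  have hcard := card_quot_simC h hdet hN hn hker d hd hneg
  haveI : Finite (↥(simC h hdet hN hn) ⧸ (innPre Q).subgroupOf (simC h hdet hN hn)) :=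
    Nat.finite_of_card_ne_zero (by rw [hcard]; norm_num)
  have hcomm : ∀ a b : ↥(simC h hdet hN hn) ⧸ (innPre Q).subgroupOf (simC h hdet hN hn),
      a * b = b * a := by
    haveI : Fact (Nat.Prime 2) := ⟨Nat.prime_two⟩
    exact IsPGroup.commutative_of_card_eq_prime_sq (p := 2) (by rw [hcard]; norm_num)
  -- squares of elements with square multiplier
  have hsq1 : ∀ g : ↥(simC h hdet hN hn), simA hne g.1 = 1 →
      (QuotientGroup.mk g : ↥(simC h hdet hN hn) ⧸ (innPre Q).subgroupOf (simC h hdet hN hn)) *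
        QuotientGroup.mk g = 1 := by
    intro g hg
    rw [← QuotientGroup.mk_mul, QuotientGroup.eq_one_iff, Subgroup.mem_subgroupOf]
    show g.1 * g.1 ∈ innPre Q
    obtain ⟨c, k, hk⟩ := exists_of_simA_eq_one h hne g.1 hg
    have h1 : g.1 * g.1 = scalarGO h c * (scalarGO h c * isoGO Q (k * k)) := by
      rw [hk, map_mul]
      calc scalarGO h c * isoGO Q k * (scalarGO h c * isoGO Q k)
          = scalarGO h c * (isoGO Q k * scalarGO h c) * isoGO Q k := by group
        _ = scalarGO h c * (scalarGO h c * isoGO Q k) * isoGO Q k := by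
            rw [scalarGO_comm h c (isoGO Q k)]
        _ = scalarGO h c * (scalarGO h c * (isoGO Q k * isoGO Q k)) := by group
    rw [h1, Subgroup.mul_mem_cancel_left _ (scalarGO_mem_innPre h hdet hN hn hker c),
      Subgroup.mul_mem_cancel_left _ (scalarGO_mem_innPre h hdet hN hn hker c),
      isoGO_mem_innPre_iff h hdet hN hn hker hneg, ← h.ker_signPair hdet α hα,
      MonoidHom.mem_ker, map_mul]
    generalize signPair Q α k = p
    revert p
    decide
  have hsq : ∀ x : ↥(simC h hdet hN hn) ⧸ (innPre Q).subgroupOf (simC h hdet hN hn),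
      x * x = 1 := by
    intro x
    induction x using QuotientGroup.induction_on with
    | H g =>
      rcases Int.units_eq_one_or (simA hne g.1) with h1 | h1
      · exact hsq1 g h1
      · obtain ⟨dC, hdCdef⟩ : ∃ dC : ↥(simC h hdet hN hn), dC = ⟨d, hdC⟩ := ⟨_, rfl⟩
        have hd1 : (QuotientGroup.mk dC :
            ↥(simC h hdet hN hn) ⧸ (innPre Q).subgroupOf (simC h hdet hN hn)) *
            QuotientGroup.mk dC = 1 := by
          rw [← QuotientGroup.mk_mul, QuotientGroup.eq_one_iff, Subgroup.mem_subgroupOf, hdCdef]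
          exact hd2
        have h2 : simA hne (dC⁻¹ * g).1 = 1 := by
          rw [Subgroup.coe_mul, Subgroup.coe_inv, map_mul, map_inv, h1, hdCdef]
          have : simA hne d = -1 := (simA_eq_neg_one_iff hne d).2 hd
          show (simA hne d)⁻¹ * -1 = 1
          rw [this]
          decide
        have h3 := hsq1 _ h2
        have h4 : (QuotientGroup.mk g :
            ↥(simC h hdet hN hn) ⧸ (innPre Q).subgroupOf (simC h hdet hN hn)) =
            QuotientGroup.mk dC * QuotientGroup.mk (dC⁻¹ * g) := by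
          rw [← QuotientGroup.mk_mul]
          congr 1
          group
        rw [h4]
        obtain ⟨a, ha⟩ : ∃ a : ↥(simC h hdet hN hn) ⧸ (innPre Q).subgroupOf (simC h hdet hN hn),
            a = QuotientGroup.mk dC := ⟨_, rfl⟩
        obtain ⟨b, hb⟩ : ∃ b : ↥(simC h hdet hN hn) ⧸ (innPre Q).subgroupOf (simC h hdet hN hn),
            b = QuotientGroup.mk (dC⁻¹ * g) := ⟨_, rfl⟩
        rw [← hb] at h3
        rw [← ha] at hd1
        rw [← ha, ← hb]
        calc a * b * (a * b) = a * (b * a) * b := by group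
          _ = a * (a * b) * b := by rw [hcomm b a]
          _ = (a * a) * (b * b) := by group
          _ = 1 := by rw [hd1, h3, one_mul]
  haveI : Nontrivial (↥(simC h hdet hN hn) ⧸ (innPre Q).subgroupOf (simC h hdet hN hn)) := by
    rw [← Finite.one_lt_card_iff_nontrivial, hcard]
    norm_num
  have hexp : Monoid.exponent
      (↥(simC h hdet hN hn) ⧸ (innPre Q).subgroupOf (simC h hdet hN hn)) = 2 := by
    rw [Monoid.exponent_eq_prime_iff Nat.prime_two]
    intro g hg
    apply orderOf_eq_prime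
    · rw [pow_two]; exact hsq g
    · exact hg
  haveI : IsKleinFour (↥(simC h hdet hN hn) ⧸ (innPre Q).subgroupOf (simC h hdet hN hn)) :=
    ⟨hcard, hexp⟩
  obtain ⟨E⟩ := IsKleinFour.nonempty_mulEquiv
    (G₁ := ↥(simC h hdet hN hn) ⧸ (innPre Q).subgroupOf (simC h hdet hN hn))
    (G₂ := Multiplicative (ZMod 2 × ZMod 2))
  exact inndiag_of_equiv h hdet hN hn hker E

end withKer2

end Cfsg.Agent.Lib.Helper37
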