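import Mathlib
import Cfsg.Agent.Lib.Helper37.OrthField5
import Cfsg.Agent.Lib.Helper5.AutPSLnFieldCent

set_option autoImplicit false
set_option linter.unusedSectionVars false
set_option linter.unusedVariables false

/-!
# Conjugating elements of prime order in a field-automorphism coset to the field automorphism
-/

namespace Cfsg.Agent.Lib.Helper37.OrthField

open Matrix Module QuadraticMap
open Cfsg.Agent.Lib.Helper37
open Cfsg.Agent.Lib.Helper8 Cfsg.Agent.Lib.Helper13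

universe u

variable {ι : Type} [Fintype ι] [DecidableEq ι] {F : Type u} [Field F]

/-- the classification hypothesis: all rational forms of `Q` over the fixed field of `σ` are
similar to one rational form -/
def Hcls (Q : QuadraticForm F (ι → F)) (σ : F ≃+* F) : Prop :=
  ∀ (F₁ : Subfield F), (∀ a, a ∈ F₁ ↔ σ a = a) →
    ∃ Q₁ : QuadraticForm F₁ (ι → F₁), (∀ w, ((Q₁ w : F₁) : F) = Q (jv F₁.subtype w)) ∧
      ∀ (P₀ : QuadraticForm F₁ (ι → F₁)) (b : GL ι F) (μ : Fˣ),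
        (∀ w, ((P₀ w : F₁) : F) = μ * Q ((b : Matrix ι ι F) *ᵥ jv F₁.subtype w)) →
          ∃ (k₀ : GL ι F₁) (l : F₁ˣ), ∀ w, P₀ ((k₀ : Matrix ι ι F₁) *ᵥ w) = l * Q₁ w

theorem eq_sc_of (p : GamL ι F) (hr : p.right = 1) (c : F)
    (hc : ((p.left : GL ι F) : Matrix ι ι F) = c • (1 : Matrix ι ι F)) [Nonempty ι] :
    ∃ c' : Fˣ, p = sc c' := by
  have hc0 : c ≠ 0 := by
    rintro rfl
    rw [zero_smul] at hc
    have h1 := p.left.isUnit
    have h2 : IsUnit ((p.left : GL ι F) : Matrix ι ι F) := ⟨p.left, rfl⟩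
    rw [hc] at h2
    exact not_isUnit_zero h2
  refine ⟨Units.mk0 c hc0, ?_⟩
  apply sm_injective
  · rw [hr, sc_right]
  · intro v
    rw [sm_sc]
    unfold sm
    rw [hr, vm_one, hc, Matrix.smul_mulVec, Matrix.one_mulVec]
    rfl

section main

variable [Fintype F] [Nonempty ι] (Q : QuadraticForm F (ι → F))
  (hQ : (QuadraticMap.polarBilin Q).Nondegenerate) {k : ℕ} {e f : Fin k → ι → F}
  (hfam : HypFam Q k e f) (hk : 3 ≤ k)
  (hcard : Fintype.card F ≠ 2 ∨ finrank F (ι → F) ≠ 4)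
  (hn5 : 5 ≤ finrank F (ι → F)) (hn2 : (2 : F) = 0 → 7 ≤ finrank F (ι → F))

include hQ hfam hk hcard hn5 hn2

theorem Psi_sc (c : Fˣ) (h : (sc c : GamL ι F) ∈ semiO ⇑Q) : Psi ⇑Q ⟨sc c, h⟩ = 1 := by
  rw [Psi_eq_one_iff Q hQ hfam hk hcard hn5 hn2]
  exact ⟨sc_right c, (c : F), sc_left c⟩

/-- an automorphism `Ψ(p)` of prime order `r` with non-trivial field part: the field part has
order `r` and `p ^ r` is a scalar -/
theorem order_facts (p : ↥(semiO ⇑Q)) (r : ℕ) (hr : r.Prime) (hpr : (Psi ⇑Q p) ^ r = 1)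
    (hσ : p.1.right ≠ 1) :
    orderOf p.1.right = r ∧ ∃ c : Fˣ, p.1 ^ r = sc c := by
  have h1 : Psi ⇑Q (p ^ r) = 1 := by rw [map_pow, hpr]
  obtain ⟨h2, c, hc⟩ := (Psi_eq_one_iff Q hQ hfam hk hcard hn5 hn2 _).1 h1
  rw [Subgroup.coe_pow] at h2 hc
  constructor
  · rw [pow_right] at h2
    have h3 := orderOf_dvd_of_pow_eq_one h2
    rcases (Nat.dvd_prime hr).1 h3 with h4 | h4
    · exact absurd (orderOf_eq_one_iff.1 h4) hσ
    · exact h4
  · exact eq_sc_of _ h2 c hc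

/-- the field automorphism attached to `σ`, for a form with `σ`-invariant coefficients -/
def phiF (σ : F ≃+* F) (hσQ : ∀ v, Q (vm σ v) = σ (Q v)) : MulAut (Cfsg.POmega F ⇑Q) :=
  Psi ⇑Q ⟨SemidirectProduct.inr σ, inr_mem_semiO ⇑Q σ hσQ⟩

omit hQ hfam hk hcard hn5 hn2 in
theorem phiF_def (σ : F ≃+* F) (hσQ : ∀ v, Q (vm σ v) = σ (Q v)) :
    phiF Q σ hσQ = Psi ⇑Q ⟨SemidirectProduct.inr σ, inr_mem_semiO ⇑Q σ hσQ⟩ := rfl

/-- conjugating to the field automorphism -/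
theorem conj_to_field (p : ↥(semiO ⇑Q)) (r : ℕ) (hr : r.Prime) (hpr : (Psi ⇑Q p) ^ r = 1)
    (hσ : p.1.right ≠ 1) (hσQ : ∀ v, Q (vm p.1.right v) = p.1.right (Q v))
    (hcls : Hcls Q p.1.right) :
    ∃ t : ↥(Cfsg.Geo.quadSimilarityGroup (F := F) ⇑Q),
      Psi ⇑Q p = Phi ⇑Q t * phiF Q p.1.right hσQ * (Phi ⇑Q t)⁻¹ := by
  obtain ⟨hord, c, hc⟩ := order_facts Q hQ hfam hk hcard hn5 hn2 p r hr hpr hσ
  obtain ⟨F₁, hF₁, -⟩ := Cfsg.Agent.Lib.Helper5.AutPSLn.exists_fixed_subfield p.1.right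
  obtain ⟨Q₁, hQ₁, hc1⟩ := hcls F₁ hF₁
  have hj : ∀ a, p.1.right a = a ↔ a ∈ Set.range F₁.subtype := by
    intro a
    rw [← hF₁]
    constructor
    · intro h; exact ⟨⟨a, h⟩, rfl⟩
    · rintro ⟨b, rfl⟩; exact b.2
  have hne : ∃ v, Q v ≠ 0 := by
    obtain ⟨h1, -, -⟩ := hfam.compl_vec ⟨0, by omega⟩ 1
    exact ⟨_, by rw [h1]; exact one_ne_zero⟩
  obtain ⟨t, z, ht, hrel⟩ := master F₁.subtype Q Q₁ hQ₁ hne p.1.right hj r hord hr.pos hc1
    p.1 p.2 rfl c hc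
  refine ⟨⟨t, ht⟩, ?_⟩
  have hzm : (sc z : GamL ι F) ∈ semiO ⇑Q := sc_mem_semiO Q z
  have hrel' : (⟨sc z, hzm⟩ : ↥(semiO ⇑Q)) * p * simToSemi ⇑Q ⟨t, ht⟩
      = simToSemi ⇑Q ⟨t, ht⟩ * ⟨SemidirectProduct.inr p.1.right, inr_mem_semiO ⇑Q _ hσQ⟩ := by
    apply Subtype.ext
    exact hrel
  have h3 := congrArg (Psi ⇑Q) hrel'
  rw [map_mul, map_mul, map_mul, Psi_sc Q hQ hfam hk hcard hn5 hn2 z hzm, one_mul,
    Psi_simToSemi] at h3
  rw [phiF_def, ← h3]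
  group

end main

end Cfsg.Agent.Lib.Helper37.OrthField
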