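import Mathlib
import Cfsg.Agent.Lib.Helper37.OrthField6

set_option autoImplicit false
set_option linter.unusedSectionVars false
set_option linter.unusedVariables false

/-!
# Field automorphism classes and the coset conjugacy theorem (no class condition)
-/

namespace Cfsg.Agent.Lib.Helper37.OrthField

open Matrix Module QuadraticMap
open Cfsg.Agent.Lib.Helper37
open Cfsg.Agent.Lib.Helper8 Cfsg.Agent.Lib.Helper13

universe u

variable {ι : Type} [Fintype ι] [DecidableEq ι] {F : Type u} [Field F]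

/-- every automorphism of `PΩ(Q)` is induced by a semisimilarity -/
def AutSemi (Q : (ι → F) → F) : Prop :=
  ∀ α : MulAut (Cfsg.POmega F Q), ∃ p : ↥(semiO Q), α = Psi Q p

theorem autSemi_of_raw (Q : (ι → F) → F)
    (h : ∀ α : MulAut (Cfsg.POmega F Q), ∃ (g : GL ι F) (σ : F ≃+* F),
      Cfsg.IsSemisimilarityPair Q g σ ∧ Cfsg.IsInducedBySemilinearPOmega Q g σ α) :
    AutSemi Q := by
  intro α
  obtain ⟨g, σ, h1, h2⟩ := h α
  refine ⟨⟨⟨g, σ⟩, h1⟩, ?_⟩
  exact (isInduced_iff_Psi Q ⟨⟨g, σ⟩, h1⟩ α).1 h2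

theorem isFieldAutOf_iff (Q : (ι → F) → F) (σ : F ≃+* F) (hσQ : ∀ v, Q (vm σ v) = σ (Q v))
    (φ : MulAut (Cfsg.POmega F Q)) :
    Cfsg.IsFieldAutPOmegaOf Q σ φ ↔
      φ = Psi Q ⟨SemidirectProduct.inr σ, inr_mem_semiO Q σ hσQ⟩ := by
  rw [← isInduced_iff_Psi]
  unfold Cfsg.IsFieldAutPOmegaOf Cfsg.IsInducedBySemilinearPOmega
  have : ∀ M : Matrix ι ι F,
      (((SemidirectProduct.inr σ : GamL ι F).left : GL ι F) : Matrix ι ι F) * M *
        ((((SemidirectProduct.inr σ : GamL ι F).left)⁻¹ : GL ι F) : Matrix ι ι F) = M := by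
    intro M
    rw [SemidirectProduct.left_inr, inv_one, Units.val_one, Matrix.one_mul, Matrix.mul_one]
  simp only [this, SemidirectProduct.right_inr]

section main

variable [Fintype F] [Nonempty ι] (Q : QuadraticForm F (ι → F))
  (hQ : (QuadraticMap.polarBilin Q).Nondegenerate) {k : ℕ} {e f : Fin k → ι → F}
  (hfam : HypFam Q k e f) (hk : 3 ≤ k)
  (hcard : Fintype.card F ≠ 2 ∨ finrank F (ι → F) ≠ 4)
  (hn5 : 5 ≤ finrank F (ι → F)) (hn2 : (2 : F) = 0 → 7 ≤ finrank F (ι → F))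

include hQ hfam hk hcard hn5 hn2

/-- a field automorphism (as a class) is induced by a pair with non-trivial field part -/
theorem field_class_pair (hAut : AutSemi ⇑Q) (hinv : ∀ (σ : F ≃+* F) v, Q (vm σ v) = σ (Q v))
    (x : MulAut (Cfsg.POmega F ⇑Q)) (hx : Cfsg.IsFieldAutClassPOmega ⇑Q x) :
    ∃ p : ↥(semiO ⇑Q), x = Psi ⇑Q p ∧ p.1.right ≠ 1 := by
  obtain ⟨α, φ, σ', hσ', hφ, hconj⟩ := hx
  obtain ⟨pα, rfl⟩ := hAut α
  obtain ⟨px, rfl⟩ := hAut x
  refine ⟨px, rfl, ?_⟩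
  intro h1
  rw [isFieldAutOf_iff ⇑Q σ' (hinv σ')] at hφ
  rw [hφ, ← map_inv, ← map_mul, ← map_mul] at hconj
  have h2 := right_eq_of_Psi_eq Q hQ hfam hk hcard hn5 hn2 _ _ hconj
  simp only [Subgroup.coe_mul, Subgroup.coe_inv, SemidirectProduct.mul_right,
    SemidirectProduct.inv_right, SemidirectProduct.right_inr, h1, mul_one, mul_inv_cancel] at h2
  exact hσ' h2.symm

/-- coset conjugacy when the inner-diagonal group is the whole image of the similarity group -/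
theorem coset_conj_all (hAut : AutSemi ⇑Q) (hinv : ∀ (σ : F ≃+* F) v, Q (vm σ v) = σ (Q v))
    (hcls : ∀ σ : F ≃+* F, Hcls Q σ)
    (x δ : MulAut (Cfsg.POmega F ⇑Q)) (hx : Cfsg.IsFieldAutClassPOmega ⇑Q x)
    {r : ℕ} (hr : r.Prime) (hxr : orderOf x = r) (hδ : δ ∈ (Phi ⇑Q).range) :
    orderOf (δ * x) = r ↔ Cfsg.IsConjUnder (Phi ⇑Q).range x (δ * x) := by
  constructor
  · intro hy
    obtain ⟨px, hpx, hσ⟩ := field_class_pair Q hQ hfam hk hcard hn5 hn2 hAut hinv x hx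
    obtain ⟨d, rfl⟩ := hδ
    have hxr' : (Psi ⇑Q px) ^ r = 1 := by rw [← hpx, ← hxr]; exact pow_orderOf_eq_one x
    obtain ⟨t, ht⟩ := conj_to_field Q hQ hfam hk hcard hn5 hn2 px r hr hxr' hσ
      (hinv px.1.right) (hcls px.1.right)
    set py : ↥(semiO ⇑Q) := simToSemi ⇑Q d * px with hpy
    have hpy1 : Phi ⇑Q d * x = Psi ⇑Q py := by
      rw [hpy, map_mul, Psi_simToSemi, hpx]
    have hpyr : py.1.right = px.1.right := by
      rw [hpy, Subgroup.coe_mul, SemidirectProduct.mul_right, simToSemi_right, one_mul]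
    have hyr' : (Psi ⇑Q py) ^ r = 1 := by rw [← hpy1, ← hy]; exact pow_orderOf_eq_one _
    have hσy : py.1.right ≠ 1 := by rw [hpyr]; exact hσ
    obtain ⟨t', ht'⟩ := conj_to_field Q hQ hfam hk hcard hn5 hn2 py r hr hyr' hσy
      (hinv py.1.right) (hcls py.1.right)
    have hphi : phiF Q py.1.right (hinv py.1.right) = phiF Q px.1.right (hinv px.1.right) := by
      unfold phiF
      congr 2
    refine ⟨Phi ⇑Q t' * (Phi ⇑Q t)⁻¹, ?_, ?_⟩
    · exact (Phi ⇑Q).range.mul_mem ⟨t', rfl⟩ ((Phi ⇑Q).range.inv_mem ⟨t, rfl⟩)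
    · rw [hpy1, ht', hphi, hpx, ht]
      group
  · rintro ⟨h, -, hh⟩
    rw [hh, ← hxr]
    have := MulEquiv.orderOf_eq (MulAut.conj h) x
    rwa [MulAut.conj_apply] at this

end main

end Cfsg.Agent.Lib.Helper37.OrthField
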