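import Mathlib
import Cfsg.Agent.Lib.Helper37.OrthField7

set_option autoImplicit false
set_option linter.unusedSectionVars false
set_option linter.unusedVariables false

/-!
# The centralizer of a field automorphism in the image of the similarity group
-/

namespace Cfsg.Agent.Lib.Helper37.OrthField

open Matrix Module QuadraticMap
open Cfsg.Agent.Lib.Helper37
open Cfsg.Agent.Lib.Helper45.AutPSL (tw uS norm_surj h90_units)

universe u

variable {ι : Type} [Fintype ι] [DecidableEq ι] {F : Type u} [Field F]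
variable {F₀ : Type*} [Field F₀] (j : F₀ →+* F)

/-- a matrix with entries in the image of `j` comes from `GL` over the small field -/
theorem exists_mapGL_eq (g : GL ι F) (h : ∀ x y, (g : Matrix ι ι F) x y ∈ Set.range j) :
    ∃ g₀ : GL ι F₀, mapGL j g₀ = g := by
  classical
  choose M₀ hM₀ using h
  have hmap : (Matrix.of M₀).map j = (g : Matrix ι ι F) := by
    ext x y
    simp [hM₀]
  have hdet : j (Matrix.of M₀).det = (g : Matrix ι ι F).det := by
    rw [RingHom.map_det, RingHom.mapMatrix_apply, hmap]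
  have hdet0 : (Matrix.of M₀).det ≠ 0 := by
    intro h0
    rw [h0, map_zero] at hdet
    have := (Matrix.isUnit_iff_isUnit_det _).1 ⟨g, rfl⟩
    rw [← hdet] at this
    exact not_isUnit_zero this
  refine ⟨Matrix.GeneralLinearGroup.mkOfDetNeZero (Matrix.of M₀) hdet0, ?_⟩
  apply Units.ext
  rw [mapGL_val]
  exact hmap

section forms

variable (Q : QuadraticForm F (ι → F)) (Q₀ : QuadraticForm F₀ (ι → F₀))
  (hQ₀ : ∀ w, j (Q₀ w) = Q (jv j w))

include hQ₀

theorem mapGL_mem_sim (g₀ : GL ι F₀) (hg₀ : g₀ ∈ Cfsg.Geo.quadSimilarityGroup (F := F₀) ⇑Q₀) :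
    mapGL j g₀ ∈ Cfsg.Geo.quadSimilarityGroup (F := F) ⇑Q := by
  obtain ⟨c, hc⟩ := hg₀
  refine ⟨Units.map (j : F₀ →* F) c, ?_⟩
  have h1 : ∀ w : ι → F₀, Q (((mapGL j g₀ : GL ι F) : Matrix ι ι F) *ᵥ jv j w)
      = (j c) * Q (jv j w) := by
    intro w
    rw [mapGL_mulVec, ← hQ₀, hc, map_mul, hQ₀]
  have := quad_eq_of_lattice j (Q.comp (Matrix.mulVecLin ((mapGL j g₀ : GL ι F) : Matrix ι ι F)))
    ((j c) • Q) h1
  intro v
  exact this v

/-- base change of similarities -/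
def mapGO : ↥(Cfsg.Geo.quadSimilarityGroup (F := F₀) ⇑Q₀) →*
    ↥(Cfsg.Geo.quadSimilarityGroup (F := F) ⇑Q) where
  toFun g := ⟨mapGL j g.1, mapGL_mem_sim j Q Q₀ hQ₀ g.1 g.2⟩
  map_one' := Subtype.ext (map_one _)
  map_mul' a b := Subtype.ext (map_mul _ _ _)

theorem mapGO_val (g : ↥(Cfsg.Geo.quadSimilarityGroup (F := F₀) ⇑Q₀)) :
    (mapGO j Q Q₀ hQ₀ g).1 = mapGL j g.1 := rfl

/-- a similarity of `Q` with entries in the small field is a similarity of `Q₀` -/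
theorem mem_sim_of_mapGL (hne : ∃ w, Q₀ w ≠ 0) (g₀ : GL ι F₀)
    (hg : mapGL j g₀ ∈ Cfsg.Geo.quadSimilarityGroup (F := F) ⇑Q) :
    g₀ ∈ Cfsg.Geo.quadSimilarityGroup (F := F₀) ⇑Q₀ := by
  obtain ⟨c, hc⟩ := hg
  obtain ⟨w₀, hw₀⟩ := hne
  have h1 : ∀ w : ι → F₀, j (Q₀ ((g₀ : Matrix ι ι F₀) *ᵥ w)) = (c : F) * j (Q₀ w) := by
    intro w
    rw [hQ₀, ← mapGL_mulVec, hc, hQ₀]
  have hjw : j (Q₀ w₀) ≠ 0 := fun h => hw₀ ((map_eq_zero j).1 h)
  have hc' : (c : F) = j (Q₀ ((g₀ : Matrix ι ι F₀) *ᵥ w₀) / Q₀ w₀) := by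
    rw [map_div₀, h1]
    field_simp
  have hc0 : Q₀ ((g₀ : Matrix ι ι F₀) *ᵥ w₀) / Q₀ w₀ ≠ 0 := by
    intro h
    rw [h, map_zero] at hc'
    exact c.ne_zero hc'
  refine ⟨Units.mk0 _ hc0, fun w => ?_⟩
  apply j.injective
  rw [h1, Units.val_mk0, map_mul, ← hc']

end forms

/-- homomorphisms with the same kernel have isomorphic ranges -/
noncomputable def rangeEquivOfKerEq {G A₁ A₂ : Type*} [Group G] [Group A₁] [Group A₂]
    (f₁ : G →* A₁) (f₂ : G →* A₂) (h : f₁.ker = f₂.ker) : ↥f₁.range ≃* ↥f₂.range :=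
  ((QuotientGroup.quotientKerEquivRange f₁).symm.trans
    (QuotientGroup.quotientMulEquivOfEq h)).trans (QuotientGroup.quotientKerEquivRange f₂)

/-- scalar matrices over the big field with rational entries -/
theorem mapGL_scalar_iff [Nonempty ι] (g₀ : GL ι F₀) :
    (∃ c : F, ((mapGL j g₀ : GL ι F) : Matrix ι ι F) = c • (1 : Matrix ι ι F)) ↔
      ∃ c₀ : F₀, ((g₀ : GL ι F₀) : Matrix ι ι F₀) = c₀ • (1 : Matrix ι ι F₀) := by
  constructor
  · rintro ⟨c, hc⟩
    obtain ⟨i₀⟩ := (inferInstance : Nonempty ι)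
    refine ⟨(g₀ : Matrix ι ι F₀) i₀ i₀, ?_⟩
    ext x y
    apply j.injective
    have h1 := congrFun (congrFun hc x) y
    have h2 := congrFun (congrFun hc i₀) i₀
    rw [mapGL_val, Matrix.map_apply] at h1 h2
    rw [h1]
    simp only [Matrix.smul_apply, Matrix.one_apply, smul_eq_mul, if_true, mul_one] at h2 ⊢
    by_cases hxy : x = y
    · rw [if_pos hxy, if_pos hxy, mul_one, mul_one, h2]
    · rw [if_neg hxy, if_neg hxy, mul_zero, mul_zero, map_zero]
  · rintro ⟨c₀, hc₀⟩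
    refine ⟨j c₀, ?_⟩
    rw [mapGL_val, hc₀]
    ext x y
    by_cases hxy : x = y
    · subst hxy
      simp
    · simp [hxy]

end Cfsg.Agent.Lib.Helper37.OrthField
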