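import Mathlib
import Cfsg.Agent.Lib.Helper37.OrthCent1

set_option autoImplicit false
set_option linter.unusedSectionVars false
set_option linter.unusedVariables false

/-!
# The centralizer of a field automorphism, continued
-/

namespace Cfsg.Agent.Lib.Helper37.OrthField

open Matrix Module QuadraticMap
open Cfsg.Agent.Lib.Helper37
open Cfsg.Agent.Lib.Helper8 Cfsg.Agent.Lib.Helper13
open Cfsg.Agent.Lib.Helper45.AutPSL (tw uS norm_surj h90_units)

universe u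

variable {ι : Type} [Fintype ι] [DecidableEq ι] {F : Type u} [Field F]

theorem gm_scalar (σ : F ≃+* F) (c : Fˣ) :
    gm σ (Matrix.GeneralLinearGroup.scalar ι c) =
      Matrix.GeneralLinearGroup.scalar ι (Units.map (σ : F →* F) c) := by
  apply Units.ext
  ext x y
  rw [gm_val, Matrix.map_apply, Matrix.GeneralLinearGroup.coe_scalar,
    Matrix.GeneralLinearGroup.coe_scalar]
  by_cases hxy : x = y
  · subst hxy
    simp
  · simp [hxy]

theorem scalar_comm (c : Fˣ) (g : GL ι F) :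
    Matrix.GeneralLinearGroup.scalar ι c * g = g * Matrix.GeneralLinearGroup.scalar ι c := by
  apply Units.ext
  rw [Units.val_mul, Units.val_mul, Matrix.GeneralLinearGroup.coe_scalar]
  exact (Matrix.scalar_commute (c : F) (fun _ => Commute.all _ _) _).eq

theorem gm_pow (σ : F ≃+* F) (k : ℕ) (g : GL ι F) : (gm σ)^[k] g = gm (σ ^ k) g := by
  induction k with
  | zero => rw [Function.iterate_zero, pow_zero, id_eq, gm_one]
  | succ k ih =>
    rw [Function.iterate_succ_apply', ih, pow_succ']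
    rfl

theorem scalar_injective' [Nonempty ι] :
    Function.Injective (Matrix.GeneralLinearGroup.scalar ι : Fˣ →* GL ι F) := by
  intro a b hab
  obtain ⟨i⟩ := (inferInstance : Nonempty ι)
  have h1 := congrArg (fun g : GL ι F => (g : Matrix ι ι F) i i) hab
  simp only [Matrix.GeneralLinearGroup.coe_scalar, Matrix.scalar_apply,
    Matrix.diagonal_apply_eq] at h1
  exact Units.ext h1

/-- a matrix which is multiplied by a scalar under `σ` has a `σ`-fixed scalar multiple -/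
theorem exists_rational_multiple [Fintype F] [Nonempty ι] (σ : F ≃+* F) (r : ℕ)
    (hr : orderOf σ = r) (hr0 : 0 < r) (g : GL ι F) (c : Fˣ)
    (hc : gm σ g = Matrix.GeneralLinearGroup.scalar ι c * g) :
    ∃ e : Fˣ, gm σ (Matrix.GeneralLinearGroup.scalar ι e * g) =
      Matrix.GeneralLinearGroup.scalar ι e * g := by
  have hk : ∀ k : ℕ, (gm σ)^[k] g = Matrix.GeneralLinearGroup.scalar ι (nrm σ c k) * g := by
    intro k
    induction k with
    | zero => simp [nrm]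
    | succ k ih =>
      rw [Function.iterate_succ_apply', ih, map_mul, hc, gm_scalar, nrm, map_mul, ← mul_assoc,
        ← map_mul, ← map_mul, mul_comm]
  have hσr : σ ^ r = 1 := by rw [← hr]; exact pow_orderOf_eq_one σ
  have h1 := hk r
  rw [gm_pow, hσr, gm_one] at h1
  have h2 : Matrix.GeneralLinearGroup.scalar ι (nrm σ c r) = 1 := by
    have : Matrix.GeneralLinearGroup.scalar ι (nrm σ c r) * g = 1 * g := by rw [← h1, one_mul]
    exact mul_right_cancel this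
  have h3 : nrm σ c r = 1 := by
    apply scalar_injective' (ι := ι)
    rw [h2, map_one]
  have htw : tw (uS σ) c r = 1 := by
    have : ∀ k, nrm σ c k = tw (uS σ) c k := by
      intro k
      induction k with
      | zero => rfl
      | succ k ih => rw [nrm, Cfsg.Agent.Lib.Helper45.AutPSL.tw_succ, ih]; rfl
    rw [← this, h3]
  obtain ⟨μ, hμ⟩ := h90_units σ r hr hr0 c htw
  refine ⟨μ, ?_⟩
  rw [map_mul, gm_scalar, hc, ← mul_assoc, ← map_mul]
  congr 2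
  rw [mul_comm]
  exact hμ

/-- scalar similarities -/
def scO (Q : QuadraticForm F (ι → F)) (c : Fˣ) : ↥(Cfsg.Geo.quadSimilarityGroup (F := F) ⇑Q) :=
  ⟨Matrix.GeneralLinearGroup.scalar ι c, by
    refine ⟨c * c, fun v => ?_⟩
    rw [Matrix.GeneralLinearGroup.coe_scalar, Matrix.scalar_apply, ← Matrix.smul_one_eq_diagonal,
      Units.val_mul]
    rw [Matrix.smul_mulVec, Matrix.one_mulVec, QuadraticMap.map_smul]
    rfl⟩

theorem scO_val (Q : QuadraticForm F (ι → F)) (c : Fˣ) :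
    (scO Q c).1 = Matrix.GeneralLinearGroup.scalar ι c := rfl

theorem coe_scalar_eq_smul (c : Fˣ) :
    ((Matrix.GeneralLinearGroup.scalar ι c : GL ι F) : Matrix ι ι F) = (c : F) • (1 : Matrix ι ι F) := by
  rw [Matrix.GeneralLinearGroup.coe_scalar, Matrix.scalar_apply, ← Matrix.smul_one_eq_diagonal]

theorem exists_scalar_of_smul [Nonempty ι] (g : GL ι F) (c : F)
    (h : (g : Matrix ι ι F) = c • (1 : Matrix ι ι F)) :
    ∃ c' : Fˣ, g = Matrix.GeneralLinearGroup.scalar ι c' := by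
  have hc0 : c ≠ 0 := by
    rintro rfl
    rw [zero_smul] at h
    have h2 : IsUnit (g : Matrix ι ι F) := ⟨g, rfl⟩
    rw [h] at h2
    exact not_isUnit_zero h2
  refine ⟨Units.mk0 c hc0, ?_⟩
  apply Units.ext
  rw [coe_scalar_eq_smul, h]
  rfl

/-- the entrywise image of a similarity under a field automorphism preserving the form -/
theorem gm_mem_sim (Q : QuadraticForm F (ι → F)) (σ : F ≃+* F)
    (hσQ : ∀ v, Q (vm σ v) = σ (Q v)) (g : GL ι F)
    (hg : g ∈ Cfsg.Geo.quadSimilarityGroup (F := F) ⇑Q) :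
    gm σ g ∈ Cfsg.Geo.quadSimilarityGroup (F := F) ⇑Q := by
  obtain ⟨c, hc⟩ := hg
  refine ⟨Units.map (σ : F →* F) c, fun v => ?_⟩
  have h1 : ((gm σ g : GL ι F) : Matrix ι ι F) *ᵥ v = vm σ ((g : Matrix ι ι F) *ᵥ vm σ.symm v) := by
    rw [← map_mulVec_vm, vm_symm]
    rfl
  have h2 : Q v = σ (Q (vm σ.symm v)) := by
    rw [← hσQ, vm_symm]
  rw [h1, hσQ, hc, map_mul, ← h2]
  rfl

section cent

variable [Fintype F] [Nonempty ι] {F₀ : Type*} [Field F₀] (j : F₀ →+* F)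
  (Q : QuadraticForm F (ι → F)) (Q₀ : QuadraticForm F₀ (ι → F₀))
  (hQ₀ : ∀ w, j (Q₀ w) = Q (jv j w))
  (σ : F ≃+* F) (hj : ∀ a, σ a = a ↔ a ∈ Set.range j)
  (hσQ : ∀ v, Q (vm σ v) = σ (Q v))
  (hker : ∀ g : ↥(Cfsg.Geo.quadSimilarityGroup (F := F) ⇑Q),
    Phi ⇑Q g = 1 ↔ ∃ c : F, ((g.1 : GL ι F) : Matrix ι ι F) = c • (1 : Matrix ι ι F))
  (hker₀ : ∀ g : ↥(Cfsg.Geo.quadSimilarityGroup (F := F₀) ⇑Q₀),
    Phi ⇑Q₀ g = 1 ↔ ∃ c : F₀, ((g.1 : GL ι F₀) : Matrix ι ι F₀) = c • (1 : Matrix ι ι F₀))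

theorem inr_mul_simToSemi (g : ↥(Cfsg.Geo.quadSimilarityGroup (F := F) ⇑Q)) :
    (⟨SemidirectProduct.inr σ, inr_mem_semiO ⇑Q σ hσQ⟩ : ↥(semiO ⇑Q)) * simToSemi ⇑Q g =
      simToSemi ⇑Q ⟨gm σ g.1, gm_mem_sim Q σ hσQ g.1 g.2⟩ *
        ⟨SemidirectProduct.inr σ, inr_mem_semiO ⇑Q σ hσQ⟩ := by
  apply Subtype.ext
  apply SemidirectProduct.ext
  · simp [simToSemi, gmAut_apply]
  · simp [simToSemi]

include hker in
theorem comm_iff (g : ↥(Cfsg.Geo.quadSimilarityGroup (F := F) ⇑Q)) :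
    Phi ⇑Q g * phiF Q σ hσQ = phiF Q σ hσQ * Phi ⇑Q g ↔
      ∃ c : Fˣ, gm σ g.1 = Matrix.GeneralLinearGroup.scalar ι c * g.1 := by
  have h1 := congrArg (Psi ⇑Q) (inr_mul_simToSemi Q σ hσQ g)
  rw [map_mul, map_mul, Psi_simToSemi, Psi_simToSemi, ← phiF_def Q σ hσQ] at h1
  rw [h1, mul_left_inj]
  set g' : ↥(Cfsg.Geo.quadSimilarityGroup (F := F) ⇑Q) :=
    ⟨gm σ g.1, gm_mem_sim Q σ hσQ g.1 g.2⟩ with hg'
  have h2 : Phi ⇑Q g = Phi ⇑Q g' ↔ Phi ⇑Q (g' * g⁻¹) = 1 := by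
    rw [map_mul, map_inv, mul_inv_eq_one]
    exact eq_comm
  rw [h2, hker]
  constructor
  · rintro ⟨c, hc⟩
    obtain ⟨c', hc'⟩ := exists_scalar_of_smul _ c hc
    refine ⟨c', ?_⟩
    rw [← hc']
    show gm σ g.1 = (g'.1 * g.1⁻¹) * g.1
    rw [inv_mul_cancel_right]
  · rintro ⟨c, hc⟩
    refine ⟨(c : F), ?_⟩
    have : (g' * g⁻¹).1 = Matrix.GeneralLinearGroup.scalar ι c := by
      show g'.1 * g.1⁻¹ = _
      rw [hg']
      show gm σ g.1 * g.1⁻¹ = _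
      rw [hc, mul_inv_cancel_right]
    rw [this, coe_scalar_eq_smul]

include hker hj in
/-- a similarity commuting with the field automorphism is rational up to a scalar -/
theorem exists_rational_of_comm (g : ↥(Cfsg.Geo.quadSimilarityGroup (F := F) ⇑Q))
    (hcomm : Phi ⇑Q g * phiF Q σ hσQ = phiF Q σ hσQ * Phi ⇑Q g)
    (hne : ∃ w, Q₀ w ≠ 0) (r : ℕ) (hr : orderOf σ = r) (hr0 : 0 < r) :
    ∃ (e : Fˣ) (g₀ : ↥(Cfsg.Geo.quadSimilarityGroup (F := F₀) ⇑Q₀)),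
      mapGO j Q Q₀ hQ₀ g₀ = scO Q e * g := by
  rw [comm_iff Q σ hσQ hker] at hcomm
  obtain ⟨c, hc⟩ := hcomm
  obtain ⟨e, he⟩ := exists_rational_multiple σ r hr hr0 g.1 c hc
  have hent : ∀ x y, ((Matrix.GeneralLinearGroup.scalar ι e * g.1 : GL ι F) :
      Matrix ι ι F) x y ∈ Set.range j := by
    intro x y
    rw [← hj]
    have := congrArg (fun M : GL ι F => (M : Matrix ι ι F) x y) he
    simpa [gm_val] using this
  obtain ⟨g₀, hg₀⟩ := exists_mapGL_eq j _ hent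
  have hmem : mapGL j g₀ ∈ Cfsg.Geo.quadSimilarityGroup (F := F) ⇑Q := by
    rw [hg₀]
    exact (scO Q e * g).2
  have hg₀m := mem_sim_of_mapGL j Q Q₀ hQ₀ hne g₀ hmem
  exact ⟨e, ⟨g₀, hg₀m⟩, Subtype.ext hg₀⟩

include hker hj in
/-- rational similarities commute with the field automorphism -/
theorem comm_of_rational (g₀ : ↥(Cfsg.Geo.quadSimilarityGroup (F := F₀) ⇑Q₀)) :
    Phi ⇑Q (mapGO j Q Q₀ hQ₀ g₀) * phiF Q σ hσQ = phiF Q σ hσQ * Phi ⇑Q (mapGO j Q Q₀ hQ₀ g₀) := by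
  rw [comm_iff Q σ hσQ hker]
  refine ⟨1, ?_⟩
  rw [map_one, one_mul, mapGO_val, gm_mapGL j σ hj]

include hker hker₀ hj in
/-- the centralizer of the field automorphism in the image of a group `D` of similarities
containing the scalars -/
theorem cent_equiv (D : Subgroup ↥(Cfsg.Geo.quadSimilarityGroup (F := F) ⇑Q))
    (D₀ : Subgroup ↥(Cfsg.Geo.quadSimilarityGroup (F := F₀) ⇑Q₀))
    (hsc : ∀ c : Fˣ, scO Q c ∈ D)
    (hD : ∀ g₀, mapGO j Q Q₀ hQ₀ g₀ ∈ D ↔ g₀ ∈ D₀)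
    (hne : ∃ w, Q₀ w ≠ 0) (r : ℕ) (hr : orderOf σ = r) (hr0 : 0 < r) :
    Nonempty (↥(D.map (Phi ⇑Q) ⊓ Subgroup.centralizer {phiF Q σ hσQ}) ≃*
      ↥(D₀.map (Phi ⇑Q₀))) := by
  set f₁ : ↥D₀ →* MulAut (Cfsg.POmega F ⇑Q) :=
    (Phi ⇑Q).comp ((mapGO j Q Q₀ hQ₀).comp D₀.subtype) with hf₁
  set f₂ : ↥D₀ →* MulAut (Cfsg.POmega F₀ ⇑Q₀) := (Phi ⇑Q₀).comp D₀.subtype with hf₂
  have hkereq : f₁.ker = f₂.ker := by
    ext g
    rw [MonoidHom.mem_ker, MonoidHom.mem_ker]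
    show Phi ⇑Q (mapGO j Q Q₀ hQ₀ g.1) = 1 ↔ Phi ⇑Q₀ g.1 = 1
    rw [hker, hker₀, mapGO_val]
    exact mapGL_scalar_iff j g.1.1
  have hr₁ : f₁.range = D.map (Phi ⇑Q) ⊓ Subgroup.centralizer {phiF Q σ hσQ} := by
    ext y
    rw [Subgroup.mem_inf]
    constructor
    · rintro ⟨g, rfl⟩
      refine ⟨⟨mapGO j Q Q₀ hQ₀ g.1, (hD g.1).2 g.2, rfl⟩, ?_⟩
      rw [Subgroup.mem_centralizer_iff]
      intro z hz
      rw [Set.mem_singleton_iff] at hz
      subst hz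
      symm
      rw [show f₁ g = Phi ⇑Q (mapGO j Q Q₀ hQ₀ g.1) from rfl, comm_iff Q σ hσQ hker]
      refine ⟨1, ?_⟩
      rw [map_one, one_mul, mapGO_val, gm_mapGL j σ hj]
    · rintro ⟨⟨g, hgD, rfl⟩, hcent⟩
      rw [Subgroup.mem_centralizer_iff] at hcent
      have h1 := (hcent _ rfl).symm
      rw [comm_iff Q σ hσQ hker] at h1
      obtain ⟨c, hc⟩ := h1
      obtain ⟨e, he⟩ := exists_rational_multiple σ r hr hr0 g.1 c hc
      have hent : ∀ x y, ((Matrix.GeneralLinearGroup.scalar ι e * g.1 : GL ι F) :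
          Matrix ι ι F) x y ∈ Set.range j := by
        intro x y
        rw [← hj]
        have := congrArg (fun M : GL ι F => (M : Matrix ι ι F) x y) he
        simpa [gm_val] using this
      obtain ⟨g₀, hg₀⟩ := exists_mapGL_eq j _ hent
      have hmem : mapGL j g₀ ∈ Cfsg.Geo.quadSimilarityGroup (F := F) ⇑Q := by
        rw [hg₀]
        exact (scO Q e * g).2
      have hg₀m := mem_sim_of_mapGL j Q Q₀ hQ₀ hne g₀ hmem
      have heq : mapGO j Q Q₀ hQ₀ ⟨g₀, hg₀m⟩ = scO Q e * g := Subtype.ext hg₀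
      have hD₀ : (⟨g₀, hg₀m⟩ : ↥(Cfsg.Geo.quadSimilarityGroup (F := F₀) ⇑Q₀)) ∈ D₀ := by
        rw [← hD, heq]
        exact D.mul_mem (hsc e) hgD
      refine ⟨⟨⟨g₀, hg₀m⟩, hD₀⟩, ?_⟩
      show Phi ⇑Q (mapGO j Q Q₀ hQ₀ ⟨g₀, hg₀m⟩) = Phi ⇑Q g
      rw [heq, map_mul]
      have : Phi ⇑Q (scO Q e) = 1 := by
        rw [hker]
        exact ⟨(e : F), coe_scalar_eq_smul e⟩
      rw [this, one_mul]
  have hr₂ : f₂.range = D₀.map (Phi ⇑Q₀) := by
    rw [hf₂, MonoidHom.range_comp, Subgroup.range_subtype]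
  exact ⟨((MulEquiv.subgroupCongr hr₁).symm.trans (rangeEquivOfKerEq f₁ f₂ hkereq)).trans
    (MulEquiv.subgroupCongr hr₂)⟩

end cent

end Cfsg.Agent.Lib.Helper37.OrthField
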