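import Mathlib
import Cfsg.Agent.Lib.Helper37.OrthCent2
import Cfsg.Agent.Lib.Helper37.InnDiag

set_option autoImplicit false
set_option linter.unusedSectionVars false
set_option linter.unusedVariables false

/-!
# Odd-dimensional orthogonal groups: similarities, inner automorphisms and rational elements
-/

namespace Cfsg.Agent.Lib.Helper37.OrthField

open Matrix Module QuadraticMap
open Cfsg.Agent.Lib.Helper37
open Cfsg.Agent.Lib.Helper37.IsGram

universe u

variable {ι : Type} [Fintype ι] [DecidableEq ι] {F : Type u} [Field F]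

/-- base change of reflection matrices -/
theorem reflMat_map {F₀ : Type*} [Field F₀] (j : F₀ →+* F) (Q : QuadraticForm F (ι → F))
    (Q₀ : QuadraticForm F₀ (ι → F₀)) (hQ₀ : ∀ w, j (Q₀ w) = Q (jv j w)) (w : ι → F₀) :
    (Cfsg.reflectionMatrix ⇑Q₀ w).map j = Cfsg.reflectionMatrix ⇑Q (jv j w) := by
  ext x y
  have hp : j (QuadraticMap.polar ⇑Q₀ w (Pi.single y 1)) =
      QuadraticMap.polar ⇑Q (jv j w) (Pi.single y 1) := by
    unfold QuadraticMap.polar
    rw [map_sub, map_sub, hQ₀, hQ₀, hQ₀, jv_add, jv_single]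
  unfold Cfsg.reflectionMatrix Cfsg.polarVec
  simp only [Matrix.map_apply, Matrix.sub_apply, Matrix.smul_apply, Matrix.vecMulVec_apply,
    Matrix.one_apply, smul_eq_mul]
  rw [map_sub, map_mul, map_mul, map_inv₀, hQ₀, hp]
  congr 1
  split_ifs <;> simp

/-- the Gram matrix of a quadratic form -/
def gramOf (Q : QuadraticForm F (ι → F)) : Matrix ι ι F :=
  Matrix.of (fun i j : ι => QuadraticMap.polar ⇑Q (Pi.single i 1) (Pi.single j 1))

theorem isGram_gramOf (h2 : (2 : F) ≠ 0) (Q : QuadraticForm F (ι → F)) :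
    IsGram (⇑Q) (gramOf Q) := isGram_of_quadraticForm h2 Q

theorem det_gramOf (Q : QuadraticForm F (ι → F))
    (hQ : (QuadraticMap.polarBilin Q).Nondegenerate) : (gramOf Q).det ≠ 0 :=
  det_ne_zero_of_nondegenerate Q hQ

section odd

variable (Q : QuadraticForm F (ι → F)) (h2 : (2 : F) ≠ 0)
  (hQ : (QuadraticMap.polarBilin Q).Nondegenerate) {m : ℕ} (hcard : Fintype.card ι = 2 * m + 1)

include h2 hQ hcard in
/-- in odd dimension every similarity is a scalar times an isometry of determinant one -/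
theorem odd_decomp (g : ↥(Cfsg.Geo.quadSimilarityGroup (F := F) ⇑Q)) :
    ∃ (c : Fˣ) (k : ↥(Cfsg.isometryGroup F ⇑Q)), (toMat ⇑Q k).det = 1 ∧
      g = scalarGO (isGram_gramOf h2 Q) c * isoGO ⇑Q k := by
  have h := isGram_gramOf h2 Q
  have hdet := det_gramOf Q hQ
  have hsq := sim_det_sq h hdet g
  rw [hcard] at hsq
  set μ : Fˣ := simMult ⇑Q g with hμ
  set d : F := (g.1 : Matrix ι ι F).det with hd
  have hd0 : d ≠ 0 := by
    have := (Matrix.isUnit_iff_isUnit_det _).1 ⟨g.1, rfl⟩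
    exact this.ne_zero
  have hμ0 : (μ : F) ≠ 0 := μ.ne_zero
  have hc0 : d / (μ : F) ^ m ≠ 0 := div_ne_zero hd0 (pow_ne_zero _ hμ0)
  set c : Fˣ := Units.mk0 (d / (μ : F) ^ m) hc0 with hc
  have hcc : simMult ⇑Q g = c * c := by
    apply Units.ext
    rw [Units.val_mul, Units.val_mk0]
    field_simp
    rw [hsq]
    ring
  obtain ⟨k, hk⟩ := exists_scalar_mul_iso h g c hcc
  refine ⟨c, k, ?_, hk⟩
  have h3 : d = (c : F) ^ (2 * m + 1) * (toMat ⇑Q k).det := by
    have := congrArg (fun x : ↥(Cfsg.Geo.quadSimilarityGroup (F := F) ⇑Q) =>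
      (x.1 : Matrix ι ι F).det) hk
    beta_reduce at this
    rw [Subgroup.coe_mul, Units.val_mul, Matrix.det_mul, scalarGO_val, Matrix.det_smul,
      Matrix.det_one, mul_one, hcard, isoGO_val] at this
    exact this
  have h4 : (c : F) ^ (2 * m + 1) = d := by
    have h5 : (c : F) * c = μ := by rw [← Units.val_mul, ← hcc]
    rw [pow_succ, pow_mul, pow_two, h5, hc, Units.val_mk0]
    field_simp
  rw [h4] at h3
  have h6 : d * (toMat ⇑Q k).det = d * 1 := by rw [mul_one]; exact h3.symm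
  exact mul_left_cancel₀ hd0 h6

variable [Fintype F] [DecidableEq F]
  (hker : ∀ g : ↥(Cfsg.Geo.quadSimilarityGroup (F := F) ⇑Q),
    Phi ⇑Q g = 1 ↔ ∃ c : F, ((g.1 : GL ι F) : Matrix ι ι F) = c • (1 : Matrix ι ι F))

include h2 hQ hcard in
theorem odd_hne (hm : 1 ≤ m) : ∃ v, Q v ≠ 0 :=
  exists_Q_eq_one (isGram_gramOf h2 Q) (det_gramOf Q hQ) (by rw [hcard]; omega)

include h2 hQ hcard hker in
theorem scalar_mem_innPre_odd (hm : 1 ≤ m) (c : Fˣ) :
    scalarGO (isGram_gramOf h2 Q) c ∈ innPre ⇑Q := by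
  rw [mem_innPre_iff (isGram_gramOf h2 Q) (odd_hne Q h2 hQ hcard hm) hker]
  exact ⟨c, 1, Subgroup.one_mem _, by rw [map_one, mul_one]⟩

include h2 hQ hcard hker in
/-- membership of `c k` (with `det k = 1`) in the preimage of the inner automorphisms -/
theorem mem_innPre_odd (hm : 1 ≤ m) (c : Fˣ) (k : ↥(Cfsg.isometryGroup F ⇑Q))
    (hk : (toMat ⇑Q k).det = 1) :
    scalarGO (isGram_gramOf h2 Q) c * isoGO ⇑Q k ∈ innPre ⇑Q ↔ k ∈ Cfsg.Omega F ⇑Q := by
  have h := isGram_gramOf h2 Q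
  rw [Subgroup.mul_mem_cancel_left _ (scalar_mem_innPre_odd Q h2 hQ hcard hker hm c)]
  unfold innPre
  rw [Subgroup.mem_comap, Phi_iso_mem_inn_iff h (odd_hne Q h2 hQ hcard hm) hker]
  constructor
  · rintro (h1 | h1)
    · exact h1
    · exfalso
      have h3 := det_eq_one_of_mem_omega ⇑Q ⟨_, h1⟩
      have h4 : (toMat ⇑Q (h.negO * k)).det = 1 := h3
      rw [map_mul, Matrix.det_mul, hk, mul_one, toMat_negO, Matrix.det_neg, Matrix.det_one,
        mul_one, hcard, pow_succ, pow_mul] at h4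
      apply h2
      have : (-1 : F) = 1 := by simpa using h4
      linear_combination -this
  · intro h1
    exact Or.inl h1

include h2 hQ hcard hker in
/-- if a subgroup contains an isometry of determinant one outside `Ω`, then together with the
preimage of the inner automorphisms it generates everything -/
theorem sup_eq_top_odd (hm : 1 ≤ m) (C : Subgroup ↥(Cfsg.Geo.quadSimilarityGroup (F := F) ⇑Q))
    (k₁ : ↥(Cfsg.isometryGroup F ⇑Q)) (hk₁ : (toMat ⇑Q k₁).det = 1)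
    (hk₁Ω : k₁ ∉ Cfsg.Omega F ⇑Q) (hk₁C : isoGO ⇑Q k₁ ∈ C) :
    innPre ⇑Q ⊔ C = ⊤ := by
  have h := isGram_gramOf h2 Q
  have hdet := det_gramOf Q hQ
  obtain ⟨α, hα⟩ := FiniteField.exists_nonsquare (ringChar_ne_two_of_two_ne_zero h2) (F := F)
  rw [eq_top_iff]
  intro g _
  obtain ⟨c, k, hkdet, rfl⟩ := odd_decomp Q h2 hQ hcard g
  by_cases hkΩ : k ∈ Cfsg.Omega F ⇑Q
  · exact Subgroup.mem_sup_left ((mem_innPre_odd Q h2 hQ hcard hker hm c k hkdet).2 hkΩ)
  · have e1 : signPair ⇑Q α k = (-1, -1) := by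
      rcases h.signPair_of_det_one hdet α hα k hkdet with h1 | h1
      · exfalso
        apply hkΩ
        rw [← h.ker_signPair hdet α hα, MonoidHom.mem_ker]
        exact h1
      · exact h1
    have e2 : signPair ⇑Q α k₁ = (-1, -1) := by
      rcases h.signPair_of_det_one hdet α hα k₁ hk₁ with h1 | h1
      · exfalso
        apply hk₁Ω
        rw [← h.ker_signPair hdet α hα, MonoidHom.mem_ker]
        exact h1
      · exact h1
    have e3 : k * k₁⁻¹ ∈ Cfsg.Omega F ⇑Q := by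
      rw [← h.ker_signPair hdet α hα, MonoidHom.mem_ker, map_mul, map_inv, e1, e2]
      decide
    have e4 : (toMat ⇑Q (k * k₁⁻¹)).det = 1 := det_eq_one_of_mem_omega ⇑Q ⟨_, e3⟩
    have e5 : scalarGO (isGram_gramOf h2 Q) c * isoGO ⇑Q k =
        (scalarGO (isGram_gramOf h2 Q) c * isoGO ⇑Q (k * k₁⁻¹)) * isoGO ⇑Q k₁ := by
      rw [mul_assoc, ← map_mul, inv_mul_cancel_right]
    rw [e5]
    exact Subgroup.mul_mem_sup ((mem_innPre_odd Q h2 hQ hcard hker hm c _ e4).2 e3) hk₁C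

include h2 hQ hcard hker in
/-- the preimage of the inner automorphisms has index two -/
theorem index_innPre_odd (hm : 1 ≤ m) : (innPre ⇑Q).index = 2 := by
  have h := isGram_gramOf h2 Q
  have hdet := det_gramOf Q hQ
  obtain ⟨α, hα⟩ := FiniteField.exists_nonsquare (ringChar_ne_two_of_two_ne_zero h2) (F := F)
  obtain ⟨k₁, hk₁⟩ := h.signPair_surjective hdet (by rw [hcard]; omega) α hα (-1, -1)
  have hk₁det : (toMat ⇑Q k₁).det = 1 := by
    rw [← h.signChar_mul_eq_one_iff hdet α hα]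
    have a1 : signChar ⇑Q 1 k₁ = -1 := congrArg Prod.fst hk₁
    have a2 : signChar ⇑Q α k₁ = -1 := congrArg Prod.snd hk₁
    rw [a1, a2]
    decide
  have hk₁Ω : k₁ ∉ Cfsg.Omega F ⇑Q := by
    rw [← h.ker_signPair hdet α hα, MonoidHom.mem_ker, hk₁]
    decide
  rw [Subgroup.index_eq_two_iff]
  refine ⟨isoGO ⇑Q k₁, fun b => ?_⟩
  have hk₁not : isoGO ⇑Q k₁ ∉ innPre ⇑Q := by
    have := mem_innPre_odd Q h2 hQ hcard hker hm 1 k₁ hk₁det
    intro h1
    apply hk₁Ω
    rw [← this]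
    exact Subgroup.mul_mem _ (scalar_mem_innPre_odd Q h2 hQ hcard hker hm 1) h1
  by_cases hb : b ∈ innPre ⇑Q
  · refine Or.inr ⟨hb, fun h1 => hk₁not ?_⟩
    exact (Subgroup.mul_mem_cancel_left _ hb).1 h1
  · refine Or.inl ⟨?_, hb⟩
    obtain ⟨c, k, hkdet, rfl⟩ := odd_decomp Q h2 hQ hcard b
    have hkΩ : k ∉ Cfsg.Omega F ⇑Q := fun h1 =>
      hb ((mem_innPre_odd Q h2 hQ hcard hker hm c k hkdet).2 h1)
    have e1 : signPair ⇑Q α k = (-1, -1) := by
      rcases h.signPair_of_det_one hdet α hα k hkdet with h1 | h1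
      · exfalso
        apply hkΩ
        rw [← h.ker_signPair hdet α hα, MonoidHom.mem_ker]
        exact h1
      · exact h1
    have e3 : k * k₁ ∈ Cfsg.Omega F ⇑Q := by
      rw [← h.ker_signPair hdet α hα, MonoidHom.mem_ker, map_mul, e1, hk₁]
      decide
    have e4 : (toMat ⇑Q (k * k₁)).det = 1 := det_eq_one_of_mem_omega ⇑Q ⟨_, e3⟩
    rw [mul_assoc, ← map_mul]
    exact (mem_innPre_odd Q h2 hQ hcard hker hm c _ e4).2 e3

end odd

theorem two_ne_zero_of_map {F₀ : Type*} [Field F₀] (j : F₀ →+* F) (h2 : (2 : F) ≠ 0) :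
    (2 : F₀) ≠ 0 := by
  intro h
  apply h2
  have := congrArg j h
  rwa [map_ofNat, map_zero] at this

section rational

variable {F₀ : Type*} [Field F₀] (j : F₀ →+* F)
  (Q : QuadraticForm F (ι → F)) (Q₀ : QuadraticForm F₀ (ι → F₀))
  (hQ₀ : ∀ w, j (Q₀ w) = Q (jv j w))

/-- a matrix with entries in the fixed field is fixed by `σ` -/
theorem gm_eq_of_rational (σ : F ≃+* F) (hj : ∀ a, σ a = a ↔ a ∈ Set.range j) (g : GL ι F)
    (M₀ : Matrix ι ι F₀) (hg : (g : Matrix ι ι F) = M₀.map j) : gm σ g = g := by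
  apply Units.ext
  ext x y
  rw [gm_val, Matrix.map_apply, hg, Matrix.map_apply]
  exact (hj _).2 ⟨_, rfl⟩

include hQ₀ in
theorem reflList_map (l : List (ι → F₀)) :
    ((l.map (jv j)).map (fun v => Cfsg.reflectionMatrix ⇑Q v)).prod =
      ((l.map (fun v => Cfsg.reflectionMatrix ⇑Q₀ v)).prod).map j := by
  induction l with
  | nil =>
    ext x y
    simp [Matrix.one_apply]
  | cons a l ih =>
    rw [List.map_cons, List.map_cons, List.prod_cons, List.map_cons, List.prod_cons,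
      Matrix.map_mul, ih, reflMat_map j Q Q₀ hQ₀]

variable [Fintype F] [DecidableEq F] [Fintype F₀] [DecidableEq F₀]
  (h2 : (2 : F) ≠ 0)
  (hQ : (QuadraticMap.polarBilin Q).Nondegenerate)
  (hQnd₀ : (QuadraticMap.polarBilin Q₀).Nondegenerate)
  {m : ℕ} (hcard : Fintype.card ι = 2 * m + 1) (hm : 1 ≤ m)
  (hker : ∀ g : ↥(Cfsg.Geo.quadSimilarityGroup (F := F) ⇑Q),
    Phi ⇑Q g = 1 ↔ ∃ c : F, ((g.1 : GL ι F) : Matrix ι ι F) = c • (1 : Matrix ι ι F))

include hQ₀ h2 hQ hQnd₀ hcard hm hker in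
/-- if every element of the small field is a square in the big field, rational similarities
induce inner automorphisms -/
theorem mapGO_mem_innPre (hsq : ∀ a₀ : F₀, IsSquare (j a₀))
    (g₀ : ↥(Cfsg.Geo.quadSimilarityGroup (F := F₀) ⇑Q₀)) :
    mapGO j Q Q₀ hQ₀ g₀ ∈ innPre ⇑Q := by
  have h := isGram_gramOf h2 Q
  have h2₀ : (2 : F₀) ≠ 0 := two_ne_zero_of_map j h2
  have h₀ := isGram_gramOf h2₀ Q₀
  have hdet₀ := det_gramOf Q₀ hQnd₀
  obtain ⟨c₀, k₀, hk₀det, rfl⟩ := odd_decomp Q₀ h2₀ hQnd₀ hcard g₀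
  obtain ⟨vs₀, hvs₀, hprod₀⟩ := h₀.cartan_dieudonne hdet₀ k₀
  have hev : Even vs₀.length := by
    have h1 := h₀.det_list vs₀ hvs₀
    rw [← hprod₀, hk₀det] at h1
    by_contra hodd
    rw [Nat.not_even_iff_odd] at hodd
    rw [hodd.neg_one_pow] at h1
    apply h2₀
    linear_combination h1
  set vs := vs₀.map (jv j) with hvsdef
  have hvs : ∀ v ∈ vs, Q v ≠ 0 := by
    intro v hv
    obtain ⟨w, hw, rfl⟩ := List.mem_map.1 hv
    rw [← hQ₀]
    exact fun h0 => hvs₀ w hw ((map_eq_zero j).1 h0)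
  set k := (vs.map h.reflG').prod with hkdef
  have hkmat : toMat ⇑Q k = (toMat ⇑Q₀ k₀).map j := by
    rw [h.toMat_list vs hvs, hprod₀]
    exact reflList_map j Q Q₀ hQ₀ vs₀
  have hkΩ : k ∈ Cfsg.Omega F ⇑Q := by
    refine h.mem_omega_of_even_and_isSquare k vs hvs (h.toMat_list vs hvs)
      (by rw [hvsdef, List.length_map]; exact hev) ?_
    have : (vs.map (fun v => Q v)).prod = j ((vs₀.map (fun v => Q₀ v)).prod) := by
      rw [map_list_prod, List.map_map, List.map_map]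
      congr 1
      apply List.map_congr_left
      intro w _
      simp [hQ₀]
    rw [this]
    exact hsq _
  rw [mem_innPre_iff h (odd_hne Q h2 hQ hcard hm) hker]
  refine ⟨Units.map (j : F₀ →* F) c₀, k, hkΩ, ?_⟩
  apply Subtype.ext
  apply Units.ext
  rw [mapGO_val, mapGL_val, Subgroup.coe_mul, Units.val_mul, Subgroup.coe_mul, Units.val_mul,
    scalarGO_val, scalarGO_val, isoGO_val, isoGO_val, Matrix.map_mul]
  congr 1
  · ext x y
    simp [Matrix.one_apply]
    split_ifs <;> simp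
  · exact hkmat.symm

include hQ₀ h2 hQ in
/-- a rational rotation outside `Ω` -/
theorem rational_rot (σ : F ≃+* F) (hj : ∀ a, σ a = a ↔ a ∈ Set.range j)
    (u₀ v₀ : ι → F₀) (hu : Q₀ u₀ = 1) (hv : ¬ IsSquare (j (Q₀ v₀))) :
    ∃ k₁ : ↥(Cfsg.isometryGroup F ⇑Q), (toMat ⇑Q k₁).det = 1 ∧ k₁ ∉ Cfsg.Omega F ⇑Q ∧
      gm σ (isoGO ⇑Q k₁).1 = (isoGO ⇑Q k₁).1 := by
  have h := isGram_gramOf h2 Q
  have hdet := det_gramOf Q hQ
  have hQu : Q (jv j u₀) = 1 := by rw [← hQ₀, hu, map_one]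
  have hQv : Q (jv j v₀) = j (Q₀ v₀) := (hQ₀ _).symm
  have hu0 : Q (jv j u₀) ≠ 0 := by rw [hQu]; exact one_ne_zero
  have hv0 : Q (jv j v₀) ≠ 0 := by
    rw [hQv]
    intro h0
    apply hv
    rw [h0]
    exact ⟨0, by simp⟩
  refine ⟨h.reflG _ hu0 * h.reflG _ hv0, ?_, ?_, ?_⟩
  · rw [map_mul, Matrix.det_mul]
    have e1 : toMat ⇑Q (h.reflG _ hu0) = Cfsg.reflectionMatrix ⇑Q (jv j u₀) := rfl
    have e2 : toMat ⇑Q (h.reflG _ hv0) = Cfsg.reflectionMatrix ⇑Q (jv j v₀) := rfl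
    rw [e1, e2, h.det_refl _ hu0, h.det_refl _ hv0]
    ring
  · have hα : ¬ IsSquare (Q (jv j v₀)) := by rw [hQv]; exact hv
    rw [← h.ker_signPair hdet _ hα, MonoidHom.mem_ker, map_mul,
      (signPair_reflG h _ hu0 _ hα).1 (by rw [hQu]; exact ⟨1, by simp⟩),
      (signPair_reflG h _ hv0 _ hα).2 hα]
    decide
  · apply gm_eq_of_rational j σ hj _
      (Cfsg.reflectionMatrix ⇑Q₀ u₀ * Cfsg.reflectionMatrix ⇑Q₀ v₀)
    rw [Matrix.map_mul, reflMat_map j Q Q₀ hQ₀, reflMat_map j Q Q₀ hQ₀]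
    rfl

end rational

end Cfsg.Agent.Lib.Helper37.OrthField
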