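import Cfsg.Agent.Lib.Helper37.OrthSum

set_option autoImplicit false
set_option linter.unusedSectionVars false

namespace Cfsg.Agent.Lib.Helper37

open Matrix Module QuadraticMap
open Cfsg.Agent.Lib.Helper8 Cfsg.Agent.Lib.Helper13

variable {ι : Type} [Fintype ι] [DecidableEq ι] {F : Type*} [Field F]

/-- a vector orthogonal to `a₀⊥ ∩ a₁⊥` lies in the span of `a₀, a₁` -/
theorem mem_span_pair_of_orth (Q : QuadraticForm F (ι → F))
    (hQ : (QuadraticMap.polarBilin Q).Nondegenerate) (a₀ a₁ b : ι → F)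
    (h : ∀ x, polar ⇑Q a₀ x = 0 → polar ⇑Q a₁ x = 0 → polar ⇑Q b x = 0) :
    b ∈ Submodule.span F {a₀, a₁} := by
  have h1 : ⨅ i : Fin 2, LinearMap.ker (![QuadraticMap.polarBilin Q a₀,
      QuadraticMap.polarBilin Q a₁] i) ≤ LinearMap.ker (QuadraticMap.polarBilin Q b) := by
    intro x hx
    rw [Submodule.mem_iInf] at hx
    have hx0 := hx 0
    have hx1 := hx 1
    rw [LinearMap.mem_ker] at hx0 hx1 ⊢
    exact h x hx0 hx1
  obtain ⟨c, hc⟩ := (Submodule.mem_span_range_iff_exists_fun F).1 (mem_span_of_iInf_ker_le_ker h1)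
  rw [Fin.sum_univ_two] at hc
  have h2 : b = c 0 • a₀ + c 1 • a₁ := by
    have h3 : b - (c 0 • a₀ + c 1 • a₁) = 0 := by
      apply hQ.1
      intro y
      have := LinearMap.congr_fun hc y
      simp only [Matrix.cons_val_zero, Matrix.cons_val_one, LinearMap.add_apply,
        LinearMap.smul_apply, smul_eq_mul] at this
      rw [map_sub, LinearMap.sub_apply, map_add, LinearMap.add_apply, map_smul, map_smul,
        LinearMap.smul_apply, LinearMap.smul_apply, smul_eq_mul, smul_eq_mul, ← this, sub_self]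
    exact sub_eq_zero.mp h3
  rw [h2]
  exact Submodule.add_mem _ (Submodule.smul_mem _ _ (Submodule.subset_span (by simp)))
    (Submodule.smul_mem _ _ (Submodule.subset_span (by simp)))


theorem reflElt_mul_self (Q : QuadraticForm F (ι → F)) (a : ι → F) (ha : Q a ≠ 0) :
    reflElt Q a ha * reflElt Q a ha = 1 := by
  have h := inv_mem_reflSet Q _ (reflElt_mem_reflSet Q a ha)
  calc reflElt Q a ha * reflElt Q a ha = (reflElt Q a ha)⁻¹ * reflElt Q a ha := by rw [h]
    _ = 1 := inv_mul_cancel _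

/-- the action of an isometry on vectors -/
def act (Q : QuadraticForm F (ι → F)) (z : ↥(Cfsg.isometryGroup F ⇑Q)) (x : ι → F) : ι → F :=
  ((z : Matrix.GeneralLinearGroup ι F) : Matrix ι ι F) *ᵥ x

theorem Q_act (Q : QuadraticForm F (ι → F)) (z : ↥(Cfsg.isometryGroup F ⇑Q)) (x : ι → F) :
    Q (act Q z x) = Q x := isoElt_preserves Q z x

theorem act_refl (Q : QuadraticForm F (ι → F)) (a : ι → F) (ha : Q a ≠ 0) (x : ι → F) :
    act Q (reflElt Q a ha) x = x - ((Q a)⁻¹ * polar ⇑Q a x) • a := by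
  unfold act
  rw [coe_reflElt, reflectionMatrix_mulVec]

theorem act_mul (Q : QuadraticForm F (ι → F)) (g h : ↥(Cfsg.isometryGroup F ⇑Q)) (x : ι → F) :
    act Q (g * h) x = act Q g (act Q h x) := by
  unfold act
  rw [Subgroup.coe_mul, Units.val_mul, Matrix.mulVec_mulVec]

theorem act_one (Q : QuadraticForm F (ι → F)) (x : ι → F) : act Q 1 x = x := by
  unfold act
  simp

/-- if `z` centralises the products of two reflections of equal norm, then the element
`r_a r_{za}` does not depend on `a` within a norm class -/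
theorem key_identity (Q : QuadraticForm F (ι → F)) (z : ↥(Cfsg.isometryGroup F ⇑Q))
    (hz : ∀ (a b : ι → F) (ha : Q a ≠ 0) (hb : Q b ≠ 0), Q b = Q a →
      z * (reflElt Q a ha * reflElt Q b hb) = (reflElt Q a ha * reflElt Q b hb) * z)
    (a b : ι → F) (ha : Q a ≠ 0) (hb : Q b ≠ 0) (hab : Q b = Q a) :
    reflElt Q a ha * reflElt Q (act Q z a) (by rw [Q_act]; exact ha)
      = reflElt Q b hb * reflElt Q (act Q z b) (by rw [Q_act]; exact hb) := by
  have h1 := hz a b ha hb hab
  have hza : Q (act Q z a) ≠ 0 := by rw [Q_act]; exact ha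
  have hzb : Q (act Q z b) ≠ 0 := by rw [Q_act]; exact hb
  have h2 : reflElt Q (act Q z a) hza * reflElt Q (act Q z b) hzb
      = reflElt Q a ha * reflElt Q b hb := by
    have e1 : reflElt Q (act Q z a) hza = z * reflElt Q a ha * z⁻¹ := (conj_reflElt Q z a ha).symm
    have e2 : reflElt Q (act Q z b) hzb = z * reflElt Q b hb * z⁻¹ := (conj_reflElt Q z b hb).symm
    rw [e1, e2]
    calc z * reflElt Q a ha * z⁻¹ * (z * reflElt Q b hb * z⁻¹)
        = z * (reflElt Q a ha * reflElt Q b hb) * z⁻¹ := by group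
      _ = (reflElt Q a ha * reflElt Q b hb) * z * z⁻¹ := by rw [h1]
      _ = reflElt Q a ha * reflElt Q b hb := by group
  calc reflElt Q a ha * reflElt Q (act Q z a) hza
      = reflElt Q a ha * (reflElt Q (act Q z a) hza * reflElt Q (act Q z b) hzb)
          * reflElt Q (act Q z b) hzb := by
        rw [mul_assoc, mul_assoc, reflElt_mul_self, mul_one]
    _ = reflElt Q a ha * (reflElt Q a ha * reflElt Q b hb) * reflElt Q (act Q z b) hzb := by
        rw [h2]
    _ = reflElt Q b hb * reflElt Q (act Q z b) hzb := by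
        rw [← mul_assoc, reflElt_mul_self, one_mul]


theorem reflElt_ext (Q : QuadraticForm F (ι → F)) (g h : ↥(Cfsg.isometryGroup F ⇑Q))
    (H : ∀ x, act Q g x = act Q h x) : g = h := by
  apply Subtype.ext
  apply Units.ext
  apply Matrix.mulVec_injective
  funext x
  exact H x

theorem reflElt_smul (Q : QuadraticForm F (ι → F)) (a : ι → F) (ha : Q a ≠ 0) (t : F) (ht : t ≠ 0)
    (hta : Q (t • a) ≠ 0) : reflElt Q (t • a) hta = reflElt Q a ha := by
  apply reflElt_ext
  intro x
  rw [act_refl, act_refl, QuadraticMap.map_smul, polar_smul_left, smul_smul, smul_eq_mul,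
    smul_eq_mul]
  congr 2
  field_simp

/-- a reflection determines its centre up to scalars -/
theorem exists_smul_of_reflElt_eq (Q : QuadraticForm F (ι → F))
    (hQ : (QuadraticMap.polarBilin Q).Nondegenerate) (a a' : ι → F) (ha : Q a ≠ 0)
    (ha' : Q a' ≠ 0) (h : reflElt Q a ha = reflElt Q a' ha') : ∃ t : F, a' = t • a := by
  have ha0 : a ≠ 0 := by
    rintro rfl
    exact ha (map_zero Q)
  have ha'0 : a' ≠ 0 := by
    rintro rfl
    exact ha' (map_zero Q)
  obtain ⟨y, hy⟩ : ∃ y, polar ⇑Q a' y ≠ 0 := by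
    by_contra hcon
    push Not at hcon
    exact ha'0 (hQ.1 a' hcon)
  have h1 : act Q (reflElt Q a ha) y = act Q (reflElt Q a' ha') y := by rw [h]
  rw [act_refl, act_refl] at h1
  have h2 : ((Q a)⁻¹ * polar ⇑Q a y) • a = ((Q a')⁻¹ * polar ⇑Q a' y) • a' := by
    have := sub_right_injective h1
    exact this
  have h3 : (Q a')⁻¹ * polar ⇑Q a' y ≠ 0 := mul_ne_zero (inv_ne_zero ha') hy
  refine ⟨((Q a')⁻¹ * polar ⇑Q a' y)⁻¹ * ((Q a)⁻¹ * polar ⇑Q a y), ?_⟩
  rw [← smul_smul, h2, smul_smul, inv_mul_cancel₀ h3, one_smul]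


/-- Step 1: an isometry centralising all products of two reflections of equal norm fixes every
nonsingular point, provided no norm class lies in a plane -/
theorem act_eq_smul (Q : QuadraticForm F (ι → F))
    (hQ : (QuadraticMap.polarBilin Q).Nondegenerate) (z : ↥(Cfsg.isometryGroup F ⇑Q))
    (hz : ∀ (a b : ι → F) (ha : Q a ≠ 0) (hb : Q b ≠ 0), Q b = Q a →
      z * (reflElt Q a ha * reflElt Q b hb) = (reflElt Q a ha * reflElt Q b hb) * z)
    (h3 : ∀ c : F, c ≠ 0 → ∀ u v : ι → F, ∃ b, Q b = c ∧ b ∉ Submodule.span F {u, v})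
    (a₀ : ι → F) (ha₀ : Q a₀ ≠ 0) : ∃ μ : F, act Q z a₀ = μ • a₀ := by
  by_contra hne
  push Not at hne
  set a₁ := act Q z a₀ with ha₁
  have hQa₁ : Q a₁ ≠ 0 := by rw [ha₁, Q_act]; exact ha₀
  obtain ⟨b, hb, hbnot⟩ := h3 (Q a₀) ha₀ a₀ a₁
  have hb0 : Q b ≠ 0 := by rw [hb]; exact ha₀
  have hzb : Q (act Q z b) ≠ 0 := by rw [Q_act]; exact hb0
  have key := key_identity Q z hz a₀ b ha₀ hb0 hb
  -- the product `r_{a₀} r_{a₁}` is not the identity
  have hne1 : reflElt Q a₀ ha₀ * reflElt Q a₁ hQa₁ ≠ 1 := by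
    intro h1
    have h2 : reflElt Q a₀ ha₀ = reflElt Q a₁ hQa₁ := by
      calc reflElt Q a₀ ha₀ = reflElt Q a₀ ha₀ * (reflElt Q a₁ hQa₁ * reflElt Q a₁ hQa₁) := by
            rw [reflElt_mul_self, mul_one]
        _ = reflElt Q a₁ hQa₁ := by rw [← mul_assoc, h1, one_mul]
    obtain ⟨t, ht⟩ := exists_smul_of_reflElt_eq Q hQ a₀ a₁ ha₀ hQa₁ h2
    exact hne t ht
  apply hbnot
  apply mem_span_pair_of_orth Q hQ
  intro x hx0 hx1
  by_contra hbx
  have e1 : act Q (reflElt Q a₀ ha₀ * reflElt Q a₁ hQa₁) x = x := by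
    rw [act_mul, act_refl, act_refl, hx1, mul_zero, zero_smul, sub_zero, hx0, mul_zero, zero_smul,
      sub_zero]
  rw [key, act_mul] at e1
  have e2 : act Q (reflElt Q (act Q z b) hzb) x = act Q (reflElt Q b hb0) x := by
    have := congrArg (act Q (reflElt Q b hb0)) e1
    rw [← act_mul, reflElt_mul_self, act_one] at this
    exact this
  rw [act_refl, act_refl] at e2
  have e3 : ((Q (act Q z b))⁻¹ * polar ⇑Q (act Q z b) x) • act Q z b
      = ((Q b)⁻¹ * polar ⇑Q b x) • b := sub_right_injective e2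
  have h4 : (Q b)⁻¹ * polar ⇑Q b x ≠ 0 := mul_ne_zero (inv_ne_zero hb0) hbx
  have e4 : b = (((Q b)⁻¹ * polar ⇑Q b x)⁻¹ * ((Q (act Q z b))⁻¹ * polar ⇑Q (act Q z b) x))
      • act Q z b := by
    rw [← smul_smul, e3, smul_smul, inv_mul_cancel₀ h4, one_smul]
  set ν := ((Q b)⁻¹ * polar ⇑Q b x)⁻¹ * ((Q (act Q z b))⁻¹ * polar ⇑Q (act Q z b) x) with hν
  have hν0 : ν ≠ 0 := by
    intro h0
    rw [h0, zero_smul] at e4
    rw [e4, map_zero] at hb0
    exact hb0 rfl
  have hνb : Q (ν • act Q z b) ≠ 0 := by rw [← e4]; exact hb0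
  have e5 : reflElt Q b hb0 = reflElt Q (act Q z b) hzb := by
    rw [← reflElt_smul Q (act Q z b) hzb ν hν0 hνb]
    congr 1
  apply hne1
  rw [key, e5, reflElt_mul_self]


theorem act_add (Q : QuadraticForm F (ι → F)) (z : ↥(Cfsg.isometryGroup F ⇑Q)) (x y : ι → F) :
    act Q z (x + y) = act Q z x + act Q z y := Matrix.mulVec_add _ _ _

theorem act_smul (Q : QuadraticForm F (ι → F)) (z : ↥(Cfsg.isometryGroup F ⇑Q)) (t : F)
    (x : ι → F) : act Q z (t • x) = t • act Q z x := Matrix.mulVec_smul _ _ _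

theorem eq_smul_one_of_span (Q : QuadraticForm F (ι → F)) (z : ↥(Cfsg.isometryGroup F ⇑Q))
    (lam : F) (hspan : Submodule.span F {a : ι → F | Q a = 1} = ⊤)
    (h : ∀ a : ι → F, Q a = 1 → act Q z a = lam • a) :
    ((z : Matrix.GeneralLinearGroup ι F) : Matrix ι ι F) = lam • (1 : Matrix ι ι F) := by
  have h1 : Matrix.mulVecLin ((z : Matrix.GeneralLinearGroup ι F) : Matrix ι ι F)
      = Matrix.mulVecLin (lam • (1 : Matrix ι ι F)) := by
    apply LinearMap.ext_on hspan
    intro a ha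
    rw [Matrix.mulVecLin_apply, Matrix.mulVecLin_apply, Matrix.smul_mulVec, Matrix.one_mulVec]
    exact h a ha
  apply Matrix.mulVec_injective
  funext x
  exact LinearMap.congr_fun h1 x

/-- Step 2: such an isometry is `±1` -/
theorem eq_one_or_neg_one (Q : QuadraticForm F (ι → F))
    (hQ : (QuadraticMap.polarBilin Q).Nondegenerate) (z : ↥(Cfsg.isometryGroup F ⇑Q))
    (hz : ∀ (a b : ι → F) (ha : Q a ≠ 0) (hb : Q b ≠ 0), Q b = Q a →
      z * (reflElt Q a ha * reflElt Q b hb) = (reflElt Q a ha * reflElt Q b hb) * z)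
    (h3 : ∀ c : F, c ≠ 0 → ∀ u v : ι → F, ∃ b, Q b = c ∧ b ∉ Submodule.span F {u, v})
    (hspan : Submodule.span F {a : ι → F | Q a = 1} = ⊤) :
    ((z : Matrix.GeneralLinearGroup ι F) : Matrix ι ι F) = 1 ∨
      ((z : Matrix.GeneralLinearGroup ι F) : Matrix ι ι F) = -1 := by
  have hμ : ∀ a : ι → F, Q a ≠ 0 → ∃ μ : F, act Q z a = μ • a ∧ μ * μ = 1 := by
    intro a ha
    obtain ⟨μ, hμ⟩ := act_eq_smul Q hQ z hz h3 a ha
    refine ⟨μ, hμ, ?_⟩
    have := Q_act Q z a
    rw [hμ, QuadraticMap.map_smul, smul_eq_mul] at this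
    have h2 : (μ * μ - 1) * Q a = 0 := by linear_combination this
    rcases mul_eq_zero.mp h2 with h2 | h2
    · exact sub_eq_zero.mp h2
    · exact absurd h2 ha
  by_cases h2 : (2 : F) = 0
  · left
    have := eq_smul_one_of_span Q z 1 hspan (by
      intro a ha
      obtain ⟨μ, hμa, hμ2⟩ := hμ a (by rw [ha]; exact one_ne_zero)
      have : (μ - 1) * (μ - 1) = 0 := by linear_combination hμ2 - μ * h2 + h2
      have hμ1 : μ = 1 := sub_eq_zero.mp (mul_self_eq_zero.mp this)
      rw [hμa, hμ1])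
    rw [this, one_smul]
  · obtain ⟨a₁, ha₁, -⟩ := h3 1 one_ne_zero 0 0
    have ha₁0 : Q a₁ ≠ 0 := by rw [ha₁]; exact one_ne_zero
    obtain ⟨lam, hlam, hlam2⟩ := hμ a₁ ha₁0
    have ha₁ne : a₁ ≠ 0 := by
      rintro rfl
      exact ha₁0 (map_zero Q)
    have hall : ∀ a : ι → F, Q a = 1 → act Q z a = lam • a := by
      intro a ha
      have ha0 : Q a ≠ 0 := by rw [ha]; exact one_ne_zero
      obtain ⟨μ, hμa, hμ2⟩ := hμ a ha0
      by_cases hdep : ∃ t : F, a = t • a₁
      · obtain ⟨t, rfl⟩ := hdep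
        rw [act_smul, hlam, smul_comm]
      · push Not at hdep
        have h4 : Q (a + a₁) + Q (a - a₁) = 4 := by
          have e1 := QuadraticMap.map_add Q a a₁
          have e2 : Q (a - a₁) = Q a + Q a₁ - polar ⇑Q a a₁ := quad_sub Q a a₁
          rw [e1, e2, ha, ha₁]
          ring
        have h4' : (4 : F) ≠ 0 := by
          have : (4 : F) = 2 * 2 := by norm_num
          rw [this]
          exact mul_ne_zero h2 h2
        have hcase : ∃ ε : F, ε ≠ 0 ∧ Q (a + ε • a₁) ≠ 0 := by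
          by_cases h5 : Q (a + a₁) = 0
          · refine ⟨-1, neg_ne_zero.mpr one_ne_zero, ?_⟩
            rw [neg_one_smul, ← sub_eq_add_neg]
            intro h6
            rw [h5, h6, add_zero] at h4
            exact h4' h4.symm
          · exact ⟨1, one_ne_zero, by rw [one_smul]; exact h5⟩
        obtain ⟨ε, hε, hu⟩ := hcase
        obtain ⟨ν, hν, -⟩ := hμ _ hu
        rw [act_add, act_smul, hμa, hlam, smul_add] at hν
        have h6 : (μ - ν) • a = (ε * (ν - lam)) • a₁ := by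
          have : μ • a + ε • lam • a₁ - (ν • a + ν • ε • a₁) = 0 := sub_eq_zero.mpr hν
          rw [sub_smul, mul_smul, sub_smul, smul_sub]
          rw [smul_comm ν ε a₁] at this
          linear_combination (exp := 1) this
        have h7 : μ = ν := by
          by_contra hne
          have hne' : μ - ν ≠ 0 := sub_ne_zero.mpr hne
          apply hdep ((μ - ν)⁻¹ * (ε * (ν - lam)))
          rw [← smul_smul, ← h6, smul_smul, inv_mul_cancel₀ hne', one_smul]
        rw [h7, sub_self, zero_smul] at h6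
        have h8 : ε * (ν - lam) = 0 := by
          by_contra hne
          exact ha₁ne ((smul_eq_zero.mp h6.symm).resolve_left hne)
        have h9 : ν = lam := sub_eq_zero.mp ((mul_eq_zero.mp h8).resolve_left hε)
        rw [hμa, h7, h9]
    have hmat := eq_smul_one_of_span Q z lam hspan hall
    have hl : lam = 1 ∨ lam = -1 := by
      have : (lam - 1) * (lam + 1) = 0 := by linear_combination hlam2
      rcases mul_eq_zero.mp this with h | h
      · left; exact sub_eq_zero.mp h
      · right; exact eq_neg_of_add_eq_zero_left h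
    rcases hl with rfl | rfl
    · left; rw [hmat, one_smul]
    · right; rw [hmat, neg_one_smul]

end Cfsg.Agent.Lib.Helper37
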