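import Mathlib
import Cfsg.Agent.Lib.Helper37.OrthField7

set_option autoImplicit false
set_option linter.unusedSectionVars false
set_option linter.unusedVariables false

/-!
# Lattices of semisimilarities of finite order, and the relative conjugacy theorem
-/

namespace Cfsg.Agent.Lib.Helper37.OrthField

open Matrix Module QuadraticMap
open Cfsg.Agent.Lib.Helper37
open Cfsg.Agent.Lib.Helper45.AutPSL (tw uS norm_surj h90_units)

universe u

variable {ι : Type} [Fintype ι] [DecidableEq ι] {F : Type u} [Field F]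
variable {F₀ : Type*} [Field F₀] (j : F₀ →+* F)

/-- `(z, b, μ, P₀)` is a lattice datum of the pair `p`: after the scalar adjustment `z` the
semilinear map of `p` is `b σ b⁻¹`, and `P₀` is the form `μ Q ∘ b` on the rational lattice -/
def IsLattice (Q : QuadraticForm F (ι → F)) (σ : F ≃+* F) (p : GamL ι F) (z : Fˣ) (b : GL ι F)
    (μ : Fˣ) (P₀ : QuadraticForm F₀ (ι → F₀)) : Prop :=
  (∀ v, sm (sc z * p) ((b : Matrix ι ι F) *ᵥ v) = (b : Matrix ι ι F) *ᵥ vm σ v) ∧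
  (∀ w, j (P₀ w) = μ * Q ((b : Matrix ι ι F) *ᵥ jv j w))

/-- existence of lattice data -/
theorem exists_lattice [Fintype F] [Nonempty ι] (Q : QuadraticForm F (ι → F))
    (hne : ∃ v, Q v ≠ 0)
    (σ : F ≃+* F) (hj : ∀ a, σ a = a ↔ a ∈ Set.range j)
    (r : ℕ) (hr : orderOf σ = r) (hr0 : 0 < r)
    (p : GamL ι F) (hp : p ∈ semiO ⇑Q) (hpr : p.right = σ) (c : Fˣ) (hpc : p ^ r = sc c) :
    ∃ (z : Fˣ) (b : GL ι F) (μ : Fˣ) (P₀ : QuadraticForm F₀ (ι → F₀)),
      IsLattice j Q σ p z b μ P₀ := by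
  classical
  obtain ⟨z, hz⟩ := exists_scalar_adjust p r (by rw [hpr]; exact hr) hr0 c hpc
  set p' : GamL ι F := sc z * p with hp'
  have hp'r : p'.right = σ := by
    rw [hp', SemidirectProduct.mul_right, sc_right, one_mul, hpr]
  have hp'm : p' ∈ semiO ⇑Q := by
    rw [hp']
    exact (semiO ⇑Q).mul_mem (sc_mem_semiO Q z) hp
  obtain ⟨b, hb⟩ := h90 p' r (by rw [hp'r]; exact hr) hr0 hz
  rw [hp'r] at hb
  have hsb : ∀ v, sm p' ((b : Matrix ι ι F) *ᵥ v) = (b : Matrix ι ι F) *ᵥ vm σ v := by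
    intro v
    unfold sm
    rw [hp'r, ← map_mulVec_vm, Matrix.mulVec_mulVec, ← gm_val, ← Units.val_mul, hb]
  obtain ⟨c', hc'⟩ := hp'm
  rw [hp'r] at hc'
  set P : QuadraticForm F (ι → F) := Q.comp (Matrix.mulVecLin (b : Matrix ι ι F)) with hPdef
  have hPa : ∀ v, P v = Q ((b : Matrix ι ι F) *ᵥ v) := fun v => rfl
  have hPσ : ∀ v, P (vm σ v) = c' * σ (P v) := by
    intro v
    rw [hPa, ← hsb, hc', hPa]
  have hPk : ∀ (k : ℕ) (v : ι → F), P (vm (σ ^ k) v) = nrm σ c' k * (σ ^ k) (P v) := by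
    intro k
    induction k with
    | zero => intro v; simp [nrm, vm_one]
    | succ k ih =>
      intro v
      rw [pow_succ', vm_mul, hPσ, ih, nrm, map_mul, Units.val_mul, Units.coe_map, mul_assoc]
      rfl
  have hσr : σ ^ r = 1 := by rw [← hr]; exact pow_orderOf_eq_one σ
  obtain ⟨v₀, hv₀⟩ := hne
  have hnrm : nrm σ c' r = 1 := by
    have h1 := hPk r (((b⁻¹ : GL ι F) : Matrix ι ι F) *ᵥ v₀)
    rw [hσr, vm_one, RingAut.one_apply] at h1
    have h2 : P (((b⁻¹ : GL ι F) : Matrix ι ι F) *ᵥ v₀) ≠ 0 := by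
      rw [hPa, Cfsg.Agent.Lib.Helper94.mulVec_inv_mulVec]
      exact hv₀
    have h3 : ((nrm σ c' r : Fˣ) : F) = 1 := by
      have : (1 - ((nrm σ c' r : Fˣ) : F)) * P (((b⁻¹ : GL ι F) : Matrix ι ι F) *ᵥ v₀) = 0 := by
        rw [sub_mul, one_mul, ← h1, sub_self]
      rcases mul_eq_zero.1 this with h4 | h4
      · exact (sub_eq_zero.1 h4).symm
      · exact absurd h4 h2
    exact Units.ext h3
  have htw : tw (uS σ) c' r = 1 := by
    have : ∀ k, nrm σ c' k = tw (uS σ) c' k := by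
      intro k
      induction k with
      | zero => rfl
      | succ k ih => rw [nrm, Cfsg.Agent.Lib.Helper45.AutPSL.tw_succ, ih]; rfl
    rw [← this, hnrm]
  obtain ⟨μ, hμ⟩ := h90_units σ r hr hr0 c' htw
  have hμ' : (c' : F) * σ (μ : F) = μ := by
    have := congrArg Units.val hμ
    rw [Units.val_mul] at this
    exact this
  set P'' : QuadraticForm F (ι → F) := ((μ⁻¹ : Fˣ) : F) • P with hP''def
  have hP''a : ∀ v, P'' v = ((μ⁻¹ : Fˣ) : F) * Q ((b : Matrix ι ι F) *ᵥ v) := fun v => rfl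
  have hP''σ : ∀ v, P'' (vm σ v) = σ (P'' v) := by
    intro v
    have h1 : P'' (vm σ v) = ((μ⁻¹ : Fˣ) : F) * (c' * σ (P v)) := by
      rw [hP''a, ← hPa, hPσ]
    have h2 : σ (P'' v) = σ ((μ⁻¹ : Fˣ) : F) * σ (P v) := by
      rw [hP''a, map_mul, ← hPa]
    rw [h1, h2]
    have h3 : ((μ⁻¹ : Fˣ) : F) * (c' : F) = σ ((μ⁻¹ : Fˣ) : F) := by
      have hμ0 : (μ : F) ≠ 0 := μ.ne_zero
      have hσμ0 : σ (μ : F) ≠ 0 := by
        intro hh
        exact hμ0 ((map_eq_zero σ).1 hh)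
      rw [Units.val_inv_eq_inv_val, map_inv₀]
      apply eq_inv_of_mul_eq_one_left
      rw [mul_assoc, hμ', inv_mul_cancel₀ hμ0]
    rw [← mul_assoc, h3]
  have hP''r : ∀ w : ι → F₀, P'' (jv j w) ∈ Set.range j := by
    intro w
    rw [← hj, ← hP''σ, vm_jv j σ hj]
  set P₀ := descQ j P'' hP''r with hP₀
  have hP₀s : ∀ w, j (P₀ w) = ((μ⁻¹ : Fˣ) : F) * Q ((b : Matrix ι ι F) *ᵥ jv j w) := by
    intro w
    rw [hP₀, descQ_spec, hP''a]
  exact ⟨z, b, μ⁻¹, P₀, hsb, hP₀s⟩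

/-- the relative conjugacy theorem: two pairs with isometric (up to a scalar) lattices are
conjugate under the similarity group, modulo scalars -/
theorem rel_master [Nonempty ι] (Q : QuadraticForm F (ι → F))
    (σ : F ≃+* F) (hj : ∀ a, σ a = a ↔ a ∈ Set.range j)
    (p q : GamL ι F) (hpr : p.right = σ) (hqr : q.right = σ)
    (z z' : Fˣ) (b b' : GL ι F) (μ μ' : Fˣ) (P₀ P₀' : QuadraticForm F₀ (ι → F₀))
    (hL : IsLattice j Q σ p z b μ P₀) (hL' : IsLattice j Q σ q z' b' μ' P₀')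
    (k₀ : GL ι F₀) (l : F₀ˣ) (hk : ∀ w, P₀' ((k₀ : Matrix ι ι F₀) *ᵥ w) = l * P₀ w) :
    ∃ (t : GL ι F) (y : Fˣ), t ∈ Cfsg.Geo.quadSimilarityGroup (F := F) ⇑Q ∧
      sc y * q * SemidirectProduct.inl t = SemidirectProduct.inl t * p := by
  classical
  obtain ⟨hsb, hP⟩ := hL
  obtain ⟨hsb', hP'⟩ := hL'
  set t : GL ι F := b' * mapGL j k₀ * b⁻¹ with ht
  have htb : ∀ v, (t : Matrix ι ι F) *ᵥ ((b : Matrix ι ι F) *ᵥ v) =
      (b' : Matrix ι ι F) *ᵥ (((mapGL j k₀ : GL ι F) : Matrix ι ι F) *ᵥ v) := by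
    intro v
    rw [ht, Units.val_mul, Units.val_mul, Matrix.mulVec_mulVec, Matrix.mulVec_mulVec,
      Matrix.mul_assoc, Matrix.mul_assoc, ← Units.val_mul b⁻¹ b, inv_mul_cancel, Units.val_one,
      Matrix.mul_one]
  set κ : F := ((μ'⁻¹ : Fˣ) : F) * j l * μ with hκ
  have hκ0 : κ ≠ 0 := by
    rw [hκ]
    refine mul_ne_zero (mul_ne_zero (Units.ne_zero _) ?_) μ.ne_zero
    intro hh
    exact l.ne_zero ((map_eq_zero j).1 hh)
  have h1 : ∀ w : ι → F₀, Q ((t : Matrix ι ι F) *ᵥ ((b : Matrix ι ι F) *ᵥ jv j w))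
      = κ * Q ((b : Matrix ι ι F) *ᵥ jv j w) := by
    intro w
    rw [htb, mapGL_mulVec]
    have e1 := hP' ((k₀ : Matrix ι ι F₀) *ᵥ w)
    rw [hk, map_mul, hP] at e1
    have hμ'0 : (μ' : F) ≠ 0 := μ'.ne_zero
    rw [hκ, Units.val_inv_eq_inv_val]
    field_simp
    linear_combination -e1
  have h2 := quad_eq_of_lattice j
    (Q.comp (Matrix.mulVecLin ((t * b : GL ι F) : Matrix ι ι F)))
    (κ • Q.comp (Matrix.mulVecLin (b : Matrix ι ι F)))
    (by
      intro w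
      show Q (((t * b : GL ι F) : Matrix ι ι F) *ᵥ jv j w) = κ * Q ((b : Matrix ι ι F) *ᵥ jv j w)
      rw [Units.val_mul, ← Matrix.mulVec_mulVec]
      exact h1 w)
  have htmem : t ∈ Cfsg.Geo.quadSimilarityGroup (F := F) ⇑Q := by
    refine ⟨Units.mk0 κ hκ0, fun v => ?_⟩
    have e1 := h2 (((b⁻¹ : GL ι F) : Matrix ι ι F) *ᵥ v)
    have e2 : Q (((t * b : GL ι F) : Matrix ι ι F) *ᵥ (((b⁻¹ : GL ι F) : Matrix ι ι F) *ᵥ v))
        = κ * Q ((b : Matrix ι ι F) *ᵥ (((b⁻¹ : GL ι F) : Matrix ι ι F) *ᵥ v)) := e1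
    rw [Matrix.mulVec_mulVec, ← Units.val_mul, mul_inv_cancel_right,
      Cfsg.Agent.Lib.Helper94.mulVec_inv_mulVec] at e2
    rw [e2]
    rfl
  refine ⟨t, z⁻¹ * z', htmem, ?_⟩
  have hkey : (sc z' * q) * SemidirectProduct.inl t = SemidirectProduct.inl t * (sc z * p) := by
    apply sm_injective
    · simp only [SemidirectProduct.mul_right, sc_right, hpr, hqr,
        SemidirectProduct.right_inl, mul_one, one_mul]
    · intro v
      have hv : v = (b : Matrix ι ι F) *ᵥ (((b⁻¹ : GL ι F) : Matrix ι ι F) *ᵥ v) := by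
        rw [Cfsg.Agent.Lib.Helper94.mulVec_inv_mulVec]
      rw [hv]
      generalize ((b⁻¹ : GL ι F) : Matrix ι ι F) *ᵥ v = u
      have e1 : sm ((sc z' * q) * SemidirectProduct.inl t) ((b : Matrix ι ι F) *ᵥ u) =
          (b' : Matrix ι ι F) *ᵥ vm σ (((mapGL j k₀ : GL ι F) : Matrix ι ι F) *ᵥ u) := by
        rw [sm_mul (sc z' * q) (SemidirectProduct.inl t), sm_inl, htb, hsb']
      have e2 : sm (SemidirectProduct.inl t * (sc z * p)) ((b : Matrix ι ι F) *ᵥ u) =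
          (b' : Matrix ι ι F) *ᵥ (((mapGL j k₀ : GL ι F) : Matrix ι ι F) *ᵥ vm σ u) := by
        rw [sm_mul (SemidirectProduct.inl t) (sc z * p), hsb, sm_inl, htb]
      rw [e1, e2, ← map_mulVec_vm, ← gm_val, gm_mapGL j σ hj]
  have hcomm : (sc z : GamL ι F) * SemidirectProduct.inl t = SemidirectProduct.inl t * sc z := by
    apply sm_injective
    · simp [SemidirectProduct.mul_right, sc_right]
    · intro v
      rw [sm_mul, sm_mul, sm_sc, sm_inl, sm_inl, sm_sc, Matrix.mulVec_smul]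
  calc sc (z⁻¹ * z') * q * SemidirectProduct.inl t
      = sc z⁻¹ * ((sc z' * q) * SemidirectProduct.inl t) := by rw [map_mul]; group
    _ = sc z⁻¹ * (SemidirectProduct.inl t * (sc z * p)) := by rw [hkey]
    _ = sc z⁻¹ * ((SemidirectProduct.inl t * sc z) * p) := by group
    _ = sc z⁻¹ * ((sc z * SemidirectProduct.inl t) * p) := by rw [hcomm]
    _ = SemidirectProduct.inl t * p := by rw [map_inv]; group

end Cfsg.Agent.Lib.Helper37.OrthField
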