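import Mathlib
import Cfsg.Agent.Lib.Helper37.OrthRel
import Cfsg.Agent.Lib.Helper43.ClassifyMinus
import Cfsg.Agent.Lib.Helper43.QbarFacts
import Cfsg.Agent.Lib.Helper8.SpOrthB

set_option autoImplicit false
set_option linter.unusedSectionVars false
set_option linter.unusedVariables false

/-!
# Types of lattices: zero counts, conjugacy of pairs with lattices of the same type
-/

namespace Cfsg.Agent.Lib.Helper37.OrthField

open Matrix Module QuadraticMap
open Cfsg.Agent.Lib.Helper37 Cfsg.Agent.Lib.Helper43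

universe u

variable {ι : Type} [Fintype ι] [DecidableEq ι]

/-- two nondegenerate forms of the same even dimension over a finite field with the same zero
count are isometric -/
theorem exists_isometry_of_card_eq {K : Type u} [Field K] [Fintype K] {N : ℕ}
    (hN : Fintype.card ι = 2 * N)
    (P P' : QuadraticForm K (ι → K)) (hP : (polarBilin P).Nondegenerate)
    (hP' : (polarBilin P').Nondegenerate)
    (hc : Nat.card {w : ι → K // P w = 0} = Nat.card {w : ι → K // P' w = 0}) :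
    ∃ k₀ : GL ι K, ∀ w, P' ((k₀ : Matrix ι ι K) *ᵥ w) = P w := by
  have hdim : finrank K (ι → K) = 2 * N := by rw [Module.finrank_fintype_fun_eq_card, hN]
  rcases ZeroCount.card_zeros_dichotomy (ι → K) P hP N hdim with h1 | ⟨hN1, h1⟩
  · have h1' := h1
    rw [hc] at h1'
    obtain ⟨Θ, hΘ⟩ := classify_plus (ι → K) P hP N hdim h1
    obtain ⟨Θ', hΘ'⟩ := classify_plus (ι → K) P' hP' N hdim h1'
    refine ⟨glOfEquiv (Θ.trans Θ'.symm), fun w => ?_⟩
    rw [glOfEquiv_mulVec, ← hΘ', ← hΘ]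
    simp
  · obtain ⟨a, c, hac⟩ := OrthGen.exists_aniso K
    have h1' := h1
    rw [hc] at h1'
    have hdim' : finrank K (ι → K) = 2 * (N - 1) + 2 := by omega
    obtain ⟨Θ, hΘ⟩ := ZeroCount.classify_minus_gen a c hac (ι → K) P hP (N - 1) hdim' h1
    obtain ⟨Θ', hΘ'⟩ := ZeroCount.classify_minus_gen a c hac (ι → K) P' hP' (N - 1) hdim' h1'
    refine ⟨glOfEquiv (Θ.trans Θ'.symm), fun w => ?_⟩
    rw [glOfEquiv_mulVec, ← hΘ', ← hΘ]
    simp

variable {F : Type u} [Field F] {F₀ : Type u} [Field F₀] (j : F₀ →+* F)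

/-- two pairs with lattices of the same type are conjugate modulo scalars -/
theorem lattice_conj [Fintype F₀] [Nonempty ι] {N : ℕ} (hN : Fintype.card ι = 2 * N)
    (Q : QuadraticForm F (ι → F)) (hQ : (polarBilin Q).Nondegenerate)
    (σ : F ≃+* F) (hj : ∀ a, σ a = a ↔ a ∈ Set.range j)
    (p q : GamL ι F) (hpr : p.right = σ) (hqr : q.right = σ)
    (z z' : Fˣ) (b b' : GL ι F) (μ μ' : Fˣ) (P₀ P₀' : QuadraticForm F₀ (ι → F₀))
    (hL : IsLattice j Q σ p z b μ P₀) (hL' : IsLattice j Q σ q z' b' μ' P₀')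
    (hc : Nat.card {w : ι → F₀ // P₀ w = 0} = Nat.card {w : ι → F₀ // P₀' w = 0}) :
    ∃ (t : GL ι F) (y : Fˣ), t ∈ Cfsg.Geo.quadSimilarityGroup (F := F) ⇑Q ∧
      sc y * q * SemidirectProduct.inl t = SemidirectProduct.inl t * p := by
  have h1 := nondeg_of_rel j Q hQ P₀ b μ hL.2
  have h2 := nondeg_of_rel j Q hQ P₀' b' μ' hL'.2
  obtain ⟨k₀, hk₀⟩ := exists_isometry_of_card_eq hN P₀ P₀' h1 h2 hc
  exact rel_master j Q σ hj p q hpr hqr z z' b b' μ μ' P₀ P₀' hL hL' k₀ 1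
    (fun w => by rw [hk₀, Units.val_one, one_mul])

/-- rectangular base change of matrices acts compatibly on rational vectors -/
theorem map_mulVec_jv {κ : Type} [Fintype κ] (M : Matrix κ ι F₀) (w : ι → F₀) :
    (M.map j) *ᵥ (jv j w) = jv j (M *ᵥ w) := by
  funext i
  simp only [Matrix.mulVec, dotProduct, jv_apply, Matrix.map_apply, map_sum, map_mul]

/-- the zero count of the big form computed from a rational model of a lattice form -/
theorem card_zeros_base_change {κ : Type} [Fintype κ] [DecidableEq κ]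
    (Q : QuadraticForm F (ι → F)) (b : GL ι F) (μ : Fˣ) (P₀ : QuadraticForm F₀ (ι → F₀))
    (h : ∀ w, j (P₀ w) = μ * Q ((b : Matrix ι ι F) *ᵥ jv j w))
    (R₀ : QuadraticForm F₀ (κ → F₀)) (R : QuadraticForm F (κ → F))
    (hR : ∀ u, R (jv j u) = j (R₀ u))
    (Θ : (ι → F₀) ≃ₗ[F₀] (κ → F₀)) (hΘ : ∀ w, R₀ (Θ w) = P₀ w) :
    Nat.card {v : ι → F // Q v = 0} = Nat.card {u : κ → F // R u = 0} := by
  classical
  set T₀ : Matrix κ ι F₀ := LinearMap.toMatrix' Θ.toLinearMap with hT₀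
  set S₀ : Matrix ι κ F₀ := LinearMap.toMatrix' Θ.symm.toLinearMap with hS₀
  have hTS : T₀ * S₀ = 1 := by
    rw [hT₀, hS₀, ← LinearMap.toMatrix'_comp]
    have : Θ.toLinearMap.comp Θ.symm.toLinearMap = LinearMap.id := by
      ext x; simp
    rw [this, LinearMap.toMatrix'_id]
  have hST : S₀ * T₀ = 1 := by
    rw [hT₀, hS₀, ← LinearMap.toMatrix'_comp]
    have : Θ.symm.toLinearMap.comp Θ.toLinearMap = LinearMap.id := by
      ext x; simp
    rw [this, LinearMap.toMatrix'_id]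
  set T : Matrix κ ι F := T₀.map j with hT
  set S : Matrix ι κ F := S₀.map j with hS
  have hTS' : T * S = 1 := by
    rw [hT, hS, ← Matrix.map_mul, hTS, Matrix.map_one _ (map_zero j) (map_one j)]
  have hST' : S * T = 1 := by
    rw [hT, hS, ← Matrix.map_mul, hST, Matrix.map_one _ (map_zero j) (map_one j)]
  have hT₀w : ∀ w, T₀ *ᵥ w = Θ w := by
    intro w
    rw [hT₀, LinearMap.toMatrix'_mulVec]
    rfl
  have key := quad_eq_of_lattice j (R.comp (Matrix.mulVecLin T))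
    ((μ : F) • Q.comp (Matrix.mulVecLin (b : Matrix ι ι F)))
    (by
      intro w
      show R (T *ᵥ jv j w) = (μ : F) * Q ((b : Matrix ι ι F) *ᵥ jv j w)
      rw [hT, map_mulVec_jv, hR, hT₀w, hΘ, h])
  have key' : ∀ v, R (T *ᵥ v) = (μ : F) * Q ((b : Matrix ι ι F) *ᵥ v) := key
  refine Nat.card_congr
    { toFun := fun v => ⟨T *ᵥ (((b⁻¹ : GL ι F) : Matrix ι ι F) *ᵥ v.1), ?_⟩
      invFun := fun u => ⟨(b : Matrix ι ι F) *ᵥ (S *ᵥ u.1), ?_⟩
      left_inv := ?_
      right_inv := ?_ }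
  · rw [key', Cfsg.Agent.Lib.Helper94.mulVec_inv_mulVec, v.2, mul_zero]
  · have h1 := key' (S *ᵥ u.1)
    rw [Matrix.mulVec_mulVec, hTS', Matrix.one_mulVec, u.2] at h1
    rcases mul_eq_zero.1 h1.symm with h2 | h2
    · exact absurd h2 μ.ne_zero
    · exact h2
  · intro v
    apply Subtype.ext
    show (b : Matrix ι ι F) *ᵥ (S *ᵥ (T *ᵥ (((b⁻¹ : GL ι F) : Matrix ι ι F) *ᵥ v.1))) = v.1
    rw [Matrix.mulVec_mulVec _ S T, hST', Matrix.one_mulVec,
      Cfsg.Agent.Lib.Helper94.mulVec_inv_mulVec]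
  · intro u
    apply Subtype.ext
    show T *ᵥ (((b⁻¹ : GL ι F) : Matrix ι ι F) *ᵥ ((b : Matrix ι ι F) *ᵥ (S *ᵥ u.1))) = u.1
    rw [Matrix.mulVec_mulVec _ ((b⁻¹ : GL ι F) : Matrix ι ι F), ← Units.val_mul, inv_mul_cancel,
      Units.val_one, Matrix.one_mulVec, Matrix.mulVec_mulVec, hTS', Matrix.one_mulVec]

/-- an anisotropic binary form over the fixed field of an automorphism of odd order stays
anisotropic -/
theorem aniso_of_odd (σ : F ≃+* F) (hj : ∀ a, σ a = a ↔ a ∈ Set.range j) (r : ℕ)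
    (hr : σ ^ r = 1) (hodd : Odd r) (a c : F₀)
    (hac : ∀ z₁ z₂ : F₀, z₁ ^ 2 + a * z₁ * z₂ + c * z₂ ^ 2 = 0 → z₁ = 0 ∧ z₂ = 0) :
    ∀ z₁ z₂ : F, z₁ ^ 2 + j a * z₁ * z₂ + j c * z₂ ^ 2 = 0 → z₁ = 0 ∧ z₂ = 0 := by
  intro z₁ z₂ h
  have hσa : σ (j a) = j a := (hj _).2 ⟨a, rfl⟩
  have hσc : σ (j c) = j c := (hj _).2 ⟨c, rfl⟩
  by_cases hz2 : z₂ = 0
  · subst hz2
    refine ⟨?_, rfl⟩
    have : z₁ ^ 2 = 0 := by linear_combination h
    exact pow_eq_zero_iff (two_ne_zero) |>.1 this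
  · exfalso
    set t : F := z₁ / z₂ with ht
    have htroot : t ^ 2 + j a * t + j c = 0 := by
      rw [ht]
      field_simp
      linear_combination h
    -- no rational roots
    have hnorat : σ t ≠ t := by
      intro hfix
      obtain ⟨t₀, ht₀⟩ := (hj t).1 hfix
      have : j (t₀ ^ 2 + a * t₀ * 1 + c * 1 ^ 2) = 0 := by
        rw [map_add, map_add, map_pow, map_mul, map_mul, map_mul, map_pow, map_one, ht₀]
        linear_combination htroot
      have h0 := (map_eq_zero j).1 this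
      exact one_ne_zero (hac t₀ 1 h0).2
    have hσroot : (σ t) ^ 2 + j a * σ t + j c = 0 := by
      have := congrArg σ htroot
      rw [map_add, map_add, map_pow, map_mul, hσa, hσc, map_zero] at this
      exact this
    have hprod : (σ t - t) * (σ t + t + j a) = 0 := by
      linear_combination hσroot - htroot
    have hσt : σ t = -t - j a := by
      rcases mul_eq_zero.1 hprod with h1 | h1
      · exact absurd (sub_eq_zero.1 h1) hnorat
      · linear_combination h1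
    have hσ2 : σ (σ t) = t := by
      rw [hσt, map_sub, map_neg, hσa, hσt]
      ring
    obtain ⟨k, hk⟩ := hodd
    have hpow : ∀ n : ℕ, (σ ^ (2 * n)) t = t := by
      intro n
      induction n with
      | zero => simp
      | succ n ih =>
        rw [show 2 * (n + 1) = 2 * n + 2 by ring, pow_add, RingAut.mul_apply, pow_two,
          RingAut.mul_apply, hσ2, ih]
    have h1 : (σ ^ r) t = t := by rw [hr]; rfl
    rw [hk, pow_succ, RingAut.mul_apply] at h1
    have h2 : (σ ^ (2 * k)) (σ t) = σ t := by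
      have := congrArg σ (hpow k)
      rw [← RingAut.mul_apply, ← pow_succ', pow_succ, RingAut.mul_apply] at this
      exact this
    rw [h2] at h1
    exact hnorat h1

theorem jv_minus (m : ℕ) (a c : F₀) (u : (Fin m ⊕ Fin m) ⊕ Fin 2 → F₀) :
    Cfsg.quadFormMinus m F (j a) (j c) (jv j u) = j (Cfsg.quadFormMinus m F₀ a c u) := by
  unfold Cfsg.quadFormMinus
  simp only [jv_apply, map_add, map_sum, map_mul, map_pow]

theorem jv_plus (m : ℕ) (u : Fin m ⊕ Fin m → F₀) :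
    Cfsg.quadFormPlus m F (jv j u) = j (Cfsg.quadFormPlus m F₀ u) := by
  unfold Cfsg.quadFormPlus
  simp only [jv_apply, map_sum, map_mul]

/-- a lattice form of plus type makes the big form of plus type -/
theorem big_plus_of_lattice_plus [Fintype F] [Fintype F₀] {N : ℕ}
    (hN : Fintype.card ι = 2 * N)
    (Q : QuadraticForm F (ι → F)) (hQ : (polarBilin Q).Nondegenerate)
    (b : GL ι F) (μ : Fˣ) (P₀ : QuadraticForm F₀ (ι → F₀))
    (h : ∀ w, j (P₀ w) = μ * Q ((b : Matrix ι ι F) *ᵥ jv j w))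
    (hP : Nat.card {w : ι → F₀ // P₀ w = 0} = ZZ (Fintype.card F₀) 0 1 N) :
    Nat.card {v : ι → F // Q v = 0} = ZZ (Fintype.card F) 0 1 N := by
  have hnd := nondeg_of_rel j Q hQ P₀ b μ h
  have hdim : finrank F₀ (ι → F₀) = 2 * N := by rw [Module.finrank_fintype_fun_eq_card, hN]
  obtain ⟨Θ, hΘ⟩ := classify_plus (ι → F₀) P₀ hnd N hdim hP
  rw [card_zeros_base_change j Q b μ P₀ h (Cfsg.Agent.Lib.Helper8.plusForm N F₀)
    (Cfsg.Agent.Lib.Helper8.plusForm N F)
    (by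
      intro u
      rw [← Cfsg.Agent.Lib.Helper8.plusForm_coe, ← Cfsg.Agent.Lib.Helper8.plusForm_coe, jv_plus])
    Θ (by
      intro w
      rw [← Cfsg.Agent.Lib.Helper8.plusForm_coe]
      exact hΘ w)]
  exact Cfsg.Agent.Lib.Helper8.card_zeros_plusForm N

/-- a lattice form of minus type whose anisotropic part stays anisotropic makes the big form of
minus type -/
theorem big_minus_of_lattice_minus [Fintype F] [Fintype F₀] {N : ℕ}
    (hN : Fintype.card ι = 2 * N)
    (Q : QuadraticForm F (ι → F)) (hQ : (polarBilin Q).Nondegenerate)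
    (b : GL ι F) (μ : Fˣ) (P₀ : QuadraticForm F₀ (ι → F₀))
    (h : ∀ w, j (P₀ w) = μ * Q ((b : Matrix ι ι F) *ᵥ jv j w))
    (hN1 : 1 ≤ N)
    (hP : Nat.card {w : ι → F₀ // P₀ w = 0} = ZZ (Fintype.card F₀) 2 1 (N - 1))
    (a c : F₀)
    (hac : ∀ z₁ z₂ : F₀, z₁ ^ 2 + a * z₁ * z₂ + c * z₂ ^ 2 = 0 → z₁ = 0 ∧ z₂ = 0)
    (hac' : ∀ z₁ z₂ : F, z₁ ^ 2 + j a * z₁ * z₂ + j c * z₂ ^ 2 = 0 → z₁ = 0 ∧ z₂ = 0) :
    Nat.card {v : ι → F // Q v = 0} = ZZ (Fintype.card F) 2 1 (N - 1) := by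
  have hnd := nondeg_of_rel j Q hQ P₀ b μ h
  have hdim : finrank F₀ (ι → F₀) = 2 * (N - 1) + 2 := by
    rw [Module.finrank_fintype_fun_eq_card, hN]; omega
  obtain ⟨Θ, hΘ⟩ := ZeroCount.classify_minus_gen a c hac (ι → F₀) P₀ hnd (N - 1) hdim hP
  rw [card_zeros_base_change j Q b μ P₀ h (Cfsg.Agent.Lib.Helper8.minusForm (N - 1) F₀ a c)
    (Cfsg.Agent.Lib.Helper8.minusForm (N - 1) F (j a) (j c))
    (by
      intro u
      rw [← Cfsg.Agent.Lib.Helper8.minusForm_coe, ← Cfsg.Agent.Lib.Helper8.minusForm_coe,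
        jv_minus])
    Θ (by
      intro w
      rw [← Cfsg.Agent.Lib.Helper8.minusForm_coe]
      exact hΘ w)]
  exact Cfsg.Agent.Lib.Helper8.card_zeros_minusForm (N - 1) (j a) (j c) hac'

/-- for `σ` of odd order and `Q` of plus type, all lattices are of plus type -/
theorem lattice_plus_of_odd [Fintype F] [Fintype F₀] {N : ℕ} (hN : Fintype.card ι = 2 * N)
    (Q : QuadraticForm F (ι → F)) (hQ : (polarBilin Q).Nondegenerate)
    (hQc : Nat.card {v : ι → F // Q v = 0} = ZZ (Fintype.card F) 0 1 N)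
    (σ : F ≃+* F) (hj : ∀ a, σ a = a ↔ a ∈ Set.range j) (r : ℕ)
    (hr : σ ^ r = 1) (hodd : Odd r)
    (b : GL ι F) (μ : Fˣ) (P₀ : QuadraticForm F₀ (ι → F₀))
    (h : ∀ w, j (P₀ w) = μ * Q ((b : Matrix ι ι F) *ᵥ jv j w)) :
    Nat.card {w : ι → F₀ // P₀ w = 0} = ZZ (Fintype.card F₀) 0 1 N := by
  have hnd := nondeg_of_rel j Q hQ P₀ b μ h
  have hdim : finrank F₀ (ι → F₀) = 2 * N := by rw [Module.finrank_fintype_fun_eq_card, hN]
  rcases ZeroCount.card_zeros_dichotomy (ι → F₀) P₀ hnd N hdim with h1 | ⟨hN1, h1⟩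
  · exact h1
  · exfalso
    obtain ⟨a, c, hac⟩ := OrthGen.exists_aniso F₀
    have hac' := aniso_of_odd j σ hj r hr hodd a c hac
    have h2 := big_minus_of_lattice_minus j hN Q hQ b μ P₀ h hN1 h1 a c hac hac'
    rw [hQc] at h2
    have hF2 : 2 ≤ Fintype.card F := Fintype.one_lt_card
    have := ZZ_plus_ne_minus (Fintype.card F) hF2 (N - 1)
    rw [show N - 1 + 1 = N by omega] at this
    exact this h2

/-- for `Q` of minus type, all lattices are of minus type -/
theorem lattice_minus_of_minus [Fintype F] [Fintype F₀] {N : ℕ} (hN : Fintype.card ι = 2 * N)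
    (hN1 : 1 ≤ N)
    (Q : QuadraticForm F (ι → F)) (hQ : (polarBilin Q).Nondegenerate)
    (hQc : Nat.card {v : ι → F // Q v = 0} = ZZ (Fintype.card F) 2 1 (N - 1))
    (b : GL ι F) (μ : Fˣ) (P₀ : QuadraticForm F₀ (ι → F₀))
    (h : ∀ w, j (P₀ w) = μ * Q ((b : Matrix ι ι F) *ᵥ jv j w)) :
    Nat.card {w : ι → F₀ // P₀ w = 0} = ZZ (Fintype.card F₀) 2 1 (N - 1) := by
  have hnd := nondeg_of_rel j Q hQ P₀ b μ h
  have hdim : finrank F₀ (ι → F₀) = 2 * N := by rw [Module.finrank_fintype_fun_eq_card, hN]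
  rcases ZeroCount.card_zeros_dichotomy (ι → F₀) P₀ hnd N hdim with h1 | ⟨-, h1⟩
  · exfalso
    have h2 := big_plus_of_lattice_plus j hN Q hQ b μ P₀ h h1
    rw [hQc] at h2
    have hF2 : 2 ≤ Fintype.card F := Fintype.one_lt_card
    have := ZZ_plus_ne_minus (Fintype.card F) hF2 (N - 1)
    rw [show N - 1 + 1 = N by omega] at this
    exact this h2.symm
  · exact h1

end Cfsg.Agent.Lib.Helper37.OrthField
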