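import Mathlib
import Cfsg.Agent.Lib.Helper37.SingClass
import Cfsg.Agent.Lib.Helper8.OrthTransp
import Cfsg.Agent.Lib.Helper13.Orth

set_option autoImplicit false
set_option linter.unusedSectionVars false
set_option linter.unusedVariables false

/-!
# The two classes of maximal totally singular subspaces, in all characteristics
-/

namespace Cfsg.Agent.Lib.Helper37.ParGen

open Matrix Module Cfsg.Agent.Lib.Helper14 Cfsg.Agent.Lib.Helper37

universe u

variable {κ : Type} [Fintype κ] [DecidableEq κ] {K : Type u} [Field K]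
  {Q : (κ → K) → K} {B : LinearMap.BilinForm K (κ → K)}

/-- totally singular subspaces of half the dimension -/
def IsLag (Q : (κ → K) → K) (N : ℕ) (U : Submodule K (κ → K)) : Prop :=
  finrank K U = N ∧ ∀ l ∈ U, Q l = 0

/-- maps of subspaces permuting the Lagrangians and preserving the dimension of intersections -/
structure Adm (Q : (κ → K) → K) (N : ℕ)
    (τ : Submodule K (κ → K) → Submodule K (κ → K)) : Prop where
  lag : ∀ U, IsLag Q N U → IsLag Q N (τ U)
  inf : ∀ U W, IsLag Q N U → IsLag Q N W → finrank K ↥(τ U ⊓ τ W) = finrank K ↥(U ⊓ W)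

theorem adm_imgS {N : ℕ} (g : ↥(Cfsg.Geo.quadSimilarityGroup (F := K) Q)) :
    Adm Q N (imgS g.1) :=
  ⟨fun U hU => ⟨(finrank_imgS _ _).trans hU.1, imgS_ts g U hU.2⟩,
    fun U W _ _ => by rw [← imgS_inf, finrank_imgS]⟩

theorem qsys_of_form (Qf : QuadraticForm K (κ → K))
    (hnd : (QuadraticMap.polarBilin Qf).Nondegenerate) :
    QSys ⇑Qf (QuadraticMap.polarBilin Qf) where
  add x y := by
    rw [QuadraticMap.polarBilin_apply_apply, QuadraticMap.polar]
    ring
  smul c x := by rw [QuadraticMap.map_smul, smul_eq_mul, pow_two]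
  nondeg := hnd
  symm x y := by
    rw [QuadraticMap.polarBilin_apply_apply, QuadraticMap.polarBilin_apply_apply,
      QuadraticMap.polar_comm]

section
variable (hq : QSys Q B) {N : ℕ} (hV : finrank K (κ → K) = 2 * N)
include hq hV

theorem par3' (U W X : Submodule K (κ → K)) (hU : IsLag Q N U) (hW : IsLag Q N W)
    (hX : IsLag Q N X) :
    Even ((N - finrank K ↥(U ⊓ W)) + (N - finrank K ↥(W ⊓ X)) + (N - finrank K ↥(U ⊓ X))) :=
  hq.parity N hV _ U W X hU hW hX rfl

omit hq hV in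
theorem inf_le_N (U W : Submodule K (κ → K)) (hU : IsLag Q N U) : finrank K ↥(U ⊓ W) ≤ N :=
  hU.1 ▸ Submodule.finrank_mono inf_le_left

theorem par_indep {τ : Submodule K (κ → K) → Submodule K (κ → K)} (hτ : Adm Q N τ)
    (U E : Submodule K (κ → K)) (hU : IsLag Q N U) (hE : IsLag Q N E) :
    (N - finrank K ↥(U ⊓ τ U)) % 2 = (N - finrank K ↥(E ⊓ τ E)) % 2 := by
  have k1 := par3' hq hV U (τ U) (τ E) hU (hτ.lag U hU) (hτ.lag E hE)
  have k2 := par3' hq hV U E (τ E) hU hE (hτ.lag E hE)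
  have e1 := hτ.inf U E hU hE
  rw [e1] at k1
  have b1 := inf_le_N U (τ U) hU
  have b2 := inf_le_N U E hU
  have b3 := inf_le_N U (τ E) hU
  have b4 := inf_le_N E (τ E) hE
  rw [Nat.even_iff] at k1 k2
  omega

theorem par_comp {τ τ' : Submodule K (κ → K) → Submodule K (κ → K)} (hτ : Adm Q N τ)
    (hτ' : Adm Q N τ') (U : Submodule K (κ → K)) (hU : IsLag Q N U) :
    (N - finrank K ↥(U ⊓ τ (τ' U))) % 2 =
      ((N - finrank K ↥(U ⊓ τ U)) + (N - finrank K ↥(U ⊓ τ' U))) % 2 := by
  have k1 := par3' hq hV U (τ U) (τ (τ' U)) hU (hτ.lag U hU) (hτ.lag _ (hτ'.lag U hU))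
  have e1 := hτ.inf U (τ' U) hU (hτ'.lag U hU)
  rw [e1] at k1
  have b1 := inf_le_N U (τ U) hU
  have b2 := inf_le_N U (τ' U) hU
  have b3 := inf_le_N U (τ (τ' U)) hU
  rw [Nat.even_iff] at k1
  omega

theorem ts_finrank_le' (W : Submodule K (κ → K)) (hW : ∀ w ∈ W, Q w = 0) :
    finrank K W ≤ N := by
  have h1 := Submodule.finrank_mono (hq.le_orthogonal W hW)
  rw [LinearMap.BilinForm.finrank_orthogonal hq.nondeg, hV] at h1
  omega

theorem exists_singular_of_lt' (E : Submodule K (κ → K)) (hE : IsLag Q N E)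
    (W : Submodule K (κ → K)) (hW : ∀ w ∈ W, Q w = 0) (hlt : finrank K W < N) :
    ∃ w ∈ B.orthogonal W, w ∉ W ∧ Q w = 0 := by
  by_contra hcon
  push Not at hcon
  have hEperp : B.orthogonal E = E := hq.orthogonal_eq_self N hV E hE.1 hE.2
  have hle : B.orthogonal (E ⊔ W) ≤ E ⊓ W := by
    rw [hq.orthogonal_sup_eq, hEperp]
    rintro x ⟨hxE, hxW⟩
    refine ⟨hxE, ?_⟩
    by_contra hxW'
    exact hcon x hxW hxW' (hE.2 x hxE)
  have h1 := Submodule.finrank_mono hle
  rw [LinearMap.BilinForm.finrank_orthogonal hq.nondeg, hV] at h1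
  have h2 := Submodule.finrank_sup_add_finrank_inf_eq E W
  have h3 : finrank K ↥(E ⊔ W) ≤ 2 * N := hV ▸ Submodule.finrank_le _
  have h4 := hE.1
  omega

theorem finrank_of_isMax' (E : Submodule K (κ → K)) (hE : IsLag Q N E)
    (U : Submodule K (κ → K)) (hU : Cfsg.IsMaxTotallySingular Q U) :
    finrank K U = N := by
  by_contra hne
  have hle := ts_finrank_le' hq hV U hU.1
  obtain ⟨w, hwU, hwn, hQw⟩ := exists_singular_of_lt' hq hV E hE U hU.1 (by omega)
  have h1 := hU.2 (U ⊔ Submodule.span K {w}) (hq.ts_sup_span U hU.1 w hwU hQw) le_sup_left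
  apply hwn
  rw [← h1]
  exact Submodule.mem_sup_right (Submodule.mem_span_singleton_self w)

theorem isMax_of_lag (U : Submodule K (κ → K)) (hU : IsLag Q N U) :
    Cfsg.IsMaxTotallySingular Q U := by
  refine ⟨hU.2, ?_⟩
  intro W hW hUW
  have hle := ts_finrank_le' hq hV W hW
  exact (Submodule.eq_of_le_of_finrank_le hUW (by rw [hU.1]; exact hle)).symm

/-- class preservation is evenness of the codimension for one Lagrangian -/
theorem preserves_iff_even (E : Submodule K (κ → K)) (hE : IsLag Q N E)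
    (g : ↥(Cfsg.Geo.quadSimilarityGroup (F := K) Q)) :
    Cfsg.PreservesSingularClasses Q (g.1 : Matrix κ κ K) ↔
      Even (N - finrank K ↥(E ⊓ imgS g.1 E)) := by
  constructor
  · intro hP
    have h1 := hP E (isMax_of_lag hq hV E hE)
    unfold Cfsg.SameParityClass at h1
    rw [imageSubmodule_eq_imgS, hE.1] at h1
    exact h1
  · intro hev U hU
    have hUN := finrank_of_isMax' hq hV E hE U hU
    unfold Cfsg.SameParityClass
    rw [imageSubmodule_eq_imgS, hUN, Nat.even_iff,
      par_indep hq hV (adm_imgS g) U E ⟨hUN, hU.1⟩ hE, ← Nat.even_iff]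
    exact hev

end

/-- a reflection moves a Lagrangian to one meeting it in a hyperplane -/
theorem refl_odd (Qf : QuadraticForm K (κ → K))
    (hnd : (QuadraticMap.polarBilin Qf).Nondegenerate) {N : ℕ}
    (hV : finrank K (κ → K) = 2 * N) (E : Submodule K (κ → K)) (hE : IsLag ⇑Qf N E)
    (v : κ → K) (hv : Qf v ≠ 0) (g : GL κ K)
    (hg : (g : Matrix κ κ K) = Cfsg.reflectionMatrix ⇑Qf v) :
    finrank K ↥(E ⊓ imgS g E) + 1 = N := by
  have hq := qsys_of_form Qf hnd
  have hEperp : LinearMap.BilinForm.orthogonal (QuadraticMap.polarBilin Qf) E = E :=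
    hq.orthogonal_eq_self N hV E hE.1 hE.2
  have hvE : v ∉ E := fun hmem => hv (hE.2 v hmem)
  have hnot : ¬ E ≤ LinearMap.ker (QuadraticMap.polarBilin Qf v) := by
    intro hle
    apply hvE
    rw [← hEperp, LinearMap.BilinForm.mem_orthogonal_iff]
    intro e he
    have := hle he
    rw [LinearMap.mem_ker] at this
    show QuadraticMap.polarBilin Qf e v = 0
    rw [hq.symm]
    exact this
  have heq : E ⊓ imgS g E = E ⊓ LinearMap.ker (QuadraticMap.polarBilin Qf v) := by
    ext y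
    constructor
    · rintro ⟨hy1, hy2⟩
      obtain ⟨x, hx, rfl⟩ := (mem_imgS _ _ _).1 hy2
      rw [hg] at hy1 ⊢
      by_cases hx0 : QuadraticMap.polar ⇑Qf v x = 0
      · rw [Cfsg.Agent.Lib.Helper13.reflectionMatrix_mulVec_of_polar_eq_zero Qf v x hx0]
        exact ⟨hx, hx0⟩
      · exfalso
        apply hvE
        rw [SetLike.mem_coe, Cfsg.Agent.Lib.Helper13.reflectionMatrix_mulVec] at hy1
        have h3 : ((Qf v)⁻¹ * QuadraticMap.polar ⇑Qf v x) • v ∈ E := by
          have := E.sub_mem hx hy1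
          rwa [sub_sub_cancel] at this
        have h4 : (Qf v)⁻¹ * QuadraticMap.polar ⇑Qf v x ≠ 0 := mul_ne_zero (inv_ne_zero hv) hx0
        have := E.smul_mem ((Qf v)⁻¹ * QuadraticMap.polar ⇑Qf v x)⁻¹ h3
        rwa [smul_smul, inv_mul_cancel₀ h4, one_smul] at this
    · rintro ⟨hy1, hy2⟩
      refine ⟨hy1, ?_⟩
      rw [SetLike.mem_coe, mem_imgS]
      refine ⟨y, hy1, ?_⟩
      rw [hg]
      exact Cfsg.Agent.Lib.Helper13.reflectionMatrix_mulVec_of_polar_eq_zero Qf v y hy2
  have hfr := (Cfsg.Agent.Lib.Helper8.finrank_inf_ker E (QuadraticMap.polarBilin Qf v)).2 hnot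
  rw [heq, hfr, hE.1]

end Cfsg.Agent.Lib.Helper37.ParGen
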