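import Mathlib
import Cfsg.Agent.Lib.Helper37.ParityGen
import Cfsg.Agent.Lib.Helper37.OrthCent2

set_option autoImplicit false
set_option linter.unusedSectionVars false
set_option linter.unusedVariables false

/-!
# The class parity of semisimilarities
-/

namespace Cfsg.Agent.Lib.Helper37.OrthField

open Matrix Module QuadraticMap
open Cfsg.Agent.Lib.Helper37 Cfsg.Agent.Lib.Helper37.ParGen Cfsg.Agent.Lib.Helper14

universe u

variable {ι : Type} [Fintype ι] [DecidableEq ι] {F : Type u} [Field F]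

/-- the image of a subspace under the semilinear map of a pair -/
def imgT (p : GamL ι F) (U : Submodule F (ι → F)) : Submodule F (ι → F) where
  carrier := {v | sm p⁻¹ v ∈ U}
  add_mem' := by
    intro a b ha hb
    show sm p⁻¹ (a + b) ∈ U
    rw [sm_add]
    exact U.add_mem ha hb
  zero_mem' := by
    show sm p⁻¹ 0 ∈ U
    rw [sm_zero]
    exact U.zero_mem
  smul_mem' := by
    intro c x hx
    show sm p⁻¹ (c • x) ∈ U
    rw [sm_smul]
    exact U.smul_mem _ hx

theorem mem_imgT (p : GamL ι F) (U : Submodule F (ι → F)) (v : ι → F) :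
    v ∈ imgT p U ↔ sm p⁻¹ v ∈ U := Iff.rfl

theorem sm_mem_imgT (p : GamL ι F) (U : Submodule F (ι → F)) (u : ι → F) (hu : u ∈ U) :
    sm p u ∈ imgT p U := by
  rw [mem_imgT, sm_inv_sm]
  exact hu

theorem imgT_inf (p : GamL ι F) (U W : Submodule F (ι → F)) :
    imgT p (U ⊓ W) = imgT p U ⊓ imgT p W := by
  ext v
  exact Iff.rfl

theorem imgT_mul (p q : GamL ι F) (U : Submodule F (ι → F)) :
    imgT (p * q) U = imgT p (imgT q U) := by
  ext v
  rw [mem_imgT, mem_imgT, mem_imgT, _root_.mul_inv_rev, sm_mul]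

theorem imgT_one (U : Submodule F (ι → F)) : imgT (1 : GamL ι F) U = U := by
  ext v
  rw [mem_imgT, inv_one, sm_one]

theorem imgT_inl (g : GL ι F) (U : Submodule F (ι → F)) :
    imgT (SemidirectProduct.inl g : GamL ι F) U = imgS g U := by
  ext v
  rw [mem_imgT, mem_imgS, ← map_inv, sm_inl]
  constructor
  · intro h
    refine ⟨_, h, ?_⟩
    rw [Matrix.mulVec_mulVec, ← Units.val_mul, mul_inv_cancel, Units.val_one, Matrix.one_mulVec]
  · rintro ⟨w, hw, rfl⟩
    rw [Matrix.mulVec_mulVec, ← Units.val_mul, inv_mul_cancel, Units.val_one, Matrix.one_mulVec]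
    exact hw

theorem imgT_sc (c : Fˣ) (U : Submodule F (ι → F)) : imgT (sc c : GamL ι F) U = U := by
  ext v
  rw [mem_imgT, ← map_inv, sm_sc]
  constructor
  · intro h
    have := U.smul_mem (c : F) h
    rwa [smul_smul, ← Units.val_mul, mul_inv_cancel, Units.val_one, one_smul] at this
  · intro h
    exact U.smul_mem _ h

/-- the image has the same number of elements -/
noncomputable def imgTEquiv (p : GamL ι F) (U : Submodule F (ι → F)) : ↥U ≃ ↥(imgT p U) where
  toFun u := ⟨sm p u.1, sm_mem_imgT p U u.1 u.2⟩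
  invFun v := ⟨sm p⁻¹ v.1, v.2⟩
  left_inv u := Subtype.ext (sm_inv_sm p u.1)
  right_inv v := Subtype.ext (sm_sm_inv p v.1)

theorem finrank_imgT [Fintype F] (p : GamL ι F) (U : Submodule F (ι → F)) :
    finrank F (imgT p U) = finrank F U := by
  have h1 : Nat.card ↥(imgT p U) = Nat.card ↥U := (Nat.card_congr (imgTEquiv p U)).symm
  rw [Module.natCard_eq_pow_finrank (K := F) (V := ↥(imgT p U)),
    Module.natCard_eq_pow_finrank (K := F) (V := ↥U)] at h1
  have h2 : 1 < Nat.card F := Finite.one_lt_card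
  exact Nat.pow_right_injective h2 h1

theorem imgT_ts (Q : (ι → F) → F) (p : GamL ι F) (hp : p ∈ semiO Q) (U : Submodule F (ι → F))
    (hU : ∀ u ∈ U, Q u = 0) : ∀ v ∈ imgT p U, Q v = 0 := by
  intro v hv
  obtain ⟨c, hc⟩ := hp
  rw [mem_imgT] at hv
  have h1 := hc (sm p⁻¹ v)
  rw [sm_sm_inv, hU _ hv, map_zero, mul_zero] at h1
  exact h1

theorem adm_imgT [Fintype F] (Q : (ι → F) → F) (N : ℕ) (p : GamL ι F) (hp : p ∈ semiO Q) :
    Adm Q N (imgT p) :=
  ⟨fun U hU => ⟨(finrank_imgT p U).trans hU.1, imgT_ts Q p hp U hU.2⟩,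
    fun U W _ _ => by rw [← imgT_inf, finrank_imgT]⟩

section par

variable [Fintype F] {Q : (ι → F) → F} {B : LinearMap.BilinForm F (ι → F)}
  (hq : QSys Q B) {N : ℕ} (hV : finrank F (ι → F) = 2 * N)
  (E : Submodule F (ι → F)) (hE : IsLag Q N E)

/-- the class parity of a semisimilarity -/
noncomputable def parS (N : ℕ) (E : Submodule F (ι → F)) (p : GamL ι F) : ℕ :=
  (N - finrank F ↥(E ⊓ imgT p E)) % 2

include hq hV hE

theorem parS_mul (p q : GamL ι F) (hp : p ∈ semiO Q) (hq' : q ∈ semiO Q) :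
    parS N E (p * q) = (parS N E p + parS N E q) % 2 := by
  unfold parS
  rw [imgT_mul, par_comp hq hV (adm_imgT Q N p hp) (adm_imgT Q N q hq') E hE]
  omega

omit hq hV in
theorem parS_one : parS N E (1 : GamL ι F) = 0 := by
  unfold parS
  rw [imgT_one, inf_idem, hE.1]
  simp

omit hq hV in
theorem parS_sc (c : Fˣ) : parS N E (sc c : GamL ι F) = 0 := by
  unfold parS
  rw [imgT_sc, inf_idem, hE.1]
  simp

omit hq hV hE in
theorem parS_lt (p : GamL ι F) : parS N E p < 2 := Nat.mod_lt _ (by norm_num)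

theorem parS_inv (p : GamL ι F) (hp : p ∈ semiO Q) : parS N E p⁻¹ = parS N E p := by
  have h1 := parS_mul hq hV E hE p p⁻¹ hp ((semiO Q).inv_mem hp)
  rw [mul_inv_cancel, parS_one E hE] at h1
  have h2 := parS_lt (N := N) E p
  have h3 := parS_lt (N := N) E p⁻¹
  omega

theorem parS_conj (p t : GamL ι F) (hp : p ∈ semiO Q) (ht : t ∈ semiO Q) :
    parS N E (t * p * t⁻¹) = parS N E p := by
  rw [parS_mul hq hV E hE _ _ ((semiO Q).mul_mem ht hp) ((semiO Q).inv_mem ht),
    parS_mul hq hV E hE _ _ ht hp, parS_inv hq hV E hE t ht]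
  have h2 := parS_lt (N := N) E p
  have h3 := parS_lt (N := N) E t
  omega

theorem parS_sc_mul (c : Fˣ) (p : GamL ι F) (hp : p ∈ semiO Q) (hc : (sc c : GamL ι F) ∈ semiO Q) :
    parS N E (sc c * p) = parS N E p := by
  rw [parS_mul hq hV E hE _ _ hc hp, parS_sc E hE, zero_add]
  exact Nat.mod_eq_of_lt (parS_lt E p)

/-- the parity of a similarity, and class preservation -/
theorem preserves_iff_parS (g : ↥(Cfsg.Geo.quadSimilarityGroup (F := F) Q)) :
    Cfsg.PreservesSingularClasses Q (g.1 : Matrix ι ι F) ↔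
      parS N E (SemidirectProduct.inl g.1 : GamL ι F) = 0 := by
  rw [preserves_iff_even hq hV E hE g]
  unfold parS
  rw [imgT_inl, Nat.even_iff]

end par

end Cfsg.Agent.Lib.Helper37.OrthField
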