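import Mathlib
import Cfsg.Agent.Lib.Helper37.OrthType
import Cfsg.Agent.Lib.Helper37.SemiParity

set_option autoImplicit false
set_option linter.unusedSectionVars false
set_option linter.unusedVariables false

/-!
# Coset conjugacy in even dimension: the conjugator can be taken class preserving
-/

namespace Cfsg.Agent.Lib.Helper37.OrthField

open Matrix Module QuadraticMap
open Cfsg.Agent.Lib.Helper37 Cfsg.Agent.Lib.Helper43 Cfsg.Agent.Lib.Helper8
open Cfsg.Agent.Lib.Helper37.ParGen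

universe u

variable {ι : Type} [Fintype ι] [DecidableEq ι] {F : Type u} [Field F]
variable {F₀ : Type u} [Field F₀] (j : F₀ →+* F)

/-- scalar pairs commute with linear pairs -/
theorem sc_comm_inl (z : Fˣ) (t : GL ι F) :
    (sc z : GamL ι F) * SemidirectProduct.inl t = SemidirectProduct.inl t * sc z := by
  apply sm_injective
  · simp [SemidirectProduct.mul_right, sc_right]
  · intro v
    rw [sm_mul, sm_mul, sm_sc, sm_inl, sm_inl, sm_sc, Matrix.mulVec_smul]

/-- a lattice contains a nonsingular vector -/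
theorem exists_nonsing_lattice (Q : QuadraticForm F (ι → F)) (hne : ∃ v, Q v ≠ 0) (b : GL ι F) :
    ∃ w : ι → F₀, Q ((b : Matrix ι ι F) *ᵥ jv j w) ≠ 0 := by
  by_contra hcon
  push Not at hcon
  have h := quad_eq_of_lattice j (Q.comp (Matrix.mulVecLin (b : Matrix ι ι F))) 0
    (fun w => by
      show Q ((b : Matrix ι ι F) *ᵥ jv j w) = 0
      exact hcon w)
  obtain ⟨v₀, hv₀⟩ := hne
  apply hv₀
  have := h (((b⁻¹ : GL ι F) : Matrix ι ι F) *ᵥ v₀)
  have h2 : Q ((b : Matrix ι ι F) *ᵥ (((b⁻¹ : GL ι F) : Matrix ι ι F) *ᵥ v₀)) = 0 := this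
  rwa [Cfsg.Agent.Lib.Helper94.mulVec_inv_mulVec] at h2

/-- the reflection in a nonsingular lattice vector commutes with the pair -/
theorem refl_comm_lattice (Q : QuadraticForm F (ι → F))
    (σ : F ≃+* F) (hj : ∀ a, σ a = a ↔ a ∈ Set.range j)
    (p : GamL ι F) (hp : p ∈ semiO ⇑Q) (hpr : p.right = σ)
    (z : Fˣ) (b : GL ι F) (μ : Fˣ) (P₀ : QuadraticForm F₀ (ι → F₀))
    (hL : IsLattice j Q σ p z b μ P₀) (w₀ : ι → F₀)
    (hu : Q ((b : Matrix ι ι F) *ᵥ jv j w₀) ≠ 0) :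
    (SemidirectProduct.inl ((reflElt Q _ hu).1 : GL ι F) : GamL ι F) * p =
      p * SemidirectProduct.inl ((reflElt Q _ hu).1 : GL ι F) := by
  obtain ⟨hsb, -⟩ := hL
  set u : ι → F := (b : Matrix ι ι F) *ᵥ jv j w₀ with hudef
  set p' : GamL ι F := sc z * p with hp'
  clear_value p'
  have hp'r : p'.right = σ := by
    rw [hp', SemidirectProduct.mul_right, sc_right, one_mul, hpr]
  have hp'm : p' ∈ semiO ⇑Q := by
    rw [hp']
    exact (semiO ⇑Q).mul_mem (sc_mem_semiO Q z) hp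
  obtain ⟨c', hc'⟩ := hp'm
  rw [hp'r] at hc'
  have hfix : sm p' u = u := by
    rw [hudef, hsb, vm_jv j σ hj]
  have hQu : Q u = c' * σ (Q u) := by
    conv_lhs => rw [← hfix]
    exact hc' u
  have hpol : ∀ v, polar ⇑Q u (sm p' v) = c' * σ (polar ⇑Q u v) := by
    intro v
    have h1 : polar ⇑Q (sm p' u) (sm p' v) = c' * σ (polar ⇑Q u v) := by
      unfold polar
      rw [← sm_add, hc', hc', hc', map_sub, map_sub]
      ring
    rwa [hfix] at h1
  have hc'0 : (c' : F) ≠ 0 := c'.ne_zero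
  have hσQu : σ (Q u) ≠ 0 := by
    intro h
    exact hu ((map_eq_zero σ).1 h)
  have hcoef : ∀ v, (Q u)⁻¹ * polar ⇑Q u (sm p' v) = σ ((Q u)⁻¹ * polar ⇑Q u v) := by
    intro v
    rw [hpol, map_mul, map_inv₀]
    conv_lhs => rw [hQu]
    field_simp
  have hkey : (SemidirectProduct.inl ((reflElt Q u hu).1 : GL ι F) : GamL ι F) * p' =
      p' * SemidirectProduct.inl ((reflElt Q u hu).1 : GL ι F) := by
    apply sm_injective
    · simp [SemidirectProduct.mul_right]
    · intro v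
      rw [sm_mul, sm_mul, sm_inl, sm_inl, coe_reflElt,
        Cfsg.Agent.Lib.Helper13.reflectionMatrix_mulVec,
        Cfsg.Agent.Lib.Helper13.reflectionMatrix_mulVec, sm_sub, sm_smul, hfix, hp'r, hcoef]
  have hcomm := sc_comm_inl z ((reflElt Q u hu).1 : GL ι F)
  calc (SemidirectProduct.inl ((reflElt Q u hu).1 : GL ι F) : GamL ι F) * p
      = sc z⁻¹ * ((sc z * SemidirectProduct.inl ((reflElt Q u hu).1 : GL ι F)) * p) := by
        rw [map_inv]; group
    _ = sc z⁻¹ * (SemidirectProduct.inl ((reflElt Q u hu).1 : GL ι F) * p') := by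
        rw [hcomm, hp']; group
    _ = sc z⁻¹ * (p' * SemidirectProduct.inl ((reflElt Q u hu).1 : GL ι F)) := by rw [hkey]
    _ = p * SemidirectProduct.inl ((reflElt Q u hu).1 : GL ι F) := by
        rw [hp', map_inv]; group

section main

variable [Fintype F] [Nonempty ι] (Q : QuadraticForm F (ι → F))
  (hQ : (QuadraticMap.polarBilin Q).Nondegenerate) {k : ℕ} {e f : Fin k → ι → F}
  (hfam : HypFam Q k e f) (hk : 3 ≤ k)
  (hcard : Fintype.card F ≠ 2 ∨ finrank F (ι → F) ≠ 4)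
  (hn5 : 5 ≤ finrank F (ι → F)) (hn2 : (2 : F) = 0 → 7 ≤ finrank F (ι → F))

include hQ hfam hk hcard hn5 hn2

/-- two pairs of the same prime order modulo scalars, with the same non-trivial field part and
lattices of the same type, induce automorphisms conjugate under a subgroup `D` of similarities
of index at most two not containing the reflections -/
theorem conj_of_same_type {N : ℕ} (hN : Fintype.card ι = 2 * N)
    (D : Subgroup ↥(Cfsg.Geo.quadSimilarityGroup (F := F) ⇑Q))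
    (hadj : ∀ (u : ι → F) (hu : Q u ≠ 0) (t : ↥(Cfsg.Geo.quadSimilarityGroup (F := F) ⇑Q)),
      t ∈ D ∨ t * ⟨(reflElt Q u hu).1, isom_le_sim ⇑Q (reflElt Q u hu).2⟩ ∈ D)
    (px py : ↥(semiO ⇑Q)) (r : ℕ) (hr : r.Prime) (hx : (Psi ⇑Q px) ^ r = 1)
    (hy : (Psi ⇑Q py) ^ r = 1) (hσ : px.1.right ≠ 1) (hxy : py.1.right = px.1.right)
    (htype : ∀ (F₁ : Subfield F), (∀ a, a ∈ F₁ ↔ px.1.right a = a) →
      ∀ (z z' : Fˣ) (b b' : GL ι F) (μ μ' : Fˣ) (P₀ P₀' : QuadraticForm F₁ (ι → F₁)),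
        IsLattice F₁.subtype Q px.1.right px.1 z b μ P₀ →
        IsLattice F₁.subtype Q px.1.right py.1 z' b' μ' P₀' →
        Nat.card {w : ι → F₁ // P₀ w = 0} = Nat.card {w : ι → F₁ // P₀' w = 0}) :
    ∃ t ∈ D, Psi ⇑Q py = Phi ⇑Q t * Psi ⇑Q px * (Phi ⇑Q t)⁻¹ := by
  obtain ⟨hord, c, hc⟩ := order_facts Q hQ hfam hk hcard hn5 hn2 px r hr hx hσ
  obtain ⟨hord', c', hc'⟩ := order_facts Q hQ hfam hk hcard hn5 hn2 py r hr hy
    (by rw [hxy]; exact hσ)
  obtain ⟨F₁, hF₁, -⟩ := Cfsg.Agent.Lib.Helper5.AutPSLn.exists_fixed_subfield px.1.right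
  have hj : ∀ a, px.1.right a = a ↔ a ∈ Set.range F₁.subtype := by
    intro a
    rw [← hF₁]
    constructor
    · intro h; exact ⟨⟨a, h⟩, rfl⟩
    · rintro ⟨b, rfl⟩; exact b.2
  have hne : ∃ v, Q v ≠ 0 := by
    obtain ⟨h1, -, -⟩ := hfam.compl_vec ⟨0, by omega⟩ 1
    exact ⟨_, by rw [h1]; exact one_ne_zero⟩
  haveI : Fintype F₁ := Fintype.ofFinite _
  obtain ⟨z, b, μ, P₀, hL⟩ := exists_lattice F₁.subtype Q hne px.1.right hj r hord hr.pos
    px.1 px.2 rfl c hc
  obtain ⟨z', b', μ', P₀', hL'⟩ := exists_lattice F₁.subtype Q hne px.1.right hj r hord hr.pos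
    py.1 py.2 hxy c' hc'
  have hcnt := htype F₁ hF₁ z z' b b' μ μ' P₀ P₀' hL hL'
  obtain ⟨t, y, ht, hrel⟩ := lattice_conj F₁.subtype hN Q hQ px.1.right hj px.1 py.1 rfl hxy
    z z' b b' μ μ' P₀ P₀' hL hL' hcnt
  obtain ⟨w₀, hu⟩ := exists_nonsing_lattice F₁.subtype Q hne b
  have hcomm := refl_comm_lattice F₁.subtype Q px.1.right hj px.1 px.2 rfl z b μ P₀ hL w₀ hu
  have hfin : ∀ t' : ↥(Cfsg.Geo.quadSimilarityGroup (F := F) ⇑Q),
      sc y * py.1 * SemidirectProduct.inl t'.1 = SemidirectProduct.inl t'.1 * px.1 →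
      Psi ⇑Q py = Phi ⇑Q t' * Psi ⇑Q px * (Phi ⇑Q t')⁻¹ := by
    intro t' hrel'
    have hzm : (sc y : GamL ι F) ∈ semiO ⇑Q := sc_mem_semiO Q y
    have hrel'' : (⟨sc y, hzm⟩ : ↥(semiO ⇑Q)) * py * simToSemi ⇑Q t' = simToSemi ⇑Q t' * px :=
      Subtype.ext hrel'
    have h3 := congrArg (Psi ⇑Q) hrel''
    rw [map_mul, map_mul, map_mul, Psi_sc Q hQ hfam hk hcard hn5 hn2 y hzm, one_mul,
      Psi_simToSemi] at h3
    rw [← h3]
    group
  rcases hadj _ hu ⟨t, ht⟩ with h1 | h1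
  · exact ⟨⟨t, ht⟩, h1, hfin _ hrel⟩
  · refine ⟨_, h1, hfin _ ?_⟩
    show sc y * py.1 * SemidirectProduct.inl (t * (reflElt Q _ hu).1) =
      SemidirectProduct.inl (t * (reflElt Q _ hu).1) * px.1
    rw [map_mul]
    calc sc y * py.1 * (SemidirectProduct.inl t * SemidirectProduct.inl (reflElt Q _ hu).1)
        = (sc y * py.1 * SemidirectProduct.inl t) * SemidirectProduct.inl (reflElt Q _ hu).1 := by
          group
      _ = SemidirectProduct.inl t * px.1 * SemidirectProduct.inl (reflElt Q _ hu).1 := by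
          rw [hrel]
      _ = SemidirectProduct.inl t * (px.1 * SemidirectProduct.inl (reflElt Q _ hu).1) := by
          group
      _ = SemidirectProduct.inl t * (SemidirectProduct.inl (reflElt Q _ hu).1 * px.1) := by
          rw [hcomm]
      _ = SemidirectProduct.inl t * SemidirectProduct.inl (reflElt Q _ hu).1 * px.1 := by
          group

end main

end Cfsg.Agent.Lib.Helper37.OrthField
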