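import Mathlib
import Cfsg.Agent.Lib.Helper37.OrthPar
import Cfsg.Agent.Lib.Helper37.OmegaCenter
import Cfsg.Agent.Lib.Helper14.HypQuad3
import Cfsg.Agent.Lib.Helper43.OrthCardForms

set_option autoImplicit false
set_option linter.unusedSectionVars false
set_option linter.unusedVariables false

/-!
# The class preserving similarities and the parity of pairs of order two (plus type)
-/

namespace Cfsg.Agent.Lib.Helper37.OrthField

open Matrix Module QuadraticMap
open Cfsg.Agent.Lib.Helper37 Cfsg.Agent.Lib.Helper43 Cfsg.Agent.Lib.Helper8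
open Cfsg.Agent.Lib.Helper37.ParGen Cfsg.Agent.Lib.Helper14

universe u

variable {ι : Type} [Fintype ι] [DecidableEq ι] {F : Type u} [Field F]

section simP

variable [Fintype F] (Q : QuadraticForm F (ι → F))
  (hnd : (QuadraticMap.polarBilin Q).Nondegenerate) {N : ℕ} (hV : finrank F (ι → F) = 2 * N)
  (E : Submodule F (ι → F)) (hE : IsLag ⇑Q N E)

theorem inl_mem_semiO (g : ↥(Cfsg.Geo.quadSimilarityGroup (F := F) ⇑Q)) :
    (SemidirectProduct.inl g.1 : GamL ι F) ∈ semiO ⇑Q := (simToSemi ⇑Q g).2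

/-- the class preserving similarities -/
def simP : Subgroup ↥(Cfsg.Geo.quadSimilarityGroup (F := F) ⇑Q) where
  carrier := {g | parS N E (SemidirectProduct.inl g.1 : GamL ι F) = 0}
  mul_mem' := by
    intro a b ha hb
    show parS N E (SemidirectProduct.inl (a.1 * b.1) : GamL ι F) = 0
    rw [map_mul, parS_mul (qsys_of_form Q hnd) hV E hE _ _ (inl_mem_semiO Q a) (inl_mem_semiO Q b),
      ha, hb]
  one_mem' := by
    show parS N E (SemidirectProduct.inl (1 : GL ι F) : GamL ι F) = 0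
    rw [map_one]
    exact parS_one E hE
  inv_mem' := by
    intro a ha
    show parS N E (SemidirectProduct.inl (a.1⁻¹) : GamL ι F) = 0
    rw [map_inv, parS_inv (qsys_of_form Q hnd) hV E hE _ (inl_mem_semiO Q a)]
    exact ha

include hnd hV hE in
theorem parS_refl (u : ι → F) (hu : Q u ≠ 0) :
    parS N E (SemidirectProduct.inl (reflElt Q u hu).1 : GamL ι F) = 1 := by
  have h := refl_odd Q hnd hV E hE u hu (reflElt Q u hu).1 (coe_reflElt Q u hu)
  unfold parS
  rw [imgT_inl]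
  have : N - finrank F ↥(E ⊓ imgS (reflElt Q u hu).1 E) = 1 := by omega
  rw [this]

theorem mem_simP (g : ↥(Cfsg.Geo.quadSimilarityGroup (F := F) ⇑Q)) :
    g ∈ simP Q hnd hV E hE ↔ parS N E (SemidirectProduct.inl g.1 : GamL ι F) = 0 := Iff.rfl

theorem mem_simP_iff_preserves (g : ↥(Cfsg.Geo.quadSimilarityGroup (F := F) ⇑Q)) :
    g ∈ simP Q hnd hV E hE ↔ Cfsg.PreservesSingularClasses ⇑Q (g.1 : Matrix ι ι F) :=
  (preserves_iff_parS (qsys_of_form Q hnd) hV E hE g).symm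

theorem simP_adj (u : ι → F) (hu : Q u ≠ 0)
    (t : ↥(Cfsg.Geo.quadSimilarityGroup (F := F) ⇑Q)) :
    t ∈ simP Q hnd hV E hE ∨
      t * ⟨(reflElt Q u hu).1, isom_le_sim ⇑Q (reflElt Q u hu).2⟩ ∈ simP Q hnd hV E hE := by
  have h1 := parS_lt (N := N) E (SemidirectProduct.inl t.1 : GamL ι F)
  by_cases h0 : parS N E (SemidirectProduct.inl t.1 : GamL ι F) = 0
  · exact Or.inl h0
  · right
    show parS N E (SemidirectProduct.inl (t.1 * (reflElt Q u hu).1) : GamL ι F) = 0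
    rw [map_mul, parS_mul (qsys_of_form Q hnd) hV E hE _ _ (inl_mem_semiO Q t)
      (inl_mem_semiO Q ⟨(reflElt Q u hu).1, isom_le_sim ⇑Q (reflElt Q u hu).2⟩),
      parS_refl Q hnd hV E hE u hu]
    omega

end simP

section plusTwo

variable [Fintype F] {m : ℕ}

theorem plus_hV : finrank F (Fin m ⊕ Fin m → F) = 2 * m := by
  rw [Module.finrank_fintype_fun_eq_card, Fintype.card_sum, Fintype.card_fin]
  ring

theorem plus_hN : Fintype.card (Fin m ⊕ Fin m) = 2 * m := by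
  rw [Fintype.card_sum, Fintype.card_fin]
  ring

theorem plus_lag : IsLag ⇑(plusForm m F) m (stdL m F) :=
  ⟨finrank_stdL m F, by rw [← plusForm_coe]; exact stdL_singular m F⟩

theorem plus_inv (σ : F ≃+* F) (v : Fin m ⊕ Fin m → F) :
    plusForm m F (vm σ v) = σ (plusForm m F v) := by
  have h := jv_plus (σ : F →+* F) m v
  rw [plusForm_coe] at h
  exact h

theorem imgT_inr_stdL (σ : F ≃+* F) :
    imgT (SemidirectProduct.inr σ : GamL (Fin m ⊕ Fin m) F) (stdL m F) = stdL m F := by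
  ext v
  rw [mem_imgT, ← map_inv, sm_inr, mem_stdL, mem_stdL]
  constructor
  · intro h i
    have := h i
    rw [vm_apply] at this
    exact (map_eq_zero (σ⁻¹ : F ≃+* F)).1 this
  · intro h i
    rw [vm_apply, h i, map_zero]

theorem parS_inr (σ : F ≃+* F) :
    parS m (stdL m F) (SemidirectProduct.inr σ : GamL (Fin m ⊕ Fin m) F) = 0 := by
  unfold parS
  rw [imgT_inr_stdL, inf_idem, finrank_stdL]
  simp

variable {F₀ : Type u} [Field F₀] [Fintype F₀] (j : F₀ →+* F)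
  (σ : F ≃+* F) (hj : ∀ a, σ a = a ↔ a ∈ Set.range j)

include hj in
theorem std_lattice :
    IsLattice j (plusForm m F) σ (SemidirectProduct.inr σ : GamL (Fin m ⊕ Fin m) F) 1 1 1
      (plusForm m F₀) := by
  constructor
  · intro v
    rw [map_one, one_mul, Units.val_one, Matrix.one_mulVec, Matrix.one_mulVec, sm_inr]
  · intro w
    rw [Units.val_one, Units.val_one, Matrix.one_mulVec, one_mul]
    have h := jv_plus j m w
    rw [plusForm_coe, plusForm_coe] at h
    exact h.symm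

theorem plus_hypFam37 (m : ℕ) (F : Type u) [Field F] :
    HypFam (plusForm m F) m (fun i => Pi.single (Sum.inl i) 1)
      (fun i => Pi.single (Sum.inr i) 1) :=
  let h := plus_family m F
  ⟨h.qe, h.qf, h.ee, h.ff, h.ef⟩

theorem plus_hne (hm1 : 1 ≤ m) : ∃ v, plusForm m F v ≠ 0 := by
  obtain ⟨h1, -, -⟩ := (plus_hypFam37 m F).compl_vec ⟨0, by omega⟩ 1
  exact ⟨_, by rw [h1]; exact one_ne_zero⟩

include hj in
/-- pairs with lattices of the same type have the same parity -/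
theorem parS_eq_of_same_count [Nonempty (Fin m ⊕ Fin m)]
    (p q : GamL (Fin m ⊕ Fin m) F) (hp : p ∈ semiO ⇑(plusForm m F))
    (hq : q ∈ semiO ⇑(plusForm m F)) (hpr : p.right = σ) (hqr : q.right = σ)
    (z z' : Fˣ) (b b' : GL (Fin m ⊕ Fin m) F) (μ μ' : Fˣ)
    (P₀ P₀' : QuadraticForm F₀ (Fin m ⊕ Fin m → F₀))
    (hL : IsLattice j (plusForm m F) σ p z b μ P₀)
    (hL' : IsLattice j (plusForm m F) σ q z' b' μ' P₀')
    (hc : Nat.card {w : Fin m ⊕ Fin m → F₀ // P₀ w = 0} =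
      Nat.card {w : Fin m ⊕ Fin m → F₀ // P₀' w = 0}) :
    parS m (stdL m F) q = parS m (stdL m F) p := by
  obtain ⟨t, y, ht, hrel⟩ := lattice_conj j plus_hN (plusForm m F) (plusForm_nondegenerate m F)
    σ hj p q hpr hqr z z' b b' μ μ' P₀ P₀' hL hL' hc
  have hq' : q = sc y⁻¹ * (SemidirectProduct.inl t * p * (SemidirectProduct.inl t)⁻¹) := by
    rw [← hrel, map_inv]
    group
  have hqs := qsys_of_form (plusForm m F) (plusForm_nondegenerate m F)
  have htm : (SemidirectProduct.inl t : GamL (Fin m ⊕ Fin m) F) ∈ semiO ⇑(plusForm m F) :=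
    inl_mem_semiO (plusForm m F) ⟨t, ht⟩
  rw [hq', parS_sc_mul hqs plus_hV _ plus_lag y⁻¹ _
    ((semiO ⇑(plusForm m F)).mul_mem ((semiO ⇑(plusForm m F)).mul_mem htm hp)
      ((semiO ⇑(plusForm m F)).inv_mem htm)) (sc_mem_semiO _ _),
    parS_conj hqs plus_hV _ plus_lag p (SemidirectProduct.inl t) hp htm]

include hj in
/-- a pair with a lattice of plus type has even parity -/
theorem parS_zero_of_plus [Nonempty (Fin m ⊕ Fin m)]
    (p : GamL (Fin m ⊕ Fin m) F) (hp : p ∈ semiO ⇑(plusForm m F)) (hpr : p.right = σ)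
    (z : Fˣ) (b : GL (Fin m ⊕ Fin m) F) (μ : Fˣ)
    (P₀ : QuadraticForm F₀ (Fin m ⊕ Fin m → F₀))
    (hL : IsLattice j (plusForm m F) σ p z b μ P₀)
    (hc : Nat.card {w : Fin m ⊕ Fin m → F₀ // P₀ w = 0} = ZZ (Fintype.card F₀) 0 1 m) :
    parS m (stdL m F) p = 0 := by
  rw [parS_eq_of_same_count j σ hj (SemidirectProduct.inr σ) p
    (inr_mem_semiO _ σ (plus_inv σ)) hp (SemidirectProduct.right_inr σ) hpr 1 z 1 b 1 μ
    (plusForm m F₀) P₀ (std_lattice j σ hj) hL
    (by rw [hc]; exact card_zeros_plusForm m), parS_inr]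

include hj in
/-- a pair of order two with odd parity -/
theorem exists_odd_pair (hm1 : 1 ≤ m) (hσ2 : σ * σ = 1) :
    ∃ q₁ : GamL (Fin m ⊕ Fin m) F, q₁ ∈ semiO ⇑(plusForm m F) ∧ q₁.right = σ ∧ q₁ ^ 2 = 1 ∧
      parS m (stdL m F) q₁ = 1 := by
  obtain ⟨w₀, hu⟩ := exists_nonsing_lattice j (plusForm m F) (plus_hne hm1) 1
  have hσm : (SemidirectProduct.inr σ : GamL (Fin m ⊕ Fin m) F) ∈ semiO ⇑(plusForm m F) :=
    inr_mem_semiO _ σ (plus_inv σ)
  have hcomm := refl_comm_lattice j (plusForm m F) σ hj (SemidirectProduct.inr σ) hσm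
    (SemidirectProduct.right_inr σ) 1 1 1 (plusForm m F₀) (std_lattice j σ hj) w₀ hu
  set ρ : GL (Fin m ⊕ Fin m) F := (reflElt (plusForm m F) _ hu).1 with hρ
  have hρm : (SemidirectProduct.inl ρ : GamL (Fin m ⊕ Fin m) F) ∈ semiO ⇑(plusForm m F) :=
    inl_mem_semiO (plusForm m F) ⟨ρ, isom_le_sim _ (reflElt (plusForm m F) _ hu).2⟩
  have hρ2 : ρ * ρ = 1 := by
    have := congrArg (fun g : ↥(Cfsg.isometryGroup F ⇑(plusForm m F)) => (g.1 : GL _ F))
      (reflElt_mul_self (plusForm m F) _ hu)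
    exact this
  have hqs := qsys_of_form (plusForm m F) (plusForm_nondegenerate m F)
  refine ⟨SemidirectProduct.inl ρ * SemidirectProduct.inr σ,
    (semiO ⇑(plusForm m F)).mul_mem hρm hσm, ?_, ?_, ?_⟩
  · rw [SemidirectProduct.mul_right, SemidirectProduct.right_inl, SemidirectProduct.right_inr,
      one_mul]
  · rw [pow_two]
    calc (SemidirectProduct.inl ρ * SemidirectProduct.inr σ : GamL (Fin m ⊕ Fin m) F) *
          (SemidirectProduct.inl ρ * SemidirectProduct.inr σ)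
        = SemidirectProduct.inl ρ * (SemidirectProduct.inr σ * SemidirectProduct.inl ρ) *
            SemidirectProduct.inr σ := by group
      _ = SemidirectProduct.inl ρ * (SemidirectProduct.inl ρ * SemidirectProduct.inr σ) *
            SemidirectProduct.inr σ := by rw [hcomm]
      _ = SemidirectProduct.inl (ρ * ρ) * SemidirectProduct.inr (σ * σ) := by
          rw [map_mul, map_mul]; group
      _ = 1 := by rw [hρ2, hσ2, map_one, map_one, one_mul]
  · rw [parS_mul hqs plus_hV _ plus_lag _ _ hρm hσm, parS_inr,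
      parS_refl (plusForm m F) (plusForm_nondegenerate m F) plus_hV _ plus_lag _ hu]

include hj in
/-- a pair of order two with a lattice of minus type has odd parity -/
theorem parS_one_of_minus [Nonempty (Fin m ⊕ Fin m)] (hm1 : 1 ≤ m) (hσ2 : orderOf σ = 2)
    (p : GamL (Fin m ⊕ Fin m) F) (hp : p ∈ semiO ⇑(plusForm m F)) (hpr : p.right = σ)
    (z : Fˣ) (b : GL (Fin m ⊕ Fin m) F) (μ : Fˣ)
    (P₀ : QuadraticForm F₀ (Fin m ⊕ Fin m → F₀))
    (hL : IsLattice j (plusForm m F) σ p z b μ P₀)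
    (hc : Nat.card {w : Fin m ⊕ Fin m → F₀ // P₀ w = 0} = ZZ (Fintype.card F₀) 2 1 (m - 1)) :
    parS m (stdL m F) p = 1 := by
  have hσσ : σ * σ = 1 := by
    rw [← pow_two, ← hσ2]
    exact pow_orderOf_eq_one σ
  obtain ⟨q₁, hq₁, hq₁r, hq₁2, hq₁p⟩ := exists_odd_pair j σ hj hm1 hσσ
  obtain ⟨z₁, b₁, μ₁, P₁, hL₁⟩ := exists_lattice j (plusForm m F) (plus_hne hm1) σ hj 2 hσ2
    (by norm_num) q₁ hq₁ hq₁r 1 (by rw [hq₁2, map_one])
  have hnd := nondeg_of_rel j (plusForm m F) (plusForm_nondegenerate m F) P₁ b₁ μ₁ hL₁.2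
  have hdim : finrank F₀ (Fin m ⊕ Fin m → F₀) = 2 * m := plus_hV
  rcases ZeroCount.card_zeros_dichotomy (Fin m ⊕ Fin m → F₀) P₁ hnd m hdim with h1 | ⟨-, h1⟩
  · exfalso
    have := parS_zero_of_plus j σ hj q₁ hq₁ hq₁r z₁ b₁ μ₁ P₁ hL₁ h1
    rw [hq₁p] at this
    exact one_ne_zero this
  · rw [parS_eq_of_same_count j σ hj q₁ p hq₁ hp hq₁r hpr z₁ z b₁ b μ₁ μ P₁ P₀ hL₁ hL
      (by rw [h1, hc]), hq₁p]

include hj in
/-- pairs of order two with the same parity have lattices of the same type -/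
theorem count_eq_of_parS_eq [Nonempty (Fin m ⊕ Fin m)] (hm1 : 1 ≤ m) (hσ2 : orderOf σ = 2)
    (p q : GamL (Fin m ⊕ Fin m) F) (hp : p ∈ semiO ⇑(plusForm m F))
    (hq : q ∈ semiO ⇑(plusForm m F)) (hpr : p.right = σ) (hqr : q.right = σ)
    (z z' : Fˣ) (b b' : GL (Fin m ⊕ Fin m) F) (μ μ' : Fˣ)
    (P₀ P₀' : QuadraticForm F₀ (Fin m ⊕ Fin m → F₀))
    (hL : IsLattice j (plusForm m F) σ p z b μ P₀)
    (hL' : IsLattice j (plusForm m F) σ q z' b' μ' P₀')
    (hpar : parS m (stdL m F) p = parS m (stdL m F) q) :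
    Nat.card {w : Fin m ⊕ Fin m → F₀ // P₀ w = 0} =
      Nat.card {w : Fin m ⊕ Fin m → F₀ // P₀' w = 0} := by
  have hnd := nondeg_of_rel j (plusForm m F) (plusForm_nondegenerate m F) P₀ b μ hL.2
  have hnd' := nondeg_of_rel j (plusForm m F) (plusForm_nondegenerate m F) P₀' b' μ' hL'.2
  have hdim : finrank F₀ (Fin m ⊕ Fin m → F₀) = 2 * m := plus_hV
  rcases ZeroCount.card_zeros_dichotomy (Fin m ⊕ Fin m → F₀) P₀ hnd m hdim with h1 | ⟨-, h1⟩ <;>
  rcases ZeroCount.card_zeros_dichotomy (Fin m ⊕ Fin m → F₀) P₀' hnd' m hdim with h2 | ⟨-, h2⟩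
  · rw [h1, h2]
  · exfalso
    have e1 := parS_zero_of_plus j σ hj p hp hpr z b μ P₀ hL h1
    have e2 := parS_one_of_minus j σ hj hm1 hσ2 q hq hqr z' b' μ' P₀' hL' h2
    omega
  · exfalso
    have e1 := parS_one_of_minus j σ hj hm1 hσ2 p hp hpr z b μ P₀ hL h1
    have e2 := parS_zero_of_plus j σ hj q hq hqr z' b' μ' P₀' hL' h2
    omega
  · rw [h1, h2]

end plusTwo

end Cfsg.Agent.Lib.Helper37.OrthField
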