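import Cfsg.Agent.Lib.Helper37.SpinorNorm

set_option autoImplicit false

namespace Cfsg.Agent.Lib.Helper37

open Module Matrix Finset

namespace IsGram

variable {κ : Type} [Fintype κ] [DecidableEq κ] {F : Type*} [Field F]
  {Q : (κ → F) → F} {G : Matrix κ κ F}

theorem exists_bilin_ne_zero (_h : IsGram Q G) (hdet : G.det ≠ 0) (x : κ → F) (hx : x ≠ 0) :
    ∃ y, Matrix.toBilin' G x y ≠ 0 := by
  obtain ⟨y, hy⟩ := (Matrix.nondegenerate_of_det_ne_zero hdet).exists_not_ortho_of_ne_zero hx
  exact ⟨y, by rw [Matrix.toBilin'_apply']; exact hy⟩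

theorem bilin_self_ne_zero (h : IsGram Q G) (v : κ → F) (hv : Q v ≠ 0) :
    Matrix.toBilin' G v v ≠ 0 := by
  rw [h.self]; exact mul_ne_zero h.two_ne hv

/-- a nonsingular vector orthogonal to a given short orthogonal family -/
theorem exists_nonsingular_perp (h : IsGram Q G) (hdet : G.det ≠ 0) {k : ℕ}
    (v : Fin k → (κ → F)) (horth : ∀ i j, i ≠ j → Matrix.toBilin' G (v i) (v j) = 0)
    (hns : ∀ i, Q (v i) ≠ 0) (hk : k < Fintype.card κ) :
    ∃ u, Q u ≠ 0 ∧ ∀ j, Matrix.toBilin' G (v j) u = 0 := by
  let proj : (κ → F) → (κ → F) := fun x =>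
    x - ∑ j, ((Matrix.toBilin' G (v j) (v j))⁻¹ * Matrix.toBilin' G (v j) x) • v j
  have hproj : ∀ x i, Matrix.toBilin' G (v i) (proj x) = 0 := by
    intro x i
    simp only [proj, map_sub, map_sum, map_smul, smul_eq_mul]
    rw [Finset.sum_eq_single i]
    · have := h.bilin_self_ne_zero (v i) (hns i)
      field_simp
      ring
    · intro j _ hj
      rw [horth i j (Ne.symm hj)]; ring
    · intro hi; exact absurd (Finset.mem_univ _) hi
  have hproj' : ∀ x i, Matrix.toBilin' G (proj x) (v i) = 0 := by
    intro x i
    rw [h.symmB]; exact hproj x i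
  have hspan : Submodule.span F (Set.range v) ≠ ⊤ := by
    intro htop
    have hfr : (Set.range v).finrank F ≤ Fintype.card (Fin k) := finrank_range_le_card v
    unfold Set.finrank at hfr
    rw [htop, finrank_top, Module.finrank_fintype_fun_eq_card, Fintype.card_fin] at hfr
    omega
  obtain ⟨x, hx⟩ : ∃ x, x ∉ Submodule.span F (Set.range v) := by
    by_contra hall
    push Not at hall
    exact hspan (Submodule.eq_top_iff'.mpr hall)
  have hx' : proj x ≠ 0 := by
    intro h0
    apply hx
    have : x = ∑ j, ((Matrix.toBilin' G (v j) (v j))⁻¹ * Matrix.toBilin' G (v j) x) • v j :=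
      sub_eq_zero.mp h0
    rw [this]
    apply Submodule.sum_mem
    intro j _
    exact Submodule.smul_mem _ _ (Submodule.subset_span (Set.mem_range_self j))
  obtain ⟨y, hy⟩ := h.exists_bilin_ne_zero hdet (proj x) hx'
  have hxy : Matrix.toBilin' G (proj x) (proj y) ≠ 0 := by
    have : Matrix.toBilin' G (proj x) (proj y) = Matrix.toBilin' G (proj x) y := by
      simp only [proj, map_sub, map_sum, map_smul, smul_eq_mul] at hproj' ⊢
      simp only [proj, map_sub, map_sum, map_smul, smul_eq_mul, hproj' x]
      simp
    rw [this]; exact hy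
  by_cases h1 : Q (proj x) ≠ 0
  · exact ⟨proj x, h1, fun j => hproj x j⟩
  · by_cases h3 : Q (proj y) ≠ 0
    · exact ⟨proj y, h3, fun j => hproj y j⟩
    · rw [not_not] at h1 h3
      refine ⟨proj x + proj y, ?_, ?_⟩
      · rw [h.Q_add, h1, h3]; simpa using hxy
      · intro j
        rw [map_add, hproj x j, hproj y j, add_zero]

theorem refl_fixes (h : IsGram Q G) (w x : κ → F) (hwx : Matrix.toBilin' G w x = 0) :
    Cfsg.reflectionMatrix Q w *ᵥ x = x := by
  rw [h.refl_mulVec, hwx]; simp

/-- a reflection moving `w` to `u` when they have the same nonzero norm and `w - u` is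
nonsingular -/
theorem refl_sub_apply (h : IsGram Q G) (w u : κ → F) (hwu : Q w = Q u) (hne : Q (w - u) ≠ 0) :
    Cfsg.reflectionMatrix Q (w - u) *ᵥ w = u := by
  rw [h.refl_mulVec]
  have e1 : Matrix.toBilin' G (w - u) w = Q (w - u) := by
    rw [h.Q_sub, ← hwu]
    simp only [map_sub, LinearMap.sub_apply, h.self w, h.symmB u w]
    ring
  rw [e1, inv_mul_cancel₀ hne, one_smul]
  abel

theorem refl_add_apply (h : IsGram Q G) (w u : κ → F) (hwu : Q w = Q u) (hne : Q (w + u) ≠ 0) :
    Cfsg.reflectionMatrix Q (w + u) *ᵥ w = -u := by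
  rw [h.refl_mulVec]
  have e1 : Matrix.toBilin' G (w + u) w = Q (w + u) := by
    rw [h.Q_add, ← hwu]
    simp only [map_add, LinearMap.add_apply, h.self w, h.symmB u w]
    ring
  rw [e1, inv_mul_cancel₀ hne, one_smul]
  abel

theorem refl_self_apply (h : IsGram Q G) (u : κ → F) (hu : Q u ≠ 0) :
    Cfsg.reflectionMatrix Q u *ᵥ (-u) = u := by
  rw [h.refl_mulVec]
  simp only [map_neg, h.self u]
  have : (Q u)⁻¹ * -(2 * Q u) = -2 := by field_simp
  rw [this]
  funext i
  simp
  ring

theorem Q_add_ne_zero_of_sub (h : IsGram Q G) (w u : κ → F) (hwu : Q w = Q u) (hu : Q u ≠ 0)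
    (h0 : Q (w - u) = 0) : Q (w + u) ≠ 0 := by
  have e := h.Q_add w u
  have e' := h.Q_sub w u
  rw [h0] at e'
  have : Q (w + u) = 4 * Q u := by
    rw [e, hwu]
    rw [hwu] at e'
    linear_combination e'
  rw [this]
  have h4 : (4 : F) ≠ 0 := by
    have : (4 : F) = 2 * 2 := by norm_num
    rw [this]; exact mul_ne_zero h.two_ne h.two_ne
  exact mul_ne_zero h4 hu

theorem toMat_isometry (g : ↥(Cfsg.isometryGroup F Q)) (x : κ → F) :
    Q (toMat Q g *ᵥ x) = Q x :=
  (mem_isometryGroup_iff' Q g.1).mp g.2 x

theorem cd_aux (h : IsGram Q G) (hdet : G.det ≠ 0) : ∀ (d k : ℕ), k + d = Fintype.card κ →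
    ∀ (v : Fin k → (κ → F)), (∀ i j, i ≠ j → Matrix.toBilin' G (v i) (v j) = 0) →
    (∀ i, Q (v i) ≠ 0) →
    ∀ g : ↥(Cfsg.isometryGroup F Q), (∀ i, toMat Q g *ᵥ v i = v i) →
    ∃ vs : List (κ → F), (∀ x ∈ vs, Q x ≠ 0) ∧
      toMat Q g = (vs.map (fun x => Cfsg.reflectionMatrix Q x)).prod := by
  intro d
  induction d with
  | zero =>
    intro k hk v horth hns g hfix
    refine ⟨[], by simp, ?_⟩
    simp only [List.map_nil, List.prod_nil]
    rcases Nat.eq_zero_or_pos k with hk0 | hkpos
    · have : IsEmpty κ := by
        rw [← Fintype.card_eq_zero_iff]; omega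
      exact Subsingleton.elim _ _
    · have : Nonempty (Fin k) := ⟨⟨0, hkpos⟩⟩
      have li : LinearIndependent F v :=
        LinearMap.BilinForm.linearIndependent_of_iIsOrtho (B := Matrix.toBilin' G)
          (fun i j hij => horth i j hij) (fun i => h.bilin_self_ne_zero (v i) (hns i))
      let b := basisOfLinearIndependentOfCardEqFinrank li
        (by rw [Fintype.card_fin, Module.finrank_fintype_fun_eq_card]; omega)
      have hlin : Matrix.toLin' (toMat Q g) = LinearMap.id := by
        apply b.ext
        intro i
        simp only [b, coe_basisOfLinearIndependentOfCardEqFinrank, Matrix.toLin'_apply,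
          LinearMap.id_coe, id_eq]
        exact hfix i
      apply Matrix.toLin'.injective
      rw [hlin, Matrix.toLin'_one]
  | succ d ih =>
    intro k hk v horth hns g hfix
    have hklt : k < Fintype.card κ := by omega
    obtain ⟨u, hu, hperp⟩ := h.exists_nonsingular_perp hdet v horth hns hklt
    set w := toMat Q g *ᵥ u with hw
    have hwu : Q w = Q u := toMat_isometry g u
    have hwperp : ∀ i, Matrix.toBilin' G w (v i) = 0 := by
      intro i
      have := h.isometry_bilin (toMat Q g) (toMat_isometry g) u (v i)
      rw [hfix i] at this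
      rw [hw, this, h.symmB]; exact hperp i
    have huperp : ∀ i, Matrix.toBilin' G u (v i) = 0 := by
      intro i; rw [h.symmB]; exact hperp i
    -- the extended family
    have horth' : ∀ i j : Fin (k + 1), i ≠ j →
        Matrix.toBilin' G (Fin.snoc (α := fun _ => κ → F) v u i)
          (Fin.snoc (α := fun _ => κ → F) v u j) = 0 := by
      intro i j hij
      induction i using Fin.lastCases with
      | last =>
        induction j using Fin.lastCases with
        | last => exact absurd rfl hij
        | cast j' => simp only [Fin.snoc_last, Fin.snoc_castSucc]; exact huperp j'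
      | cast i' =>
        induction j using Fin.lastCases with
        | last => simp only [Fin.snoc_last, Fin.snoc_castSucc]; exact hperp i'
        | cast j' =>
          simp only [Fin.snoc_castSucc]
          exact horth i' j' (fun e => hij (by rw [e]))
    have hns' : ∀ i : Fin (k + 1), Q (Fin.snoc (α := fun _ => κ → F) v u i) ≠ 0 := by
      intro i
      induction i using Fin.lastCases with
      | last => simp only [Fin.snoc_last]; exact hu
      | cast i' => simp only [Fin.snoc_castSucc]; exact hns i'
    by_cases hne : Q (w - u) ≠ 0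
    · let g' := h.reflG (w - u) hne * g
      have hg' : toMat Q g' = Cfsg.reflectionMatrix Q (w - u) * toMat Q g := by
        simp only [g', map_mul]; rfl
      have hfix' : ∀ i : Fin (k + 1),
          toMat Q g' *ᵥ (Fin.snoc (α := fun _ => κ → F) v u i) =
            Fin.snoc (α := fun _ => κ → F) v u i := by
        intro i
        rw [hg', ← Matrix.mulVec_mulVec]
        induction i using Fin.lastCases with
        | last =>
          simp only [Fin.snoc_last]
          exact h.refl_sub_apply w u hwu hne
        | cast i' =>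
          simp only [Fin.snoc_castSucc]
          rw [hfix i']
          apply h.refl_fixes
          rw [map_sub, LinearMap.sub_apply, hwperp, huperp, sub_zero]
      obtain ⟨vs, hvs, hprod⟩ := ih (k + 1) (by omega) _ horth' hns' g' hfix'
      refine ⟨(w - u) :: vs, ?_, ?_⟩
      · intro x hx
        rcases List.mem_cons.mp hx with rfl | hx
        · exact hne
        · exact hvs x hx
      · rw [List.map_cons, List.prod_cons, ← hprod, hg', ← mul_assoc, h.refl_refl _ hne, one_mul]
    · rw [not_not] at hne
      have hne' : Q (w + u) ≠ 0 := h.Q_add_ne_zero_of_sub w u hwu hu hne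
      let g' := h.reflG u hu * (h.reflG (w + u) hne' * g)
      have hg' : toMat Q g' = Cfsg.reflectionMatrix Q u *
          (Cfsg.reflectionMatrix Q (w + u) * toMat Q g) := by
        simp only [g', map_mul]; rfl
      have hfix' : ∀ i : Fin (k + 1),
          toMat Q g' *ᵥ (Fin.snoc (α := fun _ => κ → F) v u i) =
            Fin.snoc (α := fun _ => κ → F) v u i := by
        intro i
        rw [hg', ← Matrix.mulVec_mulVec, ← Matrix.mulVec_mulVec]
        induction i using Fin.lastCases with
        | last =>
          simp only [Fin.snoc_last]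
          rw [← hw, h.refl_add_apply w u hwu hne', h.refl_self_apply u hu]
        | cast i' =>
          simp only [Fin.snoc_castSucc]
          rw [hfix i', h.refl_fixes (w + u) (v i')
            (by rw [map_add, LinearMap.add_apply, hwperp, huperp, add_zero]),
            h.refl_fixes u (v i') (huperp i')]
      obtain ⟨vs, hvs, hprod⟩ := ih (k + 1) (by omega) _ horth' hns' g' hfix'
      refine ⟨(w + u) :: u :: vs, ?_, ?_⟩
      · intro x hx
        rcases List.mem_cons.mp hx with rfl | hx
        · exact hne'
        · rcases List.mem_cons.mp hx with rfl | hx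
          · exact hu
          · exact hvs x hx
      · rw [List.map_cons, List.prod_cons, List.map_cons, List.prod_cons, ← hprod, hg',
          ← mul_assoc (Cfsg.reflectionMatrix Q u),
          h.refl_refl _ hu, one_mul, ← mul_assoc, h.refl_refl _ hne', one_mul]

/-- **Cartan–Dieudonné** (weak form, characteristic not two): every isometry of a nondegenerate
quadratic form is a product of reflections -/
theorem cartan_dieudonne (h : IsGram Q G) (hdet : G.det ≠ 0) (g : ↥(Cfsg.isometryGroup F Q)) :
    ∃ vs : List (κ → F), (∀ x ∈ vs, Q x ≠ 0) ∧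
      toMat Q g = (vs.map (fun x => Cfsg.reflectionMatrix Q x)).prod :=
  h.cd_aux hdet (Fintype.card κ) 0 (by simp) (fun i => i.elim0) (fun i => i.elim0)
    (fun i => i.elim0) g (fun i => i.elim0)

end IsGram

end Cfsg.Agent.Lib.Helper37
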