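import Cfsg.Agent.Lib.Helper37.TqTWODER

/-! # Elements of `Ω^±` with square `-1` (reusable corollaries of TQ-TWODER, helper37)

For an abstract nondegenerate quadratic form `Q` on `ι → F` (`Std Q d`, `TypeE Q e`), `q` odd:
* minus type, `d` odd, `q ≡ 7 (mod 8)`;
* plus type, `d` even, `q ≡ 3 (mod 4)`;
there is `x ∈ Ω` with `x * x = -1` (all of whose invariant subspaces have even dimension). -/

set_option autoImplicit false

namespace Cfsg.Agent.Lib.Helper59.Tq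

open Module
open Cfsg.Agent.Lib.Helper99

section sqnegone

variable {ι : Type} [Fintype ι] [DecidableEq ι] {F : Type*} [Field F] [Fintype F]

/-- minus type, `d` odd, `q ≡ 7 (mod 8)` -/
theorem twoder_exists_sq_neg_one_minus (h2 : (2 : F) ≠ 0) (Q : (ι → F) → F) (d : ℕ)
    (hS : Std Q d) (he : TypeE Q 1) (hdo : Odd d) (hq : Fintype.card F % 8 = 7) :
    ∃ x : GL ι F, x ∈ Cfsg.Geo.omegaGL Q ∧
      (x : Matrix ι ι F) * (x : Matrix ι ι F) = -1 ∧ NonScalar x ∧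
      ∀ W : Submodule F (ι → F), W.map (Matrix.toLin' (x : Matrix ι ι F)) ≤ W →
        Even (finrank F W) := by
  have hm1 : ¬ IsSquare (-1 : F) := by
    rw [FiniteField.isSquare_neg_one_iff]; omega
  have hs2 : IsSquare (2 : F) := by
    rw [FiniteField.isSquare_two_iff]; omega
  obtain ⟨d'', hd''⟩ := hdo
  subst hd''
  have hab : ∀ x y : F, x ^ 2 + (0 : F) * x * y + 1 * y ^ 2 = 0 → x = 0 ∧ y = 0 := by
    intro x y hxy
    by_cases hy : y = 0
    · subst hy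
      refine ⟨?_, rfl⟩
      have : x ^ 2 = 0 := by linear_combination hxy
      exact pow_eq_zero_iff (two_ne_zero) |>.mp this
    · exfalso
      apply hm1
      refine ⟨x / y, ?_⟩
      field_simp
      linear_combination -hxy
  obtain ⟨v, w, hfam⟩ := twoder_model_minus (F := F) h2 d''
  have hS' := std_minus (F := F) (2 * d'' + 1) (by omega) 0 1 hab
  have hE' := typeE_minus (F := F) (2 * d'' + 1) (by omega) 0 1 hab
  rw [show 2 * d'' + 1 - 1 = 2 * d'' by omega] at hS' hE'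
  obtain ⟨QF, hQF, v₁, w₁, hfam₁⟩ :=
    twoder_transport Q (Cfsg.quadFormMinus (2 * d'') F 0 1) (2 * d'' + 1) 1 hS hS' he hE' v w hfam
  obtain ⟨x, hxΩ, hx2, hns, hev⟩ := twoder_rot' QF h2 hm1 v₁ w₁ hfam₁ (Or.inr hs2)
  rw [hQF] at hxΩ
  refine ⟨x, hxΩ, ?_, hns, hev⟩
  rw [Units.val_pow_eq_pow_val, sq] at hx2
  rw [hx2, neg_one_smul]

/-- plus type, `d` even, `q ≡ 3 (mod 4)` -/
theorem twoder_exists_sq_neg_one_plus (h2 : (2 : F) ≠ 0) (Q : (ι → F) → F) (d : ℕ) (hd : 1 ≤ d)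
    (hS : Std Q d) (he : TypeE Q 0) (hde : Even d) (hq : Fintype.card F % 4 = 3) :
    ∃ x : GL ι F, x ∈ Cfsg.Geo.omegaGL Q ∧
      (x : Matrix ι ι F) * (x : Matrix ι ι F) = -1 ∧ NonScalar x ∧
      ∀ W : Submodule F (ι → F), W.map (Matrix.toLin' (x : Matrix ι ι F)) ≤ W →
        Even (finrank F W) := by
  have hm1 : ¬ IsSquare (-1 : F) := by
    rw [FiniteField.isSquare_neg_one_iff]; omega
  obtain ⟨d', hd'⟩ := hde
  have hd2 : d = 2 * d' := by omega
  subst hd2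
  obtain ⟨v, w, hfam⟩ := twoder_model_plus (F := F) h2 d'
  haveI : Nonempty (Fin d' × Bool) := ⟨(⟨0, by omega⟩, false)⟩
  obtain ⟨QF, hQF, v₁, w₁, hfam₁⟩ :=
    twoder_transport Q (Cfsg.quadFormPlus (2 * d') F) (2 * d') 0 hS (std_plus (2 * d')) he
      (typeE_plus (2 * d')) v w hfam
  obtain ⟨x, hxΩ, hx2, hns, hev⟩ := twoder_rot' QF h2 hm1 v₁ w₁ hfam₁
    (Or.inl (by rw [Fintype.card_prod, Fintype.card_bool, Fintype.card_fin]; exact even_two.mul_left _))
  rw [hQF] at hxΩ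
  refine ⟨x, hxΩ, ?_, hns, hev⟩
  rw [Units.val_pow_eq_pow_val, sq] at hx2
  rw [hx2, neg_one_smul]

end sqnegone

end Cfsg.Agent.Lib.Helper59.Tq
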