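import Mathlib
import Cfsg.Prelude.Def_ClassicalGeometry
import Cfsg.Prelude.Def_GeometricClasses
import Cfsg.Prelude.Def_Classical
import Cfsg.Agent.Lib.Helper14.QmDefs
import Cfsg.Agent.Lib.Helper37.TqTWODERx

/-! # Qm hive (helper14, S5990): LEAF QM-R2A (wrapper of helper37's `twoder_exists_sq_neg_one_minus`) -/

set_option autoImplicit false

namespace Cfsg.Agent.Lib.Helper14.Qm

open Module

section oddq_concrete

variable {F : Type*} [Field F] [Fintype F]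

/-- QM-R2A -/
theorem exists_sq_neg_one_mem_minus (h2 : (2 : F) ≠ 0) (d : ℕ) (hd : 1 ≤ d) (hdo : Odd d)
    (hq : Fintype.card F % 8 = 7) (a b : F)
    (hab : ∀ x y : F, x ^ 2 + a * x * y + b * y ^ 2 = 0 → x = 0 ∧ y = 0) :
    ∃ x : GL (IM d) F, x ∈ Cfsg.Geo.omegaGL (Cfsg.quadFormMinus (d - 1) F a b) ∧
      (x : MM d F) * (x : MM d F) = -1 := by
  obtain ⟨x, hx, hxx, -, -⟩ := Cfsg.Agent.Lib.Helper59.Tq.twoder_exists_sq_neg_one_minus h2
    (Cfsg.quadFormMinus (d - 1) F a b) d (Cfsg.Agent.Lib.Helper59.Tq.std_minus d hd a b hab)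
    (Cfsg.Agent.Lib.Helper59.Tq.typeE_minus d hd a b hab) hdo hq
  exact ⟨x, hx, hxx⟩

end oddq_concrete

end Cfsg.Agent.Lib.Helper14.Qm
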