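import Cfsg.Agent.Lib.Helper37.B2O5Defs

/-! # Bo hive (S1083): leaf BO-REL2-3 (generated by tools/helper37/b2genrel.py) -/

set_option autoImplicit false
set_option linter.unusedSectionVars false
set_option linter.unusedVariables false
set_option linter.unusedTactic false
set_option linter.unreachableTactic false

namespace Cfsg.Agent.Lib.Helper37.B2O5

open Matrix Module QuadraticMap
open Cfsg.Agent.Lib.Helper8 Cfsg.Agent.Lib.Helper13 Cfsg.Agent.Lib.Helper37 Cfsg.Agent.Lib.Helper43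

variable {F : Type*} [Field F]

theorem rel2_3 (s : ℕ) (hs : s < 8) (h1 : s ≠ 3) (h2 : s ≠ 4) (t u : F) :
    (Xn s u)⁻¹ * (Xn 3 t)⁻¹ * Xn s u * Xn 3 t = wprod (Cfsg.Lie.chevB2.commWord F 3 s t u) := by
  interval_cases s
  · have h : Cfsg.Lie.chevB2.commTerms 3 0 = [] := by decide
    unfold wprod Cfsg.Lie.ChevalleyDatum.commWord
    rw [h]
    simp only [List.map_cons, List.map_nil, List.prod_cons, List.prod_nil, mul_one]
    rw [Xn_of_lt (by norm_num : 0 < 8), Xn_of_lt (by norm_num : 3 < 8), X_inv, X_inv]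
    apply reflElt_ext
    intro x
    simp only [act_mul, act_one]
    have e0 : ∀ (t : F) y, act (Q5 F) (X ⟨0, by norm_num⟩ t) y = act (Q5 F) (X 0 t) y := fun _ _ => rfl
    have e3 : ∀ (t : F) y, act (Q5 F) (X ⟨3, by norm_num⟩ t) y = act (Q5 F) (X 3 t) y := fun _ _ => rfl
    simp only [e0, e3, act_X0, act_X3]
    apply ext5 <;> simp <;> try ring
  · have h : Cfsg.Lie.chevB2.commTerms 3 1 = [] := by decide
    unfold wprod Cfsg.Lie.ChevalleyDatum.commWord
    rw [h]
    simp only [List.map_cons, List.map_nil, List.prod_cons, List.prod_nil, mul_one]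
    rw [Xn_of_lt (by norm_num : 1 < 8), Xn_of_lt (by norm_num : 3 < 8), X_inv, X_inv]
    apply reflElt_ext
    intro x
    simp only [act_mul, act_one]
    have e1 : ∀ (t : F) y, act (Q5 F) (X ⟨1, by norm_num⟩ t) y = act (Q5 F) (X 1 t) y := fun _ _ => rfl
    have e3 : ∀ (t : F) y, act (Q5 F) (X ⟨3, by norm_num⟩ t) y = act (Q5 F) (X 3 t) y := fun _ _ => rfl
    simp only [e1, e3, act_X1, act_X3]
    apply ext5 <;> simp <;> try ring
  · have h : Cfsg.Lie.chevB2.commTerms 3 2 = [(1, -1, 1, 1), (0, -1, 1, 2)] := by decide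
    unfold wprod Cfsg.Lie.ChevalleyDatum.commWord
    rw [h]
    simp only [List.map_cons, List.map_nil, List.prod_cons, List.prod_nil, mul_one]
    rw [Xn_of_lt (by norm_num : 0 < 8), Xn_of_lt (by norm_num : 1 < 8), Xn_of_lt (by norm_num : 2 < 8), Xn_of_lt (by norm_num : 3 < 8), X_inv, X_inv]
    apply reflElt_ext
    intro x
    simp only [act_mul, act_one]
    have e0 : ∀ (t : F) y, act (Q5 F) (X ⟨0, by norm_num⟩ t) y = act (Q5 F) (X 0 t) y := fun _ _ => rfl
    have e1 : ∀ (t : F) y, act (Q5 F) (X ⟨1, by norm_num⟩ t) y = act (Q5 F) (X 1 t) y := fun _ _ => rfl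
    have e2 : ∀ (t : F) y, act (Q5 F) (X ⟨2, by norm_num⟩ t) y = act (Q5 F) (X 2 t) y := fun _ _ => rfl
    have e3 : ∀ (t : F) y, act (Q5 F) (X ⟨3, by norm_num⟩ t) y = act (Q5 F) (X 3 t) y := fun _ _ => rfl
    simp only [e0, e1, e2, e3, act_X0, act_X1, act_X2, act_X3]
    apply ext5 <;> simp <;> try ring
  · exact absurd rfl h1
  · exact absurd rfl h2
  · have h : Cfsg.Lie.chevB2.commTerms 3 5 = [] := by decide
    unfold wprod Cfsg.Lie.ChevalleyDatum.commWord
    rw [h]
    simp only [List.map_cons, List.map_nil, List.prod_cons, List.prod_nil, mul_one]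
    rw [Xn_of_lt (by norm_num : 3 < 8), Xn_of_lt (by norm_num : 5 < 8), X_inv, X_inv]
    apply reflElt_ext
    intro x
    simp only [act_mul, act_one]
    have e3 : ∀ (t : F) y, act (Q5 F) (X ⟨3, by norm_num⟩ t) y = act (Q5 F) (X 3 t) y := fun _ _ => rfl
    have e5 : ∀ (t : F) y, act (Q5 F) (X ⟨5, by norm_num⟩ t) y = act (Q5 F) (X 5 t) y := fun _ _ => rfl
    simp only [e3, e5, act_X3, act_X5]
    apply ext5 <;> simp <;> try ring
  · have h : Cfsg.Lie.chevB2.commTerms 3 6 = [(5, 1, 1, 1), (7, 1, 1, 2)] := by decide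
    unfold wprod Cfsg.Lie.ChevalleyDatum.commWord
    rw [h]
    simp only [List.map_cons, List.map_nil, List.prod_cons, List.prod_nil, mul_one]
    rw [Xn_of_lt (by norm_num : 3 < 8), Xn_of_lt (by norm_num : 5 < 8), Xn_of_lt (by norm_num : 6 < 8), Xn_of_lt (by norm_num : 7 < 8), X_inv, X_inv]
    apply reflElt_ext
    intro x
    simp only [act_mul, act_one]
    have e3 : ∀ (t : F) y, act (Q5 F) (X ⟨3, by norm_num⟩ t) y = act (Q5 F) (X 3 t) y := fun _ _ => rfl
    have e5 : ∀ (t : F) y, act (Q5 F) (X ⟨5, by norm_num⟩ t) y = act (Q5 F) (X 5 t) y := fun _ _ => rfl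
    have e6 : ∀ (t : F) y, act (Q5 F) (X ⟨6, by norm_num⟩ t) y = act (Q5 F) (X 6 t) y := fun _ _ => rfl
    have e7 : ∀ (t : F) y, act (Q5 F) (X ⟨7, by norm_num⟩ t) y = act (Q5 F) (X 7 t) y := fun _ _ => rfl
    simp only [e3, e5, e6, e7, act_X3, act_X5, act_X6, act_X7]
    apply ext5 <;> simp <;> try ring
  · have h : Cfsg.Lie.chevB2.commTerms 3 7 = [] := by decide
    unfold wprod Cfsg.Lie.ChevalleyDatum.commWord
    rw [h]
    simp only [List.map_cons, List.map_nil, List.prod_cons, List.prod_nil, mul_one]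
    rw [Xn_of_lt (by norm_num : 3 < 8), Xn_of_lt (by norm_num : 7 < 8), X_inv, X_inv]
    apply reflElt_ext
    intro x
    simp only [act_mul, act_one]
    have e3 : ∀ (t : F) y, act (Q5 F) (X ⟨3, by norm_num⟩ t) y = act (Q5 F) (X 3 t) y := fun _ _ => rfl
    have e7 : ∀ (t : F) y, act (Q5 F) (X ⟨7, by norm_num⟩ t) y = act (Q5 F) (X 7 t) y := fun _ _ => rfl
    simp only [e3, e7, act_X3, act_X7]
    apply ext5 <;> simp <;> try ring

end Cfsg.Agent.Lib.Helper37.B2O5
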