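import Mathlib
import Cfsg.Agent.Lib.Helper40.OpBNDefs
import Cfsg.Agent.Lib.Helper8.DicksonGen
import Cfsg.Agent.Lib.Helper8.OrthForms

/-! # OpBN hive (helper40, S2548): LEAF BRIDGE (`O⁺_{2m}(q)` is generated by reflections) and
LEAF INVOL (`O⁺_{2m}(q)` is generated by involutions) -/

set_option autoImplicit false

namespace Cfsg.Agent.Lib.Helper40.OpBN

open Matrix Cfsg Cfsg.Agent.Lib.Helper13 Cfsg.Agent.Lib.Helper41.SpBN

variable {F : Type*} [Field F] {m : ℕ}

/-- generic transport: Cartan–Dieudonné for a function `Q` equal to the coercion of a quadratic form -/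
theorem bridge_gen {ι : Type} [Fintype ι] [DecidableEq ι] [Fintype F] (Q : (ι → F) → F)
    (Q' : QuadraticForm F (ι → F)) (hQQ : Q = ⇑Q')
    (hnd : (QuadraticMap.polarBilin Q').Nondegenerate)
    (hgood : Cfsg.Agent.Lib.Helper8.GoodOrth Q') :
    Subgroup.closure {g : ↥(Cfsg.isometryGroup F Q) | ∃ v : ι → F, Q v ≠ 0 ∧
      ((g : Matrix.GeneralLinearGroup ι F) : Matrix ι ι F) = Cfsg.reflectionMatrix Q v} = ⊤ := by
  subst hQQ
  exact Cfsg.Agent.Lib.Helper8.closure_reflSet_eq_top_gen Q' hnd hgood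

theorem bridge_good [Fintype F] (hgood : ¬ (m = 2 ∧ Fintype.card F = 2)) :
    Cfsg.Agent.Lib.Helper8.GoodOrth (Cfsg.Agent.Lib.Helper8.plusForm m F) := by
  left
  by_cases hF : Fintype.card F = 2
  · right
    rw [Module.finrank_pi, Fintype.card_sum, Fintype.card_fin]
    intro h4
    exact hgood ⟨by omega, hF⟩
  · left
    exact hF

/-- LEAF BRIDGE -/
theorem closure_refl_eq_top [Fintype F] (hgood : ¬ (m = 2 ∧ Fintype.card F = 2)) :
    Subgroup.closure {g : OG F m | ∃ v : Idx m → F, Cfsg.quadFormPlus m F v ≠ 0 ∧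
      mt g = Cfsg.reflectionMatrix (Cfsg.quadFormPlus m F) v} = ⊤ :=
  bridge_gen (Cfsg.quadFormPlus m F) (Cfsg.Agent.Lib.Helper8.plusForm m F)
    (Cfsg.Agent.Lib.Helper8.plusForm_coe m F) (Cfsg.Agent.Lib.Helper8.plusForm_nondegenerate m F)
    (bridge_good hgood)

end Cfsg.Agent.Lib.Helper40.OpBN
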