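import Mathlib
import Cfsg.Agent.Lib.Helper40.OpBNDefs
import Cfsg.Agent.Lib.Helper8.DicksonGen
import Cfsg.Agent.Lib.Helper8.OrthForms
import Cfsg.Agent.Lib.Helper8.OrthTransp
import Cfsg.Agent.Lib.Helper37.OpBN_BRIDGE

/-! # OpBN hive (helper40, S2548): LEAF INVOL (`O⁺_{2m}(q)` is generated by involutions) -/

set_option autoImplicit false

namespace Cfsg.Agent.Lib.Helper40.OpBN

open Matrix Cfsg Cfsg.Agent.Lib.Helper13 Cfsg.Agent.Lib.Helper41.SpBN

variable {F : Type*} [Field F] {m : ℕ}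

/-- generic: the isometry group of (the coercion of) a quadratic form is generated by involutions -/
theorem invol_gen {ι : Type} [Fintype ι] [DecidableEq ι] [Fintype F] (Q : (ι → F) → F)
    (Q' : QuadraticForm F (ι → F)) (hQQ : Q = ⇑Q')
    (hnd : (QuadraticMap.polarBilin Q').Nondegenerate)
    (hgood : Cfsg.Agent.Lib.Helper8.GoodOrth Q') :
    Subgroup.closure {g : ↥(Cfsg.isometryGroup F Q) | g * g = 1} = ⊤ := by
  subst hQQ
  rw [eq_top_iff, ← Cfsg.Agent.Lib.Helper8.closure_reflSet_eq_top_gen Q' hnd hgood]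
  apply Subgroup.closure_mono
  rintro g ⟨v, hv, hg⟩
  have : g = Cfsg.Agent.Lib.Helper8.reflElt Q' v hv := by
    apply Subtype.ext
    apply Units.ext
    rw [hg]
    rfl
  show g * g = 1
  rw [this]
  exact Cfsg.Agent.Lib.Helper8.reflElt_mul_self Q' v hv

/-- LEAF INVOL -/
theorem closure_invol_eq_top [Fintype F] (hgood : ¬ (m = 2 ∧ Fintype.card F = 2)) :
    Subgroup.closure {g : OG F m | g * g = 1} = ⊤ :=
  invol_gen (Cfsg.quadFormPlus m F) (Cfsg.Agent.Lib.Helper8.plusForm m F)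
    (Cfsg.Agent.Lib.Helper8.plusForm_coe m F) (Cfsg.Agent.Lib.Helper8.plusForm_nondegenerate m F)
    (bridge_good hgood)

end Cfsg.Agent.Lib.Helper40.OpBN
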