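import Mathlib
import Cfsg.Prelude.Def_LieTypeDatum
import Cfsg.Agent.Lib.Helper94.Quad

set_option autoImplicit false
set_option linter.unusedSectionVars false

namespace Cfsg.Agent.Lib.Helper37

open Matrix

universe u

variable {ι : Type} [Fintype ι] [DecidableEq ι] {F : Type u} [Field F]

instance commutator_characteristic' (G : Type*) [Group G] : (commutator G).Characteristic := by
  unfold commutator
  infer_instance

/-- an automorphism of `G` induces an automorphism of `G / Z(G)` -/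
def autQuotCenter (G : Type*) [Group G] : MulAut G →* MulAut (G ⧸ Subgroup.center G) where
  toFun e := QuotientGroup.congr (Subgroup.center G) (Subgroup.center G) e
    (Subgroup.characteristic_iff_map_eq.1 inferInstance e)
  map_one' := by
    ext x
    induction x using QuotientGroup.induction_on
    rfl
  map_mul' a b := by
    ext x
    induction x using QuotientGroup.induction_on
    rfl

theorem autQuotCenter_mk (G : Type*) [Group G] (e : MulAut G) (x : G) :
    autQuotCenter G e (QuotientGroup.mk x) = QuotientGroup.mk (e x) := rfl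

/-- a similarity conjugates isometries to isometries -/
theorem sim_conj_mem (Q : (ι → F) → F) (g : GL ι F) (hg : g ∈ Cfsg.Geo.quadSimilarityGroup (F := F) Q)
    (h : GL ι F) (hh : h ∈ Cfsg.isometryGroup F Q) : g * h * g⁻¹ ∈ Cfsg.isometryGroup F Q := by
  rw [Cfsg.Agent.Lib.Helper94.mem_isom] at hh ⊢
  obtain ⟨c, hc⟩ := hg
  intro u
  have h1 : ((g * h * g⁻¹ : GL ι F) : Matrix ι ι F) *ᵥ u
      = (g : Matrix ι ι F) *ᵥ ((h : Matrix ι ι F) *ᵥ (((g⁻¹ : GL ι F) : Matrix ι ι F) *ᵥ u)) := by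
    rw [Units.val_mul, Units.val_mul, ← Matrix.mulVec_mulVec, ← Matrix.mulVec_mulVec]
  rw [h1, hc, hh]
  have h2 := hc (((g⁻¹ : GL ι F) : Matrix ι ι F) *ᵥ u)
  rw [Cfsg.Agent.Lib.Helper94.mulVec_inv_mulVec] at h2
  exact h2.symm

/-- conjugation by a similarity, as an automorphism of the isometry group -/
def simConjHom (Q : (ι → F) → F) :
    ↥(Cfsg.Geo.quadSimilarityGroup (F := F) Q) →* MulAut ↥(Cfsg.isometryGroup F Q) where
  toFun g :=
    { toFun := fun h => ⟨g.1 * h.1 * g.1⁻¹, sim_conj_mem Q g.1 g.2 h.1 h.2⟩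
      invFun := fun h => ⟨g.1⁻¹ * h.1 * g.1, by
        have := sim_conj_mem Q g.1⁻¹ (Subgroup.inv_mem _ g.2) h.1 h.2
        rwa [inv_inv] at this⟩
      left_inv := fun h => by
        apply Subtype.ext
        show g.1⁻¹ * (g.1 * h.1 * g.1⁻¹) * g.1 = h.1
        group
      right_inv := fun h => by
        apply Subtype.ext
        show g.1 * (g.1⁻¹ * h.1 * g.1) * g.1⁻¹ = h.1
        group
      map_mul' := fun a b => by
        apply Subtype.ext
        show g.1 * (a.1 * b.1) * g.1⁻¹ = (g.1 * a.1 * g.1⁻¹) * (g.1 * b.1 * g.1⁻¹)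
        group }
  map_one' := by
    apply MulEquiv.ext
    intro h
    apply Subtype.ext
    show (1 : GL ι F) * h.1 * (1 : GL ι F)⁻¹ = h.1
    group
  map_mul' a b := by
    apply MulEquiv.ext
    intro h
    apply Subtype.ext
    show (a.1 * b.1) * h.1 * (a.1 * b.1)⁻¹ = a.1 * (b.1 * h.1 * b.1⁻¹) * a.1⁻¹
    group

theorem simConjHom_apply (Q : (ι → F) → F) (g : ↥(Cfsg.Geo.quadSimilarityGroup (F := F) Q))
    (h : ↥(Cfsg.isometryGroup F Q)) :
    ((simConjHom Q g h : ↥(Cfsg.isometryGroup F Q)) : GL ι F) = g.1 * h.1 * g.1⁻¹ := rfl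

/-- the action of the conformal group on `PΩ(Q)` -/
def Phi (Q : (ι → F) → F) :
    ↥(Cfsg.Geo.quadSimilarityGroup (F := F) Q) →* MulAut (Cfsg.POmega F Q) :=
  (autQuotCenter ↥(Cfsg.Omega F Q)).comp
    ((MulAut.characteristic (Cfsg.Omega F Q)).comp (simConjHom Q))

theorem Phi_mk (Q : (ι → F) → F) (g : ↥(Cfsg.Geo.quadSimilarityGroup (F := F) Q))
    (s : ↥(Cfsg.Omega F Q)) :
    Phi Q g (QuotientGroup.mk s) =
      QuotientGroup.mk (MulAut.characteristic (Cfsg.Omega F Q) (simConjHom Q g) s) := rfl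

theorem Phi_mk_val (Q : (ι → F) → F) (g : ↥(Cfsg.Geo.quadSimilarityGroup (F := F) Q))
    (s : ↥(Cfsg.Omega F Q)) :
    (((MulAut.characteristic (Cfsg.Omega F Q) (simConjHom Q g) s : ↥(Cfsg.Omega F Q)) :
      ↥(Cfsg.isometryGroup F Q)) : GL ι F) = g.1 * s.1.1 * g.1⁻¹ := rfl

theorem isInduced_iff (Q : (ι → F) → F) (g : GL ι F)
    (hg : g ∈ Cfsg.Geo.quadSimilarityGroup (F := F) Q)
    (β : Cfsg.POmega F Q ≃* Cfsg.POmega F Q) :
    Cfsg.IsInducedBySemilinearPOmega Q g (RingEquiv.refl F) β ↔ β = Phi Q ⟨g, hg⟩ := by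
  have hmap : ∀ M : Matrix ι ι F, M.map (RingEquiv.refl F) = M := by
    intro M; ext i j; simp
  constructor
  · intro h
    ext x
    induction x using QuotientGroup.induction_on with
    | H s =>
      rw [Phi_mk]
      apply h s
      rw [hmap]
      have := Phi_mk_val Q ⟨g, hg⟩ s
      rw [this]
      simp [Units.val_mul]
  · rintro rfl s s' hs
    rw [Phi_mk]
    congr 1
    apply Subtype.ext
    apply Subtype.ext
    apply Units.ext
    rw [Phi_mk_val, hs, hmap]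
    simp [Units.val_mul]


theorem isom_le_sim (Q : (ι → F) → F) :
    Cfsg.isometryGroup F Q ≤ Cfsg.Geo.quadSimilarityGroup (F := F) Q := by
  intro g hg
  rw [Cfsg.Agent.Lib.Helper94.mem_isom] at hg
  exact ⟨1, fun v => by rw [hg v, Units.val_one, one_mul]⟩

theorem omegaGL_le_isom (Q : (ι → F) → F) : Cfsg.Geo.omegaGL Q ≤ Cfsg.isometryGroup F Q := by
  rintro _ ⟨g, -, rfl⟩
  exact g.2

theorem mem_omegaGL_iff (Q : (ι → F) → F) (x : GL ι F) :
    x ∈ Cfsg.Geo.omegaGL Q ↔ ∃ s : ↥(Cfsg.Omega F Q), (s.1 : GL ι F) = x := by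
  unfold Cfsg.Geo.omegaGL
  rw [Subgroup.mem_map]
  constructor
  · rintro ⟨g, hg, rfl⟩
    exact ⟨⟨g, hg⟩, rfl⟩
  · rintro ⟨s, rfl⟩
    exact ⟨s.1, s.2, rfl⟩

theorem pgoAut_eq (Q : (ι → F) → F) : Cfsg.pgoAut F Q = (Phi Q).range := by
  unfold Cfsg.pgoAut Cfsg.autSubgroupOf
  have : {β : MulAut (Cfsg.POmega F Q) | Cfsg.IsSimilarityInducedAutPOmega Q β}
      = ((Phi Q).range : Set (MulAut (Cfsg.POmega F Q))) := by
    ext β
    constructor
    · rintro ⟨g, hg, h⟩
      exact ⟨⟨g, hg⟩, ((isInduced_iff Q g hg β).1 h).symm⟩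
    · rintro ⟨g, rfl⟩
      exact ⟨g.1, g.2, (isInduced_iff Q g.1 g.2 _).2 rfl⟩
  rw [this, Subgroup.closure_eq]

theorem psoAut_eq (Q : (ι → F) → F) :
    Cfsg.psoAut F Q = ((Cfsg.specialIsometryGL F Q).subgroupOf
      (Cfsg.Geo.quadSimilarityGroup (F := F) Q)).map (Phi Q) := by
  unfold Cfsg.psoAut Cfsg.autSubgroupOf
  have : {β : MulAut (Cfsg.POmega F Q) | Cfsg.IsSpecialIsometryInducedAutPOmega Q β}
      = ((((Cfsg.specialIsometryGL F Q).subgroupOf
      (Cfsg.Geo.quadSimilarityGroup (F := F) Q)).map (Phi Q) : Subgroup _) :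
        Set (MulAut (Cfsg.POmega F Q))) := by
    ext β
    constructor
    · rintro ⟨g, hg, h⟩
      have hg' : g ∈ Cfsg.Geo.quadSimilarityGroup (F := F) Q := isom_le_sim Q hg.1
      refine ⟨⟨g, hg'⟩, ?_, ((isInduced_iff Q g hg' β).1 h).symm⟩
      exact hg
    · rintro ⟨g, hg, rfl⟩
      exact ⟨g.1, hg, (isInduced_iff Q g.1 g.2 _).2 rfl⟩
  rw [this, Subgroup.closure_eq]

theorem inn_eq (Q : (ι → F) → F) :
    Cfsg.Inn (Cfsg.POmega F Q) = ((Cfsg.Geo.omegaGL Q).subgroupOf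
      (Cfsg.Geo.quadSimilarityGroup (F := F) Q)).map (Phi Q) := by
  ext β
  constructor
  · rintro ⟨x, rfl⟩
    induction x using QuotientGroup.induction_on with
    | H s₀ =>
      have hs₀ : (s₀.1 : GL ι F) ∈ Cfsg.Geo.quadSimilarityGroup (F := F) Q :=
        isom_le_sim Q s₀.1.2
      refine ⟨⟨s₀.1.1, hs₀⟩, (mem_omegaGL_iff Q _).2 ⟨s₀, rfl⟩, ?_⟩
      ext y
      induction y using QuotientGroup.induction_on with
      | H s =>
        rw [Phi_mk, MulAut.conj_apply]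
        rfl
  · rintro ⟨g, hg, rfl⟩
    obtain ⟨s₀, hs₀⟩ := (mem_omegaGL_iff Q _).1 hg
    refine ⟨QuotientGroup.mk s₀, ?_⟩
    ext y
    induction y using QuotientGroup.induction_on with
    | H s =>
      rw [Phi_mk, MulAut.conj_apply]
      show (QuotientGroup.mk (s₀ * s * s₀⁻¹) : Cfsg.POmega F Q) = _
      congr 1
      apply Subtype.ext
      apply Subtype.ext
      rw [Phi_mk_val]
      have hs₀' : (s₀.1 : GL ι F) = g.1 := hs₀
      rw [← hs₀']
      rfl

/-- transfer of a homomorphism along a homomorphism with smaller kernel -/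
theorem transfer_hom {G A D : Type*} [Group G] [Group A] [Group D] (Φ : G →* A) (ψ : G →* D)
    (hψ : Function.Surjective ψ) (hker : Φ.ker ≤ ψ.ker) :
    ∃ φ : ↥Φ.range →* D, Function.Surjective φ ∧
      φ.ker = (ψ.ker.map Φ).subgroupOf Φ.range := by
  let φ : ↥Φ.range →* D := (QuotientGroup.lift Φ.ker ψ hker).comp
    (QuotientGroup.quotientKerEquivRange Φ).symm.toMonoidHom
  have hφ : ∀ g : G, φ ⟨Φ g, g, rfl⟩ = ψ g := by
    intro g
    have h1 : (QuotientGroup.quotientKerEquivRange Φ).symm ⟨Φ g, g, rfl⟩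
        = (QuotientGroup.mk g : G ⧸ Φ.ker) := by
      rw [MulEquiv.symm_apply_eq]
      rfl
    show (QuotientGroup.lift Φ.ker ψ hker)
      ((QuotientGroup.quotientKerEquivRange Φ).symm ⟨Φ g, g, rfl⟩) = ψ g
    rw [h1]
    rfl
  refine ⟨φ, ?_, ?_⟩
  · intro d
    obtain ⟨g, rfl⟩ := hψ d
    exact ⟨⟨Φ g, g, rfl⟩, hφ g⟩
  · ext ⟨x, g, rfl⟩
    rw [MonoidHom.mem_ker, hφ, Subgroup.mem_subgroupOf, Subgroup.mem_map]
    constructor
    · intro h
      exact ⟨g, h, rfl⟩
    · rintro ⟨g', hg', h⟩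
      have h2 : g'⁻¹ * g ∈ Φ.ker := by
        rw [MonoidHom.mem_ker, map_mul, map_inv, h]
        simp
      have h3 := hker h2
      rw [MonoidHom.mem_ker, map_mul, map_inv, MonoidHom.mem_ker.1 hg'] at h3
      simpa using h3

end Cfsg.Agent.Lib.Helper37
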