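import Cfsg.Agent.Lib.Helper37.OmegaIndex
import Cfsg.Agent.Lib.Helper37.AutPOmega

set_option autoImplicit false
set_option linter.unusedSectionVars false
set_option linter.unusedVariables false

namespace Cfsg.Agent.Lib.Helper37

open Matrix Module

universe u

variable {κ : Type} [Fintype κ] [DecidableEq κ] {F : Type u} [Field F]
  {Q : (κ → F) → F} {G : Matrix κ κ F}

/-- the multiplier of a similarity -/
noncomputable def simMult (Q : (κ → F) → F)
    (g : ↥(Cfsg.Geo.quadSimilarityGroup (F := F) Q)) : Fˣ := Classical.choose g.2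

theorem simMult_spec (Q : (κ → F) → F) (g : ↥(Cfsg.Geo.quadSimilarityGroup (F := F) Q))
    (v : κ → F) : Q ((g.1 : Matrix κ κ F) *ᵥ v) = (simMult Q g : F) * Q v :=
  Classical.choose_spec g.2 v

theorem simMult_unique (hne : ∃ v, Q v ≠ 0) (g : ↥(Cfsg.Geo.quadSimilarityGroup (F := F) Q))
    (c : Fˣ) (hc : ∀ v, Q ((g.1 : Matrix κ κ F) *ᵥ v) = (c : F) * Q v) : simMult Q g = c := by
  obtain ⟨v, hv⟩ := hne
  have h1 := simMult_spec Q g v
  rw [hc v] at h1
  apply Units.ext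
  exact (mul_right_cancel₀ hv h1).symm

/-- the multiplier as a homomorphism -/
noncomputable def simMultHom (hne : ∃ v, Q v ≠ 0) :
    ↥(Cfsg.Geo.quadSimilarityGroup (F := F) Q) →* Fˣ where
  toFun := simMult Q
  map_one' := by
    apply simMult_unique hne
    intro v
    simp
  map_mul' a b := by
    apply simMult_unique hne
    intro v
    rw [Subgroup.coe_mul, Units.val_mul, ← Matrix.mulVec_mulVec, simMult_spec Q, simMult_spec Q,
      Units.val_mul, mul_assoc]

theorem simMultHom_apply (hne : ∃ v, Q v ≠ 0) (g : ↥(Cfsg.Geo.quadSimilarityGroup (F := F) Q)) :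
    simMultHom hne g = simMult Q g := rfl

theorem sim_bilin (h : IsGram Q G) (g : ↥(Cfsg.Geo.quadSimilarityGroup (F := F) Q))
    (u w : κ → F) :
    Matrix.toBilin' G ((g.1 : Matrix κ κ F) *ᵥ u) ((g.1 : Matrix κ κ F) *ᵥ w)
      = (simMult Q g : F) * Matrix.toBilin' G u w := by
  rw [← h.polar_eq, ← h.polar_eq]
  unfold QuadraticMap.polar
  rw [← Matrix.mulVec_add, simMult_spec Q, simMult_spec Q, simMult_spec Q]
  ring

theorem sim_gram (h : IsGram Q G) (g : ↥(Cfsg.Geo.quadSimilarityGroup (F := F) Q)) :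
    (g.1 : Matrix κ κ F)ᵀ * G * (g.1 : Matrix κ κ F) = (simMult Q g : F) • G := by
  apply Matrix.toBilin'.injective
  apply LinearMap.ext₂
  intro u w
  have h1 := sim_bilin h g u w
  rw [Matrix.toBilin'_apply', Matrix.toBilin'_apply'] at h1
  rw [Matrix.toBilin'_apply', map_smul, LinearMap.smul_apply, LinearMap.smul_apply,
    Matrix.toBilin'_apply', smul_eq_mul, ← h1, ← Matrix.mulVec_mulVec, ← Matrix.mulVec_mulVec,
    Matrix.dotProduct_mulVec, Matrix.vecMul_transpose]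

theorem sim_det_sq (h : IsGram Q G) (hdet : G.det ≠ 0)
    (g : ↥(Cfsg.Geo.quadSimilarityGroup (F := F) Q)) :
    (g.1 : Matrix κ κ F).det ^ 2 = (simMult Q g : F) ^ Fintype.card κ := by
  have h1 := congrArg Matrix.det (sim_gram h g)
  rw [Matrix.det_mul, Matrix.det_mul, Matrix.det_transpose, Matrix.det_smul] at h1
  have h2 : (g.1 : Matrix κ κ F).det ^ 2 * G.det = (simMult Q g : F) ^ Fintype.card κ * G.det := by
    rw [← h1]; ring
  exact mul_right_cancel₀ hdet h2


/-- a homomorphism with values `±1` in `Fˣ`, read in `ℤˣ` -/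
noncomputable def pmHom {Γ : Type*} [Group Γ] (χ : Γ →* Fˣ) (hχ : ∀ g, χ g = 1 ∨ χ g = -1)
    (h1 : (-1 : Fˣ) ≠ 1) : Γ →* ℤˣ := by
  classical
  exact
  { toFun := fun g => if χ g = 1 then 1 else -1
    map_one' := by simp
    map_mul' := fun a b => by
      rcases hχ a with ha | ha <;> rcases hχ b with hb | hb <;> simp [ha, hb, h1] }

theorem pmHom_eq_one_iff {Γ : Type*} [Group Γ] (χ : Γ →* Fˣ) (hχ : ∀ g, χ g = 1 ∨ χ g = -1)
    (h1 : (-1 : Fˣ) ≠ 1) (g : Γ) : pmHom χ hχ h1 g = 1 ↔ χ g = 1 := by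
  classical
  show (if χ g = 1 then (1 : ℤˣ) else -1) = 1 ↔ _
  split_ifs with h
  · simp [h]
  · simp [h]

theorem neg_one_units_ne_one (h2 : (2 : F) ≠ 0) : (-1 : Fˣ) ≠ 1 := by
  intro h
  have h1 : ((-1 : Fˣ) : F) = ((1 : Fˣ) : F) := by rw [h]
  rw [Units.val_neg, Units.val_one] at h1
  apply h2
  linear_combination -h1

/-- the scalar matrices as similarities -/
def scalarGO (h : IsGram Q G) (c : Fˣ) : ↥(Cfsg.Geo.quadSimilarityGroup (F := F) Q) :=
  ⟨Units.map (Matrix.scalar κ : F →+* Matrix κ κ F).toMonoidHom c, c * c, fun v => by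
    have : ((Units.map (Matrix.scalar κ : F →+* Matrix κ κ F).toMonoidHom c : GL κ F) :
        Matrix κ κ F) *ᵥ v = (c : F) • v := by
      show (Matrix.scalar κ (c : F)) *ᵥ v = _
      rw [Matrix.scalar_apply, ← Matrix.smul_one_eq_diagonal, Matrix.smul_mulVec,
        Matrix.one_mulVec]
    rw [this, h.Q_smul, Units.val_mul, pow_two]⟩

theorem scalarGO_val (h : IsGram Q G) (c : Fˣ) :
    ((scalarGO h c).1 : Matrix κ κ F) = (c : F) • (1 : Matrix κ κ F) := by
  show (Matrix.scalar κ (c : F)) = _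
  rw [Matrix.scalar_apply, ← Matrix.smul_one_eq_diagonal]

theorem scalarGO_mulVec (h : IsGram Q G) (c : Fˣ) (v : κ → F) :
    ((scalarGO h c).1 : Matrix κ κ F) *ᵥ v = (c : F) • v := by
  rw [scalarGO_val, Matrix.smul_mulVec, Matrix.one_mulVec]

theorem simMult_scalarGO (h : IsGram Q G) (hne : ∃ v, Q v ≠ 0) (c : Fˣ) :
    simMult Q (scalarGO h c) = c * c := by
  apply simMult_unique hne
  intro v
  rw [scalarGO_mulVec, h.Q_smul, Units.val_mul, pow_two]

/-- the isometries as similarities -/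
def isoGO (Q : (κ → F) → F) :
    ↥(Cfsg.isometryGroup F Q) →* ↥(Cfsg.Geo.quadSimilarityGroup (F := F) Q) :=
  Subgroup.inclusion (isom_le_sim Q)

theorem isoGO_val (Q : (κ → F) → F) (g : ↥(Cfsg.isometryGroup F Q)) :
    ((isoGO Q g).1 : GL κ F) = g.1 := rfl

theorem simMult_isoGO (hne : ∃ v, Q v ≠ 0) (g : ↥(Cfsg.isometryGroup F Q)) :
    simMult Q (isoGO Q g) = 1 := by
  apply simMult_unique hne
  intro v
  have := (Cfsg.Agent.Lib.Helper94.mem_isom g.1).1 g.2 v
  rw [Units.val_one, one_mul]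
  exact this

/-- a similarity with square multiplier is a scalar times an isometry -/
theorem exists_scalar_mul_iso (h : IsGram Q G) (g : ↥(Cfsg.Geo.quadSimilarityGroup (F := F) Q))
    (c : Fˣ) (hc : simMult Q g = c * c) :
    ∃ k : ↥(Cfsg.isometryGroup F Q), g = scalarGO h c * isoGO Q k := by
  have hk : ((scalarGO h c)⁻¹ * g).1 ∈ Cfsg.isometryGroup F Q := by
    rw [Cfsg.Agent.Lib.Helper94.mem_isom]
    intro v
    have h1 : (((scalarGO h c)⁻¹ * g).1 : Matrix κ κ F) *ᵥ v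
        = ((c⁻¹ : Fˣ) : F) • ((g.1 : Matrix κ κ F) *ᵥ v) := by
      have h2 : (scalarGO h c)⁻¹ = scalarGO h c⁻¹ := by
        apply inv_eq_of_mul_eq_one_left
        apply Subtype.ext
        apply Units.ext
        rw [Subgroup.coe_mul, Units.val_mul, scalarGO_val, scalarGO_val, Matrix.smul_mul,
          Matrix.one_mul, smul_smul, ← Units.val_mul, inv_mul_cancel, Units.val_one, one_smul]
        rfl
      rw [h2, Subgroup.coe_mul, Units.val_mul, ← Matrix.mulVec_mulVec, scalarGO_mulVec]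
    rw [h1, h.Q_smul, simMult_spec Q, hc, Units.val_mul, Units.val_inv_eq_inv_val]
    have hc0 : (c : F) ≠ 0 := c.ne_zero
    field_simp
  refine ⟨⟨((scalarGO h c)⁻¹ * g).1, hk⟩, ?_⟩
  apply Subtype.ext
  show g.1 = (scalarGO h c).1 * ((scalarGO h c)⁻¹ * g).1
  rw [Subgroup.coe_mul, Subgroup.coe_inv]
  group

section chars

variable [Fintype F] [DecidableEq F]

/-- the quadratic character of the multiplier -/
noncomputable def simA (hne : ∃ v, Q v ≠ 0) :
    ↥(Cfsg.Geo.quadSimilarityGroup (F := F) Q) →* ℤˣ :=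
  (quadraticChar F).toUnitHom.comp (simMultHom hne)

theorem simA_eq_one_iff (hne : ∃ v, Q v ≠ 0) (g : ↥(Cfsg.Geo.quadSimilarityGroup (F := F) Q)) :
    simA hne g = 1 ↔ IsSquare (simMult Q g : F) := by
  rw [← quadraticChar_one_iff_isSquare (simMult Q g).ne_zero]
  constructor
  · intro h1
    have := congrArg Units.val h1
    exact this
  · intro h1
    apply Units.ext
    exact h1

theorem simA_eq_neg_one_iff (hne : ∃ v, Q v ≠ 0)
    (g : ↥(Cfsg.Geo.quadSimilarityGroup (F := F) Q)) :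
    simA hne g = -1 ↔ ¬ IsSquare (simMult Q g : F) := by
  rw [← simA_eq_one_iff hne]
  rcases Int.units_eq_one_or (simA hne g) with h1 | h1 <;> rw [h1] <;> decide

theorem isSquare_units (c : Fˣ) (hc : IsSquare (c : F)) : ∃ d : Fˣ, c = d * d := by
  obtain ⟨t, ht⟩ := hc
  have ht0 : t ≠ 0 := by
    rintro rfl
    exact c.ne_zero (by rw [ht]; ring)
  refine ⟨Units.mk0 t ht0, ?_⟩
  apply Units.ext
  rw [Units.val_mul, Units.val_mk0, ht]

/-- `det g / μ(g)^N` -/
noncomputable def simDelta (hne : ∃ v, Q v ≠ 0) (N : ℕ) :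
    ↥(Cfsg.Geo.quadSimilarityGroup (F := F) Q) →* Fˣ where
  toFun g := Matrix.GeneralLinearGroup.det g.1 * ((simMult Q g) ^ N)⁻¹
  map_one' := by
    have : simMult Q (1 : ↥(Cfsg.Geo.quadSimilarityGroup (F := F) Q)) = 1 :=
      (simMultHom hne).map_one
    rw [this]
    simp
  map_mul' a b := by
    have : simMult Q (a * b) = simMult Q a * simMult Q b := (simMultHom hne).map_mul a b
    rw [this, Subgroup.coe_mul, map_mul, mul_pow, _root_.mul_inv_rev]
    rw [mul_comm ((simMult Q b ^ N)⁻¹)]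
    exact mul_mul_mul_comm _ _ _ _

theorem simDelta_pm (h : IsGram Q G) (hdet : G.det ≠ 0) (hne : ∃ v, Q v ≠ 0) {N : ℕ}
    (hN : Fintype.card κ = 2 * N) (g : ↥(Cfsg.Geo.quadSimilarityGroup (F := F) Q)) :
    simDelta hne N g = 1 ∨ simDelta hne N g = -1 := by
  have h1 := sim_det_sq h hdet g
  rw [hN, pow_mul, pow_right_comm] at h1
  have h2 : ((simDelta hne N g : Fˣ) : F) * ((simDelta hne N g : Fˣ) : F) = 1 := by
    show ((Matrix.GeneralLinearGroup.det g.1 * ((simMult Q g) ^ N)⁻¹ : Fˣ) : F) *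
      ((Matrix.GeneralLinearGroup.det g.1 * ((simMult Q g) ^ N)⁻¹ : Fˣ) : F) = 1
    rw [Units.val_mul, Units.val_inv_eq_inv_val, Units.val_pow_eq_pow_val,
      Matrix.GeneralLinearGroup.val_det_apply]
    have hμ : ((simMult Q g : Fˣ) : F) ^ N ≠ 0 := pow_ne_zero _ (simMult Q g).ne_zero
    field_simp
    linear_combination h1
  rcases mul_self_eq_one_iff.1 h2 with h3 | h3
  · left; apply Units.ext; rw [h3, Units.val_one]
  · right; apply Units.ext; rw [h3, Units.val_neg, Units.val_one]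

/-- the sign `det g / μ(g)^N` read in `ℤˣ` -/
noncomputable def simD (h : IsGram Q G) (hdet : G.det ≠ 0) (hne : ∃ v, Q v ≠ 0) {N : ℕ}
    (hN : Fintype.card κ = 2 * N) : ↥(Cfsg.Geo.quadSimilarityGroup (F := F) Q) →* ℤˣ :=
  pmHom (simDelta hne N) (simDelta_pm h hdet hne hN) (neg_one_units_ne_one h.two_ne)

theorem simD_eq_one_iff (h : IsGram Q G) (hdet : G.det ≠ 0) (hne : ∃ v, Q v ≠ 0) {N : ℕ}
    (hN : Fintype.card κ = 2 * N) (g : ↥(Cfsg.Geo.quadSimilarityGroup (F := F) Q)) :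
    simD h hdet hne hN g = 1 ↔ (g.1 : Matrix κ κ F).det = (simMult Q g : F) ^ N := by
  unfold simD
  rw [pmHom_eq_one_iff]
  show Matrix.GeneralLinearGroup.det g.1 * ((simMult Q g) ^ N)⁻¹ = 1 ↔ _
  rw [mul_inv_eq_one]
  constructor
  · intro h1
    have := congrArg Units.val h1
    rw [Matrix.GeneralLinearGroup.val_det_apply, Units.val_pow_eq_pow_val] at this
    exact this
  · intro h1
    apply Units.ext
    rw [Matrix.GeneralLinearGroup.val_det_apply, Units.val_pow_eq_pow_val]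
    exact h1

/-- the pair of characters on the conformal group -/
noncomputable def simPsi (h : IsGram Q G) (hdet : G.det ≠ 0) (hne : ∃ v, Q v ≠ 0) {N : ℕ}
    (hN : Fintype.card κ = 2 * N) : ↥(Cfsg.Geo.quadSimilarityGroup (F := F) Q) →* ℤˣ × ℤˣ :=
  (simA hne).prod (simD h hdet hne hN)

theorem simPsi_eq_one_iff (h : IsGram Q G) (hdet : G.det ≠ 0) (hne : ∃ v, Q v ≠ 0) {N : ℕ}
    (hN : Fintype.card κ = 2 * N) (g : ↥(Cfsg.Geo.quadSimilarityGroup (F := F) Q)) :
    simPsi h hdet hne hN g = 1 ↔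
      IsSquare (simMult Q g : F) ∧ (g.1 : Matrix κ κ F).det = (simMult Q g : F) ^ N := by
  rw [← simA_eq_one_iff hne, ← simD_eq_one_iff h hdet hne hN]
  show ((simA hne g, simD h hdet hne hN g) : ℤˣ × ℤˣ) = 1 ↔ _
  rw [Prod.ext_iff]
  rfl

theorem simPsi_scalarGO (h : IsGram Q G) (hdet : G.det ≠ 0) (hne : ∃ v, Q v ≠ 0) {N : ℕ}
    (hN : Fintype.card κ = 2 * N) (c : Fˣ) : simPsi h hdet hne hN (scalarGO h c) = 1 := by
  rw [simPsi_eq_one_iff, simMult_scalarGO h hne, scalarGO_val, Matrix.det_smul, Matrix.det_one,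
    mul_one, hN, Units.val_mul]
  refine ⟨⟨(c : F), rfl⟩, ?_⟩
  rw [pow_mul, pow_two]

theorem simPsi_isoGO (h : IsGram Q G) (hdet : G.det ≠ 0) (hne : ∃ v, Q v ≠ 0) {N : ℕ}
    (hN : Fintype.card κ = 2 * N) (k : ↥(Cfsg.isometryGroup F Q)) :
    simPsi h hdet hne hN (isoGO Q k) = 1 ↔ (toMat Q k).det = 1 := by
  rw [simPsi_eq_one_iff, simMult_isoGO hne, Units.val_one, one_pow]
  constructor
  · rintro ⟨-, h1⟩
    exact h1
  · intro h1
    exact ⟨⟨1, by ring⟩, h1⟩

theorem simA_isoGO (hne : ∃ v, Q v ≠ 0) (k : ↥(Cfsg.isometryGroup F Q)) :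
    simA hne (isoGO Q k) = 1 := by
  rw [simA_eq_one_iff, simMult_isoGO hne, Units.val_one]
  exact ⟨1, by ring⟩

theorem simA_scalarGO (h : IsGram Q G) (hne : ∃ v, Q v ≠ 0) (c : Fˣ) :
    simA hne (scalarGO h c) = 1 := by
  rw [simA_eq_one_iff, simMult_scalarGO h hne, Units.val_mul]
  exact ⟨(c : F), rfl⟩

/-- the kernel of the pair of characters is the scalars times the special orthogonal group -/
theorem exists_of_simPsi_eq_one (h : IsGram Q G) (hdet : G.det ≠ 0) (hne : ∃ v, Q v ≠ 0) {N : ℕ}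
    (hN : Fintype.card κ = 2 * N) (g : ↥(Cfsg.Geo.quadSimilarityGroup (F := F) Q))
    (hg : simPsi h hdet hne hN g = 1) :
    ∃ (c : Fˣ) (k : ↥(Cfsg.isometryGroup F Q)), (toMat Q k).det = 1 ∧
      g = scalarGO h c * isoGO Q k := by
  have hg' := hg
  rw [simPsi_eq_one_iff] at hg
  obtain ⟨c, hc⟩ := isSquare_units _ hg.1
  obtain ⟨k, hk⟩ := exists_scalar_mul_iso h g c hc
  refine ⟨c, k, ?_, hk⟩
  rw [← simPsi_isoGO h hdet hne hN]
  have : isoGO Q k = (scalarGO h c)⁻¹ * g := by rw [hk]; group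
  rw [this, map_mul, map_inv, simPsi_scalarGO, hg']
  simp

/-- a similarity with square multiplier is a scalar times an isometry -/
theorem exists_of_simA_eq_one (h : IsGram Q G) (hne : ∃ v, Q v ≠ 0)
    (g : ↥(Cfsg.Geo.quadSimilarityGroup (F := F) Q)) (hg : simA hne g = 1) :
    ∃ (c : Fˣ) (k : ↥(Cfsg.isometryGroup F Q)), g = scalarGO h c * isoGO Q k := by
  rw [simA_eq_one_iff] at hg
  obtain ⟨c, hc⟩ := isSquare_units _ hg
  obtain ⟨k, hk⟩ := exists_scalar_mul_iso h g c hc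
  exact ⟨c, k, hk⟩

end chars

namespace IsGram

variable [Fintype F] [DecidableEq F]

theorem signPair_reflG (h : IsGram Q G) (v : κ → F) (hv : Q v ≠ 0) (α : F) (hα : ¬ IsSquare α) :
    (IsSquare (Q v) → signPair Q α (h.reflG v hv) = (-1, 1)) ∧
    (¬ IsSquare (Q v) → signPair Q α (h.reflG v hv) = (1, -1)) := by
  constructor
  · intro hsq
    apply Prod.ext
    · exact (h.signChar_refl v hv 1).1 ((exists_sq_one_iff (Q v) hv).2 hsq)
    · apply (h.signChar_refl v hv α).2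
      rw [exists_sq_nonsq_iff (Q v) α hv hα]
      exact not_not.2 hsq
  · intro hsq
    apply Prod.ext
    · apply (h.signChar_refl v hv 1).2
      rw [exists_sq_one_iff (Q v) hv]
      exact hsq
    · exact (h.signChar_refl v hv α).1 ((exists_sq_nonsq_iff (Q v) α hv hα).2 hsq)

/-- the product of the two sign characters is the determinant -/
theorem signChar_mul_eq_one_iff (h : IsGram Q G) (hdet : G.det ≠ 0) (α : F) (hα : ¬ IsSquare α)
    (k : ↥(Cfsg.isometryGroup F Q)) :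
    signChar Q 1 k * signChar Q α k = 1 ↔ (toMat Q k).det = 1 := by
  classical
  obtain ⟨vs, hvs, hprod⟩ := h.cartan_dieudonne hdet k
  have hk' : k = (vs.map h.reflG').prod := by
    apply toMat_injective
    rw [hprod, h.toMat_list vs hvs]
  rw [hprod, h.det_list vs hvs]
  rw [hk', h.signChar_list vs hvs, h.signChar_list vs hvs, ← pow_add,
    neg_one_pow_eq_one_iff_even]
  have e1 : vs.countP (fun v => ∃ t : F, t ≠ 0 ∧ Q v * t ^ 2 = 1) =
      vs.countP (fun v => IsSquare (Q v)) := by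
    apply List.countP_congr
    intro v hv
    simp only [decide_eq_true_eq]
    exact exists_sq_one_iff (Q v) (hvs v hv)
  have e2 : vs.countP (fun v => ∃ t : F, t ≠ 0 ∧ Q v * t ^ 2 = α) =
      vs.countP (fun v => ¬ IsSquare (Q v)) := by
    apply List.countP_congr
    intro v hv
    simp only [decide_eq_true_eq]
    exact exists_sq_nonsq_iff (Q v) α (hvs v hv) hα
  have e3 : vs.length = vs.countP (fun v => IsSquare (Q v)) +
      vs.countP (fun v => ¬ IsSquare (Q v)) := by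
    rw [List.length_eq_countP_add_countP (fun v => IsSquare (Q v)) (l := vs)]
    congr 1
    apply List.countP_congr
    intro v _
    simp
  rw [e1, e2, ← e3]
  constructor
  · intro hev
    exact hev.neg_one_pow
  · intro h1
    exact h.even_of_neg_one_pow _ h1

theorem signPair_of_det_one (h : IsGram Q G) (hdet : G.det ≠ 0) (α : F) (hα : ¬ IsSquare α)
    (k : ↥(Cfsg.isometryGroup F Q)) (hk : (toMat Q k).det = 1) :
    signPair Q α k = 1 ∨ signPair Q α k = (-1, -1) := by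
  have h1 := (h.signChar_mul_eq_one_iff hdet α hα k).2 hk
  have h0 : signPair Q α k = (signChar Q 1 k, signChar Q α k) := rfl
  rcases Int.units_eq_one_or (signChar Q 1 k) with h2 | h2 <;>
    rcases Int.units_eq_one_or (signChar Q α k) with h3 | h3 <;> rw [h2, h3] at h1 h0
  · left; exact h0
  · exact absurd h1 (by decide)
  · exact absurd h1 (by decide)
  · right; exact h0

/-- `-1` as an isometry -/
def negO (h : IsGram Q G) : ↥(Cfsg.isometryGroup F Q) :=
  ⟨-1, by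
    rw [Cfsg.Agent.Lib.Helper94.mem_isom]
    intro v
    rw [Units.val_neg, Units.val_one, Matrix.neg_mulVec, Matrix.one_mulVec, h.Q_neg]⟩

theorem toMat_negO (h : IsGram Q G) : toMat Q h.negO = -1 := by
  show (((-1 : GL κ F) : Matrix κ κ F)) = -1
  rw [Units.val_neg, Units.val_one]

theorem det_negO (h : IsGram Q G) {N : ℕ} (hN : Fintype.card κ = 2 * N) :
    (toMat Q h.negO).det = 1 := by
  rw [h.toMat_negO, Matrix.det_neg, Matrix.det_one, mul_one, hN, pow_mul]
  norm_num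

theorem Q_sim_ne_zero (d : ↥(Cfsg.Geo.quadSimilarityGroup (F := F) Q)) (v : κ → F)
    (hv : Q v ≠ 0) : Q ((d.1 : Matrix κ κ F) *ᵥ v) ≠ 0 := by
  rw [simMult_spec Q]
  exact mul_ne_zero (simMult Q d).ne_zero hv

/-- conjugating a reflection by a similarity -/
theorem conj_reflG_sim (h : IsGram Q G) (d : ↥(Cfsg.Geo.quadSimilarityGroup (F := F) Q))
    (v : κ → F) (hv : Q v ≠ 0) :
    d * isoGO Q (h.reflG v hv) * d⁻¹ =
      isoGO Q (h.reflG ((d.1 : Matrix κ κ F) *ᵥ v) (Q_sim_ne_zero d v hv)) := by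
  apply Subtype.ext
  apply Units.ext
  show (d.1 : Matrix κ κ F) * Cfsg.reflectionMatrix Q v * ((d.1⁻¹ : GL κ F) : Matrix κ κ F) =
    Cfsg.reflectionMatrix Q ((d.1 : Matrix κ κ F) *ᵥ v)
  have hinv : ∀ x, (d.1 : Matrix κ κ F) *ᵥ (((d.1⁻¹ : GL κ F) : Matrix κ κ F) *ᵥ x) = x := by
    intro x
    rw [Matrix.mulVec_mulVec, ← Units.val_mul, mul_inv_cancel]
    simp
  apply Matrix.mulVec_injective
  funext x
  rw [← Matrix.mulVec_mulVec, ← Matrix.mulVec_mulVec, h.refl_mulVec, h.refl_mulVec,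
    Matrix.mulVec_sub, Matrix.mulVec_smul, hinv]
  congr 2
  conv_rhs => rw [← hinv x]
  rw [sim_bilin h, simMult_spec Q]
  have hμ : ((simMult Q d : Fˣ) : F) ≠ 0 := (simMult Q d).ne_zero
  field_simp

end IsGram

/-- `ℤˣ × ℤˣ` is the Klein four-group -/
def kleinFun : ℤˣ × ℤˣ → Multiplicative (ZMod 2 × ZMod 2) := fun p =>
  Multiplicative.ofAdd (if p.1 = 1 then 0 else 1, if p.2 = 1 then 0 else 1)

theorem kleinFun_mul : ∀ p q : ℤˣ × ℤˣ, kleinFun (p * q) = kleinFun p * kleinFun q := by decide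

theorem kleinFun_bij : Function.Bijective kleinFun := by decide

/-- the Klein four-group in its two guises -/
noncomputable def kleinEquiv : ℤˣ × ℤˣ ≃* Multiplicative (ZMod 2 × ZMod 2) :=
  MulEquiv.ofBijective (MonoidHom.mk' kleinFun kleinFun_mul) kleinFun_bij

theorem klein_gen : ∀ u w : ℤˣ × ℤˣ, u.1 = -1 → w.1 = 1 → w ≠ 1 →
    ∀ p, p = 1 ∨ p = w ∨ p = u ∨ p = u * w := by decide

section main

variable [Fintype F] [DecidableEq F]

theorem exists_Q_eq_one (h : IsGram Q G) (hdet : G.det ≠ 0) (hn : 2 ≤ Fintype.card κ) :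
    ∃ v, Q v ≠ 0 := by
  obtain ⟨v1, hv1⟩ := h.universal hdet hn 1
  exact ⟨v1, by rw [hv1]; exact one_ne_zero⟩

theorem simPsi_surjective (h : IsGram Q G) (hdet : G.det ≠ 0) (hne : ∃ v, Q v ≠ 0) {N : ℕ}
    (hN : Fintype.card κ = 2 * N) (hn : 2 ≤ Fintype.card κ)
    (d : ↥(Cfsg.Geo.quadSimilarityGroup (F := F) Q)) (hd : ¬ IsSquare (simMult Q d : F)) :
    Function.Surjective (simPsi h hdet hne hN) := by
  obtain ⟨v1, hv1⟩ := h.universal hdet hn 1
  have hv10 : Q v1 ≠ 0 := by rw [hv1]; exact one_ne_zero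
  have hr1 : (simPsi h hdet hne hN (isoGO Q (h.reflG v1 hv10))).1 = 1 := simA_isoGO hne _
  have hr2 : simPsi h hdet hne hN (isoGO Q (h.reflG v1 hv10)) ≠ 1 := by
    rw [Ne, simPsi_isoGO, toMat_apply, h.reflG_val, h.det_refl v1 hv10]
    intro h1
    apply h.two_ne
    linear_combination -h1
  have hd1 : (simPsi h hdet hne hN d).1 = -1 := (simA_eq_neg_one_iff hne d).2 hd
  intro p
  rcases klein_gen _ _ hd1 hr1 hr2 p with rfl | rfl | rfl | rfl
  · exact ⟨1, map_one _⟩
  · exact ⟨_, rfl⟩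
  · exact ⟨_, rfl⟩
  · exact ⟨d * isoGO Q (h.reflG v1 hv10), map_mul _ _ _⟩

theorem eq_scalarGO_of_val (h : IsGram Q G) (hne : ∃ v, Q v ≠ 0)
    (g : ↥(Cfsg.Geo.quadSimilarityGroup (F := F) Q)) (c : F)
    (hc : ((g.1 : GL κ F) : Matrix κ κ F) = c • (1 : Matrix κ κ F)) :
    ∃ c' : Fˣ, (c' : F) = c ∧ g = scalarGO h c' := by
  obtain ⟨v, hv⟩ := hne
  have h1 := simMult_spec Q g v
  rw [hc, Matrix.smul_mulVec, Matrix.one_mulVec, h.Q_smul] at h1
  have hc0 : c ≠ 0 := by
    rintro rfl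
    have : ((simMult Q g : Fˣ) : F) * Q v ≠ 0 := mul_ne_zero (simMult Q g).ne_zero hv
    apply this
    rw [← h1]; ring
  refine ⟨Units.mk0 c hc0, rfl, ?_⟩
  apply Subtype.ext
  apply Units.ext
  rw [hc, scalarGO_val]
  rfl

theorem Phi_scalarGO (h : IsGram Q G)
    (hker : ∀ g : ↥(Cfsg.Geo.quadSimilarityGroup (F := F) Q),
      Phi Q g = 1 ↔ ∃ c : F, ((g.1 : GL κ F) : Matrix κ κ F) = c • (1 : Matrix κ κ F))
    (c : Fˣ) : Phi Q (scalarGO h c) = 1 :=
  (hker _).2 ⟨(c : F), scalarGO_val h c⟩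

theorem isoGO_mem_SO_iff (k : ↥(Cfsg.isometryGroup F Q)) :
    isoGO Q k ∈ (Cfsg.specialIsometryGL F Q).subgroupOf
      (Cfsg.Geo.quadSimilarityGroup (F := F) Q) ↔ (toMat Q k).det = 1 := by
  rw [Subgroup.mem_subgroupOf]
  unfold Cfsg.specialIsometryGL Cfsg.Geo.specialLinear
  rw [Subgroup.mem_inf, MonoidHom.mem_ker]
  constructor
  · rintro ⟨-, h1⟩
    have := congrArg Units.val h1
    exact this
  · intro h1
    refine ⟨k.2, ?_⟩
    apply Units.ext
    exact h1

theorem mem_SO_iff (g : ↥(Cfsg.Geo.quadSimilarityGroup (F := F) Q)) :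
    g ∈ (Cfsg.specialIsometryGL F Q).subgroupOf (Cfsg.Geo.quadSimilarityGroup (F := F) Q) ↔
      ∃ k : ↥(Cfsg.isometryGroup F Q), (toMat Q k).det = 1 ∧ g = isoGO Q k := by
  constructor
  · intro hg
    have hg' := hg
    rw [Subgroup.mem_subgroupOf] at hg'
    have hk : g.1 ∈ Cfsg.isometryGroup F Q := hg'.1
    have e : g = isoGO Q ⟨g.1, hk⟩ := Subtype.ext rfl
    refine ⟨⟨g.1, hk⟩, ?_, e⟩
    rw [← isoGO_mem_SO_iff, ← e]
    exact hg
  · rintro ⟨k, hk, rfl⟩
    exact (isoGO_mem_SO_iff k).2 hk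

/-- the image of the conformal group modulo the image of the special orthogonal group is a
Klein four-group -/
theorem pgo_mod_pso (h : IsGram Q G) (hdet : G.det ≠ 0) {N : ℕ}
    (hN : Fintype.card κ = 2 * N) (hn : 2 ≤ Fintype.card κ)
    (hker : ∀ g : ↥(Cfsg.Geo.quadSimilarityGroup (F := F) Q),
      Phi Q g = 1 ↔ ∃ c : F, ((g.1 : GL κ F) : Matrix κ κ F) = c • (1 : Matrix κ κ F))
    (d : ↥(Cfsg.Geo.quadSimilarityGroup (F := F) Q)) (hd : ¬ IsSquare (simMult Q d : F)) :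
    ∃ φ : ↥(Cfsg.pgoAut F Q) →* Multiplicative (ZMod 2 × ZMod 2), Function.Surjective φ ∧
      φ.ker = (Cfsg.psoAut F Q).subgroupOf (Cfsg.pgoAut F Q) := by
  have hne := exists_Q_eq_one h hdet hn
  have hψsurj : Function.Surjective
      (kleinEquiv.toMonoidHom.comp (simPsi h hdet hne hN)) :=
    kleinEquiv.surjective.comp (simPsi_surjective h hdet hne hN hn d hd)
  have hψker : (kleinEquiv.toMonoidHom.comp (simPsi h hdet hne hN)).ker =
      (simPsi h hdet hne hN).ker := by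
    ext g
    rw [MonoidHom.mem_ker, MonoidHom.mem_ker, MonoidHom.comp_apply]
    exact kleinEquiv.map_eq_one_iff
  have hΦker : (Phi Q).ker ≤ (kleinEquiv.toMonoidHom.comp (simPsi h hdet hne hN)).ker := by
    rw [hψker]
    intro g hg
    rw [MonoidHom.mem_ker] at hg ⊢
    obtain ⟨c, hc⟩ := (hker g).1 hg
    obtain ⟨c', -, rfl⟩ := eq_scalarGO_of_val h hne g c hc
    exact simPsi_scalarGO h hdet hne hN c'
  obtain ⟨φ, hφs, hφk⟩ := transfer_hom (Phi Q) _ hψsurj hΦker
  have hmap : (simPsi h hdet hne hN).ker.map (Phi Q) = Cfsg.psoAut F Q := by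
    rw [psoAut_eq]
    apply le_antisymm
    · rintro _ ⟨g, hg, rfl⟩
      obtain ⟨c, k, hk, rfl⟩ := exists_of_simPsi_eq_one h hdet hne hN g hg
      rw [map_mul, Phi_scalarGO h hker, one_mul]
      exact ⟨isoGO Q k, (isoGO_mem_SO_iff k).2 hk, rfl⟩
    · apply Subgroup.map_mono
      intro g hg
      obtain ⟨k, hk, rfl⟩ := (mem_SO_iff g).1 hg
      rw [MonoidHom.mem_ker, simPsi_isoGO]
      exact hk
  rw [hψker, hmap] at hφk
  have key : ∀ R : Subgroup (MulAut (Cfsg.POmega F Q)), R = (Phi Q).range →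
      ∃ φ : ↥R →* Multiplicative (ZMod 2 × ZMod 2), Function.Surjective φ ∧
        φ.ker = (Cfsg.psoAut F Q).subgroupOf R := by
    rintro R rfl
    exact ⟨φ, hφs, hφk⟩
  exact key _ (pgoAut_eq Q)

end main

end Cfsg.Agent.Lib.Helper37
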