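import Cfsg.Agent.Lib.Helper37.SimDiag
import Cfsg.Prelude.Def_Classical

set_option autoImplicit false

namespace Cfsg.Agent.Lib.Helper37

open Module Matrix
open scoped commutatorElement

/-- cast of a sign to the field -/
def signCast (F : Type*) [Field F] : ℤˣ →* F :=
  (Int.castRingHom F : ℤ →* F).comp (Units.coeHom ℤ)

theorem signCast_injective {F : Type*} [Field F] (h2 : (2 : F) ≠ 0) :
    Function.Injective (signCast F) := by
  intro u v h
  have h1 : (1 : F) ≠ -1 := by
    intro h'
    apply h2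
    have : (2 : F) = 1 + 1 := by norm_num
    rw [this]; nth_rewrite 1 [h']; simp
  rcases Int.units_eq_one_or u with rfl | rfl <;> rcases Int.units_eq_one_or v with rfl | rfl
  · rfl
  · simp [signCast] at h; exact absurd h h1
  · simp [signCast] at h; exact absurd h.symm h1
  · rfl

theorem signCast_mul_self {F : Type*} [Field F] (u : ℤˣ) : signCast F u * signCast F u = 1 := by
  rw [← map_mul, Int.units_mul_self, map_one]

theorem signCast_sq {F : Type*} [Field F] (u : ℤˣ) : signCast F u ^ 2 = 1 := by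
  rw [pow_two, signCast_mul_self]

/-- A family of pairwise commuting involutive matrices of determinant one, indexed injectively by
`α`, has at most `2 ^ (card n - 1)` members. -/
theorem card_mul_two_le_of_commuting_involutions_det_one {F : Type*} [Field F] (h2 : (2 : F) ≠ 0)
    {n : Type*} [Fintype n] [DecidableEq n] [Nonempty n] {α : Type*} (f : α → Matrix n n F)
    (hf : Function.Injective f) (hc : ∀ a b, f a * f b = f b * f a) (hi : ∀ a, f a * f a = 1)
    (hd : ∀ a, (f a).det = 1) : Nat.card α * 2 ≤ 2 ^ Fintype.card n := by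
  classical
  obtain ⟨ι, hι, b, hcard, hb⟩ := exists_eigenbasis_matrices h2 (Set.range f)
    (by rintro _ ⟨a, rfl⟩ _ ⟨c, rfl⟩; exact hc a c)
    (by rintro _ ⟨a, rfl⟩; exact hi a)
  have hne : Nonempty ι := by
    rw [← Fintype.card_pos_iff, hcard]; exact Fintype.card_pos
  have key := card_ker_prodHom ι
  rw [hcard] at key
  have hmem : ∀ a : α, sgn b (f a) ∈ (prodHom ι).ker := by
    intro a
    rw [MonoidHom.mem_ker]
    have hdet := det_eq_prod_sgn b (f a) (fun i => hb _ ⟨a, rfl⟩ i)
    rw [hd a] at hdet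
    have : signCast F (prodHom ι (sgn b (f a))) = signCast F 1 := by
      rw [map_one]
      refine Eq.trans ?_ hdet.symm
      simp [signCast, prodHom]
    exact signCast_injective h2 this
  let φ : α → (prodHom ι).ker := fun a => ⟨sgn b (f a), hmem a⟩
  have hφ : Function.Injective φ := by
    intro a a' h
    have h' : sgn b (f a) = sgn b (f a') := congrArg Subtype.val h
    exact hf (eq_of_sgn_eq b (f a) (f a') (fun i => hb _ ⟨a, rfl⟩ i)
      (fun i => hb _ ⟨a', rfl⟩ i) h')
  have hle : Nat.card α ≤ Nat.card (prodHom ι).ker := Nat.card_le_card_of_injective φ hφ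
  calc Nat.card α * 2 ≤ Nat.card (prodHom ι).ker * 2 := Nat.mul_le_mul_right 2 hle
    _ = _ := key

theorem mem_isometryGroup_iff' {κ : Type} [Fintype κ] [DecidableEq κ] {F : Type*} [Field F]
    (Q : (κ → F) → F) (g : Matrix.GeneralLinearGroup κ F) :
    g ∈ Cfsg.isometryGroup F Q ↔ ∀ u, Q ((g : Matrix κ κ F) *ᵥ u) = Q u := by
  constructor
  · intro h u
    exact h u 0
  · intro h u v
    exact h u

/-- the standard sum of squares -/
def stdQ (κ : Type) [Fintype κ] (F : Type*) [Field F] (x : κ → F) : F := ∑ k, x k ^ 2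

/-- diagonal sign matrices as elements of `GL` -/
def signD (κ : Type) [Fintype κ] [DecidableEq κ] (F : Type*) [Field F] :
    (κ → ℤˣ) →* Matrix.GeneralLinearGroup κ F where
  toFun ε := ⟨Matrix.diagonal (fun k => signCast F (ε k)), Matrix.diagonal (fun k => signCast F (ε k)),
    by simp [Matrix.diagonal_mul_diagonal, signCast_mul_self],
    by simp [Matrix.diagonal_mul_diagonal, signCast_mul_self]⟩
  map_one' := by
    apply Units.ext
    simp
  map_mul' a b := by
    apply Units.ext
    simp [Matrix.diagonal_mul_diagonal]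

theorem signD_val (κ : Type) [Fintype κ] [DecidableEq κ] (F : Type*) [Field F] (ε : κ → ℤˣ) :
    ((signD κ F ε : Matrix.GeneralLinearGroup κ F) : Matrix κ κ F) =
      Matrix.diagonal (fun k => signCast F (ε k)) := rfl

theorem signD_mem (κ : Type) [Fintype κ] [DecidableEq κ] (F : Type*) [Field F] (ε : κ → ℤˣ) :
    signD κ F ε ∈ Cfsg.isometryGroup F (stdQ κ F) := by
  rw [mem_isometryGroup_iff']
  intro u
  rw [signD_val]
  unfold stdQ
  apply Finset.sum_congr rfl
  intro k _
  rw [Matrix.mulVec_diagonal, mul_pow, signCast_sq, one_mul]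

/-- permutation matrices as elements of `GL` -/
def permG (κ : Type) [Fintype κ] [DecidableEq κ] (F : Type*) [Field F] (σ : Equiv.Perm κ) :
    Matrix.GeneralLinearGroup κ F :=
  ⟨σ.permMatrix F, (σ⁻¹).permMatrix F,
    by rw [← Matrix.permMatrix_mul]; simp,
    by rw [← Matrix.permMatrix_mul]; simp⟩

theorem permG_val (κ : Type) [Fintype κ] [DecidableEq κ] (F : Type*) [Field F] (σ : Equiv.Perm κ) :
    ((permG κ F σ : Matrix.GeneralLinearGroup κ F) : Matrix κ κ F) = σ.permMatrix F := rfl

theorem permG_mem (κ : Type) [Fintype κ] [DecidableEq κ] (F : Type*) [Field F] (σ : Equiv.Perm κ) :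
    permG κ F σ ∈ Cfsg.isometryGroup F (stdQ κ F) := by
  rw [mem_isometryGroup_iff']
  intro u
  rw [permG_val, Matrix.permMatrix_mulVec]
  unfold stdQ
  exact Equiv.sum_comp σ (fun k => u k ^ 2)

theorem perm_diag_perm (κ : Type) [Fintype κ] [DecidableEq κ] (F : Type*) [Field F]
    (σ : Equiv.Perm κ) (d : κ → F) :
    σ.permMatrix F * Matrix.diagonal d * (σ⁻¹).permMatrix F = Matrix.diagonal (d ∘ σ) := by
  unfold Equiv.Perm.permMatrix
  rw [PEquiv.toMatrix_toPEquiv_mul, PEquiv.mul_toMatrix_toPEquiv]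
  ext i j
  have : (Equiv.symm σ⁻¹) j = σ j := rfl
  simp [Matrix.diagonal_apply, Matrix.submatrix_apply, this]

theorem permG_conj_signD (κ : Type) [Fintype κ] [DecidableEq κ] (F : Type*) [Field F]
    (σ : Equiv.Perm κ) (ε : κ → ℤˣ) :
    permG κ F σ * signD κ F ε * (permG κ F σ)⁻¹ = signD κ F (ε ∘ σ) := by
  apply Units.ext
  rw [Units.val_mul, Units.val_mul, signD_val, signD_val, permG_val]
  have : (((permG κ F σ)⁻¹ : Matrix.GeneralLinearGroup κ F) : Matrix κ κ F) = (σ⁻¹).permMatrix F := rfl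
  rw [this, perm_diag_perm]
  rfl

/-- sign matrices inside the isometry group of the standard form -/
def signDW (κ : Type) [Fintype κ] [DecidableEq κ] (F : Type*) [Field F] :
    (κ → ℤˣ) →* ↥(Cfsg.isometryGroup F (stdQ κ F)) :=
  (signD κ F).codRestrict _ (signD_mem κ F)

theorem signDW_pair_mem_commutator (κ : Type) [Fintype κ] [DecidableEq κ] (F : Type*) [Field F]
    (k i₀ : κ) :
    signDW κ F (Pi.mulSingle k (-1) * Pi.mulSingle i₀ (-1)) ∈
      commutator ↥(Cfsg.isometryGroup F (stdQ κ F)) := by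
  by_cases hk : k = i₀
  · subst hk
    have : (Pi.mulSingle k (-1) * Pi.mulSingle k (-1) : κ → ℤˣ) = 1 := by
      rw [← Pi.mulSingle_mul]; simp
    rw [this, map_one]
    exact Subgroup.one_mem _
  · let a : ↥(Cfsg.isometryGroup F (stdQ κ F)) := signDW κ F (Pi.mulSingle k (-1))
    let b : ↥(Cfsg.isometryGroup F (stdQ κ F)) := ⟨permG κ F (Equiv.swap k i₀), permG_mem κ F _⟩
    have hab : ⁅a, b⁆ ∈ commutator ↥(Cfsg.isometryGroup F (stdQ κ F)) :=
      Subgroup.commutator_mem_commutator (Subgroup.mem_top a) (Subgroup.mem_top b)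
    have hconj : b * a * b⁻¹ = signDW κ F (Pi.mulSingle i₀ (-1)) := by
      apply Subtype.ext
      show permG κ F (Equiv.swap k i₀) * signD κ F (Pi.mulSingle k (-1)) * (permG κ F (Equiv.swap k i₀))⁻¹
        = signD κ F (Pi.mulSingle i₀ (-1))
      rw [permG_conj_signD]
      congr 1
      funext j
      simp only [Function.comp_apply]
      by_cases hj : j = i₀
      · subst hj; simp
      · by_cases hj' : j = k
        · subst hj'
          simp [hk, Ne.symm hk]
        · rw [Equiv.swap_apply_of_ne_of_ne hj' hj]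
          simp [hj, hj']
    have hainv : a⁻¹ = a := by
      rw [inv_eq_iff_mul_eq_one]
      show signDW κ F _ * signDW κ F _ = 1
      rw [← map_mul, ← Pi.mulSingle_mul]
      simp
    have : ⁅a, b⁆ = signDW κ F (Pi.mulSingle k (-1) * Pi.mulSingle i₀ (-1)) := by
      rw [commutatorElement_def, map_mul, ← hconj]
      rw [hainv]
      show a * b * a * b⁻¹ = a * (b * a * b⁻¹)
      group
    rw [← this]
    exact hab

theorem prodHom_mulSingle (κ : Type) [Fintype κ] [DecidableEq κ] (k : κ) (u : ℤˣ) :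
    prodHom κ (Pi.mulSingle k u) = u := by
  show ∏ i, (Pi.mulSingle k u : κ → ℤˣ) i = u
  rw [Finset.prod_eq_single k]
  · simp
  · intro j _ hj
    simp [hj]
  · intro h; exact absurd (Finset.mem_univ _) h

theorem signDW_mem_commutator (κ : Type) [Fintype κ] [DecidableEq κ] (F : Type*) [Field F]
    (i₀ : κ) (ε : κ → ℤˣ) (hε : ε ∈ (prodHom κ).ker) :
    signDW κ F ε ∈ commutator ↥(Cfsg.isometryGroup F (stdQ κ F)) := by
  let εHom : (κ → ℤˣ) →* (κ → ℤˣ) :=
    MonoidHom.id _ * (MonoidHom.mulSingle (fun _ : κ => ℤˣ) i₀).comp (prodHom κ)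
  let ψ : (κ → ℤˣ) →* Abelianization ↥(Cfsg.isometryGroup F (stdQ κ F)) :=
    (Abelianization.of).comp ((signDW κ F).comp εHom)
  have hψ : ψ = 1 := by
    apply MonoidHom.functions_ext
    intro k u
    rcases Int.units_eq_one_or u with rfl | rfl
    · simp
    · show Abelianization.of (signDW κ F (εHom (Pi.mulSingle k (-1)))) = 1
      have h1 : εHom (Pi.mulSingle k (-1)) = Pi.mulSingle k (-1) * Pi.mulSingle i₀ (-1) := by
        show (Pi.mulSingle k (-1) : κ → ℤˣ) *
          (Pi.mulSingle i₀ (prodHom κ (Pi.mulSingle k (-1))) : κ → ℤˣ) = _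
        rw [prodHom_mulSingle]
      rw [h1, ← MonoidHom.mem_ker, Abelianization.ker_of]
      exact signDW_pair_mem_commutator κ F k i₀
  have h2 : εHom ε = ε := by
    show ε * (Pi.mulSingle i₀ (prodHom κ ε) : κ → ℤˣ) = ε
    rw [MonoidHom.mem_ker] at hε
    rw [hε]; simp
  have h3 : ψ ε = 1 := by rw [hψ]; rfl
  have h4 : Abelianization.of (signDW κ F ε) = 1 := by
    have : ψ ε = Abelianization.of (signDW κ F (εHom ε)) := rfl
    rw [this, h2] at h3
    exact h3
  rw [← MonoidHom.mem_ker, Abelianization.ker_of] at h4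
  exact h4

theorem signDW_injective (κ : Type) [Fintype κ] [DecidableEq κ] (F : Type*) [Field F]
    (h2 : (2 : F) ≠ 0) : Function.Injective (signDW κ F) := by
  intro a b h
  have h1 : signD κ F a = signD κ F b := congrArg Subtype.val h
  have h3 : ((signD κ F a : Matrix.GeneralLinearGroup κ F) : Matrix κ κ F) =
      ((signD κ F b : Matrix.GeneralLinearGroup κ F) : Matrix κ κ F) := by rw [h1]
  rw [signD_val, signD_val] at h3
  have h4 := Matrix.diagonal_injective h3
  funext k
  exact signCast_injective h2 (congrFun h4 k)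

theorem map_mem_commutator {G H : Type*} [Group G] [Group H] (f : G →* H) {x : G}
    (hx : x ∈ commutator G) : f x ∈ commutator H := by
  have : (commutator G).map f ≤ commutator H := by
    rw [commutator_def, Subgroup.map_commutator, commutator_def]
    exact Subgroup.commutator_mono le_top le_top
  exact this (Subgroup.mem_map_of_mem f hx)

/-- conjugation by `P` carries isometries of the standard form to isometries of `Q` -/
def conjIso {κ : Type} [Fintype κ] [DecidableEq κ] {F : Type*} [Field F] (Q : (κ → F) → F)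
    (P : Matrix.GeneralLinearGroup κ F) (c : F)
    (hP : ∀ x, Q ((P : Matrix κ κ F) *ᵥ x) = c * stdQ κ F x) :
    ↥(Cfsg.isometryGroup F (stdQ κ F)) →* ↥(Cfsg.isometryGroup F Q) :=
  ((MulAut.conj P).toMonoidHom.comp (Subgroup.subtype _)).codRestrict _ (by
    intro M
    rw [mem_isometryGroup_iff']
    intro u
    have hM := (mem_isometryGroup_iff' _ _).mp M.2
    show Q (((P * M.1 * P⁻¹ : Matrix.GeneralLinearGroup κ F) : Matrix κ κ F) *ᵥ u) = Q u
    have hu : u = (P : Matrix κ κ F) *ᵥ (((P⁻¹ : Matrix.GeneralLinearGroup κ F) : Matrix κ κ F) *ᵥ u) := by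
      rw [Matrix.mulVec_mulVec, ← Units.val_mul, mul_inv_cancel]; simp
    rw [Units.val_mul, Units.val_mul, ← Matrix.mulVec_mulVec, ← Matrix.mulVec_mulVec, hP, hM]
    conv_rhs => rw [hu, hP])

theorem conjIso_injective {κ : Type} [Fintype κ] [DecidableEq κ] {F : Type*} [Field F]
    (Q : (κ → F) → F) (P : Matrix.GeneralLinearGroup κ F) (c : F)
    (hP : ∀ x, Q ((P : Matrix κ κ F) *ᵥ x) = c * stdQ κ F x) :
    Function.Injective (conjIso Q P c hP) := by
  intro a b h
  have h1 : P * a.1 * P⁻¹ = P * b.1 * P⁻¹ := congrArg Subtype.val h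
  apply Subtype.ext
  have := mul_left_cancel (mul_right_cancel h1)
  exact this

theorem exists_elementary_abelian_omega {κ : Type} [Fintype κ] [DecidableEq κ] [Nonempty κ]
    {F : Type*} [Field F]
    (h2 : (2 : F) ≠ 0) (Q : (κ → F) → F) (P : Matrix.GeneralLinearGroup κ F) (c : F)
    (hP : ∀ x, Q ((P : Matrix κ κ F) *ᵥ x) = c * stdQ κ F x) :
    ∃ A : Subgroup ↥(Cfsg.Omega F Q), IsMulCommutative A ∧ (∀ a ∈ A, a ^ 2 = 1) ∧
      2 ^ (Fintype.card κ - 1) ≤ Nat.card A := by
  obtain ⟨i₀⟩ := ‹Nonempty κ›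
  let Φ₀ : (prodHom κ).ker →* ↥(Cfsg.isometryGroup F Q) :=
    ((conjIso Q P c hP).comp (signDW κ F)).comp (Subgroup.subtype _)
  have hΦ₀ : ∀ ε, Φ₀ ε ∈ Cfsg.Omega F Q := by
    intro ε
    exact map_mem_commutator (conjIso Q P c hP) (signDW_mem_commutator κ F i₀ ε.1 ε.2)
  let Φ : (prodHom κ).ker →* ↥(Cfsg.Omega F Q) := Φ₀.codRestrict _ hΦ₀
  have hΦ : Function.Injective Φ := by
    intro a b h
    have h1 : Φ₀ a = Φ₀ b := congrArg Subtype.val h
    have h3 := signDW_injective κ F h2 (conjIso_injective Q P c hP h1)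
    exact Subtype.ext h3
  refine ⟨Φ.range, inferInstance, ?_, ?_⟩
  · rintro _ ⟨ε, rfl⟩
    rw [← map_pow]
    have : ε ^ 2 = 1 := by
      apply Subtype.ext
      funext i
      simp [pow_two]
    rw [this, map_one]
  · have key := card_ker_prodHom κ
    have hpos : 1 ≤ Fintype.card κ := Fintype.card_pos
    have h2m : 2 ^ Fintype.card κ = 2 ^ (Fintype.card κ - 1) * 2 := by
      rw [← pow_succ]; congr 1; omega
    rw [h2m] at key
    have hk : Nat.card (prodHom κ).ker = 2 ^ (Fintype.card κ - 1) :=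
      Nat.eq_of_mul_eq_mul_right (by norm_num) key
    rw [← hk]
    exact le_of_eq (Nat.card_congr (MonoidHom.ofInjective hΦ).toEquiv)

/-- an orthogonal basis with constant norm gives a matrix transforming `Q` to a multiple of the
standard form -/
theorem exists_P_of_orthogonal_basis {κ : Type} [Fintype κ] [DecidableEq κ] {F : Type*} [Field F]
    (h2 : (2 : F) ≠ 0) (Q : (κ → F) → F) (B : LinearMap.BilinForm F (κ → F))
    (hBQ : ∀ u, B u u = 2 * Q u) (b : Basis κ F (κ → F))
    (hb : ∀ i j, i ≠ j → B (b i) (b j) = 0) (c : F) (hc : ∀ i, B (b i) (b i) = c) :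
    ∃ P : Matrix.GeneralLinearGroup κ F,
      ∀ x, Q ((P : Matrix κ κ F) *ᵥ x) = (2⁻¹ * c) * stdQ κ F x := by
  let M : Matrix κ κ F := (Pi.basisFun F κ).toMatrix b
  have hM : ∀ x : κ → F, M *ᵥ x = ∑ k, x k • b k := by
    intro x
    funext i
    simp only [M, Matrix.mulVec, dotProduct, Basis.toMatrix_apply, Pi.basisFun_repr,
      Finset.sum_apply, Pi.smul_apply, smul_eq_mul]
    apply Finset.sum_congr rfl
    intro k _
    ring
  haveI : Invertible M := (Pi.basisFun F κ).invertibleToMatrix b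
  refine ⟨unitOfInvertible M, ?_⟩
  intro x
  rw [val_unitOfInvertible, hM]
  have hQ : Q (∑ k, x k • b k) = 2⁻¹ * B (∑ k, x k • b k) (∑ k, x k • b k) := by
    rw [hBQ]; field_simp
  rw [hQ, mul_assoc]
  congr 1
  simp only [map_sum, map_smul, LinearMap.sum_apply, LinearMap.smul_apply, smul_eq_mul]
  unfold stdQ
  rw [Finset.mul_sum]
  apply Finset.sum_congr rfl
  intro k _
  rw [Finset.sum_eq_single k]
  · rw [hc]; ring
  · intro j _ hj
    rw [hb j k hj]; ring
  · intro h; exact absurd (Finset.mem_univ _) h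

end Cfsg.Agent.Lib.Helper37
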