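import Cfsg.Agent.Lib.Helper37.TwoRank
import Cfsg.Agent.S0756

set_option autoImplicit false

namespace Cfsg.Agent.Lib.Helper37

open Module Matrix

/-- discriminants of two orthogonal bases differ by a nonzero square -/
theorem disc_ratio {F V : Type*} [Field F] [AddCommGroup V] [Module F V] {m : ℕ}
    (B : LinearMap.BilinForm F V) (b c : Basis (Fin m) F V)
    (hb : ∀ i j, i ≠ j → B (b i) (b j) = 0) (hc : ∀ i j, i ≠ j → B (c i) (c j) = 0) :
    ∃ t : F, t ≠ 0 ∧ ∏ i, B (c i) (c i) = t ^ 2 * ∏ i, B (b i) (b i) := by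
  have hdiag : ∀ (e : Basis (Fin m) F V), (∀ i j, i ≠ j → B (e i) (e j) = 0) →
      LinearMap.BilinForm.toMatrix e B = Matrix.diagonal (fun i => B (e i) (e i)) := by
    intro e he
    ext i j
    rw [LinearMap.BilinForm.toMatrix_apply, Matrix.diagonal_apply]
    split_ifs with h
    · rw [h]
    · exact he i j h
  have key := LinearMap.BilinForm.toMatrix_mul_basis_toMatrix (b := b) c B
  have hdet := congrArg Matrix.det key
  rw [Matrix.det_mul, Matrix.det_mul, Matrix.det_transpose, hdiag b hb, hdiag c hc,
    Matrix.det_diagonal, Matrix.det_diagonal] at hdet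
  refine ⟨(b.toMatrix c).det, ?_, ?_⟩
  · have h1 : b.toMatrix c * c.toMatrix b = 1 := Basis.toMatrix_mul_toMatrix_flip b c
    have h2 := congrArg Matrix.det h1
    rw [Matrix.det_mul, Matrix.det_one] at h2
    intro h0
    rw [h0, zero_mul] at h2
    exact zero_ne_one h2
  · rw [← hdet]; ring

theorem nondegenerate_smul {F V : Type*} [Field F] [AddCommGroup V] [Module F V]
    (B : LinearMap.BilinForm F V) (hB : B.Nondegenerate) (a : F) (ha : a ≠ 0) :
    (a • B).Nondegenerate := by
  constructor
  · intro x hx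
    apply hB.1 x
    intro y
    have := hx y
    simpa [ha] using this
  · intro y hy
    apply hB.2 y
    intro x
    have := hy x
    simpa [ha] using this

theorem exists_equal_norm_orthogonal_basis {F V : Type*} [Field F] [Finite F] [AddCommGroup V]
    [Module F V] [FiniteDimensional F V] (h2 : (2 : F) ≠ 0) (B : LinearMap.BilinForm F V)
    (hS : B.IsSymm) (hB : B.Nondegenerate) {n : ℕ} (hn : Module.finrank F V = 2 * n + 1) :
    ∃ (c : F) (b : Basis (Fin (2 * n + 1)) F V), (∀ i j, i ≠ j → B (b i) (b j) = 0) ∧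
      ∀ i, B (b i) (b i) = c := by
  have hchar : ringChar F ≠ 2 := by
    intro h
    apply h2
    have := ringChar.Nat.cast_ringChar (R := F)
    rw [h] at this
    exact_mod_cast this
  obtain ⟨α, hα⟩ := FiniteField.exists_nonsquare hchar
  have hα0 : α ≠ 0 := by
    rintro rfl
    exact hα ⟨0, by simp⟩
  obtain ⟨b₁, h11, h12, h13⟩ := Cfsg.Agent.S0756.result h2 B hS hB hn α hα
  rcases h13 with h13 | h13
  · refine ⟨1, b₁, h11, ?_⟩
    intro i
    by_cases hi : i = Fin.last (2 * n)
    · rw [hi, h13]
    · exact h12 i hi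
  · have hS2 : (α⁻¹ • B).IsSymm := ⟨fun x y => by simp [hS.eq x y]⟩
    have hB2 := nondegenerate_smul B hB α⁻¹ (inv_ne_zero hα0)
    obtain ⟨b₂, h21, h22, h23⟩ := Cfsg.Agent.S0756.result h2 (α⁻¹ • B) hS2 hB2 hn α hα
    have h21' : ∀ i j, i ≠ j → B (b₂ i) (b₂ j) = 0 := by
      intro i j hij
      have := h21 i j hij
      simpa [hα0] using this
    have h22' : ∀ i, i ≠ Fin.last (2 * n) → B (b₂ i) (b₂ i) = α := by
      intro i hi
      have := h22 i hi
      simp only [LinearMap.smul_apply, smul_eq_mul] at this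
      field_simp at this
      exact this
    obtain ⟨t, ht0, ht⟩ := disc_ratio B b₁ b₂ h11 h21'
    rw [Fin.prod_univ_castSucc, Fin.prod_univ_castSucc, h13] at ht
    have e1 : ∏ i : Fin (2 * n), B (b₁ i.castSucc) (b₁ i.castSucc) = 1 := by
      apply Finset.prod_eq_one
      intro i _
      exact h12 _ (Fin.castSucc_lt_last i).ne
    have e2 : ∏ i : Fin (2 * n), B (b₂ i.castSucc) (b₂ i.castSucc) = α ^ (2 * n) := by
      rw [Finset.prod_eq_pow_card (b := α)]
      · simp
      · intro i _
        exact h22' _ (Fin.castSucc_lt_last i).ne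
    rw [e1, e2] at ht
    refine ⟨α, b₂, h21', ?_⟩
    intro i
    by_cases hi : i = Fin.last (2 * n)
    · rw [hi]
      rcases h23 with h23 | h23
      · simp only [LinearMap.smul_apply, smul_eq_mul] at h23
        field_simp at h23
        exact h23
      · exfalso
        simp only [LinearMap.smul_apply, smul_eq_mul] at h23
        have h5 : B (b₂ (Fin.last (2 * n))) (b₂ (Fin.last (2 * n))) = α * α := by
          field_simp at h23
          rw [h23]; ring
        rw [h5] at ht
        apply hα
        refine ⟨t / α ^ n, ?_⟩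
        have hαn : α ^ n ≠ 0 := pow_ne_zero _ hα0
        have h6 : α * (α ^ n * α ^ n) = t * t := by
          have h7 : α ^ (2 * n) * (α * α) = α * (α * (α ^ n * α ^ n)) := by ring
          rw [h7] at ht
          have h8 : α * (α * (α ^ n * α ^ n)) = α * (t * t) := by rw [ht]; ring
          exact mul_left_cancel₀ hα0 h8
        rw [div_mul_div_comm, ← h6]
        field_simp
    · exact h22' i hi

end Cfsg.Agent.Lib.Helper37
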