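import Cfsg.Agent.Lib.Helper37.TwoRank
import Cfsg.Prelude.Def_CaseTheorems

set_option autoImplicit false

namespace Cfsg.Agent.Lib.Helper37

open Module Matrix

/-- elements of `Ω(Q)` have determinant one -/
theorem det_eq_one_of_mem_omega {κ : Type} [Fintype κ] [DecidableEq κ] {F : Type*} [Field F]
    (Q : (κ → F) → F) (g : ↥(Cfsg.Omega F Q)) :
    ((g.1.1 : Matrix.GeneralLinearGroup κ F) : Matrix κ κ F).det = 1 := by
  let δ : ↥(Cfsg.isometryGroup F Q) →* Fˣ :=
    (Matrix.GeneralLinearGroup.det).comp (Subgroup.subtype _)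
  have h1 : commutator ↥(Cfsg.isometryGroup F Q) ≤ δ.ker := Abelianization.commutator_subset_ker δ
  have h2 : g.1 ∈ δ.ker := h1 g.2
  rw [MonoidHom.mem_ker] at h2
  have h3 : ((δ g.1 : Fˣ) : F) = 1 := by rw [h2]; rfl
  exact h3

theorem upper_general {κ : Type} [Fintype κ] [DecidableEq κ] [Nonempty κ] {F : Type*} [Field F]
    (h2 : (2 : F) ≠ 0) (Q : (κ → F) → F) :
    Cfsg.PRankLE 2 (Fintype.card κ - 1) ↥(Cfsg.Omega F Q) := by
  intro A hA hA2
  have key := card_mul_two_le_of_commuting_involutions_det_one h2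
    (fun a : A => ((a.1.1.1 : Matrix.GeneralLinearGroup κ F) : Matrix κ κ F))
    (by
      intro a b h
      exact Subtype.ext (Subtype.ext (Subtype.ext (Units.ext h))))
    (by
      intro a b
      have h := mul_comm' a b
      have h' : a.1.1.1 * b.1.1.1 = b.1.1.1 * a.1.1.1 := by
        have := congrArg (fun x : A => (x.1.1.1 : Matrix.GeneralLinearGroup κ F)) h
        exact this
      have := congrArg (fun x : Matrix.GeneralLinearGroup κ F => (x : Matrix κ κ F)) h'
      simpa using this)
    (by
      intro a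
      have h := hA2 a.1 a.2
      rw [pow_two] at h
      have h' : a.1.1.1 * a.1.1.1 = 1 := by
        have := congrArg (fun x : ↥(Cfsg.Omega F Q) => (x.1.1 : Matrix.GeneralLinearGroup κ F)) h
        exact this
      have := congrArg (fun x : Matrix.GeneralLinearGroup κ F => (x : Matrix κ κ F)) h'
      simpa using this)
    (fun a => det_eq_one_of_mem_omega Q a.1)
  have hpos : 1 ≤ Fintype.card κ := Fintype.card_pos
  have h2m : 2 ^ Fintype.card κ = 2 ^ (Fintype.card κ - 1) * 2 := by
    rw [← pow_succ]; congr 1; omega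
  rw [h2m] at key
  exact Nat.le_of_mul_le_mul_right key (by norm_num)

end Cfsg.Agent.Lib.Helper37
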