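import Mathlib

set_option autoImplicit false

namespace Cfsg.Agent.Lib.Helper37

open Finset

section
variable {F : Type*} [Field F] [Fintype F] [DecidableEq F]

/-- number of solutions of a diagonal quadratic equation -/
def cnt (n : ℕ) (w : Fin n → F) (c : F) : ℕ :=
  ∑ x : Fin n → F, if ∑ i, w i * x i ^ 2 = c then 1 else 0

/-- number of solutions supported on a single coordinate -/
def axisCnt (n : ℕ) (w : Fin n → F) (c : F) : ℕ :=
  ∑ i : Fin n, ∑ t ∈ univ.filter (fun t : F => t ≠ 0), if w i * t ^ 2 = c then 1 else 0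

theorem even_sum_ne_zero (h2 : (2 : F) ≠ 0) (h : F → ℕ) (hh : ∀ t, h (-t) = h t) :
    2 ∣ ∑ t ∈ univ.filter (fun t : F => t ≠ 0), h t := by
  have key : ((∑ t ∈ univ.filter (fun t : F => t ≠ 0), h t : ℕ) : ZMod 2) = 0 := by
    rw [Nat.cast_sum]
    apply Finset.sum_involution (fun t _ => -t)
    · intro t _
      rw [hh]
      exact CharTwo.add_self_eq_zero _
    · intro t ht _ hneg
      have ht0 : t ≠ 0 := by simpa using ht
      apply ht0
      have h3 : (2 : F) * t = 0 := by
        have : t + t = 0 := by nth_rewrite 1 [← hneg]; simp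
        rw [two_mul]; exact this
      rcases mul_eq_zero.mp h3 with h | h
      · exact absurd h h2
      · exact h
    · intro t _
      simp
    · intro t ht
      simpa using ht
  exact (ZMod.natCast_eq_zero_iff _ 2).mp key

theorem four_dvd_sum_ne_zero (h2 : (2 : F) ≠ 0) (g : F → ℕ) (hg : ∀ t, g (-t) = g t)
    (hev : ∀ t, 2 ∣ g t) : 4 ∣ ∑ t ∈ univ.filter (fun t : F => t ≠ 0), g t := by
  have h1 : ∑ t ∈ univ.filter (fun t : F => t ≠ 0), g t =
      2 * ∑ t ∈ univ.filter (fun t : F => t ≠ 0), g t / 2 := by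
    rw [Finset.mul_sum]
    apply Finset.sum_congr rfl
    intro t _
    exact (Nat.mul_div_cancel' (hev t)).symm
  rw [h1]
  have h3 := even_sum_ne_zero h2 (fun t => g t / 2) (fun t => by simp only [hg])
  exact Nat.mul_dvd_mul_left 2 h3

theorem axisCnt_even (h2 : (2 : F) ≠ 0) (n : ℕ) (w : Fin n → F) (c : F) : 2 ∣ axisCnt n w c := by
  unfold axisCnt
  apply Finset.dvd_sum
  intro i _
  apply even_sum_ne_zero h2 (fun t => if w i * t ^ 2 = c then 1 else 0)
  intro t
  simp

theorem cnt_succ (n : ℕ) (w : Fin (n + 1) → F) (c : F) :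
    cnt (n + 1) w c = ∑ t : F, cnt n (fun i => w i.succ) (c - w 0 * t ^ 2) := by
  unfold cnt
  rw [← (Fin.consEquiv (fun _ : Fin (n + 1) => F)).sum_comp, Fintype.sum_prod_type]
  apply Finset.sum_congr rfl
  intro t _
  apply Finset.sum_congr rfl
  intro x _
  simp only [Fin.consEquiv, Equiv.coe_fn_mk, Fin.sum_univ_succ, Fin.cons_zero, Fin.cons_succ]
  have : (w 0 * t ^ 2 + ∑ i : Fin n, w i.succ * x i ^ 2 = c) ↔
      (∑ i : Fin n, w i.succ * x i ^ 2 = c - w 0 * t ^ 2) := eq_sub_iff_add_eq'.symm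
  simp only [this]

theorem axisCnt_succ (n : ℕ) (w : Fin (n + 1) → F) (c : F) :
    axisCnt (n + 1) w c =
      (∑ t ∈ univ.filter (fun t : F => t ≠ 0), if w 0 * t ^ 2 = c then 1 else 0) +
        axisCnt n (fun i => w i.succ) c := by
  unfold axisCnt
  rw [Fin.sum_univ_succ]

theorem cnt_mod_four (h2 : (2 : F) ≠ 0) (n : ℕ) : ∀ (w : Fin n → F) (c : F),
    (cnt n w c : ZMod 4) = (if c = 0 then 1 else 0) + (axisCnt n w c : ZMod 4) := by
  induction n with
  | zero =>
    intro w c
    unfold cnt axisCnt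
    simp [eq_comm]
  | succ n ih =>
    intro w c
    rw [cnt_succ, axisCnt_succ]
    push_cast
    simp only [ih]
    rw [Finset.sum_add_distrib]
    -- first sum
    have e1 : ∑ t : F, (if c - w 0 * t ^ 2 = 0 then (1 : ZMod 4) else 0) =
        (if c = 0 then 1 else 0) +
          ∑ t ∈ univ.filter (fun t : F => t ≠ 0), (if w 0 * t ^ 2 = c then (1 : ZMod 4) else 0) := by
      rw [← Finset.sum_filter_add_sum_filter_not univ (fun t : F => t = 0)]
      congr 1
      · rw [Finset.filter_eq' univ (0 : F), if_pos (Finset.mem_univ _), Finset.sum_singleton]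
        simp
      · apply Finset.sum_congr rfl
        intro t _
        have : (c - w 0 * t ^ 2 = 0) ↔ (w 0 * t ^ 2 = c) := by
          rw [sub_eq_zero, eq_comm]
        simp only [this]
    -- second sum
    have e2 : ∑ t : F, (axisCnt n (fun i => w i.succ) (c - w 0 * t ^ 2) : ZMod 4) =
        (axisCnt n (fun i => w i.succ) c : ZMod 4) := by
      rw [← Finset.sum_filter_add_sum_filter_not univ (fun t : F => t = 0)]
      rw [Finset.filter_eq' univ (0 : F), if_pos (Finset.mem_univ _), Finset.sum_singleton]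
      have h4 := four_dvd_sum_ne_zero h2
        (fun t => axisCnt n (fun i => w i.succ) (c - w 0 * t ^ 2))
        (fun t => by simp) (fun t => axisCnt_even h2 _ _ _)
      have h5 : ((∑ t ∈ univ.filter (fun t : F => t ≠ 0),
          axisCnt n (fun i => w i.succ) (c - w 0 * t ^ 2) : ℕ) : ZMod 4) = 0 :=
        (ZMod.natCast_eq_zero_iff _ 4).mpr h4
      rw [Nat.cast_sum] at h5
      rw [h5]
      simp
    rw [e1, e2]
    ring

theorem axis_one (h2 : (2 : F) ≠ 0) :
    ∑ t ∈ univ.filter (fun t : F => t ≠ 0), (if (1 : F) * t ^ 2 = 1 then 1 else 0) = 2 := by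
  rw [← Finset.card_filter]
  have h1 : (1 : F) ≠ -1 := by
    intro h'
    apply h2
    have : (2 : F) = 1 + 1 := by norm_num
    rw [this]; nth_rewrite 1 [h']; simp
  have : (univ.filter (fun t : F => t ≠ 0)).filter (fun t => (1 : F) * t ^ 2 = 1) = {1, -1} := by
    ext t
    simp only [Finset.mem_filter, Finset.mem_univ, true_and, Finset.mem_insert,
      Finset.mem_singleton, one_mul]
    constructor
    · rintro ⟨_, h⟩
      have : (t - 1) * (t + 1) = 0 := by linear_combination h
      rcases mul_eq_zero.mp this with h | h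
      · left; exact sub_eq_zero.mp h
      · right; exact eq_neg_of_add_eq_zero_left h
    · rintro (rfl | rfl)
      · exact ⟨one_ne_zero, by ring⟩
      · exact ⟨by simp, by ring⟩
  rw [this, Finset.card_pair h1]

theorem axis_nonsquare (α : F) (hα : ¬ IsSquare α) :
    ∑ t ∈ univ.filter (fun t : F => t ≠ 0), (if α * t ^ 2 = 1 then 1 else 0) = 0 := by
  apply Finset.sum_eq_zero
  intro t ht
  have ht0 : t ≠ 0 := by simpa using ht
  rw [if_neg]
  intro h
  apply hα
  refine ⟨t⁻¹, ?_⟩
  field_simp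
  linear_combination h

/-- the number of solutions of `x₀² + ⋯ + x_{n-1}² + α xₙ² = 1` is `2` modulo `4` when `n` is odd
and `α` is not a square -/
theorem cnt_special (h2 : (2 : F) ≠ 0) (n : ℕ) (hn : Odd n) (w : Fin (n + 1) → F) (α : F)
    (hα : ¬ IsSquare α) (hw1 : ∀ i, i ≠ Fin.last n → w i = 1) (hwl : w (Fin.last n) = α) :
    cnt (n + 1) w 1 % 4 = 2 := by
  have h := cnt_mod_four h2 (n + 1) w 1
  rw [if_neg one_ne_zero, zero_add] at h
  have hax : axisCnt (n + 1) w 1 = 2 * n := by
    unfold axisCnt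
    rw [Fin.sum_univ_castSucc, hwl, axis_nonsquare α hα, add_zero]
    rw [Finset.sum_congr rfl (fun i _ => by
      rw [hw1 i.castSucc (ne_of_lt (Fin.castSucc_lt_last i)), axis_one h2])]
    rw [Finset.sum_const, Finset.card_univ, Fintype.card_fin, smul_eq_mul, mul_comm]
  rw [hax] at h
  obtain ⟨k, rfl⟩ := hn
  have h4 : (4 : ZMod 4) = 0 := by decide
  have h5 : ((cnt (2 * k + 1 + 1) w 1 : ℕ) : ZMod 4) = ((2 : ℕ) : ZMod 4) := by
    rw [h]
    push_cast
    calc (2 : ZMod 4) * (2 * k + 1) = 4 * k + 2 := by ring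
      _ = 2 := by rw [h4]; ring
  have := (ZMod.natCast_eq_natCast_iff' _ _ 4).mp h5
  simpa using this

theorem card_eq_cnt (n : ℕ) (w : Fin n → F) (c : F) :
    Nat.card {y : Fin n → F // ∑ i, w i * y i ^ 2 = c} = cnt n w c := by
  rw [Nat.card_eq_fintype_card, Fintype.card_subtype, Finset.card_filter]
  rfl

end

end Cfsg.Agent.Lib.Helper37
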