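import Cfsg.Agent.Lib.Helper37.TwoRank

set_option autoImplicit false

namespace Cfsg.Agent.Lib.Helper37

open Module Matrix

/-- permutation action of `O(Q)` on the level set `{Q = c}` -/
def levelPerm {κ : Type} [Fintype κ] [DecidableEq κ] {F : Type*} [Field F]
    (Q : (κ → F) → F) (c : F) :
    ↥(Cfsg.isometryGroup F Q) →* Equiv.Perm {v : κ → F // Q v = c} where
  toFun g :=
    { toFun := fun v => ⟨(g.1 : Matrix κ κ F) *ᵥ v.1, by
        rw [(mem_isometryGroup_iff' Q g.1).mp g.2]; exact v.2⟩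
      invFun := fun v => ⟨((g⁻¹).1 : Matrix κ κ F) *ᵥ v.1, by
        rw [(mem_isometryGroup_iff' Q (g⁻¹).1).mp (g⁻¹).2]; exact v.2⟩
      left_inv := by
        intro v
        apply Subtype.ext
        show ((g⁻¹).1 : Matrix κ κ F) *ᵥ ((g.1 : Matrix κ κ F) *ᵥ v.1) = v.1
        rw [Matrix.mulVec_mulVec, ← Units.val_mul, ← Subgroup.coe_mul, inv_mul_cancel]
        simp
      right_inv := by
        intro v
        apply Subtype.ext
        show (g.1 : Matrix κ κ F) *ᵥ (((g⁻¹).1 : Matrix κ κ F) *ᵥ v.1) = v.1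
        rw [Matrix.mulVec_mulVec, ← Units.val_mul, ← Subgroup.coe_mul, mul_inv_cancel]
        simp }
  map_one' := by
    ext v
    simp
  map_mul' := by
    intro g h
    ext v
    simp [Matrix.mulVec_mulVec]

theorem levelPerm_apply {κ : Type} [Fintype κ] [DecidableEq κ] {F : Type*} [Field F]
    (Q : (κ → F) → F) (c : F) (g : ↥(Cfsg.isometryGroup F Q)) (v : {v : κ → F // Q v = c}) :
    (levelPerm Q c g v).1 = (g.1 : Matrix κ κ F) *ᵥ v.1 := rfl

/-- a fixed-point-free involution on a set of cardinality `2` mod `4` is an odd permutation -/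
theorem sign_eq_neg_one_of_involution {X : Type*} [Fintype X] [DecidableEq X] (σ : Equiv.Perm X)
    (hσ2 : σ ^ 2 = 1) (hfix : ∀ v, σ v ≠ v) (hX : Fintype.card X % 4 = 2) :
    Equiv.Perm.sign σ = -1 := by
  have hne : Nonempty X := by
    rw [← Fintype.card_pos_iff]; omega
  obtain ⟨v₀⟩ := hne
  have hσ1 : σ ≠ 1 := by
    intro h
    apply hfix v₀
    rw [h]; rfl
  have hord : orderOf σ = 2 := orderOf_eq_prime hσ2 hσ1
  have hprime : (orderOf σ).Prime := by rw [hord]; exact Nat.prime_two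
  obtain ⟨k, hk⟩ := Equiv.Perm.cycleType_prime_order hprime
  rw [hord] at hk
  have hsupp : σ.support = Finset.univ := by
    ext v
    simp [Equiv.Perm.mem_support, hfix v]
  have hsum := Equiv.Perm.sum_cycleType σ
  rw [hk, hsupp, Multiset.sum_replicate, Finset.card_univ, smul_eq_mul] at hsum
  rw [Equiv.Perm.sign_of_cycleType, hk, Multiset.sum_replicate, Multiset.card_replicate,
    smul_eq_mul]
  have hodd : Odd ((k + 1) * 2 + (k + 1)) := by
    rw [Nat.odd_iff]; omega
  exact hodd.neg_one_pow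

theorem neg_one_not_mem_omega {κ : Type} [Fintype κ] [DecidableEq κ] {F : Type*} [Field F]
    [Finite F] (h2 : (2 : F) ≠ 0) (Q : (κ → F) → F) (c : F) (h0 : Q 0 ≠ c)
    (hX : Nat.card {v : κ → F // Q v = c} % 4 = 2) :
    ¬ ∃ g : ↥(Cfsg.isometryGroup F Q), g ∈ Cfsg.Omega F Q ∧
      ((g : Matrix.GeneralLinearGroup κ F) : Matrix κ κ F) = -1 := by
  classical
  rintro ⟨g, hg, hg1⟩
  have : Fintype F := Fintype.ofFinite F
  have : Fintype {v : κ → F // Q v = c} := Fintype.ofFinite _
  let φ : ↥(Cfsg.isometryGroup F Q) →* ℤˣ := Equiv.Perm.sign.comp (levelPerm Q c)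
  have h1 : φ g = 1 := by
    have hle : commutator ↥(Cfsg.isometryGroup F Q) ≤ φ.ker :=
      Abelianization.commutator_subset_ker φ
    exact hle hg
  have hσ : ∀ v, (levelPerm Q c g v).1 = -v.1 := by
    intro v
    rw [levelPerm_apply, hg1, Matrix.neg_mulVec, Matrix.one_mulVec]
  have hσ2 : (levelPerm Q c g) ^ 2 = 1 := by
    ext v
    rw [pow_two, Equiv.Perm.mul_apply, hσ, hσ]
    simp
  have hfix : ∀ v, levelPerm Q c g v ≠ v := by
    intro v h
    have h3 : -v.1 = v.1 := by rw [← hσ, h]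
    have h4 : v.1 = 0 := by
      funext k
      have h5 : -v.1 k = v.1 k := congrFun h3 k
      have h6 : (2 : F) * v.1 k = 0 := by
        rw [two_mul]; nth_rewrite 1 [← h5]; simp
      rcases mul_eq_zero.mp h6 with h | h
      · exact absurd h h2
      · exact h
    apply h0
    rw [← h4]; exact v.2
  have hX' : Fintype.card {v : κ → F // Q v = c} % 4 = 2 := by
    rw [← Nat.card_eq_fintype_card]; exact hX
  have h5 := sign_eq_neg_one_of_involution (levelPerm Q c g) hσ2 hfix hX'
  have h6 : φ g = -1 := h5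
  rw [h1] at h6
  exact absurd h6 (by decide)

end Cfsg.Agent.Lib.Helper37
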