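import Cfsg.Agent.Lib.Helper37.TwoRank

set_option autoImplicit false

namespace Cfsg.Agent.Lib.Helper37

open Module Matrix
open scoped commutatorElement

/-- weighted sum of squares -/
def wQ (κ : Type) [Fintype κ] (F : Type*) [Field F] (w : κ → F) (x : κ → F) : F :=
  ∑ k, w k * x k ^ 2

theorem signD_mem_w (κ : Type) [Fintype κ] [DecidableEq κ] (F : Type*) [Field F] (w : κ → F)
    (ε : κ → ℤˣ) : signD κ F ε ∈ Cfsg.isometryGroup F (wQ κ F w) := by
  rw [mem_isometryGroup_iff']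
  intro u
  rw [signD_val]
  unfold wQ
  apply Finset.sum_congr rfl
  intro k _
  rw [Matrix.mulVec_diagonal, mul_pow, signCast_sq, one_mul]

theorem permG_mem_w (κ : Type) [Fintype κ] [DecidableEq κ] (F : Type*) [Field F] (w : κ → F)
    (σ : Equiv.Perm κ) (hσ : ∀ k, w (σ k) = w k) :
    permG κ F σ ∈ Cfsg.isometryGroup F (wQ κ F w) := by
  rw [mem_isometryGroup_iff']
  intro u
  rw [permG_val, Matrix.permMatrix_mulVec]
  unfold wQ
  rw [← Equiv.sum_comp σ (fun k => w k * u k ^ 2)]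
  apply Finset.sum_congr rfl
  intro k _
  simp only [Function.comp_apply]
  rw [hσ]

/-- sign matrices inside the isometry group of the weighted form -/
def signDWw (κ : Type) [Fintype κ] [DecidableEq κ] (F : Type*) [Field F] (w : κ → F) :
    (κ → ℤˣ) →* ↥(Cfsg.isometryGroup F (wQ κ F w)) :=
  (signD κ F).codRestrict _ (signD_mem_w κ F w)

theorem signDWw_pair_mem_commutator (κ : Type) [Fintype κ] [DecidableEq κ] (F : Type*) [Field F]
    (w : κ → F) (k i₀ : κ) (hw : w k = w i₀) :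
    signDWw κ F w (Pi.mulSingle k (-1) * Pi.mulSingle i₀ (-1)) ∈
      commutator ↥(Cfsg.isometryGroup F (wQ κ F w)) := by
  by_cases hk : k = i₀
  · subst hk
    have : (Pi.mulSingle k (-1) * Pi.mulSingle k (-1) : κ → ℤˣ) = 1 := by
      rw [← Pi.mulSingle_mul]; simp
    rw [this, map_one]
    exact Subgroup.one_mem _
  · have hsw : ∀ j, w (Equiv.swap k i₀ j) = w j := by
      intro j
      by_cases hj : j = k
      · subst hj; rw [Equiv.swap_apply_left]; exact hw.symm
      · by_cases hj' : j = i₀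
        · subst hj'; rw [Equiv.swap_apply_right]; exact hw
        · rw [Equiv.swap_apply_of_ne_of_ne hj hj']
    let a : ↥(Cfsg.isometryGroup F (wQ κ F w)) := signDWw κ F w (Pi.mulSingle k (-1))
    let b : ↥(Cfsg.isometryGroup F (wQ κ F w)) :=
      ⟨permG κ F (Equiv.swap k i₀), permG_mem_w κ F w _ hsw⟩
    have hab : ⁅a, b⁆ ∈ commutator ↥(Cfsg.isometryGroup F (wQ κ F w)) :=
      Subgroup.commutator_mem_commutator (Subgroup.mem_top a) (Subgroup.mem_top b)
    have hconj : b * a * b⁻¹ = signDWw κ F w (Pi.mulSingle i₀ (-1)) := by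
      apply Subtype.ext
      show permG κ F (Equiv.swap k i₀) * signD κ F (Pi.mulSingle k (-1)) *
        (permG κ F (Equiv.swap k i₀))⁻¹ = signD κ F (Pi.mulSingle i₀ (-1))
      rw [permG_conj_signD]
      congr 1
      funext j
      simp only [Function.comp_apply]
      by_cases hj : j = i₀
      · subst hj; simp
      · by_cases hj' : j = k
        · subst hj'
          simp [hk, Ne.symm hk]
        · rw [Equiv.swap_apply_of_ne_of_ne hj' hj]
          simp [hj, hj']
    have hainv : a⁻¹ = a := by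
      rw [inv_eq_iff_mul_eq_one]
      show signDWw κ F w _ * signDWw κ F w _ = 1
      rw [← map_mul, ← Pi.mulSingle_mul]
      simp
    have : ⁅a, b⁆ = signDWw κ F w (Pi.mulSingle k (-1) * Pi.mulSingle i₀ (-1)) := by
      rw [commutatorElement_def, map_mul, ← hconj]
      rw [hainv]
      show a * b * a * b⁻¹ = a * (b * a * b⁻¹)
      group
    rw [← this]
    exact hab

/-- sign vectors trivial at the exceptional index `k₀` and of product one lie in the commutator
subgroup, when all other weights are equal -/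
theorem signDWw_mem_commutator (κ : Type) [Fintype κ] [DecidableEq κ] (F : Type*) [Field F]
    (w : κ → F) (k₀ i₀ : κ) (hne : i₀ ≠ k₀) (hw : ∀ k, k ≠ k₀ → w k = w i₀)
    (ε : κ → ℤˣ) (hε₀ : ε k₀ = 1) (hε : prodHom κ ε = 1) :
    signDWw κ F w ε ∈ commutator ↥(Cfsg.isometryGroup F (wQ κ F w)) := by
  let πHom : (κ → ℤˣ) →* (κ → ℤˣ) :=
    MonoidHom.id _ * (MonoidHom.mulSingle (fun _ : κ => ℤˣ) k₀).comp
      (Pi.evalMonoidHom (fun _ : κ => ℤˣ) k₀)
  let εHom : (κ → ℤˣ) →* (κ → ℤˣ) :=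
    πHom * (MonoidHom.mulSingle (fun _ : κ => ℤˣ) i₀).comp ((prodHom κ).comp πHom)
  have hπ : ∀ ε : κ → ℤˣ, πHom ε = ε * Pi.mulSingle k₀ (ε k₀) := fun ε => rfl
  have hε' : ∀ ε : κ → ℤˣ, εHom ε = πHom ε * Pi.mulSingle i₀ (prodHom κ (πHom ε)) := fun ε => rfl
  let ψ : (κ → ℤˣ) →* Abelianization ↥(Cfsg.isometryGroup F (wQ κ F w)) :=
    (Abelianization.of).comp ((signDWw κ F w).comp εHom)
  have hψ : ψ = 1 := by
    apply MonoidHom.functions_ext
    intro k u
    rcases Int.units_eq_one_or u with rfl | rfl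
    · simp
    · show Abelianization.of (signDWw κ F w (εHom (Pi.mulSingle k (-1)))) = 1
      by_cases hk : k = k₀
      · subst hk
        have h1 : πHom (Pi.mulSingle k (-1)) = 1 := by
          rw [hπ, Pi.mulSingle_eq_same, ← Pi.mulSingle_mul]; simp
        have h2 : εHom (Pi.mulSingle k (-1)) = 1 := by
          rw [hε', h1, map_one]; simp
        rw [h2, map_one, map_one]
      · have h1 : πHom (Pi.mulSingle k (-1)) = Pi.mulSingle k (-1) := by
          rw [hπ, Pi.mulSingle_eq_of_ne (Ne.symm hk)]; simp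
        have h2 : εHom (Pi.mulSingle k (-1)) = Pi.mulSingle k (-1) * Pi.mulSingle i₀ (-1) := by
          rw [hε', h1, prodHom_mulSingle]
        rw [h2, ← MonoidHom.mem_ker, Abelianization.ker_of]
        exact signDWw_pair_mem_commutator κ F w k i₀ (hw k hk)
  have h2 : εHom ε = ε := by
    have h1 : πHom ε = ε := by rw [hπ, hε₀]; simp
    rw [hε', h1, hε]; simp
  have h3 : ψ ε = 1 := by rw [hψ]; rfl
  have h4 : Abelianization.of (signDWw κ F w ε) = 1 := by
    have : ψ ε = Abelianization.of (signDWw κ F w (εHom ε)) := rfl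
    rw [this, h2] at h3
    exact h3
  rw [← MonoidHom.mem_ker, Abelianization.ker_of] at h4
  exact h4

theorem signDWw_injective (κ : Type) [Fintype κ] [DecidableEq κ] (F : Type*) [Field F]
    (w : κ → F) (h2 : (2 : F) ≠ 0) : Function.Injective (signDWw κ F w) := by
  intro a b h
  have h1 : signD κ F a = signD κ F b := congrArg Subtype.val h
  have h3 : ((signD κ F a : Matrix.GeneralLinearGroup κ F) : Matrix κ κ F) =
      ((signD κ F b : Matrix.GeneralLinearGroup κ F) : Matrix κ κ F) := by rw [h1]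
  rw [signD_val, signD_val] at h3
  have h4 := Matrix.diagonal_injective h3
  funext k
  exact signCast_injective h2 (congrFun h4 k)

/-- conjugation by `P` carries isometries of `Q'` to isometries of `Q` -/
def conjIsoG {κ : Type} [Fintype κ] [DecidableEq κ] {F : Type*} [Field F] (Q Q' : (κ → F) → F)
    (P : Matrix.GeneralLinearGroup κ F) (c : F)
    (hP : ∀ x, Q ((P : Matrix κ κ F) *ᵥ x) = c * Q' x) :
    ↥(Cfsg.isometryGroup F Q') →* ↥(Cfsg.isometryGroup F Q) :=
  ((MulAut.conj P).toMonoidHom.comp (Subgroup.subtype _)).codRestrict _ (by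
    intro M
    rw [mem_isometryGroup_iff']
    intro u
    have hM := (mem_isometryGroup_iff' _ _).mp M.2
    show Q (((P * M.1 * P⁻¹ : Matrix.GeneralLinearGroup κ F) : Matrix κ κ F) *ᵥ u) = Q u
    have hu : u = (P : Matrix κ κ F) *ᵥ
        (((P⁻¹ : Matrix.GeneralLinearGroup κ F) : Matrix κ κ F) *ᵥ u) := by
      rw [Matrix.mulVec_mulVec, ← Units.val_mul, mul_inv_cancel]; simp
    rw [Units.val_mul, Units.val_mul, ← Matrix.mulVec_mulVec, ← Matrix.mulVec_mulVec, hP, hM]
    conv_rhs => rw [hu, hP])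

theorem conjIsoG_val {κ : Type} [Fintype κ] [DecidableEq κ] {F : Type*} [Field F]
    (Q Q' : (κ → F) → F) (P : Matrix.GeneralLinearGroup κ F) (c : F)
    (hP : ∀ x, Q ((P : Matrix κ κ F) *ᵥ x) = c * Q' x) (M : ↥(Cfsg.isometryGroup F Q')) :
    (conjIsoG Q Q' P c hP M).1 = P * M.1 * P⁻¹ := rfl

theorem conjIsoG_injective {κ : Type} [Fintype κ] [DecidableEq κ] {F : Type*} [Field F]
    (Q Q' : (κ → F) → F) (P : Matrix.GeneralLinearGroup κ F) (c : F)
    (hP : ∀ x, Q ((P : Matrix κ κ F) *ᵥ x) = c * Q' x) :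
    Function.Injective (conjIsoG Q Q' P c hP) := by
  intro a b h
  have h1 : P * a.1 * P⁻¹ = P * b.1 * P⁻¹ := congrArg Subtype.val h
  apply Subtype.ext
  have := mul_left_cancel (mul_right_cancel h1)
  exact this

/-- the group of sign vectors trivial at `k₀` and of product one -/
def signKer (κ : Type) [Fintype κ] [DecidableEq κ] (k₀ : κ) : Subgroup (κ → ℤˣ) :=
  ((Pi.evalMonoidHom (fun _ : κ => ℤˣ) k₀).prod (prodHom κ)).ker

theorem mem_signKer (κ : Type) [Fintype κ] [DecidableEq κ] (k₀ : κ) (ε : κ → ℤˣ) :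
    ε ∈ signKer κ k₀ ↔ ε k₀ = 1 ∧ prodHom κ ε = 1 := by
  unfold signKer
  rw [MonoidHom.mem_ker, MonoidHom.prod_apply, Prod.mk_eq_one]
  rfl

theorem card_signKer (κ : Type) [Fintype κ] [DecidableEq κ] (k₀ : κ)
    (hκ : 2 ≤ Fintype.card κ) : 2 ^ (Fintype.card κ - 2) ≤ Nat.card (signKer κ k₀) := by
  classical
  unfold signKer
  set θ := (Pi.evalMonoidHom (fun _ : κ => ℤˣ) k₀).prod (prodHom κ) with hθ
  have h1 := Subgroup.card_mul_index θ.ker
  rw [Subgroup.index_ker] at h1
  have h3 : Nat.card (κ → ℤˣ) = 2 ^ Fintype.card κ := by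
    rw [Nat.card_eq_fintype_card, Fintype.card_fun, Fintype.card_units_int]
  have h4 : Nat.card θ.range ≤ 4 := by
    have := Subgroup.card_le_card_group θ.range
    have h5 : Nat.card (ℤˣ × ℤˣ) = 4 := by
      rw [Nat.card_eq_fintype_card, Fintype.card_prod, Fintype.card_units_int]
    rw [h5] at this
    exact this
  rw [h3] at h1
  have h6 : 2 ^ Fintype.card κ = 2 ^ (Fintype.card κ - 2) * 4 := by
    have : (4 : ℕ) = 2 ^ 2 := by norm_num
    rw [this, ← pow_add]; congr 1; omega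
  rw [h6] at h1
  have h7 : 2 ^ (Fintype.card κ - 2) * 4 ≤ Nat.card θ.ker * 4 := by
    rw [← h1]
    exact Nat.mul_le_mul_left _ h4
  exact Nat.le_of_mul_le_mul_right h7 (by norm_num)

theorem exists_elementary_abelian_omega_w {κ : Type} [Fintype κ] [DecidableEq κ]
    {F : Type*} [Field F]
    (h2 : (2 : F) ≠ 0) (Q : (κ → F) → F) (P : Matrix.GeneralLinearGroup κ F) (c : F) (w : κ → F)
    (k₀ i₀ : κ) (hne : i₀ ≠ k₀) (hw : ∀ k, k ≠ k₀ → w k = w i₀)
    (hP : ∀ x, Q ((P : Matrix κ κ F) *ᵥ x) = c * wQ κ F w x) :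
    ∃ A : Subgroup ↥(Cfsg.Omega F Q), IsMulCommutative A ∧ (∀ a ∈ A, a ^ 2 = 1) ∧
      2 ^ (Fintype.card κ - 2) ≤ Nat.card A := by
  let Φ₀ : signKer κ k₀ →* ↥(Cfsg.isometryGroup F Q) :=
    ((conjIsoG Q (wQ κ F w) P c hP).comp (signDWw κ F w)).comp (Subgroup.subtype _)
  have hΦ₀ : ∀ ε, Φ₀ ε ∈ Cfsg.Omega F Q := by
    intro ε
    have hε := (mem_signKer κ k₀ ε.1).mp ε.2
    exact map_mem_commutator (conjIsoG Q (wQ κ F w) P c hP)
      (signDWw_mem_commutator κ F w k₀ i₀ hne hw ε.1 hε.1 hε.2)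
  let Φ : signKer κ k₀ →* ↥(Cfsg.Omega F Q) := Φ₀.codRestrict _ hΦ₀
  have hΦ : Function.Injective Φ := by
    intro a b h
    have h1 : Φ₀ a = Φ₀ b := congrArg Subtype.val h
    have h3 := signDWw_injective κ F w h2 (conjIsoG_injective Q (wQ κ F w) P c hP h1)
    exact Subtype.ext h3
  have hκ : 2 ≤ Fintype.card κ := by
    have := Fintype.one_lt_card_iff.mpr ⟨i₀, k₀, hne⟩
    omega
  refine ⟨Φ.range, inferInstance, ?_, ?_⟩
  · rintro _ ⟨ε, rfl⟩
    rw [← map_pow]
    have : ε ^ 2 = 1 := by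
      apply Subtype.ext
      funext i
      simp [pow_two]
    rw [this, map_one]
  · refine le_trans (card_signKer κ k₀ hκ) ?_
    exact le_of_eq (Nat.card_congr (MonoidHom.ofInjective hΦ).toEquiv)

end Cfsg.Agent.Lib.Helper37
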