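import Cfsg.Agent.Lib.Helper37.TwoRank
import Cfsg.Agent.Lib.Helper37.EqualNorm
import Cfsg.Agent.Lib.Helper37.OmegaRank
import Cfsg.Agent.Lib.Helper37.CountMod4
import Cfsg.Agent.Lib.Helper37.SignChar
import Cfsg.Agent.Lib.Helper37.Weighted
import Cfsg.Prelude.Def_EvenType

set_option autoImplicit false

namespace Cfsg.Agent.Lib.Helper37

open Module Matrix

/-- the product of the norms of an orthogonal basis is the Gram determinant up to a square -/
theorem disc_ratio_gram {κ : Type} [Fintype κ] [DecidableEq κ] {F : Type*} [Field F]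
    (G : Matrix κ κ F) {m : ℕ} (b : Basis (Fin m) F (κ → F))
    (hb : ∀ i j, i ≠ j → Matrix.toBilin' G (b i) (b j) = 0) :
    ∃ t : F, t ≠ 0 ∧ ∏ i, Matrix.toBilin' G (b i) (b i) = t ^ 2 * G.det := by
  have hcard : Fintype.card κ = Fintype.card (Fin m) := by
    rw [← Module.finrank_fintype_fun_eq_card (R := F), Module.finrank_eq_card_basis b]
  let e : κ ≃ Fin m := Fintype.equivOfCardEq hcard
  let c : Basis (Fin m) F (κ → F) := (Pi.basisFun F κ).reindex e
  have hdiag : LinearMap.BilinForm.toMatrix b (Matrix.toBilin' G) =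
      Matrix.diagonal (fun i => Matrix.toBilin' G (b i) (b i)) := by
    ext i j
    rw [LinearMap.BilinForm.toMatrix_apply, Matrix.diagonal_apply]
    split_ifs with h
    · rw [h]
    · exact hb i j h
  have hG : LinearMap.BilinForm.toMatrix c (Matrix.toBilin' G) = G.submatrix e.symm e.symm := by
    ext i j
    rw [LinearMap.BilinForm.toMatrix_apply, Matrix.submatrix_apply]
    simp only [c, Basis.reindex_apply, Pi.basisFun_apply]
    exact Matrix.toBilin'_single G _ _
  have key := LinearMap.BilinForm.toMatrix_mul_basis_toMatrix (b := c) b (Matrix.toBilin' G)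
  have hdet := congrArg Matrix.det key
  rw [Matrix.det_mul, Matrix.det_mul, Matrix.det_transpose, hdiag, hG,
    Matrix.det_diagonal, Matrix.det_submatrix_equiv_self] at hdet
  refine ⟨(c.toMatrix b).det, ?_, ?_⟩
  · have h1 : c.toMatrix b * b.toMatrix c = 1 := Basis.toMatrix_mul_toMatrix_flip c b
    have h2 := congrArg Matrix.det h1
    rw [Matrix.det_mul, Matrix.det_one] at h2
    intro h0
    rw [h0, zero_mul] at h2
    exact zero_ne_one h2
  · rw [← hdet]; ring

/-- expansion of the norm in an orthogonal basis -/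
theorem bilin_self_eq_sum {F V ι : Type*} [Field F] [AddCommGroup V] [Module F V] [Fintype ι]
    [DecidableEq ι]
    (B : LinearMap.BilinForm F V) (b : Basis ι F V) (hb : ∀ i j, i ≠ j → B (b i) (b j) = 0)
    (v : V) : B v v = ∑ i, B (b i) (b i) * (b.repr v i) ^ 2 := by
  conv_lhs => rw [← b.sum_repr v]
  simp only [map_sum, map_smul, LinearMap.sum_apply, LinearMap.smul_apply, smul_eq_mul]
  apply Finset.sum_congr rfl
  intro k _
  rw [Finset.sum_eq_single k]
  · ring
  · intro j _ hj
    rw [hb j k hj]; ring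
  · intro h; exact absurd (Finset.mem_univ _) h

/-- an orthogonal basis gives a matrix transforming `Q` to a multiple of a weighted form -/
theorem exists_P_of_orthogonal_basis_w {κ : Type} [Fintype κ] [DecidableEq κ] {F : Type*} [Field F]
    (h2 : (2 : F) ≠ 0) (Q : (κ → F) → F) (B : LinearMap.BilinForm F (κ → F))
    (hBQ : ∀ u, B u u = 2 * Q u) (b : Basis κ F (κ → F))
    (hb : ∀ i j, i ≠ j → B (b i) (b j) = 0) (w : κ → F) (hc : ∀ i, B (b i) (b i) = w i) :
    ∃ P : Matrix.GeneralLinearGroup κ F,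
      ∀ x, Q ((P : Matrix κ κ F) *ᵥ x) = 2⁻¹ * wQ κ F w x := by
  let M : Matrix κ κ F := (Pi.basisFun F κ).toMatrix b
  have hM : ∀ x : κ → F, M *ᵥ x = ∑ k, x k • b k := by
    intro x
    funext i
    simp only [M, Matrix.mulVec, dotProduct, Basis.toMatrix_apply, Pi.basisFun_repr,
      Finset.sum_apply, Pi.smul_apply, smul_eq_mul]
    apply Finset.sum_congr rfl
    intro k _
    ring
  haveI : Invertible M := (Pi.basisFun F κ).invertibleToMatrix b
  refine ⟨unitOfInvertible M, ?_⟩
  intro x
  rw [val_unitOfInvertible, hM]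
  have hQ : Q (∑ k, x k • b k) = 2⁻¹ * B (∑ k, x k • b k) (∑ k, x k • b k) := by
    rw [hBQ]; field_simp
  rw [hQ]
  congr 1
  simp only [map_sum, map_smul, LinearMap.sum_apply, LinearMap.smul_apply, smul_eq_mul]
  unfold wQ
  apply Finset.sum_congr rfl
  intro k _
  rw [Finset.sum_eq_single k]
  · rw [hc]; ring
  · intro j _ hj
    rw [hb j k hj]; ring
  · intro h; exact absurd (Finset.mem_univ _) h

/-- `-1` lies in `Ω(Q)` when `Q` is equivalent to a multiple of the standard form in even
dimension -/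
theorem neg_one_mem_omega_of_P {κ : Type} [Fintype κ] [DecidableEq κ] [Nonempty κ]
    {F : Type*} [Field F] (Q : (κ → F) → F) (P : Matrix.GeneralLinearGroup κ F) (c : F)
    (hP : ∀ x, Q ((P : Matrix κ κ F) *ᵥ x) = c * stdQ κ F x) (heven : Even (Fintype.card κ)) :
    ∃ g : ↥(Cfsg.isometryGroup F Q), g ∈ Cfsg.Omega F Q ∧
      ((g : Matrix.GeneralLinearGroup κ F) : Matrix κ κ F) = -1 := by
  obtain ⟨i₀⟩ := ‹Nonempty κ›
  have hker : (fun _ : κ => (-1 : ℤˣ)) ∈ (prodHom κ).ker := by
    rw [MonoidHom.mem_ker]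
    show ∏ _i : κ, (-1 : ℤˣ) = 1
    rw [Finset.prod_const, Finset.card_univ]
    exact heven.neg_one_pow
  refine ⟨conjIso Q P c hP (signDW κ F (fun _ => -1)),
    map_mem_commutator _ (signDW_mem_commutator κ F i₀ _ hker), ?_⟩
  show ((P * signD κ F (fun _ => -1) * P⁻¹ : Matrix.GeneralLinearGroup κ F) : Matrix κ κ F) = -1
  rw [Units.val_mul, Units.val_mul, signD_val]
  have h1 : Matrix.diagonal (fun _ : κ => signCast F (-1)) = (-1 : Matrix κ κ F) := by
    ext i j
    by_cases h : i = j <;> simp [h, Matrix.diagonal_apply, Matrix.one_apply, signCast]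
  rw [h1, Matrix.mul_neg, Matrix.mul_one, Matrix.neg_mul, ← Units.val_mul, mul_inv_cancel]
  rfl

/-- if `-1 ∉ Ω(Q)` in even dimension then the `2`-rank of `Ω(Q)` is at most `dim - 2` -/
theorem upper_of_neg_one_not_mem {κ : Type} [Fintype κ] [DecidableEq κ] [Nonempty κ]
    {F : Type*} [Field F]
    (h2 : (2 : F) ≠ 0) (Q : (κ → F) → F) (heven : Even (Fintype.card κ))
    (hneg : ¬ ∃ g : ↥(Cfsg.isometryGroup F Q), g ∈ Cfsg.Omega F Q ∧
      ((g : Matrix.GeneralLinearGroup κ F) : Matrix κ κ F) = -1) :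
    Cfsg.PRankLE 2 (Fintype.card κ - 2) ↥(Cfsg.Omega F Q) := by
  intro A hA hA2
  let M : A → Matrix κ κ F := fun a => ((a.1.1.1 : Matrix.GeneralLinearGroup κ F) : Matrix κ κ F)
  have hMmul : ∀ a b : A, M (a * b) = M a * M b := by
    intro a b
    rfl
  have hMinj : Function.Injective M := by
    intro a b h
    exact Subtype.ext (Subtype.ext (Subtype.ext (Units.ext h)))
  have hMsq : ∀ a : A, M a * M a = 1 := by
    intro a
    have h := hA2 a.1 a.2
    rw [pow_two] at h
    have h' : a * a = 1 := Subtype.ext h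
    rw [← hMmul, h']
    rfl
  have hMcomm : ∀ a b : A, M a * M b = M b * M a := by
    intro a b
    rw [← hMmul, ← hMmul, mul_comm' a b]
  have hMdet : ∀ a : A, (M a).det = 1 := fun a => det_eq_one_of_mem_omega Q a.1
  have hno : ∀ a b : A, M a ≠ -M b := by
    intro a b h
    apply hneg
    refine ⟨(a * b).1.1, (a * b).1.2, ?_⟩
    show M (a * b) = -1
    rw [hMmul, h, Matrix.neg_mul, hMsq]
  let f : A × Bool → Matrix κ κ F := fun p => if p.2 then M p.1 else -M p.1
  have hcardeven : (-1 : F) ^ Fintype.card κ = 1 := heven.neg_one_pow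
  have key := card_mul_two_le_of_commuting_involutions_det_one h2 f
    (by
      rintro ⟨a, x⟩ ⟨b, y⟩ h
      cases x <;> cases y <;> simp only [f, if_true, if_false, Bool.false_eq_true] at h
      · rw [hMinj (neg_injective h)]
      · exact absurd h.symm (hno b a)
      · exact absurd h (hno a b)
      · rw [hMinj h])
    (by
      rintro ⟨a, x⟩ ⟨b, y⟩
      cases x <;> cases y <;>
        simp only [f, if_true, if_false, Bool.false_eq_true, Matrix.neg_mul, Matrix.mul_neg,
          hMcomm a b])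
    (by
      rintro ⟨a, x⟩
      cases x <;>
        simp only [f, if_true, if_false, Bool.false_eq_true, Matrix.neg_mul, Matrix.mul_neg,
          neg_neg, hMsq a])
    (by
      rintro ⟨a, x⟩
      cases x <;> simp only [f, if_true, if_false, Bool.false_eq_true]
      · rw [Matrix.det_neg, hMdet, hcardeven, mul_one]
      · exact hMdet a)
  have hcard : Nat.card (A × Bool) = Nat.card A * 2 := by
    rw [Nat.card_prod]; simp
  rw [hcard] at key
  have hpos : 2 ≤ Fintype.card κ := by
    have h1 : 0 < Fintype.card κ := Fintype.card_pos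
    obtain ⟨r, hr⟩ := heven
    omega
  have h2m : 2 ^ Fintype.card κ = 2 ^ (Fintype.card κ - 2) * 2 * 2 := by
    rw [mul_assoc, ← pow_two, ← pow_add]; congr 1; omega
  rw [h2m] at key
  exact Nat.le_of_mul_le_mul_right (Nat.le_of_mul_le_mul_right key (by norm_num)) (by norm_num)

/-- normal form of a nondegenerate symmetric Gram matrix over a finite field of odd
characteristic, with the discriminant dichotomy -/
theorem exists_basis_dichotomy {κ : Type} [Fintype κ] [DecidableEq κ] {F : Type*} [Field F]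
    [Fintype F] (h2 : (2 : F) ≠ 0) (G : Matrix κ κ F) (hG : G.IsSymm) (hdet : G.det ≠ 0)
    (n : ℕ) (hcard : Fintype.card κ = n + 1) :
    ∃ (α : F) (b : Basis (Fin (n + 1)) F (κ → F)), ¬ IsSquare α ∧
      (∀ i j, i ≠ j → Matrix.toBilin' G (b i) (b j) = 0) ∧
      (∀ i, i ≠ Fin.last n → Matrix.toBilin' G (b i) (b i) = 1) ∧
      ((IsSquare G.det ∧ Matrix.toBilin' G (b (Fin.last n)) (b (Fin.last n)) = 1) ∨
        (¬ IsSquare G.det ∧ Matrix.toBilin' G (b (Fin.last n)) (b (Fin.last n)) = α)) := by
  have hchar : ringChar F ≠ 2 := by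
    intro h
    apply h2
    have := ringChar.Nat.cast_ringChar (R := F)
    rw [h] at this
    exact_mod_cast this
  obtain ⟨α, hα⟩ := FiniteField.exists_nonsquare hchar
  have hS : (Matrix.toBilin' G).IsSymm := Matrix.isSymm_toBilin'_iff_isSymm.mpr hG
  have hB : (Matrix.toBilin' G).Nondegenerate :=
    LinearMap.BilinForm.nondegenerate_toBilin'_of_det_ne_zero' _ hdet
  have hfin : Module.finrank F (κ → F) = n + 1 := by
    rw [Module.finrank_fintype_fun_eq_card, hcard]
  obtain ⟨b, hb1, hb2, hb3⟩ := Cfsg.Agent.S0756.result h2 _ hS hB hfin α hα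
  obtain ⟨t, ht0, ht⟩ := disc_ratio_gram G b hb1
  rw [Fin.prod_univ_castSucc] at ht
  have e1 : ∏ i : Fin n, Matrix.toBilin' G (b i.castSucc) (b i.castSucc) = 1 := by
    apply Finset.prod_eq_one
    intro i _
    exact hb2 _ (Fin.castSucc_lt_last i).ne
  rw [e1, one_mul] at ht
  refine ⟨α, b, hα, hb1, hb2, ?_⟩
  rcases hb3 with h | h
  · left
    refine ⟨?_, h⟩
    rw [h] at ht
    refine ⟨t⁻¹, ?_⟩
    field_simp
    linear_combination -ht
  · right
    refine ⟨?_, h⟩
    rw [h] at ht
    rintro ⟨s, hs⟩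
    apply hα
    refine ⟨t * s, ?_⟩
    rw [ht, hs]; ring

theorem even_dim_main_square {κ : Type} [Fintype κ] [DecidableEq κ] {F : Type*} [Field F]
    [Fintype F] (h2 : (2 : F) ≠ 0) (Q : (κ → F) → F) (G : Matrix κ κ F) (hG : G.IsSymm)
    (hQ : ∀ u, Matrix.toBilin' G u u = 2 * Q u) (n : ℕ) (hn : Odd n)
    (hcard : Fintype.card κ = n + 1) (hdet : G.det ≠ 0) (hsq : IsSquare G.det) :
    (∃ g : ↥(Cfsg.isometryGroup F Q), g ∈ Cfsg.Omega F Q ∧
      ((g : Matrix.GeneralLinearGroup κ F) : Matrix κ κ F) = -1) ∧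
    Cfsg.PRankAtLeast 2 n ↥(Cfsg.Omega F Q) ∧ Cfsg.PRankLE 2 n ↥(Cfsg.Omega F Q) := by
  obtain ⟨α, b, hα, hb1, hb2, hb3⟩ := exists_basis_dichotomy h2 G hG hdet n hcard
  have hlast : Matrix.toBilin' G (b (Fin.last n)) (b (Fin.last n)) = 1 := by
    rcases hb3 with h | h
    · exact h.2
    · exact absurd hsq h.1
  have hne : Nonempty κ := by
    rw [← Fintype.card_pos_iff, hcard]; omega
  have hcard' : Fintype.card (Fin (n + 1)) = Fintype.card κ := by
    rw [hcard]; simp
  let e : Fin (n + 1) ≃ κ := Fintype.equivOfCardEq hcard'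
  obtain ⟨P, hP⟩ := exists_P_of_orthogonal_basis h2 Q (Matrix.toBilin' G) hQ (b.reindex e)
    (by
      intro i j hij
      simp only [Basis.reindex_apply]
      exact hb1 _ _ (fun h => hij (e.symm.injective h)))
    1 (by
      intro i
      simp only [Basis.reindex_apply]
      by_cases hi : e.symm i = Fin.last n
      · rw [hi]; exact hlast
      · exact hb2 _ hi)
  have heven : Even (Fintype.card κ) := by
    rw [hcard]; exact hn.add_one
  refine ⟨neg_one_mem_omega_of_P Q P _ hP heven, ?_, ?_⟩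
  · obtain ⟨A, hA1, hA2, hA3⟩ := exists_elementary_abelian_omega h2 Q P _ hP
    refine ⟨A, hA1, hA2, ?_⟩
    have : Fintype.card κ - 1 = n := by rw [hcard]; omega
    rw [this] at hA3
    exact hA3
  · have := upper_general h2 Q
    have hc : Fintype.card κ - 1 = n := by rw [hcard]; omega
    rw [hc] at this
    exact this

theorem even_dim_main_nonsquare {κ : Type} [Fintype κ] [DecidableEq κ] {F : Type*} [Field F]
    [Fintype F] (h2 : (2 : F) ≠ 0) (Q : (κ → F) → F) (G : Matrix κ κ F) (hG : G.IsSymm)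
    (hQ : ∀ u, Matrix.toBilin' G u u = 2 * Q u) (n : ℕ) (hn : Odd n)
    (hcard : Fintype.card κ = n + 1) (hnsq : ¬ IsSquare G.det) :
    (¬ ∃ g : ↥(Cfsg.isometryGroup F Q), g ∈ Cfsg.Omega F Q ∧
      ((g : Matrix.GeneralLinearGroup κ F) : Matrix κ κ F) = -1) ∧
    Cfsg.PRankAtLeast 2 (n - 1) ↥(Cfsg.Omega F Q) ∧ Cfsg.PRankLE 2 (n - 1) ↥(Cfsg.Omega F Q) := by
  classical
  have hdet : G.det ≠ 0 := by
    intro h
    apply hnsq
    rw [h]
    exact ⟨0, by simp⟩
  obtain ⟨α, b, hα, hb1, hb2, hb3⟩ := exists_basis_dichotomy h2 G hG hdet n hcard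
  have hlast : Matrix.toBilin' G (b (Fin.last n)) (b (Fin.last n)) = α := by
    rcases hb3 with h | h
    · exact absurd h.1 hnsq
    · exact h.2
  have hne : Nonempty κ := by
    rw [← Fintype.card_pos_iff, hcard]; omega
  have hcard' : Fintype.card (Fin (n + 1)) = Fintype.card κ := by
    rw [hcard]; simp
  have heven : Even (Fintype.card κ) := by
    rw [hcard]; exact hn.add_one
  have hn1 : 1 ≤ n := by
    obtain ⟨r, hr⟩ := hn; omega
  -- the sign character
  have hQ0 : Q 0 = 0 := by
    have := hQ 0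
    simp only [map_zero, LinearMap.zero_apply] at this
    rcases mul_eq_zero.mp this.symm with h | h
    · exact absurd h h2
    · exact h
  have hX : Nat.card {v : κ → F // Q v = 2⁻¹} % 4 = 2 := by
    let w' : Fin (n + 1) → F := fun i => Matrix.toBilin' G (b i) (b i)
    have hbij : Nat.card {v : κ → F // Q v = 2⁻¹} =
        Nat.card {y : Fin (n + 1) → F // ∑ i, w' i * y i ^ 2 = 1} := by
      apply Nat.card_congr
      refine Equiv.subtypeEquiv b.equivFun.toEquiv ?_
      intro v
      have h3 := bilin_self_eq_sum (Matrix.toBilin' G) b hb1 v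
      rw [hQ] at h3
      simp only [LinearEquiv.coe_toEquiv, Basis.equivFun_apply]
      rw [← h3]
      constructor
      · intro h; rw [h]; field_simp
      · intro h
        field_simp
        linear_combination h
    rw [hbij, card_eq_cnt]
    exact cnt_special h2 n hn w' α hα (fun i hi => hb2 i hi) hlast
  have hneg := neg_one_not_mem_omega h2 Q 2⁻¹ (by rw [hQ0]; exact (inv_ne_zero h2).symm) hX
  refine ⟨hneg, ?_, ?_⟩
  · let e : Fin (n + 1) ≃ κ := Fintype.equivOfCardEq hcard'
    let w : κ → F := fun k => Matrix.toBilin' G (b (e.symm k)) (b (e.symm k))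
    obtain ⟨P, hP⟩ := exists_P_of_orthogonal_basis_w h2 Q (Matrix.toBilin' G) hQ (b.reindex e)
      (by
        intro i j hij
        simp only [Basis.reindex_apply]
        exact hb1 _ _ (fun h => hij (e.symm.injective h)))
      w (by
        intro i
        simp only [Basis.reindex_apply, w])
    have h0l : (0 : Fin (n + 1)) ≠ Fin.last n := by
      intro h
      have := congrArg Fin.val h
      simp at this
      omega
    obtain ⟨A, hA1, hA2, hA3⟩ := exists_elementary_abelian_omega_w h2 Q P _ w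
      (e (Fin.last n)) (e 0) (fun h => h0l (e.injective h))
      (by
        intro k hk
        have hk' : e.symm k ≠ Fin.last n := by
          intro h
          apply hk
          rw [← h]; simp
        simp only [w, Equiv.symm_apply_apply]
        rw [hb2 _ hk', hb2 _ h0l])
      hP
    refine ⟨A, hA1, hA2, ?_⟩
    have : Fintype.card κ - 2 = n - 1 := by rw [hcard]; omega
    rw [this] at hA3
    exact hA3
  · have := upper_of_neg_one_not_mem h2 Q heven hneg
    have hc : Fintype.card κ - 2 = n - 1 := by rw [hcard]; omega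
    rw [hc] at this
    exact this

end Cfsg.Agent.Lib.Helper37
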