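import Mathlib

/-!
# S2720 / S2721 hive (class fusion of semisimple elements of odd prime order in `PΩ^±`): definitions

Abstract setting: a finite dimensional space `V` over a field `F` of characteristic `≠ 2` with a
symmetric nondegenerate bilinear form `B` (all hypotheses spelled out as explicit `∀` statements),
an isometry `a` with `a ^ n = 1`, `n` odd and invertible in `F`.
-/

set_option autoImplicit false

namespace Cfsg.Agent.Lib.Helper37.Fus

variable {F : Type*} [Field F] {V : Type*} [AddCommGroup V] [Module F V]

/-- the reflection `x ↦ x - (2 B(v,x) / B(v,v)) v` (the identity if `B v v = 0`) -/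
noncomputable def rfl (B : LinearMap.BilinForm F V) (v : V) : V →ₗ[F] V :=
  LinearMap.id - (2 * (B v v)⁻¹) • (B v).smulRight v

theorem rfl_apply (B : LinearMap.BilinForm F V) (v x : V) :
    rfl B v x = x - (2 * (B v v)⁻¹ * B v x) • v := by
  unfold rfl
  simp [LinearMap.smulRight_apply, smul_smul]

end Cfsg.Agent.Lib.Helper37.Fus
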