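import Mathlib

/-!
# Local balance for `PΩ⁻` (S2733): abstract definitions shared by the leaves
-/

set_option autoImplicit false

namespace Cfsg.Agent.Lib.Helper37.MBal

universe u v

/-- the abstract statement: odd-order (mod `±1`) normal subgroups of `O(V,B)` are central
(verbatim copy of `Cfsg.Agent.Lib.Helper5.Bal.OrthP`) -/
def OrthQ (K : Type u) [Field K] (V : Type v) [AddCommGroup V] [Module K V]
    (B : LinearMap.BilinForm K V) : Prop :=
  ∀ N : Subgroup (V ≃ₗ[K] V),
    (∀ f ∈ N, ∀ u w, B (f u) (f w) = B u w) →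
    (∀ h : V ≃ₗ[K] V, (∀ u w, B (h u) (h w) = B u w) → ∀ f ∈ N, h * f * h⁻¹ ∈ N) →
    (∀ f ∈ N, ∃ k : ℕ, Odd k ∧ (f ^ k = 1 ∨ f ^ k = LinearEquiv.neg K)) →
    ∀ f ∈ N, f = 1 ∨ f = LinearEquiv.neg K

variable {K : Type u} [Field K] {V : Type v} [AddCommGroup V] [Module K V]

/-- the reflection in `u` as a linear map (the identity if `B u u = 0`) -/
noncomputable def reflL (B : LinearMap.BilinForm K V) (u : V) : V →ₗ[K] V :=
  LinearMap.id - (B.flip u).smulRight ((2 * (B u u)⁻¹) • u)

theorem reflL_apply (B : LinearMap.BilinForm K V) (u x : V) :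
    reflL B u x = x - (B x u) • ((2 * (B u u)⁻¹) • u) := by
  simp [reflL, LinearMap.smulRight_apply]

theorem reflL_reflL (B : LinearMap.BilinForm K V) (u x : V) : reflL B u (reflL B u x) = x := by
  rw [reflL_apply, reflL_apply]
  by_cases hu : B u u = 0
  · simp [hu]
  · have h1 : B (x - (B x u) • ((2 * (B u u)⁻¹) • u)) u = - B x u := by
      simp only [map_sub, map_smul, LinearMap.sub_apply, LinearMap.smul_apply, smul_eq_mul]
      field_simp
      ring
    rw [h1]
    module

/-- the reflection in `u` as a linear equivalence -/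
noncomputable def reflE (B : LinearMap.BilinForm K V) (u : V) : V ≃ₗ[K] V :=
  LinearEquiv.ofInvolutive (reflL B u) (reflL_reflL B u)

theorem reflE_apply (B : LinearMap.BilinForm K V) (u x : V) :
    reflE B u x = x - (B x u) • ((2 * (B u u)⁻¹) • u) := reflL_apply B u x

end Cfsg.Agent.Lib.Helper37.MBal
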