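import Mathlib
import Cfsg.Agent.Lib.Helper37.OrthField7

set_option autoImplicit false
set_option linter.unusedSectionVars false
set_option linter.unusedVariables false

/-!
# The odd-dimensional orthogonal groups: field automorphisms
-/

namespace Cfsg.Agent.Lib.Helper37.OrthField

open Matrix Module QuadraticMap
open Cfsg.Agent.Lib.Helper37 Cfsg.Agent.Lib.Helper43
open Cfsg.Agent.Lib.Helper8 Cfsg.Agent.Lib.Helper13

universe u

variable {F : Type u} [Field F]

theorem odd_hypFam' (m : ℕ) (F : Type*) [Field F] :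
    HypFam (oddForm m F) m (fun i => Pi.single (Sum.inr (Sum.inl i)) 1)
      (fun i => Pi.single (Sum.inr (Sum.inr i)) 1) :=
  let h := odd_family m F
  ⟨h.qe, h.qf, h.ee, h.ff, h.ef⟩

theorem two_ne_zero_of_odd [Fintype F] (hodd : Odd (Fintype.card F)) : (2 : F) ≠ 0 := by
  intro h
  have h2 : ringChar F ∣ 2 := by
    have := (CharP.cast_eq_zero_iff F (ringChar F) 2).mp (by exact_mod_cast h)
    exact this
  have hp : (ringChar F).Prime := CharP.char_is_prime F (ringChar F)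
  have h3 : ringChar F = 2 := (Nat.prime_dvd_prime_iff_eq hp Nat.prime_two).mp h2
  have := FiniteField.even_card_of_char_two h3
  rw [Nat.odd_iff] at hodd
  omega

theorem odd_nondeg (m : ℕ) (h2 : (2 : F) ≠ 0) :
    (QuadraticMap.polarBilin (oddForm m F)).Nondegenerate :=
  (odd_family m F).nondegenerate (sq_nondegenerate F h2)

theorem odd_finrank (m : ℕ) : finrank F (Unit ⊕ (Fin m ⊕ Fin m) → F) = 2 * m + 1 := by
  rw [Module.finrank_fintype_fun_eq_card]
  simp only [Fintype.card_sum, Fintype.card_fin, Fintype.card_unit]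
  omega

theorem quadFormOdd_map {F₀ : Type*} [Field F₀] (j : F₀ →+* F) (m : ℕ)
    (w : Unit ⊕ (Fin m ⊕ Fin m) → F₀) :
    j (Cfsg.quadFormOdd m F₀ w) = Cfsg.quadFormOdd m F (jv j w) := by
  simp [Cfsg.quadFormOdd, jv, map_add, map_pow, map_sum, map_mul]

theorem odd_inv (m : ℕ) (σ : F ≃+* F) (v : Unit ⊕ (Fin m ⊕ Fin m) → F) :
    oddForm m F (vm σ v) = σ (oddForm m F v) := by
  have h := quadFormOdd_map (σ : F →+* F) m v
  rw [oddForm_coe] at h
  exact h.symm

theorem odd_hcls [Finite F] (m : ℕ) (h2 : (2 : F) ≠ 0) (σ : F ≃+* F) : Hcls (oddForm m F) σ := by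
  intro F₁ hF₁
  refine ⟨oddForm m F₁, ?_, ?_⟩
  · intro w
    have h := quadFormOdd_map F₁.subtype m w
    rw [oddForm_coe, oddForm_coe] at h
    exact h
  · intro P₀ b μ hrel
    have hnd := nondeg_of_rel F₁.subtype (oddForm m F) (odd_nondeg m h2) P₀ b μ hrel
    obtain ⟨k₀, l, hk⟩ := hcls_odd m P₀ hnd
    refine ⟨k₀, l, fun w => ?_⟩
    rw [hk, oddForm_coe]

theorem inndiagOdd_eq (m : ℕ) :
    Cfsg.inndiagPOmegaOdd m F = (Phi (Cfsg.quadFormOdd m F)).range :=
  pgoAut_eq (Cfsg.quadFormOdd m F)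

/-- coset conjugacy for the odd-dimensional orthogonal groups, given the automorphism theorem -/
theorem odd_coset_conj [Fintype F] (hodd : Odd (Fintype.card F)) {m : ℕ} (hm : 3 ≤ m)
    (hAut : ∀ α : MulAut (Cfsg.POmega F (Cfsg.quadFormOdd m F)),
      ∃ (g : GL (Unit ⊕ (Fin m ⊕ Fin m)) F) (σ : F ≃+* F),
        Cfsg.IsSemisimilarityPair (Cfsg.quadFormOdd m F) g σ ∧
        Cfsg.IsInducedBySemilinearPOmega (Cfsg.quadFormOdd m F) g σ α)
    (x δ : MulAut (Cfsg.POmega F (Cfsg.quadFormOdd m F)))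
    (hx : Cfsg.IsFieldAutClassPOmega (Cfsg.quadFormOdd m F) x) {r : ℕ} (hr : r.Prime)
    (hxr : orderOf x = r) (hδ : δ ∈ Cfsg.inndiagPOmegaOdd m F) :
    orderOf (δ * x) = r ↔ Cfsg.IsConjUnder (Cfsg.inndiagPOmegaOdd m F) x (δ * x) := by
  have h2 := two_ne_zero_of_odd hodd
  rw [inndiagOdd_eq] at hδ ⊢
  have key : ∀ (Qf : (Unit ⊕ (Fin m ⊕ Fin m) → F) → F), Qf = ⇑(oddForm m F) →
      (∀ α : MulAut (Cfsg.POmega F Qf),
        ∃ (g : GL (Unit ⊕ (Fin m ⊕ Fin m)) F) (σ : F ≃+* F),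
          Cfsg.IsSemisimilarityPair Qf g σ ∧ Cfsg.IsInducedBySemilinearPOmega Qf g σ α) →
      ∀ (x δ : MulAut (Cfsg.POmega F Qf)), Cfsg.IsFieldAutClassPOmega Qf x → orderOf x = r →
        δ ∈ (Phi Qf).range →
        (orderOf (δ * x) = r ↔ Cfsg.IsConjUnder (Phi Qf).range x (δ * x)) := by
    intro Qf hQf
    subst hQf
    intro hAut x δ hx hxr hδ
    have hn : finrank F (Unit ⊕ (Fin m ⊕ Fin m) → F) = 2 * m + 1 := odd_finrank m
    exact coset_conj_all (oddForm m F) (odd_nondeg m h2) (odd_hypFam' m F) hm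
      (Or.inr (by rw [hn]; omega)) (by rw [hn]; omega) (fun h => absurd h h2)
      (autSemi_of_raw _ hAut) (fun σ v => odd_inv m σ v) (fun σ => odd_hcls m h2 σ)
      x δ hx hr hxr hδ
  exact key _ (oddForm_coe m F) hAut x δ hx hxr hδ

end Cfsg.Agent.Lib.Helper37.OrthField
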