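import Mathlib
import Cfsg.Prelude.Def_ClassicalGeometry
import Cfsg.Prelude.Def_GeometricClasses
import Cfsg.Agent.Lib.Helper59.TqDefs
import Cfsg.Agent.Lib.Helper37.SpinorNorm

/-! # Tq hive (helper59), chunk TQ-TWODER (helper37): the abstract core

An isometry `x` with `x² = -1` built as a product of reflections over `n` orthogonal planes
`⟨v_j, w_j⟩` with `Q v_j = Q w_j`: it lies in `Ω` as soon as `n` is even or `2` is a square, and (if
`-1` is a nonsquare) all its invariant subspaces have even dimension. -/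

set_option autoImplicit false

namespace Cfsg.Agent.Lib.Helper59.Tq

open Module Matrix Cfsg.Agent.Lib.Helper37

section core

variable {κ : Type} [Fintype κ] [DecidableEq κ] {F : Type*} [Field F]
  {Q : (κ → F) → F} {G : Matrix κ κ F}

/-- the list of reflection vectors attached to a list of pairs -/
def twoder_vs : List ((κ → F) × (κ → F)) → List (κ → F)
  | [] => []
  | a :: L => a.1 :: (a.1 - a.2) :: twoder_vs L

/-- the matrix attached to a list of pairs -/
noncomputable def twoder_M (Q : (κ → F) → F) (L : List ((κ → F) × (κ → F))) : Matrix κ κ F :=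
  ((twoder_vs L).map (fun v => Cfsg.reflectionMatrix Q v)).prod

theorem twoder_M_nil : twoder_M Q ([] : List ((κ → F) × (κ → F))) = 1 := by
  simp [twoder_M, twoder_vs]

theorem twoder_M_cons (a : (κ → F) × (κ → F)) (L : List ((κ → F) × (κ → F))) :
    twoder_M Q (a :: L) =
      Cfsg.reflectionMatrix Q a.1 * (Cfsg.reflectionMatrix Q (a.1 - a.2) * twoder_M Q L) := by
  simp [twoder_M, twoder_vs, mul_assoc]

theorem twoder_length (L : List ((κ → F) × (κ → F))) : (twoder_vs L).length = 2 * L.length := by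
  induction L with
  | nil => rfl
  | cons a L ih => simp [twoder_vs, ih]; omega

/-- the good pairs -/
def twoder_Good (Q : (κ → F) → F) (G : Matrix κ κ F) (a : (κ → F) × (κ → F)) : Prop :=
  Q a.2 = Q a.1 ∧ Q a.1 ≠ 0 ∧ Matrix.toBilin' G a.1 a.2 = 0

/-- orthogonality of a vector to a pair -/
def twoder_Orth (G : Matrix κ κ F) (x : κ → F) (a : (κ → F) × (κ → F)) : Prop :=
  Matrix.toBilin' G a.1 x = 0 ∧ Matrix.toBilin' G a.2 x = 0

theorem twoder_Q_sub (h : IsGram Q G) {a : (κ → F) × (κ → F)} (ha : twoder_Good Q G a) :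
    Q (a.1 - a.2) = 2 * Q a.1 := by
  rw [h.Q_sub, ha.1, ha.2.2]; ring

theorem twoder_pair_fix (h : IsGram Q G) (a : (κ → F) × (κ → F)) (x : κ → F)
    (hx : twoder_Orth G x a) :
    Cfsg.reflectionMatrix Q a.1 *ᵥ (Cfsg.reflectionMatrix Q (a.1 - a.2) *ᵥ x) = x := by
  have h1 : Cfsg.reflectionMatrix Q (a.1 - a.2) *ᵥ x = x := by
    rw [h.refl_mulVec]
    simp only [map_sub, LinearMap.sub_apply, hx.1, hx.2]
    simp
  rw [h1, h.refl_mulVec, hx.1]
  simp

theorem twoder_pair_fst (h : IsGram Q G) {a : (κ → F) × (κ → F)} (ha : twoder_Good Q G a) :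
    Cfsg.reflectionMatrix Q a.1 *ᵥ (Cfsg.reflectionMatrix Q (a.1 - a.2) *ᵥ a.1) = a.2 := by
  obtain ⟨h1, h2, h3⟩ := ha
  have hs : Matrix.toBilin' G a.2 a.1 = 0 := by rw [h.symmB]; exact h3
  have e1 : Cfsg.reflectionMatrix Q (a.1 - a.2) *ᵥ a.1 = a.2 := by
    rw [h.refl_mulVec, twoder_Q_sub h ⟨h1, h2, h3⟩]
    simp only [map_sub, LinearMap.sub_apply, hs, h.self a.1]
    have : (2 * Q a.1)⁻¹ * (2 * Q a.1 - 0) = 1 := by
      rw [sub_zero]
      exact inv_mul_cancel₀ (mul_ne_zero h.two_ne h2)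
    rw [this, one_smul]
    abel
  rw [e1, h.refl_mulVec, h3]
  simp

theorem twoder_pair_snd (h : IsGram Q G) {a : (κ → F) × (κ → F)} (ha : twoder_Good Q G a) :
    Cfsg.reflectionMatrix Q a.1 *ᵥ (Cfsg.reflectionMatrix Q (a.1 - a.2) *ᵥ a.2) = -a.1 := by
  obtain ⟨h1, h2, h3⟩ := ha
  have e1 : Cfsg.reflectionMatrix Q (a.1 - a.2) *ᵥ a.2 = a.1 := by
    rw [h.refl_mulVec, twoder_Q_sub h ⟨h1, h2, h3⟩]
    simp only [map_sub, LinearMap.sub_apply, h3, h.self a.2, h1]
    have : (2 * Q a.1)⁻¹ * (0 - 2 * Q a.1) = -1 := by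
      rw [zero_sub, mul_neg, inv_mul_cancel₀ (mul_ne_zero h.two_ne h2)]
    rw [this, neg_one_smul]
    abel
  rw [e1, h.refl_mulVec, h.self a.1]
  have : (Q a.1)⁻¹ * (2 * Q a.1) = 2 := by
    field_simp
  rw [this, two_smul]
  abel

/-- a vector orthogonal to all pairs is fixed -/
theorem twoder_M_fix (h : IsGram Q G) (L : List ((κ → F) × (κ → F))) (x : κ → F)
    (hx : ∀ a ∈ L, twoder_Orth G x a) : twoder_M Q L *ᵥ x = x := by
  induction L with
  | nil => rw [twoder_M_nil, Matrix.one_mulVec]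
  | cons a L ih =>
    rw [twoder_M_cons, ← Matrix.mulVec_mulVec, ← Matrix.mulVec_mulVec,
      ih (fun b hb => hx b (List.mem_cons_of_mem _ hb))]
    exact twoder_pair_fix h a x (hx a List.mem_cons_self)

/-- mutual orthogonality of two pairs -/
def twoder_Perp (G : Matrix κ κ F) (a b : (κ → F) × (κ → F)) : Prop :=
  twoder_Orth G b.1 a ∧ twoder_Orth G b.2 a ∧ twoder_Orth G a.1 b ∧ twoder_Orth G a.2 b

/-- the action on the pairs -/
theorem twoder_M_act (h : IsGram Q G) (L : List ((κ → F) × (κ → F)))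
    (hg : ∀ a ∈ L, twoder_Good Q G a) (hp : L.Pairwise (twoder_Perp G)) :
    ∀ a ∈ L, twoder_M Q L *ᵥ a.1 = a.2 ∧ twoder_M Q L *ᵥ a.2 = -a.1 := by
  induction L with
  | nil => intro a ha; simp at ha
  | cons b L ih =>
    intro a ha
    rw [List.pairwise_cons] at hp
    rw [twoder_M_cons, ← Matrix.mulVec_mulVec, ← Matrix.mulVec_mulVec, ← Matrix.mulVec_mulVec,
      ← Matrix.mulVec_mulVec]
    rcases List.mem_cons.mp ha with rfl | ha'
    · have f1 : twoder_M Q L *ᵥ a.1 = a.1 :=
        twoder_M_fix h L a.1 (fun c hc => (hp.1 c hc).2.2.1)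
      have f2 : twoder_M Q L *ᵥ a.2 = a.2 :=
        twoder_M_fix h L a.2 (fun c hc => (hp.1 c hc).2.2.2)
      rw [f1, f2]
      exact ⟨twoder_pair_fst h (hg a List.mem_cons_self),
        twoder_pair_snd h (hg a List.mem_cons_self)⟩
    · obtain ⟨i1, i2⟩ := ih (fun c hc => hg c (List.mem_cons_of_mem _ hc)) hp.2 a ha'
      rw [i1, i2]
      have hpa := hp.1 a ha'
      refine ⟨twoder_pair_fix h b a.2 hpa.2.1, ?_⟩
      rw [Matrix.mulVec_neg, Matrix.mulVec_neg, twoder_pair_fix h b a.1 hpa.1]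

theorem twoder_vs_ne (h : IsGram Q G) (L : List ((κ → F) × (κ → F)))
    (hg : ∀ a ∈ L, twoder_Good Q G a) : ∀ v ∈ twoder_vs L, Q v ≠ 0 := by
  induction L with
  | nil => intro v hv; simp [twoder_vs] at hv
  | cons a L ih =>
    intro v hv
    simp only [twoder_vs, List.mem_cons] at hv
    have ha := hg a List.mem_cons_self
    rcases hv with rfl | rfl | hv
    · exact ha.2.1
    · rw [twoder_Q_sub h ha]
      exact mul_ne_zero h.two_ne ha.2.1
    · exact ih (fun c hc => hg c (List.mem_cons_of_mem _ hc)) v hv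

/-- the product of the norms -/
theorem twoder_norm_prod (h : IsGram Q G) (L : List ((κ → F) × (κ → F)))
    (hg : ∀ a ∈ L, twoder_Good Q G a) :
    ((twoder_vs L).map (fun v => Q v)).prod = 2 ^ L.length * ((L.map (fun a => Q a.1)).prod) ^ 2 := by
  induction L with
  | nil => simp [twoder_vs]
  | cons a L ih =>
    simp only [twoder_vs, List.map_cons, List.prod_cons, List.length_cons]
    rw [ih (fun c hc => hg c (List.mem_cons_of_mem _ hc)), twoder_Q_sub h (hg a List.mem_cons_self)]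
    ring

end core

section rot

variable {κ : Type} [Fintype κ] [DecidableEq κ] {F : Type*} [Field F] [Fintype F]

/-- invariant subspaces of an endomorphism with square `-1` have even dimension when `-1` is not a
square -/
theorem twoder_even_finrank (hm1 : ¬ IsSquare (-1 : F)) (f : (κ → F) →ₗ[F] (κ → F))
    (hf : ∀ u, f (f u) = -u) (W : Submodule F (κ → F)) (hW : W.map f ≤ W) :
    Even (finrank F W) := by
  by_contra hodd
  rw [Nat.not_even_iff_odd] at hodd
  have hW' : ∀ x ∈ W, f x ∈ W := fun x hx => hW (Submodule.mem_map_of_mem hx)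
  set f' : W →ₗ[F] W := f.restrict hW' with hf'
  have h1 : f' * f' = (-1 : F) • (1 : W →ₗ[F] W) := by
    apply LinearMap.ext
    intro u
    apply Subtype.ext
    simp [hf', LinearMap.restrict_apply, hf]
  have h2 := congrArg LinearMap.det h1
  rw [map_mul, LinearMap.det_smul, map_one, mul_one, hodd.neg_one_pow] at h2
  exact hm1 ⟨LinearMap.det f', h2.symm⟩

theorem twoder_rot (QF : QuadraticForm F (κ → F)) (h2 : (2 : F) ≠ 0) (hm1 : ¬ IsSquare (-1 : F))
    (n : ℕ) (hn : 0 < n) (v w : Fin n → κ → F)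
    (hQ : ∀ j, QF (w j) = QF (v j)) (hne : ∀ j, QF (v j) ≠ 0)
    (hvw : ∀ j j', QuadraticMap.polar ⇑QF (v j) (w j') = 0)
    (hvv : ∀ j j', j ≠ j' → QuadraticMap.polar ⇑QF (v j) (v j') = 0)
    (hww : ∀ j j', j ≠ j' → QuadraticMap.polar ⇑QF (w j) (w j') = 0)
    (hspan : Submodule.span F (Set.range v ∪ Set.range w) = ⊤)
    (hsq : Even n ∨ IsSquare (2 : F)) :
    ∃ x : GL κ F, x ∈ Cfsg.Geo.omegaGL ⇑QF ∧
      ((x ^ 2 : GL κ F) : Matrix κ κ F) = (-1 : F) • (1 : Matrix κ κ F) ∧ NonScalar x ∧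
      ∀ W : Submodule F (κ → F), W.map (Matrix.toLin' (x : Matrix κ κ F)) ≤ W →
        Even (finrank F W) := by
  classical
  have h := isGram_of_quadraticForm h2 QF
  set G : Matrix κ κ F := Matrix.of (fun i j : κ =>
      QuadraticMap.polar ⇑QF (Pi.single i 1) (Pi.single j 1)) with hG
  have hpol : ∀ a b : κ → F, Matrix.toBilin' G a b = QuadraticMap.polar ⇑QF a b :=
    fun a b => (h.polar_eq a b).symm
  set L : List ((κ → F) × (κ → F)) := List.ofFn (fun j => (v j, w j)) with hL
  have hLlen : L.length = n := by rw [hL, List.length_ofFn]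
  have hmemL : ∀ a ∈ L, ∃ j, a = (v j, w j) := by
    intro a ha
    rw [hL, List.mem_ofFn] at ha
    obtain ⟨j, rfl⟩ := ha
    exact ⟨j, rfl⟩
  have hLmem : ∀ j, (v j, w j) ∈ L := by
    intro j
    rw [hL, List.mem_ofFn]
    exact ⟨j, rfl⟩
  have hwv : ∀ j j', QuadraticMap.polar ⇑QF (w j) (v j') = 0 := fun j j' => by
    rw [QuadraticMap.polar_comm]; exact hvw j' j
  have hg : ∀ a ∈ L, twoder_Good ⇑QF G a := by
    intro a ha
    obtain ⟨j, rfl⟩ := hmemL a ha
    exact ⟨hQ j, hne j, by rw [hpol]; exact hvw j j⟩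
  have hp : L.Pairwise (twoder_Perp G) := by
    rw [hL, List.pairwise_ofFn]
    intro i j hij
    have hne' : i ≠ j := ne_of_lt hij
    refine ⟨⟨?_, ?_⟩, ⟨?_, ?_⟩, ⟨?_, ?_⟩, ⟨?_, ?_⟩⟩ <;> simp only [hpol]
    · exact hvv i j hne'
    · exact hwv i j
    · exact hvw i j
    · exact hww i j hne'
    · exact hvv j i hne'.symm
    · exact hwv j i
    · exact hvw j i
    · exact hww j i hne'.symm
  set M : Matrix κ κ F := twoder_M ⇑QF L with hM
  have hvs := twoder_vs_ne h L hg
  set g : ↥(Cfsg.isometryGroup F ⇑QF) := ((twoder_vs L).map h.reflG').prod with hgdef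
  have hgM : ((g : Matrix.GeneralLinearGroup κ F) : Matrix κ κ F) = M := h.toMat_list _ hvs
  have hΩ : g ∈ Cfsg.Omega F ⇑QF := by
    rw [mem_omega_iff h g (twoder_vs L) hvs hgM]
    refine ⟨?_, ?_⟩
    · rw [twoder_length]; exact even_two_mul _
    · rw [twoder_norm_prod h L hg, hLlen]
      apply IsSquare.mul
      · rcases hsq with he | hs
        · exact he.isSquare_pow _
        · exact hs.pow _
      · exact IsSquare.sq _
  have hact : ∀ j, M *ᵥ v j = w j ∧ M *ᵥ w j = -v j := fun j =>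
    twoder_M_act h L hg hp (v j, w j) (hLmem j)
  have hMM : ∀ u : κ → F, M *ᵥ (M *ᵥ u) = -u := by
    intro u
    have hu : u ∈ Submodule.span F (Set.range v ∪ Set.range w) := by rw [hspan]; trivial
    induction hu using Submodule.span_induction with
    | mem x hx =>
      rcases hx with ⟨j, rfl⟩ | ⟨j, rfl⟩
      · rw [(hact j).1, (hact j).2]
      · rw [(hact j).2, Matrix.mulVec_neg, (hact j).1]
    | zero => simp
    | add x y _ _ hx hy => rw [Matrix.mulVec_add, Matrix.mulVec_add, hx, hy, neg_add]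
    | smul c x _ hx => rw [Matrix.mulVec_smul, Matrix.mulVec_smul, hx, smul_neg]
  refine ⟨(g : Matrix.GeneralLinearGroup κ F), ⟨g, hΩ, rfl⟩, ?_, ?_, ?_⟩
  · rw [Units.val_pow_eq_pow_val, hgM, sq]
    apply Matrix.mulVec_injective
    funext u
    rw [← Matrix.mulVec_mulVec, hMM, Matrix.smul_mulVec, Matrix.one_mulVec, neg_one_smul]
  · intro z hz
    rw [hgM] at hz
    set j0 : Fin n := ⟨0, hn⟩
    have e1 := (hact j0).1
    rw [hz, Matrix.smul_mulVec, Matrix.one_mulVec] at e1
    have e2 := hvw j0 j0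
    rw [← e1, QuadraticMap.polar_smul_right, QuadraticMap.polar_self, smul_eq_mul] at e2
    have hz0 : z = 0 := by
      rcases mul_eq_zero.mp e2 with h' | h'
      · exact h'
      · rw [two_smul, ← two_mul] at h'
        exact absurd h' (mul_ne_zero h2 (hne j0))
    have e3 := hQ j0
    rw [← e1, hz0, zero_smul, map_zero] at e3
    exact hne j0 e3.symm
  · intro W hW
    rw [hgM] at hW
    apply twoder_even_finrank hm1 (Matrix.toLin' M) _ W hW
    intro u
    rw [Matrix.toLin'_apply, Matrix.toLin'_apply]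
    exact hMM u

end rot

section fam

variable {F : Type*} [Field F]

/-- a plane family for a function `Q` on `κ → F`, indexed by `J`: `d` pairwise orthogonal planes
`⟨v j, w j⟩` with orthogonal bases of equal nonzero norm, spanning the space -/
structure twoder_Fam {κ : Type} [Fintype κ] (Q : (κ → F) → F) {J : Type} (v w : J → κ → F) :
    Prop where
  hQ : ∀ j, Q (w j) = Q (v j)
  hne : ∀ j, Q (v j) ≠ 0
  hvw : ∀ j j', QuadraticMap.polar Q (v j) (w j') = 0
  hvv : ∀ j j', j ≠ j' → QuadraticMap.polar Q (v j) (v j') = 0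
  hww : ∀ j j', j ≠ j' → QuadraticMap.polar Q (w j) (w j') = 0
  hspan : Submodule.span F (Set.range v ∪ Set.range w) = ⊤

end fam

end Cfsg.Agent.Lib.Helper59.Tq
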