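import Cfsg.Agent.Lib.Helper37.Eichler

set_option autoImplicit false
set_option linter.unusedSectionVars false
set_option linter.unusedVariables false
set_option linter.unnecessarySeqFocus false

namespace Cfsg.Agent.Lib.Helper37

open Matrix Module QuadraticMap
open Cfsg.Agent.Lib.Helper8 Cfsg.Agent.Lib.Helper13

variable {ι : Type} [Fintype ι] [DecidableEq ι] {F : Type*} [Field F]

/-- the Eichler transformation as a linear equivalence -/
def eichlerEquiv (Q : QuadraticForm F (ι → F)) (u v : ι → F) (hu : Q u = 0)
    (huv : polar ⇑Q u v = 0) : (ι → F) ≃ₗ[F] (ι → F) :=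
  LinearEquiv.ofLinearMap (eichlerLin Q u v) (eichlerLin Q u (-v))
    (by
      apply LinearMap.ext
      intro x
      rw [LinearMap.comp_apply, eichler_comp Q u v (-v) x hu huv (by rw [polar_neg_right, huv, neg_zero]),
        add_neg_cancel, eichler_zero]
      rfl)
    (by
      apply LinearMap.ext
      intro x
      rw [LinearMap.comp_apply, eichler_comp Q u (-v) v x hu (by rw [polar_neg_right, huv, neg_zero]) huv,
        neg_add_cancel, eichler_zero]
      rfl)

theorem eichlerEquiv_apply (Q : QuadraticForm F (ι → F)) (u v : ι → F) (hu : Q u = 0)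
    (huv : polar ⇑Q u v = 0) (x : ι → F) :
    eichlerEquiv Q u v hu huv x = eichlerLin Q u v x := rfl

/-- the Eichler transformation as an element of the isometry group -/
noncomputable def eichler (Q : QuadraticForm F (ι → F)) (u v : ι → F) (hu : Q u = 0)
    (huv : polar ⇑Q u v = 0) : ↥(Cfsg.isometryGroup F ⇑Q) :=
  isoOfEquiv Q (eichlerEquiv Q u v hu huv) (fun x => by
    rw [eichlerEquiv_apply]; exact Q_eichler Q u v x hu huv)

theorem act_sub (Q : QuadraticForm F (ι → F)) (z : ↥(Cfsg.isometryGroup F ⇑Q)) (x y : ι → F) :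
    act Q z (x - y) = act Q z x - act Q z y := Matrix.mulVec_sub _ _ _

theorem act_neg (Q : QuadraticForm F (ι → F)) (z : ↥(Cfsg.isometryGroup F ⇑Q)) (x : ι → F) :
    act Q z (-x) = - act Q z x := Matrix.mulVec_neg _ _

theorem act_eichler (Q : QuadraticForm F (ι → F)) (u v : ι → F) (hu : Q u = 0)
    (huv : polar ⇑Q u v = 0) (x : ι → F) :
    act Q (eichler Q u v hu huv) x = eichlerLin Q u v x := by
  unfold act eichler
  rw [isoOfEquiv_mulVec, eichlerEquiv_apply]

theorem eichler_mul (Q : QuadraticForm F (ι → F)) (u v v' : ι → F) (hu : Q u = 0)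
    (huv : polar ⇑Q u v = 0) (huv' : polar ⇑Q u v' = 0) :
    eichler Q u v hu huv * eichler Q u v' hu huv' =
      eichler Q u (v + v') hu (by rw [polar_add_right, huv, huv', add_zero]) := by
  apply reflElt_ext
  intro x
  rw [act_mul, act_eichler, act_eichler, act_eichler, eichler_comp Q u v v' x hu huv huv']

theorem eichler_zero_eq_one (Q : QuadraticForm F (ι → F)) (u : ι → F) (hu : Q u = 0) :
    eichler Q u 0 hu (by simp [polar]) = 1 := by
  apply reflElt_ext
  intro x
  rw [act_eichler, eichler_zero, act_one]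

theorem eichler_congr (Q : QuadraticForm F (ι → F)) (u v v' : ι → F) (hu : Q u = 0)
    (huv : polar ⇑Q u v = 0) (h : v = v') :
    eichler Q u v hu huv = eichler Q u v' hu (by rw [← h]; exact huv) := by
  subst h; rfl

theorem eichler_inv (Q : QuadraticForm F (ι → F)) (u v : ι → F) (hu : Q u = 0)
    (huv : polar ⇑Q u v = 0) :
    (eichler Q u v hu huv)⁻¹ = eichler Q u (-v) hu (by rw [polar_neg_right, huv, neg_zero]) := by
  rw [inv_eq_iff_mul_eq_one, eichler_mul]
  rw [eichler_congr Q u (v + -v) 0 hu _ (add_neg_cancel v)]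
  exact eichler_zero_eq_one Q u hu

/-- conjugating an Eichler transformation by an isometry -/
theorem eichler_conj (Q : QuadraticForm F (ι → F)) (g : ↥(Cfsg.isometryGroup F ⇑Q))
    (u v : ι → F) (hu : Q u = 0) (huv : polar ⇑Q u v = 0) :
    g * eichler Q u v hu huv * g⁻¹ =
      eichler Q (act Q g u) (act Q g v) (by rw [Q_act]; exact hu)
        (by rw [polar_act]; exact huv) := by
  apply reflElt_ext
  intro x
  rw [act_mul, act_mul, act_eichler, act_eichler, eichlerLin_apply, eichlerLin_apply]
  have h1 : ∀ y, polar ⇑Q (act Q g⁻¹ x) y = polar ⇑Q x (act Q g y) := by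
    intro y
    have := polar_act Q g (act Q g⁻¹ x) y
    rw [← act_mul, mul_inv_cancel, act_one] at this
    exact this.symm
  rw [h1, h1, Q_act]
  simp only [act_sub, act_add, act_smul]
  rw [← act_mul, mul_inv_cancel, act_one]

theorem eichler_smul_left (Q : QuadraticForm F (ι → F)) (u v : ι → F) (c : F) (hu : Q u = 0)
    (huv : polar ⇑Q u v = 0) :
    eichler Q (c • u) v (by rw [QuadraticMap.map_smul, hu, smul_zero])
        (by rw [polar_smul_left, huv, smul_zero]) =
      eichler Q u (c • v) hu (by rw [polar_smul_right, huv, smul_zero]) := by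
  apply reflElt_ext
  intro x
  rw [act_eichler, act_eichler, eichlerLin_apply, eichlerLin_apply, polar_smul_right,
    polar_smul_right, QuadraticMap.map_smul]
  simp only [smul_eq_mul]
  module

/-- an Eichler transformation with nonsingular `v` is a product of two reflections -/
theorem eichler_eq_refl_mul (Q : QuadraticForm F (ι → F)) (u v : ι → F) (hu : Q u = 0)
    (huv : polar ⇑Q u v = 0) (hv : Q v ≠ 0) :
    ∃ hv' : Q (v - Q v • u) ≠ 0,
      eichler Q u v hu huv = reflElt Q v hv * reflElt Q (v - Q v • u) hv' := by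
  have hQ' : Q (v - Q v • u) = Q v := by
    rw [quad_sub, QuadraticMap.map_smul, hu, polar_smul_right, polar_comm, huv]
    simp
  refine ⟨by rw [hQ']; exact hv, ?_⟩
  apply reflElt_ext
  intro x
  rw [act_eichler, act_mul, act_refl, act_refl, eichlerLin_apply, hQ', polar_sub_right,
    polar_sub_left, polar_smul_right, polar_smul_left, polar_sub_right, polar_smul_right,
    polar_self, polar_comm ⇑Q v u, huv, polar_comm ⇑Q v x, polar_comm ⇑Q u x]
  simp only [smul_eq_mul, nsmul_eq_mul, Nat.cast_ofNat, mul_zero, sub_zero]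
  match_scalars <;> field_simp <;> ring

end Cfsg.Agent.Lib.Helper37
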