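import Mathlib
import Cfsg.Agent.Lib.Helper37.Eichler2
import Cfsg.Agent.Lib.Helper43.OrthCardForms
import Cfsg.Prelude.Def_Steinberg
import Cfsg.Prelude.Def_ChevB2

/-! # `B₂(F) ≅ PΩ₅(F)` (S1083 hive "Bo", helper37): definitions

`Q5 F = oddForm 2 F = x₀² + x₁y₁ + x₂y₂` on `F^(Unit ⊕ (Fin 2 ⊕ Fin 2))`; `OG F` its isometry group.
Root elements `X r t` (`r : Fin 8` the root index of `Cfsg.Lie.chevB2`): Eichler transformations
`eichler (Q5 F) (ru r) ((cs r * t) • rv r)` with signs `cs` chosen (by computer search) so that the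
Steinberg relations hold with EXACTLY the structure constants of `chevB2`.

Coordinates of `x : I5 → F`: `cz x, ca1 x, ca2 x, cb1 x, cb2 x`; `mk5 z a1 a2 b1 b2` the vector. -/

set_option autoImplicit false
set_option linter.unusedSectionVars false
set_option linter.unusedVariables false

namespace Cfsg.Agent.Lib.Helper37.B2O5

open Matrix Module QuadraticMap
open Cfsg.Agent.Lib.Helper8 Cfsg.Agent.Lib.Helper13 Cfsg.Agent.Lib.Helper37 Cfsg.Agent.Lib.Helper43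

/-- the index type of the natural module -/
abbrev I5 : Type := Unit ⊕ (Fin 2 ⊕ Fin 2)

variable (F : Type*) [Field F]

/-- the quadratic form `x₀² + x₁y₁ + x₂y₂` -/
abbrev Q5 : QuadraticForm F (I5 → F) := oddForm 2 F

/-- `O₅(F)` -/
abbrev OG : Type _ := ↥(Cfsg.isometryGroup F ⇑(Q5 F))

variable {F}

/-- coordinates -/
def cz (x : I5 → F) : F := x (Sum.inl ())
def ca1 (x : I5 → F) : F := x (Sum.inr (Sum.inl 0))
def ca2 (x : I5 → F) : F := x (Sum.inr (Sum.inl 1))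
def cb1 (x : I5 → F) : F := x (Sum.inr (Sum.inr 0))
def cb2 (x : I5 → F) : F := x (Sum.inr (Sum.inr 1))

/-- the vector with given coordinates -/
def mk5 (z a1 a2 b1 b2 : F) : I5 → F := Sum.elim (fun _ => z) (Sum.elim ![a1, a2] ![b1, b2])

@[simp] theorem cz_mk5 (z a1 a2 b1 b2 : F) : cz (mk5 z a1 a2 b1 b2) = z := rfl
@[simp] theorem ca1_mk5 (z a1 a2 b1 b2 : F) : ca1 (mk5 z a1 a2 b1 b2) = a1 := rfl
@[simp] theorem ca2_mk5 (z a1 a2 b1 b2 : F) : ca2 (mk5 z a1 a2 b1 b2) = a2 := rfl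
@[simp] theorem cb1_mk5 (z a1 a2 b1 b2 : F) : cb1 (mk5 z a1 a2 b1 b2) = b1 := rfl
@[simp] theorem cb2_mk5 (z a1 a2 b1 b2 : F) : cb2 (mk5 z a1 a2 b1 b2) = b2 := rfl

/-- extensionality in coordinates -/
theorem ext5 {x y : I5 → F} (h0 : cz x = cz y) (h1 : ca1 x = ca1 y) (h2 : ca2 x = ca2 y)
    (h3 : cb1 x = cb1 y) (h4 : cb2 x = cb2 y) : x = y := by
  funext i
  rcases i with u | i | i
  · cases u; exact h0
  · fin_cases i
    · exact h1
    · exact h2
  · fin_cases i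
    · exact h3
    · exact h4

theorem mk5_eta (x : I5 → F) : mk5 (cz x) (ca1 x) (ca2 x) (cb1 x) (cb2 x) = x :=
  ext5 rfl rfl rfl rfl rfl

@[simp] theorem cz_add (x y : I5 → F) : cz (x + y) = cz x + cz y := rfl
@[simp] theorem ca1_add (x y : I5 → F) : ca1 (x + y) = ca1 x + ca1 y := rfl
@[simp] theorem ca2_add (x y : I5 → F) : ca2 (x + y) = ca2 x + ca2 y := rfl
@[simp] theorem cb1_add (x y : I5 → F) : cb1 (x + y) = cb1 x + cb1 y := rfl
@[simp] theorem cb2_add (x y : I5 → F) : cb2 (x + y) = cb2 x + cb2 y := rfl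
@[simp] theorem cz_sub (x y : I5 → F) : cz (x - y) = cz x - cz y := rfl
@[simp] theorem ca1_sub (x y : I5 → F) : ca1 (x - y) = ca1 x - ca1 y := rfl
@[simp] theorem ca2_sub (x y : I5 → F) : ca2 (x - y) = ca2 x - ca2 y := rfl
@[simp] theorem cb1_sub (x y : I5 → F) : cb1 (x - y) = cb1 x - cb1 y := rfl
@[simp] theorem cb2_sub (x y : I5 → F) : cb2 (x - y) = cb2 x - cb2 y := rfl
@[simp] theorem cz_smul (c : F) (x : I5 → F) : cz (c • x) = c * cz x := rfl
@[simp] theorem ca1_smul (c : F) (x : I5 → F) : ca1 (c • x) = c * ca1 x := rfl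
@[simp] theorem ca2_smul (c : F) (x : I5 → F) : ca2 (c • x) = c * ca2 x := rfl
@[simp] theorem cb1_smul (c : F) (x : I5 → F) : cb1 (c • x) = c * cb1 x := rfl
@[simp] theorem cb2_smul (c : F) (x : I5 → F) : cb2 (c • x) = c * cb2 x := rfl
@[simp] theorem cz_neg (x : I5 → F) : cz (-x) = - cz x := rfl
@[simp] theorem ca1_neg (x : I5 → F) : ca1 (-x) = - ca1 x := rfl
@[simp] theorem ca2_neg (x : I5 → F) : ca2 (-x) = - ca2 x := rfl
@[simp] theorem cb1_neg (x : I5 → F) : cb1 (-x) = - cb1 x := rfl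
@[simp] theorem cb2_neg (x : I5 → F) : cb2 (-x) = - cb2 x := rfl
@[simp] theorem cz_zero : cz (0 : I5 → F) = 0 := rfl
@[simp] theorem ca1_zero : ca1 (0 : I5 → F) = 0 := rfl
@[simp] theorem ca2_zero : ca2 (0 : I5 → F) = 0 := rfl
@[simp] theorem cb1_zero : cb1 (0 : I5 → F) = 0 := rfl
@[simp] theorem cb2_zero : cb2 (0 : I5 → F) = 0 := rfl

/-- the standard basis -/
def vz : I5 → F := mk5 1 0 0 0 0
def ve1 : I5 → F := mk5 0 1 0 0 0
def ve2 : I5 → F := mk5 0 0 1 0 0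
def vf1 : I5 → F := mk5 0 0 0 1 0
def vf2 : I5 → F := mk5 0 0 0 0 1

theorem Q5_apply (x : I5 → F) : Q5 F x = cz x ^ 2 + ca1 x * cb1 x + ca2 x * cb2 x := by
  rw [← oddForm_coe]
  simp only [Cfsg.quadFormOdd, Fin.sum_univ_two, cz, ca1, ca2, cb1, cb2]
  ring

theorem polar_Q5 (x y : I5 → F) : polar ⇑(Q5 F) x y =
    2 * cz x * cz y + ca1 x * cb1 y + cb1 x * ca1 y + ca2 x * cb2 y + cb2 x * ca2 y := by
  rw [polar_oddForm]
  simp only [Fin.sum_univ_two, cz, ca1, ca2, cb1, cb2]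
  ring

/-- the singular vector `u_r` of the root `r` -/
def ru (r : Fin 8) : I5 → F := ![vf1, vf1, vf2, ve2, ve1, ve2, ve1, ve1] r
/-- the second vector `v_r` of the root `r` -/
def rv (r : Fin 8) : I5 → F := ![vf2, vz, vz, vf1, vf2, vz, vz, ve2] r
/-- the sign of the root `r` -/
def cs (r : Fin 8) : F := ![-1, -1, -1, 1, 1, 1, 1, 1] r

theorem Q_ru (r : Fin 8) : Q5 F (ru r : I5 → F) = 0 := by
  rw [Q5_apply]
  fin_cases r <;> simp [ru, vz, ve1, ve2, vf1, vf2]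

theorem polar_ru_rv (r : Fin 8) : polar ⇑(Q5 F) (ru r : I5 → F) (rv r) = 0 := by
  rw [polar_Q5]
  fin_cases r <;> simp [ru, rv, vz, ve1, ve2, vf1, vf2]

/-- the root element `x_r(t)` of `O₅(F)` -/
noncomputable def X (r : Fin 8) (t : F) : OG F :=
  eichler (Q5 F) (ru r) ((cs r * t) • rv r) (Q_ru r)
    (by rw [polar_smul_right, polar_ru_rv, smul_zero])

/-- total version on `ℕ` -/
noncomputable def Xn (r : ℕ) (t : F) : OG F := if h : r < 8 then X ⟨r, h⟩ t else 1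

theorem Xn_of_lt {r : ℕ} (h : r < 8) (t : F) : Xn r t = X ⟨r, h⟩ t := by
  unfold Xn; rw [dif_pos h]

/-- the subgroup generated by the root elements -/
def EE (F : Type*) [Field F] : Subgroup (OG F) := Subgroup.closure {g | ∃ (r : Fin 8) (t : F), g = X r t}

theorem X_mem_EE (r : Fin 8) (t : F) : X r t ∈ EE F := Subgroup.subset_closure ⟨r, t, rfl⟩

/-- the diagonal isometries -/
def DD (F : Type*) [Field F] : Subgroup (OG F) where
  carrier := {g | ∀ i j : I5, i ≠ j → ((g : GL I5 F) : Matrix I5 I5 F) i j = 0}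
  one_mem' := by
    intro i j hij
    simp [Matrix.one_apply_ne hij]
  mul_mem' := by
    intro g h hg hh i j hij
    rw [Subgroup.coe_mul, Units.val_mul, Matrix.mul_apply]
    apply Finset.sum_eq_zero
    intro k _
    by_cases hik : i = k
    · subst hik
      rw [hh i j hij, mul_zero]
    · rw [hg i k hik, zero_mul]
  inv_mem' := by
    intro g hg i j hij
    -- the inverse of a diagonal matrix is diagonal
    have hd : ((g : GL I5 F) : Matrix I5 I5 F) = Matrix.diagonal (fun k => ((g : GL I5 F) : Matrix I5 I5 F) k k) := by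
      ext a b
      by_cases hab : a = b
      · subst hab; simp
      · rw [hg a b hab, Matrix.diagonal_apply_ne _ hab]
    have h1 : ((g : GL I5 F) : Matrix I5 I5 F) * (((g⁻¹ : OG F) : GL I5 F) : Matrix I5 I5 F) = 1 := by
      rw [← Units.val_mul, ← Subgroup.coe_mul, mul_inv_cancel]; rfl
    have h2 := congrFun (congrFun h1 i) j
    rw [hd, Matrix.diagonal_mul, Matrix.one_apply_ne hij] at h2
    have h3 : ((g : GL I5 F) : Matrix I5 I5 F) i i ≠ 0 := by
      intro h0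
      have h4 := congrFun (congrFun h1 i) i
      rw [hd, Matrix.diagonal_mul, h0, zero_mul, Matrix.one_apply_eq] at h4
      exact zero_ne_one h4
    exact (mul_eq_zero.1 h2).resolve_left h3

/-- explicit action of the root elements -/
theorem act_X_gen (r : Fin 8) (t : F) (x : I5 → F) :
    act (Q5 F) (X r t) x = x + polar ⇑(Q5 F) x ((cs r * t) • rv r) • ru r
      - polar ⇑(Q5 F) x (ru r) • ((cs r * t) • rv r)
      - (Q5 F ((cs r * t) • rv r) * polar ⇑(Q5 F) x (ru r)) • ru r := by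
  unfold X
  rw [act_eichler, eichlerLin_apply]

theorem act_X0 (t : F) (x : I5 → F) : act (Q5 F) (X 0 t) x =
    mk5 (cz x) (ca1 x) (ca2 x) (cb1 x - t * ca2 x) (cb2 x + t * ca1 x) := by
  rw [act_X_gen]
  apply ext5 <;> simp [polar_Q5, Q5_apply, ru, rv, cs, vz, ve1, ve2, vf1, vf2] <;> ring

theorem act_X1 (t : F) (x : I5 → F) : act (Q5 F) (X 1 t) x =
    mk5 (cz x + t * ca1 x) (ca1 x) (ca2 x) (cb1 x - 2 * t * cz x - t ^ 2 * ca1 x) (cb2 x) := by
  rw [act_X_gen]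
  apply ext5 <;> simp [polar_Q5, Q5_apply, ru, rv, cs, vz, ve1, ve2, vf1, vf2] <;> ring

theorem act_X2 (t : F) (x : I5 → F) : act (Q5 F) (X 2 t) x =
    mk5 (cz x + t * ca2 x) (ca1 x) (ca2 x) (cb1 x) (cb2 x - 2 * t * cz x - t ^ 2 * ca2 x) := by
  rw [act_X_gen]
  apply ext5 <;> simp [polar_Q5, Q5_apply, ru, rv, cs, vz, ve1, ve2, vf1, vf2] <;> ring

theorem act_X3 (t : F) (x : I5 → F) : act (Q5 F) (X 3 t) x =
    mk5 (cz x) (ca1 x) (ca2 x + t * ca1 x) (cb1 x - t * cb2 x) (cb2 x) := by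
  rw [act_X_gen]
  apply ext5 <;> simp [polar_Q5, Q5_apply, ru, rv, cs, vz, ve1, ve2, vf1, vf2] <;> ring

theorem act_X4 (t : F) (x : I5 → F) : act (Q5 F) (X 4 t) x =
    mk5 (cz x) (ca1 x + t * ca2 x) (ca2 x) (cb1 x) (cb2 x - t * cb1 x) := by
  rw [act_X_gen]
  apply ext5 <;> simp [polar_Q5, Q5_apply, ru, rv, cs, vz, ve1, ve2, vf1, vf2] <;> ring

theorem act_X5 (t : F) (x : I5 → F) : act (Q5 F) (X 5 t) x =
    mk5 (cz x - t * cb2 x) (ca1 x) (ca2 x + 2 * t * cz x - t ^ 2 * cb2 x) (cb1 x) (cb2 x) := by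
  rw [act_X_gen]
  apply ext5 <;> simp [polar_Q5, Q5_apply, ru, rv, cs, vz, ve1, ve2, vf1, vf2] <;> ring

theorem act_X6 (t : F) (x : I5 → F) : act (Q5 F) (X 6 t) x =
    mk5 (cz x - t * cb1 x) (ca1 x + 2 * t * cz x - t ^ 2 * cb1 x) (ca2 x) (cb1 x) (cb2 x) := by
  rw [act_X_gen]
  apply ext5 <;> simp [polar_Q5, Q5_apply, ru, rv, cs, vz, ve1, ve2, vf1, vf2] <;> ring

theorem act_X7 (t : F) (x : I5 → F) : act (Q5 F) (X 7 t) x =
    mk5 (cz x) (ca1 x + t * cb2 x) (ca2 x - t * cb1 x) (cb1 x) (cb2 x) := by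
  rw [act_X_gen]
  apply ext5 <;> simp [polar_Q5, Q5_apply, ru, rv, cs, vz, ve1, ve2, vf1, vf2] <;> ring

/-- (R1) -/
theorem X_add (r : Fin 8) (t u : F) : X r t * X r u = X r (t + u) := by
  unfold X
  rw [eichler_mul]
  apply eichler_congr
  rw [mul_add, add_smul]

theorem X_zero (r : Fin 8) : X r (0 : F) = 1 := by
  unfold X
  rw [eichler_congr (Q5 F) (ru r) ((cs r * 0) • rv r) 0 (Q_ru r) _ (by rw [mul_zero, zero_smul])]
  exact eichler_zero_eq_one (Q5 F) (ru r) (Q_ru r)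

theorem X_inv (r : Fin 8) (t : F) : (X r t)⁻¹ = X r (-t) := by
  rw [inv_eq_iff_mul_eq_one, X_add, add_neg_cancel, X_zero]

/-- product of a word of root elements (image of `stWord`) -/
noncomputable def wprod (w : List (ℕ × F)) : OG F := (w.map fun p => Xn p.1 p.2).prod

/-- diagonal data of `h_r(t)`: scalar on `e₁` -/
def ha1 (r : Fin 8) (t : F) : F := ![t⁻¹, (t⁻¹) ^ 2, 1, t⁻¹, t, 1, t ^ 2, t] r
/-- diagonal data of `h_r(t)`: scalar on `e₂` -/
def ha2 (r : Fin 8) (t : F) : F := ![t⁻¹, 1, (t⁻¹) ^ 2, t, t⁻¹, t ^ 2, 1, t] r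

end Cfsg.Agent.Lib.Helper37.B2O5
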