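import Cfsg.Agent.Lib.Helper37.B2O5Defs
import Cfsg.Agent.Lib.Helper68.Bo_REL2_0
import Cfsg.Agent.Lib.Helper68.Bo_REL2_1
import Cfsg.Agent.Lib.Helper37.Bo_REL2_2
import Cfsg.Agent.Lib.Helper37.Bo_REL2_3
import Cfsg.Agent.Lib.Helper8.Bo_REL2_4
import Cfsg.Agent.Lib.Helper8.Bo_REL2_5
import Cfsg.Agent.Lib.Helper25.Bo_REL2_6
import Cfsg.Agent.Lib.Helper25.Bo_REL2_7
import Cfsg.Agent.Lib.Helper53.Bo_REL3

/-! # Bo hive (S1083): leaf BO-PSI (helper37 backup version) -/

set_option autoImplicit false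
set_option linter.unusedSectionVars false
set_option linter.unusedVariables false

namespace Cfsg.Agent.Lib.Helper37.B2O5

open Matrix Module QuadraticMap Cfsg.Lie
open Cfsg.Agent.Lib.Helper8 Cfsg.Agent.Lib.Helper13 Cfsg.Agent.Lib.Helper37 Cfsg.Agent.Lib.Helper43

variable {F : Type*} [Field F]

/-- the images of the free generators -/
noncomputable def psib_gen (p : Fin chevB2.nroots × F) : OG F := Xn (p.1 : ℕ) p.2

theorem psib_lift_stX (r : ℕ) (t : F) :
    FreeGroup.lift (psib_gen (F := F)) (chevB2.stX r t) = Xn r t := by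
  unfold ChevalleyDatum.stX
  split_ifs with h
  · rw [FreeGroup.lift_apply_of]; rfl
  · rw [map_one]
    unfold Xn
    rw [dif_neg]
    exact h

theorem psib_lift_stWord (w : List (ℕ × F)) :
    FreeGroup.lift (psib_gen (F := F)) (chevB2.stWord w) = wprod w := by
  unfold ChevalleyDatum.stWord wprod
  induction w with
  | nil => simp
  | cons p w ih =>
    rw [List.map_cons, List.prod_cons, map_mul, ih, psib_lift_stX, List.map_cons, List.prod_cons]

theorem psib_Xn_add (r : ℕ) (t u : F) : Xn r t * Xn r u = Xn r (t + u) := by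
  unfold Xn
  split_ifs with h
  · exact X_add _ t u
  · rw [mul_one]

theorem psib_rel2 (r s : ℕ) (hr : r < 8) (hs : s < 8) (h1 : s ≠ r) (h2 : s ≠ chevB2.neg r) (t u : F) :
    (Xn s u)⁻¹ * (Xn r t)⁻¹ * Xn s u * Xn r t = wprod (chevB2.commWord F r s t u) := by
  interval_cases r
  · exact rel2_0 s hs h1 (by simpa [ChevalleyDatum.neg, chevB2, chevB2NegIdx] using h2) t u
  · exact rel2_1 s hs h1 (by simpa [ChevalleyDatum.neg, chevB2, chevB2NegIdx] using h2) t u
  · exact rel2_2 s hs h1 (by simpa [ChevalleyDatum.neg, chevB2, chevB2NegIdx] using h2) t u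
  · exact rel2_3 s hs h1 (by simpa [ChevalleyDatum.neg, chevB2, chevB2NegIdx] using h2) t u
  · exact rel2_4 s hs h1 (by simpa [ChevalleyDatum.neg, chevB2, chevB2NegIdx] using h2) t u
  · exact rel2_5 s hs h1 (by simpa [ChevalleyDatum.neg, chevB2, chevB2NegIdx] using h2) t u
  · exact rel2_6 s hs h1 (by simpa [ChevalleyDatum.neg, chevB2, chevB2NegIdx] using h2) t u
  · exact rel2_7 s hs h1 (by simpa [ChevalleyDatum.neg, chevB2, chevB2NegIdx] using h2) t u

/-- BO-PSI -/
theorem exists_psi : ∃ ψ : Cfsg.Lie.chevB2.SteinbergGroup F →* OG F,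
    ∀ (r : ℕ) (t : F), ψ (Cfsg.Lie.chevB2.stGen F r t) = Xn r t := by
  have hrel : ∀ r ∈ chevB2.steinbergRels F, FreeGroup.lift (psib_gen (F := F)) r = 1 := by
    rintro _ ((⟨r, t₁, t₂, -, rfl⟩ | ⟨r, s, t, u, hr, hs, hsr, hsn, rfl⟩) | ⟨r, t₁, t₂, hr, h1, h2, rfl⟩)
    · rw [map_mul, map_mul, map_inv, psib_lift_stX, psib_lift_stX, psib_lift_stX, mul_inv_eq_one]
      exact psib_Xn_add r t₁ t₂
    · simp only [map_mul, map_inv, psib_lift_stX, psib_lift_stWord]
      rw [mul_inv_eq_one]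
      exact psib_rel2 r s hr hs hsr hsn t u
    · unfold ChevalleyDatum.stH
      simp only [map_mul, map_inv, psib_lift_stWord]
      rw [mul_inv_eq_one]
      exact rel3 r hr t₁ t₂ h1 h2
  refine ⟨PresentedGroup.toGroup hrel, ?_⟩
  intro r t
  show (PresentedGroup.toGroup hrel) (PresentedGroup.mk _ (chevB2.stX r t)) = Xn r t
  rw [← psib_lift_stX r t]
  rfl

end Cfsg.Agent.Lib.Helper37.B2O5
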