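import Cfsg.Agent.Lib.Helper37.B2O5Defs
import Cfsg.Agent.Lib.Helper13.Bo_RED2
import Cfsg.Agent.Lib.Helper13.Bo_RED4
import Cfsg.Agent.Lib.Helper24.Bo_TORUS1
import Cfsg.Agent.Lib.Helper24.Bo_TORUS2
import Cfsg.Agent.Lib.Helper27.Bo_GRP
import Cfsg.Agent.Lib.Helper27.Bo_NONCOMM
import Cfsg.Agent.Lib.Helper61.Bo_EIN
import Cfsg.Agent.Lib.Helper64.Bo_RED1
import Cfsg.Agent.Lib.Helper64.Bo_RED3
import Cfsg.Agent.Lib.Helper85.Bo_PSIR
import Cfsg.Agent.Lib.Helper9.Bo_BRIDGE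
import Cfsg.Agent.Lib.Helper37.Bo_PSIb
import Cfsg.Agent.S1077
import Cfsg.Agent.S1056

/-! # S1083 hive "Bo" (helper37): `B₂(F) ≅ PΩ₅(F)` — assembly -/

set_option autoImplicit false
set_option linter.unusedSectionVars false
set_option linter.unusedVariables false

namespace Cfsg.Agent.Lib.Helper37.B2O5

open Matrix Module QuadraticMap
open Cfsg.Agent.Lib.Helper8 Cfsg.Agent.Lib.Helper13 Cfsg.Agent.Lib.Helper37 Cfsg.Agent.Lib.Helper43

variable {F : Type*} [Field F]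

theorem red (g : OG F) : ∃ h ∈ EE F, h * g ∈ DD F := by
  have hx : act (Q5 F) g ve1 ≠ 0 := by
    intro h0
    have h1 : act (Q5 F) g⁻¹ (act (Q5 F) g ve1) = (ve1 : I5 → F) := by
      rw [← act_mul, inv_mul_cancel, act_one]
    rw [h0] at h1
    have h2 : act (Q5 F) g⁻¹ (0 : I5 → F) = 0 := Matrix.mulVec_zero _
    rw [h2] at h1
    have := congrArg ca1 h1
    simp [ve1] at this
  have hQ : Q5 F (act (Q5 F) g ve1) = 0 := by
    rw [Q_act, Q5_apply]; simp [ve1]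
  obtain ⟨k1, hk1, e1⟩ := red1 _ hx hQ
  rw [← act_mul] at e1
  obtain ⟨k2, hk2, e2, e3⟩ := red2 (k1 * g) e1
  obtain ⟨k3, hk3, c, hc, e4, e5, e6, e7⟩ := red3 (k2 * (k1 * g)) e2 e3
  refine ⟨k3 * (k2 * k1), mul_mem hk3 (mul_mem hk2 hk1), ?_⟩
  have : k3 * (k2 * k1) * g = k3 * (k2 * (k1 * g)) := by group
  rw [this]
  exact red4 _ c hc e4 e5 e6 e7

theorem EE_eq_omega (hF : ∃ a : F, a ≠ 0 ∧ a ≠ 1) : EE F = commutator (OG F) := by
  apply le_antisymm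
  · unfold EE
    rw [Subgroup.closure_le]
    rintro _ ⟨r, t, rfl⟩
    exact X_mem_commutator hF r t
  · exact commutator_le_of_factor (EE F) (DD F) DD_comm DD_conj_EE red

theorem main (hF : ∃ a : F, a ≠ 0 ∧ a ≠ 1) :
    Nonempty (↥(Cfsg.Lie.chevB2.group F) ≃* Cfsg.POmega F ⇑(Q5 F)) := by
  obtain ⟨θ, hθ, hker, -⟩ := Cfsg.Agent.S1077.result (K := F) Cfsg.Lie.chevB2 (by simp)
  obtain ⟨ψ, hψ⟩ := exists_psi (F := F)
  have hr : ψ.range = commutator (OG F) := by rw [psi_range ψ hψ, EE_eq_omega hF]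
  let ψ' : Cfsg.Lie.chevB2.SteinbergGroup F →* ↥(commutator (OG F)) :=
    ψ.codRestrict _ (fun x => by rw [← hr]; exact ⟨x, rfl⟩)
  have hψ' : Function.Surjective ψ' := by
    rintro ⟨y, hy⟩
    rw [← hr] at hy
    obtain ⟨x, rfl⟩ := hy
    exact ⟨x, rfl⟩
  obtain ⟨a, ha, b, hb, hab⟩ := EE_noncomm (F := F)
  rw [EE_eq_omega hF] at ha hb
  exact bridge θ hθ hker (Cfsg.Agent.S1056.result hF).1 ψ' hψ'
    ⟨⟨a, ha⟩, ⟨b, hb⟩, fun h => hab (congrArg Subtype.val h)⟩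

end Cfsg.Agent.Lib.Helper37.B2O5
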