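import Cfsg.Agent.Lib.Helper37.GraphSplit3
import Cfsg.Agent.Lib.Helper44.CharTwoSym

set_option autoImplicit false
set_option linter.unusedSectionVars false
set_option linter.unusedVariables false
set_option linter.unusedSimpArgs false

namespace Cfsg.Agent.Lib.Helper37.GraphPSL

open Matrix
open Cfsg.Agent.Lib.Helper5.AutPSLn (Gam Iota glInvT)

section altgen

variable {F : Type*} [Field F] [Fintype F]

/-- an invertible matrix whose bilinear form is alternating is congruent to the standard one -/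
theorem alt_cong_of_isAlt {n m : ℕ} (hnm : n = 2 * m) (e₁ : Fin n ≃ Fin m ⊕ Fin m)
    (A : GL (Fin n) F) (halt : (Matrix.toBilin' A.1).IsAlt) :
    ∃ h : GL (Fin n) F, h * (reindexGL e₁).symm (Ju m F)⁻¹ * glT h = A := by
  have hdet : A.1.det ≠ 0 := ((Matrix.isUnit_iff_isUnit_det _).1 A.isUnit).ne_zero
  have hnd : (Matrix.toBilin' A.1).Nondegenerate :=
    LinearMap.BilinForm.nondegenerate_toBilin'_of_det_ne_zero' _ hdet
  have hfr : Module.finrank F (Fin n → F) = 2 * m := by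
    rw [Module.finrank_fintype_fun_eq_card, Fintype.card_fin, hnm]
  obtain ⟨b, hb⟩ := Cfsg.Agent.Lib.Helper40.Darboux.darboux_basis m (Fin n → F)
    (Matrix.toBilin' A.1) halt hnd hfr
  obtain ⟨P, hP⟩ := exists_P_toMatrix A (b.reindex e₁.symm)
  have hD : LinearMap.BilinForm.toMatrix (b.reindex e₁.symm) (Matrix.toBilin' A.1) =
      ((reindexGL e₁).symm (Ju m F)⁻¹ : GL (Fin n) F).1 := by
    ext i j
    rw [LinearMap.BilinForm.toMatrix_apply, Module.Basis.reindex_apply, Module.Basis.reindex_apply,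
      reindexGL_symm_val, Ju_inv_val, ← Cfsg.Agent.Lib.Helper40.Darboux.gramJ_eq, ← hb,
      Matrix.reindex_apply, Matrix.submatrix_apply, LinearMap.BilinForm.toMatrix_apply]
  rw [hD] at hP
  exact cong_of_common_nf A _ P 1 _ hP (by simp)

omit [Fintype F] in
theorem quad_cong {ι : Type} [Fintype ι] [DecidableEq ι] (M h : Matrix ι ι F) (v : ι → F) :
    v ⬝ᵥ ((h * M * hᵀ) *ᵥ v) = (hᵀ *ᵥ v) ⬝ᵥ (M *ᵥ (hᵀ *ᵥ v)) := by
  rw [← Matrix.mulVec_mulVec, ← Matrix.mulVec_mulVec, Matrix.dotProduct_mulVec,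
    ← Matrix.mulVec_transpose]

omit [Fintype F] in
/-- alternating forms are preserved by congruence up to scalars -/
theorem isAlt_of_cong {ι : Type} [Fintype ι] [DecidableEq ι] (A B h : GL ι F) (c : Fˣ)
    (e : h * A * glT h = sc ι c * B) (hA : (Matrix.toBilin' A.1).IsAlt) :
    (Matrix.toBilin' B.1).IsAlt := by
  intro v
  have h1 := hA (h.1ᵀ *ᵥ v)
  rw [Matrix.toBilin'_apply'] at h1 ⊢
  rw [← quad_cong] at h1
  have h2 := congrArg (fun x : GL ι F => x.1) e
  simp only [Units.val_mul, glT_val, sc_val, Matrix.smul_mul, Matrix.one_mul] at h2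
  rw [h2, Matrix.smul_mulVec, dotProduct_smul, smul_eq_mul] at h1
  rcases mul_eq_zero.1 h1 with h3 | h3
  · exact absurd h3 c.ne_zero
  · exact h3

omit [Fintype F] in
theorem J_alt (m : ℕ) (w : Fin m ⊕ Fin m → F) : w ⬝ᵥ (Matrix.J (Fin m) F *ᵥ w) = 0 := by
  unfold Matrix.J
  simp only [dotProduct, Matrix.mulVec, Fintype.sum_sum_type, Matrix.fromBlocks_apply₁₁,
    Matrix.fromBlocks_apply₁₂, Matrix.fromBlocks_apply₂₁, Matrix.fromBlocks_apply₂₂,
    Matrix.zero_apply, Matrix.neg_apply, Matrix.one_apply, zero_mul, Finset.sum_const_zero,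
    zero_add, add_zero, neg_mul, ite_mul, one_mul, Finset.sum_neg_distrib, Finset.sum_ite_eq,
    Finset.mem_univ, if_true]
  rw [← Finset.sum_add_distrib]
  apply Finset.sum_eq_zero
  intro i _
  ring

omit [Fintype F] in
theorem toBilin'_submatrix_self {ι κ : Type} [Fintype ι] [DecidableEq ι] [Fintype κ]
    [DecidableEq κ] (e : ι ≃ κ) (M : Matrix κ κ F) (v : ι → F) :
    Matrix.toBilin' (M.submatrix e e) v v = Matrix.toBilin' M (v ∘ e.symm) (v ∘ e.symm) := by
  rw [Matrix.toBilin'_apply', Matrix.toBilin'_apply', Matrix.submatrix_mulVec_equiv,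
    comp_equiv_symm_dotProduct]

omit [Fintype F] in
theorem A1_isAlt {n m : ℕ} (e₁ : Fin n ≃ Fin m ⊕ Fin m) :
    (Matrix.toBilin' ((reindexGL e₁).symm (Ju m F)⁻¹ : GL (Fin n) F).1).IsAlt := by
  intro v
  rw [reindexGL_symm_val, Ju_inv_val]
  show Matrix.toBilin' ((-Matrix.J (Fin m) F).submatrix e₁ e₁) v v = 0
  rw [toBilin'_submatrix_self, Matrix.toBilin'_apply', Matrix.neg_mulVec, dotProduct_neg, J_alt,
    neg_zero]

/-- in characteristic two a non-alternating invertible symmetric matrix is congruent to `1` -/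
theorem nonalt_cong_one [CharP F 2] {N : ℕ} (A : GL (Fin (N + 1)) F) (hA : glT A = A)
    (hna : ¬ (Matrix.toBilin' A.1).IsAlt) : ∃ h : GL (Fin (N + 1)) F, h * glT h = A := by
  obtain ⟨n, hn⟩ : ∃ n, n = N + 1 := ⟨_, rfl⟩
  have hsymm : (A : Matrix (Fin (N + 1)) (Fin (N + 1)) F).IsSymm := by
    have := congrArg (fun x : GL (Fin (N + 1)) F => x.1) hA
    exact this
  have hdet : A.1.det ≠ 0 := ((Matrix.isUnit_iff_isUnit_det _).1 A.isUnit).ne_zero
  have hS : (Matrix.toBilin' A.1).IsSymm := Matrix.isSymm_toBilin'_iff_isSymm.mpr hsymm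
  have hB : (Matrix.toBilin' A.1).Nondegenerate :=
    LinearMap.BilinForm.nondegenerate_toBilin'_of_det_ne_zero' _ hdet
  have hfin : Module.finrank F (Fin (N + 1) → F) = N + 1 := by
    rw [Module.finrank_fintype_fun_eq_card, Fintype.card_fin]
  have hna' : 0 < N + 1 → ∃ v, Matrix.toBilin' A.1 v v ≠ 0 := by
    intro _
    by_contra hcon
    push Not at hcon
    exact hna hcon
  obtain ⟨e, he⟩ := Cfsg.Agent.Lib.Helper44.orthonormal_family_char_two (N + 1) (Fin (N + 1) → F)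
    (Matrix.toBilin' A.1) hS hB hna' hfin
  obtain ⟨hli, -⟩ := Cfsg.Agent.Lib.Helper44.dual_family_expansion (Matrix.toBilin' A.1)
    (κ := Fin (N + 1)) (by rw [hfin, Fintype.card_fin]) e e he
  obtain ⟨b, hb⟩ : ∃ b : Module.Basis (Fin (N + 1)) F (Fin (N + 1) → F), ⇑b = e :=
    ⟨basisOfLinearIndependentOfCardEqFinrank hli (by rw [hfin, Fintype.card_fin]),
      coe_basisOfLinearIndependentOfCardEqFinrank _ _⟩
  obtain ⟨P, hP⟩ := exists_P_toMatrix A b
  have hD : LinearMap.BilinForm.toMatrix b (Matrix.toBilin' A.1) = 1 := by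
    ext i j
    rw [LinearMap.BilinForm.toMatrix_apply, hb, he, Matrix.one_apply]
  rw [hD] at hP
  obtain ⟨h, hh⟩ := cong_of_common_nf A 1 P 1 1 hP (by simp)
  exact ⟨h, by rwa [mul_one] at hh⟩

end altgen

section pq

variable {F : Type*} [Field F] {ι : Type} [Fintype ι] [DecidableEq ι]

/-- a group mapping bijectively onto `S` modulo scalars is isomorphic to `projQuot S` -/
theorem projQuot_equiv_of {T : Type*} [Group T] (S : Subgroup (GL ι F)) (ψ : T →* ↥S)
    (hinj : ∀ k : T, (ψ k).1 ∈ Cfsg.Geo.scalars ι F → k = 1)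
    (hsurj : ∀ g : ↥S, ∃ k : T, ((ψ k)⁻¹ * g : ↥S).1 ∈ Cfsg.Geo.scalars ι F) :
    Nonempty (T ≃* Cfsg.projQuot S) := by
  let Ψ : T →* Cfsg.projQuot S := (QuotientGroup.mk' _).comp ψ
  have h1 : Function.Injective Ψ := by
    rw [injective_iff_map_eq_one]
    intro k hk
    apply hinj
    have : (QuotientGroup.mk (ψ k) : Cfsg.projQuot S) = 1 := hk
    rw [QuotientGroup.eq_one_iff, Subgroup.mem_subgroupOf] at this
    exact this
  have h2 : Function.Surjective Ψ := by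
    intro x
    obtain ⟨g, rfl⟩ := QuotientGroup.mk_surjective x
    obtain ⟨k, hk⟩ := hsurj g
    refine ⟨k, ?_⟩
    show (QuotientGroup.mk (ψ k) : Cfsg.projQuot S) = QuotientGroup.mk g
    rw [QuotientGroup.eq, Subgroup.mem_subgroupOf]
    exact hk
  exact ⟨MulEquiv.ofBijective Ψ ⟨h1, h2⟩⟩

/-- dividing a similitude with square multiplier by the square root -/
theorem isSim_div_sqrt {A g : GL ι F} {s : Fˣ} (h : IsSim A g (s * s)) :
    IsSim A (sc ι s⁻¹ * g) 1 := by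
  have := (IsSim.sc A s⁻¹).mul h
  have e : s⁻¹ * s⁻¹ * (s * s) = 1 := by group
  rw [e] at this
  exact this

theorem sc_mem_scalars (s : Fˣ) : sc ι s ∈ Cfsg.Geo.scalars ι F := by
  rw [Cfsg.Geo.mem_scalars_iff]
  exact ⟨s, sc_val s⟩

theorem exists_unit_sq [Fintype F] [CharP F 2] (c : Fˣ) : ∃ s : Fˣ, c = s * s := by
  obtain ⟨s, hs⟩ := Cfsg.Agent.Lib.Helper44.exists_sq_char_two (c : F)
  have hs0 : s ≠ 0 := by
    rintro rfl
    exact c.ne_zero (by rw [← hs]; ring)
  exact ⟨Units.mk0 s hs0, Units.ext (by rw [Units.val_mul, Units.val_mk0, hs])⟩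

theorem eq_one_of_sq_eq_one_char_two [CharP F 2] {x : F} (h : x ^ 2 = 1) : x = 1 := by
  have h2 : (2 : F) = 0 := Cfsg.Agent.Lib.Helper44.two_eq_zero_of_charP
  have h3 : (x - 1) ^ 2 = 0 := by
    rw [sub_sq, h]
    linear_combination (1 - x) * h2
  exact sub_eq_zero.1 (pow_eq_zero_iff (by norm_num) |>.1 h3)

end pq

section sp

variable {F : Type*} [Field F] [Fintype F]

/-- in characteristic two, `PGSp_{2m}(F)` is isomorphic to `Sp_{2m}(F)` -/
theorem sp_equiv_PGSp [CharP F 2] {m : ℕ} (hm : 1 ≤ m) :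
    Nonempty (↥(Matrix.symplecticGroup (Fin m) F) ≃* Cfsg.PGSp m F) := by
  apply projQuot_equiv_of (Cfsg.GSp m F) (spToGSp m)
  · intro k hk
    rw [Cfsg.Geo.mem_scalars_iff] at hk
    obtain ⟨c, hc⟩ := hk
    rw [spToGSp_val] at hc
    have h1 := (SymplecticGroup.mem_iff).1 k.2
    rw [hc] at h1
    have h2 := congrFun (congrFun h1 (Sum.inr ⟨0, hm⟩)) (Sum.inl ⟨0, hm⟩)
    simp only [Matrix.smul_mul, Matrix.one_mul, Matrix.transpose_smul, Matrix.transpose_one,
      Matrix.mul_smul, Matrix.mul_one, Matrix.smul_apply, smul_eq_mul, Matrix.J,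
      Matrix.fromBlocks_apply₂₁, Matrix.one_apply_eq, mul_one] at h2
    have h3 : (c : F) = 1 := eq_one_of_sq_eq_one_char_two (by rw [pow_two]; exact h2)
    apply Subtype.ext
    rw [hc, h3, one_smul]
    rfl
  · intro g
    obtain ⟨c, hc⟩ := (mem_GSp_iff_inv m g.1).1 g.2
    obtain ⟨s, rfl⟩ := exists_unit_sq c
    have h1 : IsSim (Ju m F)⁻¹ (sc _ s⁻¹ * g.1) 1 := isSim_div_sqrt hc
    have hmem : (sc (Fin m ⊕ Fin m) s⁻¹ * g.1 : GL (Fin m ⊕ Fin m) F).1 ∈
        Matrix.symplecticGroup (Fin m) F := by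
      rw [SymplecticGroup.mem_iff]
      unfold IsSim at h1
      rw [sc_one, one_mul] at h1
      have h3 := congrArg (fun x : GL (Fin m ⊕ Fin m) F => x.1) h1
      simp only [Units.val_mul, glT_val, Ju_inv_val, Matrix.mul_neg, Matrix.neg_mul, neg_inj]
        at h3
      rw [Units.val_mul]
      exact h3
    refine ⟨⟨_, hmem⟩, ?_⟩
    have e : ((spToGSp m ⟨_, hmem⟩)⁻¹ * g : ↥(Cfsg.GSp m F)).1 = sc (Fin m ⊕ Fin m) s := by
      have e1 : (spToGSp m ⟨_, hmem⟩ : ↥(Cfsg.GSp m F)).1 = sc (Fin m ⊕ Fin m) s⁻¹ * g.1 := by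
        apply Units.ext
        rfl
      show ((spToGSp m ⟨_, hmem⟩ : ↥(Cfsg.GSp m F)).1)⁻¹ * g.1 = _
      rw [e1, sc_inv, _root_.mul_inv_rev, inv_inv, mul_assoc, sc_comm s g.1, ← mul_assoc, inv_mul_cancel,
        one_mul]
    rw [e]
    exact sc_mem_scalars s

end sp

end Cfsg.Agent.Lib.Helper37.GraphPSL
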