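import Cfsg.Agent.Lib.Helper37.CharTwoGraph

set_option autoImplicit false
set_option linter.unusedSectionVars false
set_option linter.unusedVariables false
set_option linter.unusedSimpArgs false

namespace Cfsg.Agent.Lib.Helper37.GraphPSL

open Matrix
open Cfsg.Agent.Lib.Helper5.AutPSLn (Gam Iota glInvT)

section nform

variable {F : Type*} [Field F] {m : ℕ}

/-- the basis vector `e_a`, `a = inr i₀` -/
def ea (F : Type*) [Field F] {m : ℕ} (i₀ : Fin m) : Fin m ⊕ Fin m → F := Pi.single (Sum.inr i₀) 1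

/-- the non-alternating normal form `J + e_a e_aᵀ` -/
def Ng (F : Type*) [Field F] {m : ℕ} (i₀ : Fin m) : GL (Fin m ⊕ Fin m) F :=
  ⟨Matrix.fromBlocks 0 (-1) 1 (Matrix.diagonal (Pi.single i₀ 1)),
    Matrix.fromBlocks (Matrix.diagonal (Pi.single i₀ 1)) 1 (-1) 0,
    by rw [Matrix.fromBlocks_multiply]; simp [Matrix.fromBlocks_one],
    by rw [Matrix.fromBlocks_multiply]; simp [Matrix.fromBlocks_one]⟩

theorem blocks_eq_vecMulVec (i₀ : Fin m) :
    Matrix.fromBlocks (0 : Matrix (Fin m) (Fin m) F) 0 0 (Matrix.diagonal (Pi.single i₀ 1)) =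
      Matrix.vecMulVec (ea F i₀) (ea F i₀) := by
  ext (i | i) (j | j) <;>
    simp [ea, Matrix.vecMulVec_apply, Matrix.diagonal_apply, Pi.single_apply]
  split_ifs <;> simp_all

theorem Ng_val (i₀ : Fin m) :
    (Ng F i₀).1 = Matrix.J (Fin m) F + Matrix.vecMulVec (ea F i₀) (ea F i₀) := by
  rw [← blocks_eq_vecMulVec]
  show Matrix.fromBlocks 0 (-1) 1 (Matrix.diagonal (Pi.single i₀ 1)) = _
  unfold Matrix.J
  rw [Matrix.fromBlocks_add]
  simp

theorem J_transpose_char_two [CharP F 2] : (Matrix.J (Fin m) F)ᵀ = Matrix.J (Fin m) F := by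
  rw [Matrix.J_transpose]
  ext i j
  rw [Matrix.neg_apply]
  have := Cfsg.Agent.Lib.Helper44.add_self_char_two (Matrix.J (Fin m) F i j)
  linear_combination -this

theorem glT_Ng [CharP F 2] (i₀ : Fin m) : glT (Ng F i₀) = Ng F i₀ := by
  apply Units.ext
  rw [glT_val, Ng_val, Matrix.transpose_add, J_transpose_char_two, Matrix.transpose_vecMulVec]

theorem Ng_apply_aa (i₀ : Fin m) : (Ng F i₀).1 (Sum.inr i₀) (Sum.inr i₀) = 1 := by
  show Matrix.fromBlocks 0 (-1) 1 (Matrix.diagonal (Pi.single i₀ 1)) (Sum.inr i₀) (Sum.inr i₀) = 1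
  simp

/-- a vector whose squares are those of `e_a` is `e_a` (characteristic two) -/
theorem eq_ea_of_sq [CharP F 2] (i₀ : Fin m) (v : Fin m ⊕ Fin m → F)
    (h : ∀ i, v i * v i = ea F i₀ i * ea F i₀ i) : v = ea F i₀ := by
  funext i
  have hi := h i
  unfold ea at hi ⊢
  by_cases hia : i = Sum.inr i₀
  · subst hia
    rw [Pi.single_eq_same, mul_one] at hi
    rw [Pi.single_eq_same]
    exact eq_one_of_sq_eq_one_char_two (by rw [pow_two]; exact hi)
  · rw [Pi.single_eq_of_ne hia, mul_zero] at hi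
    rw [Pi.single_eq_of_ne hia]
    exact mul_self_eq_zero.1 hi

theorem eq_ea_of_vecMulVec [CharP F 2] (i₀ : Fin m) (v : Fin m ⊕ Fin m → F)
    (h : Matrix.vecMulVec v v = Matrix.vecMulVec (ea F i₀) (ea F i₀)) : v = ea F i₀ := by
  apply eq_ea_of_sq
  intro i
  have := congrFun (congrFun h i) i
  rw [Matrix.vecMulVec_apply, Matrix.vecMulVec_apply] at this
  exact this

theorem conj_vecMulVec {ι : Type} [Fintype ι] (k : Matrix ι ι F) (u w : ι → F) :
    k * Matrix.vecMulVec u w * kᵀ = Matrix.vecMulVec (k *ᵥ u) (k *ᵥ w) := by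
  rw [Matrix.mul_vecMulVec, Matrix.vecMulVec_mul, Matrix.vecMul_transpose]

theorem cong_J_diag (k : Matrix (Fin m ⊕ Fin m) (Fin m ⊕ Fin m) F) (i : Fin m ⊕ Fin m) :
    (k * Matrix.J (Fin m) F * kᵀ) i i = 0 := by
  have h1 : (k * Matrix.J (Fin m) F * kᵀ) i i =
      (fun j => k i j) ⬝ᵥ (Matrix.J (Fin m) F *ᵥ (fun j => k i j)) := by
    rw [Matrix.mul_apply]
    simp only [Matrix.transpose_apply, Matrix.mul_apply, dotProduct, Matrix.mulVec]
    simp only [Finset.mul_sum, Finset.sum_mul]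
    rw [Finset.sum_comm]
    apply Finset.sum_congr rfl
    intro a _
    apply Finset.sum_congr rfl
    intro b _
    ring
  rw [h1, J_alt]

/-- (K): isometries of the normal form -/
theorem isSim_Ng_one_iff [CharP F 2] (i₀ : Fin m) (k : GL (Fin m ⊕ Fin m) F) :
    IsSim (Ng F i₀) k 1 ↔
      (k.1 * Matrix.J (Fin m) F * k.1ᵀ = Matrix.J (Fin m) F ∧ k.1 *ᵥ ea F i₀ = ea F i₀) := by
  unfold IsSim
  rw [sc_one, one_mul]
  have hval : (k * Ng F i₀ * glT k).1 = k.1 * Matrix.J (Fin m) F * k.1ᵀ +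
      Matrix.vecMulVec (k.1 *ᵥ ea F i₀) (k.1 *ᵥ ea F i₀) := by
    rw [Units.val_mul, Units.val_mul, glT_val, Ng_val, Matrix.mul_add, Matrix.add_mul,
      conj_vecMulVec]
  constructor
  · intro h
    have h1 : k.1 * Matrix.J (Fin m) F * k.1ᵀ +
        Matrix.vecMulVec (k.1 *ᵥ ea F i₀) (k.1 *ᵥ ea F i₀) =
        Matrix.J (Fin m) F + Matrix.vecMulVec (ea F i₀) (ea F i₀) := by
      rw [← hval, h, Ng_val]
    have h2 : k.1 *ᵥ ea F i₀ = ea F i₀ := by
      apply eq_ea_of_sq
      intro i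
      have := congrFun (congrFun h1 i) i
      rw [Matrix.add_apply, Matrix.add_apply, cong_J_diag, zero_add, Matrix.vecMulVec_apply,
        Matrix.vecMulVec_apply] at this
      have hJ : Matrix.J (Fin m) F i i = 0 := by
        have := cong_J_diag (F := F) (1 : Matrix (Fin m ⊕ Fin m) (Fin m ⊕ Fin m) F) i
        rw [Matrix.one_mul, Matrix.transpose_one, Matrix.mul_one] at this
        exact this
      rw [hJ, zero_add] at this
      exact this
    refine ⟨?_, h2⟩
    rw [h2] at h1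
    exact add_right_cancel h1
  · rintro ⟨h1, h2⟩
    apply Units.ext
    rw [hval, h1, h2, Ng_val]

/-- the transvection `1 + e_a e_bᵀ` -/
def tMat (F : Type*) [Field F] {m : ℕ} (i₀ : Fin m) : Matrix (Fin m ⊕ Fin m) (Fin m ⊕ Fin m) F :=
  Matrix.fromBlocks 1 0 (Matrix.diagonal (Pi.single i₀ 1)) 1

theorem tMat_mem (i₀ : Fin m) : tMat F i₀ ∈ Matrix.symplecticGroup (Fin m) F := by
  rw [SymplecticGroup.mem_iff]
  unfold tMat Matrix.J
  rw [Matrix.fromBlocks_transpose, Matrix.fromBlocks_multiply, Matrix.fromBlocks_multiply]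
  simp

theorem ea_vecMul_J (i₀ : Fin m) :
    ea F i₀ ᵥ* Matrix.J (Fin m) F = Pi.single (Sum.inl i₀) 1 := by
  unfold ea
  rw [Matrix.single_one_vecMul]
  funext j
  rcases j with j | j
  · simp [Matrix.J, Pi.single_apply, Matrix.one_apply, eq_comm]
  · simp [Matrix.J]

theorem tMat_eq (i₀ : Fin m) :
    tMat F i₀ = 1 + Matrix.vecMulVec (ea F i₀) (ea F i₀) * Matrix.J (Fin m) F := by
  rw [Matrix.vecMulVec_mul, ea_vecMul_J]
  unfold tMat
  rw [← Matrix.fromBlocks_one]
  ext (i | i) (j | j) <;>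
    simp [ea, Matrix.vecMulVec_apply, Matrix.diagonal_apply, Pi.single_apply, Matrix.one_apply]
  split_ifs <;> simp_all

/-- (t3): a symplectic matrix commutes with the transvection iff it fixes `e_a` -/
theorem comm_tMat_iff [CharP F 2] (i₀ : Fin m) (k : Matrix (Fin m ⊕ Fin m) (Fin m ⊕ Fin m) F)
    (hk : k ∈ Matrix.symplecticGroup (Fin m) F) :
    k * tMat F i₀ = tMat F i₀ * k ↔ k *ᵥ ea F i₀ = ea F i₀ := by
  have hk1 := (SymplecticGroup.mem_iff).1 hk
  have hk2 := (SymplecticGroup.mem_iff').1 hk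
  set E := Matrix.vecMulVec (ea F i₀) (ea F i₀) with hE
  rw [tMat_eq, Matrix.mul_add, Matrix.add_mul, Matrix.mul_one, Matrix.one_mul, add_right_inj]
  constructor
  · intro h
    apply eq_ea_of_vecMulVec
    rw [← conj_vecMulVec, ← hE]
    -- k E J = E J k; multiply by J kᵀ
    have h1 := congrArg (fun X => X * (Matrix.J (Fin m) F * kᵀ)) h
    beta_reduce at h1
    have e1 : k * (E * Matrix.J (Fin m) F) * (Matrix.J (Fin m) F * kᵀ) = -(k * E * kᵀ) := by
      have : k * (E * Matrix.J (Fin m) F) * (Matrix.J (Fin m) F * kᵀ) =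
          k * E * (Matrix.J (Fin m) F * Matrix.J (Fin m) F) * kᵀ := by
        simp only [Matrix.mul_assoc]
      rw [this, Matrix.J_squared]
      simp
    have e2 : E * Matrix.J (Fin m) F * k * (Matrix.J (Fin m) F * kᵀ) = -E := by
      have : E * Matrix.J (Fin m) F * k * (Matrix.J (Fin m) F * kᵀ) =
          E * Matrix.J (Fin m) F * (k * Matrix.J (Fin m) F * kᵀ) := by
        simp only [Matrix.mul_assoc]
      rw [this, hk1, Matrix.mul_assoc, Matrix.J_squared]
      simp
    rw [e1, e2] at h1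
    exact neg_injective h1
  · intro h
    have h1 : k * E * kᵀ = E := by
      rw [hE, conj_vecMulVec, h]
    calc k * (E * Matrix.J (Fin m) F) = k * E * (kᵀ * Matrix.J (Fin m) F * k) := by
          rw [hk2, Matrix.mul_assoc]
      _ = (k * E * kᵀ) * Matrix.J (Fin m) F * k := by simp only [Matrix.mul_assoc]
      _ = E * Matrix.J (Fin m) F * k := by rw [h1]

end nform

end Cfsg.Agent.Lib.Helper37.GraphPSL
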