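import Cfsg.Agent.Lib.Helper37.CharTwoGraph2
import Cfsg.Agent.Lib.Helper8.SpTransv

set_option autoImplicit false
set_option linter.unusedSectionVars false
set_option linter.unusedVariables false
set_option linter.unusedSimpArgs false

namespace Cfsg.Agent.Lib.Helper37.GraphPSL

open Matrix
open Cfsg.Agent.Lib.Helper5.AutPSLn (Gam Iota glInvT)

section tr

variable {F : Type*} [Field F] {m : ℕ}

theorem tMat_eq_sympTransvection (i₀ : Fin m) :
    tMat F i₀ = Cfsg.sympTransvection m (ea F i₀) (-1) := by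
  rw [tMat_eq, Matrix.vecMulVec_mul]
  unfold Cfsg.sympTransvection
  congr 1
  rw [← Matrix.mulVec_transpose, Matrix.J_transpose, Matrix.neg_mulVec]
  ext i j
  simp [Matrix.vecMulVec_apply]

theorem ea_ne_zero (i₀ : Fin m) : ea F i₀ ≠ 0 := by
  intro h
  have := congrFun h (Sum.inr i₀)
  simp [ea] at this

theorem tMat_isTransvection (i₀ : Fin m) : Cfsg.IsTransvection (tMat F i₀) := by
  constructor
  · rw [tMat_eq_sympTransvection]
    exact Cfsg.Agent.Lib.Helper8.rank_sympTransvection_sub_one m (ea F i₀) (-1) (ea_ne_zero i₀)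
      (neg_ne_zero.2 one_ne_zero)
  · rw [tMat_eq, add_sub_cancel_left, Matrix.vecMulVec_mul, Matrix.vecMulVec_mul_vecMulVec]
    have : (ea F i₀ ᵥ* Matrix.J (Fin m) F) ⬝ᵥ ea F i₀ = 0 := by
      rw [← Matrix.dotProduct_mulVec, J_alt]
    rw [this, zero_smul]
    ext i j
    simp [Matrix.vecMulVec_apply]

/-- the transvection as an element of the symplectic group -/
def tSp (F : Type*) [Field F] {m : ℕ} (i₀ : Fin m) : ↥(Matrix.symplecticGroup (Fin m) F) :=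
  ⟨tMat F i₀, tMat_mem i₀⟩

/-- the centralizer of the transvection in `Sp_{2m}(F)` is the group of the normal form modulo
scalars -/
theorem cent_tSp_equiv [Fintype F] [CharP F 2] (i₀ : Fin m) :
    Nonempty (↥(Subgroup.centralizer ({tSp F i₀} : Set ↥(Matrix.symplecticGroup (Fin m) F))) ≃*
      Cfsg.projQuot (simGrp (Ng F i₀))) := by
  let toGL : ↥(Matrix.symplecticGroup (Fin m) F) →* GL (Fin m ⊕ Fin m) F :=
    MonoidHom.toHomUnits (Matrix.symplecticGroup (Fin m) F).subtype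
  have htoGL : ∀ k, (toGL k).1 = k.1 := fun k => rfl
  have hfix : ∀ k : ↥(Subgroup.centralizer ({tSp F i₀} : Set ↥(Matrix.symplecticGroup (Fin m) F))),
      k.1.1 *ᵥ ea F i₀ = ea F i₀ := by
    intro k
    refine (comm_tMat_iff i₀ k.1.1 k.1.2).1 ?_
    have := Subgroup.mem_centralizer_singleton_iff.1 k.2
    exact congrArg Subtype.val this
  have hmemS : ∀ k : ↥(Subgroup.centralizer ({tSp F i₀} : Set ↥(Matrix.symplecticGroup (Fin m) F))),
      (toGL.comp (Subgroup.subtype _)) k ∈ simGrp (Ng F i₀) := by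
    intro k
    exact ⟨1, (isSim_Ng_one_iff i₀ _).2 ⟨(SymplecticGroup.mem_iff).1 k.1.2, hfix k⟩⟩
  let ψ : ↥(Subgroup.centralizer ({tSp F i₀} : Set ↥(Matrix.symplecticGroup (Fin m) F))) →*
      ↥(simGrp (Ng F i₀)) := (toGL.comp (Subgroup.subtype _)).codRestrict _ hmemS
  have hψ : ∀ k, ((ψ k).1 : GL (Fin m ⊕ Fin m) F).1 = k.1.1 := fun k => rfl
  apply projQuot_equiv_of (simGrp (Ng F i₀)) ψ
  · intro k hk
    rw [Cfsg.Geo.mem_scalars_iff] at hk
    obtain ⟨c, hc⟩ := hk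
    rw [hψ] at hc
    have h2 := hfix k
    rw [hc, Matrix.smul_mulVec, Matrix.one_mulVec] at h2
    have h3 := congrFun h2 (Sum.inr i₀)
    simp only [ea, Pi.smul_apply, Pi.single_eq_same, smul_eq_mul, mul_one] at h3
    apply Subtype.ext
    apply Subtype.ext
    rw [hc, h3, one_smul]
    rfl
  · intro g
    obtain ⟨c, hc⟩ := g.2
    obtain ⟨s, rfl⟩ := exists_unit_sq c
    have h1 : IsSim (Ng F i₀) (sc _ s⁻¹ * g.1) 1 := isSim_div_sqrt hc
    obtain ⟨h2, h3⟩ := (isSim_Ng_one_iff i₀ _).1 h1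
    have hmem : (sc (Fin m ⊕ Fin m) s⁻¹ * g.1 : GL (Fin m ⊕ Fin m) F).1 ∈
        Matrix.symplecticGroup (Fin m) F := (SymplecticGroup.mem_iff).2 h2
    have hcent : (⟨_, hmem⟩ : ↥(Matrix.symplecticGroup (Fin m) F)) ∈
        Subgroup.centralizer ({tSp F i₀} : Set ↥(Matrix.symplecticGroup (Fin m) F)) := by
      rw [Subgroup.mem_centralizer_singleton_iff]
      apply Subtype.ext
      exact (comm_tMat_iff i₀ _ hmem).2 h3
    refine ⟨⟨⟨_, hmem⟩, hcent⟩, ?_⟩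
    have e : ((ψ ⟨⟨_, hmem⟩, hcent⟩)⁻¹ * g : ↥(simGrp (Ng F i₀))).1 = sc (Fin m ⊕ Fin m) s := by
      have e1 : (ψ ⟨⟨_, hmem⟩, hcent⟩ : ↥(simGrp (Ng F i₀))).1 =
          sc (Fin m ⊕ Fin m) s⁻¹ * g.1 := by
        apply Units.ext
        rfl
      show ((ψ ⟨⟨_, hmem⟩, hcent⟩ : ↥(simGrp (Ng F i₀))).1)⁻¹ * g.1 = _
      rw [e1, sc_inv, _root_.mul_inv_rev, inv_inv, mul_assoc, sc_comm s g.1, ← mul_assoc,
        inv_mul_cancel, one_mul]
    rw [e]
    exact sc_mem_scalars s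

end tr

section main

variable {F : Type*} [Field F] [Fintype F] [CharP F 2]

theorem neg_one_unit_eq_one : (-1 : Fˣ) = 1 := by
  apply Units.ext
  rw [Units.val_neg, Units.val_one]
  have := Cfsg.Agent.Lib.Helper44.add_self_char_two (1 : F)
  linear_combination -this

/-- the two classes of involutory graph automorphisms of `PSL_{2m}(F)` in characteristic two -/
theorem graph_classes_char_two {n m : ℕ} (hm : 2 ≤ m) (hnm : n = 2 * m) :
    ∃ (γ₁ γ₃ : MulAut (Matrix.ProjectiveSpecialLinearGroup (Fin n) F))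
      (t : ↥(Matrix.symplecticGroup (Fin m) F)),
      Cfsg.IsTransvection (t : Matrix (Fin m ⊕ Fin m) (Fin m ⊕ Fin m) F) ∧
      Cfsg.IsGraphAutClassPSL γ₁ ∧ orderOf γ₁ = 2 ∧ Cfsg.IsGraphAutClassPSL γ₃ ∧ orderOf γ₃ = 2 ∧
      ¬ Cfsg.IsConjUnder (Cfsg.inndiagPSL n F) γ₁ γ₃ ∧
      (∀ γ : MulAut (Matrix.ProjectiveSpecialLinearGroup (Fin n) F),
        Cfsg.IsGraphAutClassPSL γ → orderOf γ = 2 →
          Cfsg.IsConjUnder (Cfsg.inndiagPSL n F) γ₁ γ ∨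
          Cfsg.IsConjUnder (Cfsg.inndiagPSL n F) γ₃ γ) ∧
      Nonempty (↥(Cfsg.inndiagPSL n F ⊓ Subgroup.centralizer {γ₁}) ≃*
        ↥(Matrix.symplecticGroup (Fin m) F)) ∧
      Nonempty (↥(Cfsg.inndiagPSL n F ⊓ Subgroup.centralizer {γ₃}) ≃*
        ↥(Subgroup.centralizer ({t} : Set ↥(Matrix.symplecticGroup (Fin m) F)))) := by
  classical
  obtain ⟨N, rfl⟩ : ∃ N, n = N + 1 := ⟨n - 1, by omega⟩
  have hn3 : 3 ≤ N + 1 := by omega
  have hn2 : 2 ≤ N + 1 := by omega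
  let e₁ : Fin (N + 1) ≃ Fin m ⊕ Fin m := Fintype.equivOfCardEq (by simp; omega)
  let i₀ : Fin m := ⟨0, by omega⟩
  obtain ⟨A₁, hA₁⟩ : ∃ A₁ : GL (Fin (N + 1)) F, A₁ = (reindexGL e₁).symm (Ju m F)⁻¹ := ⟨_, rfl⟩
  obtain ⟨A₃, hA₃⟩ : ∃ A₃ : GL (Fin (N + 1)) F, A₃ = (reindexGL e₁).symm (Ng F i₀) := ⟨_, rfl⟩
  have hT₁ : glT A₁ = sc (Fin (N + 1)) (-1) * A₁ := by
    rw [hA₁, ← reindexGL_symm_glT, glT_Ju_inv, map_mul, reindexGL_symm_sc]
  have hT₃ : glT A₃ = A₃ := by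
    rw [hA₃, ← reindexGL_symm_glT, glT_Ng]
  have halt₁ : (Matrix.toBilin' A₁.1).IsAlt := by rw [hA₁]; exact A1_isAlt e₁
  have hna₃ : ¬ (Matrix.toBilin' A₃.1).IsAlt := by
    intro h
    have h1 := h (Pi.single (e₁.symm (Sum.inr i₀)) 1)
    rw [Matrix.toBilin'_single, hA₃, reindexGL_symm_val] at h1
    simp only [Matrix.reindex_apply, Matrix.submatrix_apply, Equiv.symm_symm,
      Equiv.apply_symm_apply] at h1
    rw [Ng_apply_aa] at h1
    exact one_ne_zero h1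
  refine ⟨beta A₁, beta A₃, tSp F i₀, tMat_isTransvection i₀, (isGraphAut_iff _).2 ⟨hn3, A₁, rfl⟩,
    (orderOf_beta_eq_two_iff hn3 A₁).2 (Or.inr hT₁), (isGraphAut_iff _).2 ⟨hn3, A₃, rfl⟩,
    (orderOf_beta_eq_two_iff hn3 A₃).2 (Or.inl hT₃), ?_, ?_, ?_, ?_⟩
  · rw [isConjUnder_beta_iff hn2]
    rintro ⟨h, c, e⟩
    exact hna₃ (isAlt_of_cong A₁ A₃ h c e halt₁)
  · intro γ hγ hγ2
    obtain ⟨-, A, rfl⟩ := (isGraphAut_iff γ).1 hγ
    have hA : glT A = A := by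
      rcases (orderOf_beta_eq_two_iff hn3 A).1 hγ2 with hA | hA
      · exact hA
      · rw [hA, neg_one_unit_eq_one, sc_one, one_mul]
    by_cases halt : (Matrix.toBilin' A.1).IsAlt
    · left
      obtain ⟨h, hh⟩ := alt_cong_of_isAlt hnm e₁ A halt
      rw [← hA₁] at hh
      exact (isConjUnder_beta_iff hn2 A₁ A).2 ⟨h, 1, by rw [sc_one, one_mul]; exact hh⟩
    · right
      obtain ⟨h₁, hh₁⟩ := nonalt_cong_one A hA halt
      obtain ⟨h₃, hh₃⟩ := nonalt_cong_one A₃ hT₃ hna₃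
      refine (isConjUnder_beta_iff hn2 A₃ A).2 ⟨h₁ * h₃⁻¹, 1, ?_⟩
      rw [sc_one, one_mul, ← hh₁]
      nth_rewrite 1 [← hh₃]
      rw [glT_mul, glT_inv]
      group
  · rw [hA₁]
    obtain ⟨θ⟩ := centralizer_beta_equiv (F := F) hn2 e₁ (Ju m F)⁻¹ (Cfsg.GSp m F)
      (mem_GSp_iff_inv m)
    obtain ⟨θ'⟩ := sp_equiv_PGSp (F := F) (m := m) (by omega)
    exact ⟨θ.trans θ'.symm⟩
  · rw [hA₃]
    obtain ⟨θ⟩ := centralizer_beta_equiv (F := F) hn2 e₁ (Ng F i₀) (simGrp (Ng F i₀))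
      (fun k => Iff.rfl)
    obtain ⟨θ'⟩ := cent_tSp_equiv (F := F) i₀
    exact ⟨θ.trans θ'.symm⟩

end main

end Cfsg.Agent.Lib.Helper37.GraphPSL
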