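import Cfsg.Agent.Lib.Helper12.D3Defs
import Cfsg.Agent.Lib.Helper36.ChevTwD4
import Cfsg.Agent.Lib.Helper36.ChevCentRoot2
import Cfsg.Agent.Lib.Helper36.ChevBV
import Cfsg.Agent.Lib.Helper36.ChevChar
import Cfsg.Agent.Lib.Helper65.D4gCOMM

/-! # D3 hive (S2183, helper12): leaf D3-NC1 (helper37)

`borel_conj_T'` : a Borel element of `D₄(K)` maps `T'(c₁,c₂,c₃,d,e)` to `T'(k₁c₁,k₂c₂,k₃c₃,d',e')`, `kᵢ ≠ 0`;
`borel_conj_23` : it maps `x₂₃(e)` to `x₂₃(k e)`. -/

set_option autoImplicit false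

namespace Cfsg.Agent.Lib.Helper12.D3

open Cfsg Cfsg.Lie Cfsg.Agent.Lib.Helper36 Cfsg.Agent.Lib.Helper75.D4g

variable (K : Type*) [Field K] (φ : K →+* K)

/-- commuting root elements (all commutator constants vanish over `ℤ`) -/
theorem d3nc1_comm (r s : ℕ) (hr : r < chevD4.nroots) (h : commVanish chevD4 0 r s = true) (t u : K) :
    xg K s u * xg K r t = xg K r t * xg K s u :=
  comm_of_vanish chevD4 hD4 K 0 (fun c hc => by
    have : c = 0 := by simpa using hc
    rw [this]; simp) r s hr h t u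

theorem d3nc1_semi0 (r s : ℕ) (hr : r < chevD4.nroots) (h : commVanish chevD4 0 r s = true) (t u : K) :
    SemiconjBy (xg K s u) (xg K r t) (xg K r t) := d3nc1_comm K r s hr h t u

theorem d3nc1_semi_self (r : ℕ) (t u : K) : SemiconjBy (xg K r u) (xg K r t) (xg K r t) := by
  unfold SemiconjBy xg
  rw [← xGL_add, ← xGL_add, add_comm]

theorem d3nc1_semi1 (r s k : ℕ) (C : ℤ) (hr : r < chevD4.nroots) (hs : s < chevD4.nroots) (hk : k < chevD4.nroots)
    (hrs : s ≠ r) (hneg : s ≠ chevD4.neg r) (hterms : chevD4.commTerms r s = [(k, C, 1, 1)])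
    (hks : commVanish chevD4 0 k s = true) (t u : K) :
    SemiconjBy (xg K s u) (xg K r t) (xg K r t * xg K k ((C : K) * (-t) * u)) := by
  unfold SemiconjBy
  rw [d4gcomm_single (K := K) r s k C hr hs hrs hneg hterms t u, mul_assoc, d3nc1_comm K k s hk hks, ← mul_assoc]

/-! ### moving a central factor to its place -/

theorem d3nc1_mvA {G : Type*} [Group G] (A Z B C D E : G) (hB : Z * B = B * Z) (hC : Z * C = C * Z) :
    A * Z * B * C * D * E = A * B * C * (Z * D) * E := by
  calc A * Z * B * C * D * E = A * (Z * B) * C * D * E := by simp only [mul_assoc]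
    _ = A * B * (Z * C) * D * E := by rw [hB]; simp only [mul_assoc]
    _ = A * B * C * (Z * D) * E := by rw [hC]; simp only [mul_assoc]

theorem d3nc1_mvB {G : Type*} [Group G] (A Z B C D E : G) (hC : Z * C = C * Z) :
    A * (B * Z) * C * D * E = A * B * C * (Z * D) * E := by
  calc A * (B * Z) * C * D * E = A * B * (Z * C) * D * E := by simp only [mul_assoc]
    _ = A * B * C * (Z * D) * E := by rw [hC]; simp only [mul_assoc]

theorem d3nc1_mvC {G : Type*} [Group G] (A Z B C D E : G) :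
    A * B * (C * Z) * D * E = A * B * C * (Z * D) * E := by simp only [mul_assoc]

theorem d3nc1_mwA {G : Type*} [Group G] (A Z B C D E : G) (hB : Z * B = B * Z) (hC : Z * C = C * Z)
    (hD : Z * D = D * Z) : A * Z * B * C * D * E = A * B * C * D * (Z * E) := by
  calc A * Z * B * C * D * E = A * (Z * B) * C * D * E := by simp only [mul_assoc]
    _ = A * B * (Z * C) * D * E := by rw [hB]; simp only [mul_assoc]
    _ = A * B * C * (Z * D) * E := by rw [hC]; simp only [mul_assoc]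
    _ = A * B * C * D * (Z * E) := by rw [hD]; simp only [mul_assoc]

theorem d3nc1_mwB {G : Type*} [Group G] (A Z B C D E : G) (hC : Z * C = C * Z)
    (hD : Z * D = D * Z) : A * (B * Z) * C * D * E = A * B * C * D * (Z * E) := by
  calc A * (B * Z) * C * D * E = A * B * (Z * C) * D * E := by simp only [mul_assoc]
    _ = A * B * C * (Z * D) * E := by rw [hC]; simp only [mul_assoc]
    _ = A * B * C * D * (Z * E) := by rw [hD]; simp only [mul_assoc]

theorem d3nc1_mwC {G : Type*} [Group G] (A Z B C D E : G)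
    (hD : Z * D = D * Z) : A * B * (C * Z) * D * E = A * B * C * D * (Z * E) := by
  calc A * B * (C * Z) * D * E = A * B * C * (Z * D) * E := by simp only [mul_assoc]
    _ = A * B * C * D * (Z * E) := by rw [hD]; simp only [mul_assoc]

theorem d3nc1_mwD {G : Type*} [Group G] (A Z B C D E : G) :
    A * B * C * (D * Z) * E = A * B * C * D * (Z * E) := by simp only [mul_assoc]

/-- the table facts -/
theorem d3nc1_v : ∀ s, 12 ≤ s → s < 24 → ∀ r ∈ [21, 17, 20, 22, 23],
    (commVanish chevD4 0 r s = true ∨ r = s ∨ (s, r) ∈ [(12, 21), (13, 20), (18, 17), (14, 22), (15, 21), (16, 20), (19, 17)]) := by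
  decide +kernel

theorem d3nc1_t1 : chevD4.commTerms 21 12 = [(22, -1, 1, 1)] := by decide +kernel
theorem d3nc1_t2 : chevD4.commTerms 20 13 = [(22, -1, 1, 1)] := by decide +kernel
theorem d3nc1_t3 : chevD4.commTerms 17 18 = [(22, 1, 1, 1)] := by decide +kernel
theorem d3nc1_t4 : chevD4.commTerms 22 14 = [(23, -1, 1, 1)] := by decide +kernel
theorem d3nc1_t5 : chevD4.commTerms 21 15 = [(23, 1, 1, 1)] := by decide +kernel
theorem d3nc1_t6 : chevD4.commTerms 20 16 = [(23, 1, 1, 1)] := by decide +kernel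
theorem d3nc1_t7 : chevD4.commTerms 17 19 = [(23, 1, 1, 1)] := by decide +kernel

theorem d3nc1_add (r : ℕ) (a b : K) : xg K r (a + b) = xg K r a * xg K r b := xGL_add chevD4 hD4 K r a b

/-- the generators of `U` move `T'(c₁,c₂,c₃,d,e)` inside `{T'(c₁,c₂,c₃,*,*)}` -/
theorem d3nc1_gen (r : ℕ) (hr : chevD4.IsPosRoot r) (u c₁ c₂ c₃ d e : K) :
    ∃ d' e' : K, SemiconjBy (xg K r u) (T' K c₁ c₂ c₃ d e) (T' K c₁ c₂ c₃ d' e') := by
  have hr24 : r < 24 := hr.1
  have h12 : 12 ≤ r := by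
    by_contra hlt
    have hlt' : r < 12 := Nat.lt_of_not_le hlt
    interval_cases r <;> revert hr <;> decide
  have hv := d3nc1_v r h12 hr24
  have s0 : ∀ (a : ℕ) (t : K), a ∈ [21, 17, 20, 22, 23] → commVanish chevD4 0 a r = true →
      SemiconjBy (xg K r u) (xg K a t) (xg K a t) := by
    intro a t ha hc
    refine d3nc1_semi0 K a r ?_ hc t u
    fin_cases ha <;> decide
  -- commutation of the central factors with the middle ones
  have c22_17 : ∀ x y : K, xg K 22 x * xg K 17 y = xg K 17 y * xg K 22 x :=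
    fun x y => d3nc1_comm K 17 22 (by decide) (by decide +kernel) y x
  have c22_20 : ∀ x y : K, xg K 22 x * xg K 20 y = xg K 20 y * xg K 22 x :=
    fun x y => d3nc1_comm K 20 22 (by decide) (by decide +kernel) y x
  have c23_17 : ∀ x y : K, xg K 23 x * xg K 17 y = xg K 17 y * xg K 23 x :=
    fun x y => d3nc1_comm K 17 23 (by decide) (by decide +kernel) y x
  have c23_20 : ∀ x y : K, xg K 23 x * xg K 20 y = xg K 20 y * xg K 23 x :=
    fun x y => d3nc1_comm K 20 23 (by decide) (by decide +kernel) y x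
  have c23_22 : ∀ x y : K, xg K 23 x * xg K 22 y = xg K 22 y * xg K 23 x :=
    fun x y => d3nc1_comm K 22 23 (by decide) (by decide +kernel) y x
  interval_cases r
  · -- r = 12 : 12 + 21 = 22
    refine ⟨((-1 : ℤ) : K) * (-c₁) * u + d, e, ?_⟩
    have h := ((((d3nc1_semi1 K 21 12 22 (-1) (by decide) (by decide) (by decide) (by decide) (by decide)
      d3nc1_t1 (by decide +kernel) c₁ u).mul_right (s0 17 c₂ (by decide) (by decide +kernel))).mul_right
      (s0 20 c₃ (by decide) (by decide +kernel))).mul_right (s0 22 d (by decide) (by decide +kernel))).mul_right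
      (s0 23 e (by decide) (by decide +kernel))
    have e1 : T' K c₁ c₂ c₃ (((-1 : ℤ) : K) * (-c₁) * u + d) e =
        xg K 21 c₁ * xg K 22 (((-1 : ℤ) : K) * (-c₁) * u) * xg K 17 c₂ * xg K 20 c₃ * xg K 22 d * xg K 23 e := by
      unfold T'
      rw [d3nc1_add]
      exact (d3nc1_mvA _ _ _ _ _ _ (c22_17 _ _) (c22_20 _ _)).symm
    rw [e1]
    exact h
  · -- r = 13 : 13 + 20 = 22
    refine ⟨((-1 : ℤ) : K) * (-c₃) * u + d, e, ?_⟩
    have h := ((((s0 21 c₁ (by decide) (by decide +kernel)).mul_right (s0 17 c₂ (by decide) (by decide +kernel))).mul_right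
      (d3nc1_semi1 K 20 13 22 (-1) (by decide) (by decide) (by decide) (by decide) (by decide)
      d3nc1_t2 (by decide +kernel) c₃ u)).mul_right (s0 22 d (by decide) (by decide +kernel))).mul_right
      (s0 23 e (by decide) (by decide +kernel))
    have e1 : T' K c₁ c₂ c₃ (((-1 : ℤ) : K) * (-c₃) * u + d) e =
        xg K 21 c₁ * xg K 17 c₂ * (xg K 20 c₃ * xg K 22 (((-1 : ℤ) : K) * (-c₃) * u)) * xg K 22 d * xg K 23 e := by
      unfold T'
      rw [d3nc1_add]
      exact (d3nc1_mvC _ _ _ _ _ _).symm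
    rw [e1]
    exact h
  · -- r = 14 : 14 + 22 = 23
    refine ⟨d, ((-1 : ℤ) : K) * (-d) * u + e, ?_⟩
    have h := ((((s0 21 c₁ (by decide) (by decide +kernel)).mul_right (s0 17 c₂ (by decide) (by decide +kernel))).mul_right
      (s0 20 c₃ (by decide) (by decide +kernel))).mul_right
      (d3nc1_semi1 K 22 14 23 (-1) (by decide) (by decide) (by decide) (by decide) (by decide)
      d3nc1_t4 (by decide +kernel) d u)).mul_right
      (s0 23 e (by decide) (by decide +kernel))
    have e1 : T' K c₁ c₂ c₃ d (((-1 : ℤ) : K) * (-d) * u + e) =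
        xg K 21 c₁ * xg K 17 c₂ * xg K 20 c₃ * (xg K 22 d * xg K 23 (((-1 : ℤ) : K) * (-d) * u)) * xg K 23 e := by
      unfold T'
      rw [d3nc1_add]
      exact (d3nc1_mwD _ _ _ _ _ _).symm
    rw [e1]
    exact h
  · -- r = 15 : 15 + 21 = 23
    refine ⟨d, ((1 : ℤ) : K) * (-c₁) * u + e, ?_⟩
    have h := ((((d3nc1_semi1 K 21 15 23 1 (by decide) (by decide) (by decide) (by decide) (by decide)
      d3nc1_t5 (by decide +kernel) c₁ u).mul_right (s0 17 c₂ (by decide) (by decide +kernel))).mul_right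
      (s0 20 c₃ (by decide) (by decide +kernel))).mul_right (s0 22 d (by decide) (by decide +kernel))).mul_right
      (s0 23 e (by decide) (by decide +kernel))
    have e1 : T' K c₁ c₂ c₃ d (((1 : ℤ) : K) * (-c₁) * u + e) =
        xg K 21 c₁ * xg K 23 (((1 : ℤ) : K) * (-c₁) * u) * xg K 17 c₂ * xg K 20 c₃ * xg K 22 d * xg K 23 e := by
      unfold T'
      rw [d3nc1_add]
      exact (d3nc1_mwA _ _ _ _ _ _ (c23_17 _ _) (c23_20 _ _) (c23_22 _ _)).symm
    rw [e1]
    exact h
  · -- r = 16 : 16 + 20 = 23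
    refine ⟨d, ((1 : ℤ) : K) * (-c₃) * u + e, ?_⟩
    have h := ((((s0 21 c₁ (by decide) (by decide +kernel)).mul_right (s0 17 c₂ (by decide) (by decide +kernel))).mul_right
      (d3nc1_semi1 K 20 16 23 1 (by decide) (by decide) (by decide) (by decide) (by decide)
      d3nc1_t6 (by decide +kernel) c₃ u)).mul_right (s0 22 d (by decide) (by decide +kernel))).mul_right
      (s0 23 e (by decide) (by decide +kernel))
    have e1 : T' K c₁ c₂ c₃ d (((1 : ℤ) : K) * (-c₃) * u + e) =
        xg K 21 c₁ * xg K 17 c₂ * (xg K 20 c₃ * xg K 23 (((1 : ℤ) : K) * (-c₃) * u)) * xg K 22 d * xg K 23 e := by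
      unfold T'
      rw [d3nc1_add]
      exact (d3nc1_mwC _ _ _ _ _ _ (c23_22 _ _)).symm
    rw [e1]
    exact h
  · -- r = 17
    refine ⟨d, e, ?_⟩
    exact ((((s0 21 c₁ (by decide) (by decide +kernel)).mul_right (d3nc1_semi_self K 17 c₂ u)).mul_right
      (s0 20 c₃ (by decide) (by decide +kernel))).mul_right (s0 22 d (by decide) (by decide +kernel))).mul_right
      (s0 23 e (by decide) (by decide +kernel))
  · -- r = 18 : 18 + 17 = 22
    refine ⟨((1 : ℤ) : K) * (-c₂) * u + d, e, ?_⟩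
    have h := ((((s0 21 c₁ (by decide) (by decide +kernel)).mul_right
      (d3nc1_semi1 K 17 18 22 1 (by decide) (by decide) (by decide) (by decide) (by decide)
      d3nc1_t3 (by decide +kernel) c₂ u)).mul_right
      (s0 20 c₃ (by decide) (by decide +kernel))).mul_right (s0 22 d (by decide) (by decide +kernel))).mul_right
      (s0 23 e (by decide) (by decide +kernel))
    have e1 : T' K c₁ c₂ c₃ (((1 : ℤ) : K) * (-c₂) * u + d) e =
        xg K 21 c₁ * (xg K 17 c₂ * xg K 22 (((1 : ℤ) : K) * (-c₂) * u)) * xg K 20 c₃ * xg K 22 d * xg K 23 e := by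
      unfold T'
      rw [d3nc1_add]
      exact (d3nc1_mvB _ _ _ _ _ _ (c22_20 _ _)).symm
    rw [e1]
    exact h
  · -- r = 19 : 19 + 17 = 23
    refine ⟨d, ((1 : ℤ) : K) * (-c₂) * u + e, ?_⟩
    have h := ((((s0 21 c₁ (by decide) (by decide +kernel)).mul_right
      (d3nc1_semi1 K 17 19 23 1 (by decide) (by decide) (by decide) (by decide) (by decide)
      d3nc1_t7 (by decide +kernel) c₂ u)).mul_right
      (s0 20 c₃ (by decide) (by decide +kernel))).mul_right (s0 22 d (by decide) (by decide +kernel))).mul_right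
      (s0 23 e (by decide) (by decide +kernel))
    have e1 : T' K c₁ c₂ c₃ d (((1 : ℤ) : K) * (-c₂) * u + e) =
        xg K 21 c₁ * (xg K 17 c₂ * xg K 23 (((1 : ℤ) : K) * (-c₂) * u)) * xg K 20 c₃ * xg K 22 d * xg K 23 e := by
      unfold T'
      rw [d3nc1_add]
      exact (d3nc1_mwB _ _ _ _ _ _ (c23_20 _ _) (c23_22 _ _)).symm
    rw [e1]
    exact h
  · -- r = 20
    refine ⟨d, e, ?_⟩
    exact ((((s0 21 c₁ (by decide) (by decide +kernel)).mul_right (s0 17 c₂ (by decide) (by decide +kernel))).mul_right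
      (d3nc1_semi_self K 20 c₃ u)).mul_right (s0 22 d (by decide) (by decide +kernel))).mul_right
      (s0 23 e (by decide) (by decide +kernel))
  · -- r = 21
    refine ⟨d, e, ?_⟩
    exact ((((d3nc1_semi_self K 21 c₁ u).mul_right (s0 17 c₂ (by decide) (by decide +kernel))).mul_right
      (s0 20 c₃ (by decide) (by decide +kernel))).mul_right (s0 22 d (by decide) (by decide +kernel))).mul_right
      (s0 23 e (by decide) (by decide +kernel))
  · -- r = 22
    refine ⟨d, e, ?_⟩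
    exact ((((s0 21 c₁ (by decide) (by decide +kernel)).mul_right (s0 17 c₂ (by decide) (by decide +kernel))).mul_right
      (s0 20 c₃ (by decide) (by decide +kernel))).mul_right (d3nc1_semi_self K 22 d u)).mul_right
      (s0 23 e (by decide) (by decide +kernel))
  · -- r = 23
    refine ⟨d, e, ?_⟩
    exact ((((s0 21 c₁ (by decide) (by decide +kernel)).mul_right (s0 17 c₂ (by decide) (by decide +kernel))).mul_right
      (s0 20 c₃ (by decide) (by decide +kernel))).mul_right (s0 22 d (by decide) (by decide +kernel))).mul_right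
      (d3nc1_semi_self K 23 e u)

theorem d3nc1_semi (u : GL chevD4.Idx K) (hu : u ∈ chevD4.posUnipotent K) (c₁ c₂ c₃ : K) :
    ∀ d e : K, ∃ d' e' : K, SemiconjBy u (T' K c₁ c₂ c₃ d e) (T' K c₁ c₂ c₃ d' e') := by
  unfold ChevalleyDatum.posUnipotent at hu
  induction hu using Subgroup.closure_induction'' with
  | one => exact fun d e => ⟨d, e, SemiconjBy.one_left _⟩
  | mem x hx =>
    obtain ⟨r, t, hr, hx⟩ := hx
    have e1 : x = xg K r t := Units.ext (by rw [hx]; exact (xGL_coe chevD4 hD4 K r t).symm)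
    rw [e1]
    exact fun d e => d3nc1_gen K r hr t c₁ c₂ c₃ d e
  | inv_mem x hx =>
    obtain ⟨r, t, hr, hx⟩ := hx
    have e1 : x = xg K r t := Units.ext (by rw [hx]; exact (xGL_coe chevD4 hD4 K r t).symm)
    have e2 : x⁻¹ = xg K r (-t) := by rw [e1]; exact xGL_inv chevD4 hD4 K r t
    rw [e2]
    exact fun d e => d3nc1_gen K r hr (-t) c₁ c₂ c₃ d e
  | mul a b _ _ ha hb =>
    intro d e
    obtain ⟨d1, e1, h1⟩ := hb d e
    obtain ⟨d2, e2, h2⟩ := ha d1 e1
    exact ⟨d2, e2, h2.mul_left h1⟩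

theorem d3nc1_pos_conj_T' (u : GL chevD4.Idx K) (hu : u ∈ chevD4.posUnipotent K) (c₁ c₂ c₃ d e : K) :
    ∃ d' e' : K, u * T' K c₁ c₂ c₃ d e * u⁻¹ = T' K c₁ c₂ c₃ d' e' := by
  obtain ⟨d', e', h⟩ := d3nc1_semi K u hu c₁ c₂ c₃ d e
  refine ⟨d', e', ?_⟩
  rw [h.eq, mul_inv_cancel_right]

/-- `x₂₃` is central in `U` -/
theorem d3nc1_pos_comm_23 (u : GL chevD4.Idx K) (hu : u ∈ chevD4.posUnipotent K) (e : K) :
    u * xg K 23 e = xg K 23 e * u := by
  have hle : chevD4.posUnipotent K ≤ Subgroup.centralizer {xg K 23 e} := by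
    unfold ChevalleyDatum.posUnipotent
    rw [Subgroup.closure_le]
    rintro x ⟨r, t, hr, hx⟩
    have e1 : x = xg K r t := Units.ext (by rw [hx]; exact (xGL_coe chevD4 hD4 K r t).symm)
    rw [SetLike.mem_coe, Subgroup.mem_centralizer_iff]
    intro y hy
    rw [Set.mem_singleton_iff] at hy
    rw [hy, e1]
    have hr24 : r < 24 := hr.1
    have h12 : 12 ≤ r := by
      by_contra hlt
      have hlt' : r < 12 := Nat.lt_of_not_le hlt
      interval_cases r <;> revert hr <;> decide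
    rcases d3nc1_v r h12 hr24 23 (by decide) with h | h | h
    · exact (d3nc1_comm K 23 r (by decide) h e t).symm
    · rw [← h]
      exact (d3nc1_semi_self K 23 e t).eq.symm
    · exfalso
      revert h
      interval_cases r <;> decide
  have := hle hu
  rw [Subgroup.mem_centralizer_iff] at this
  exact (this _ rfl).symm

/-- D3-NC1 -/
theorem borel_conj_T' (y : GL chevD4.Idx K) (hy : y ∈ chevD4.borelSubgroup K) (c₁ c₂ c₃ d e : K) :
    ∃ k₁ k₂ k₃ : K, k₁ ≠ 0 ∧ k₂ ≠ 0 ∧ k₃ ≠ 0 ∧ ∃ d' e' : K,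
      y * T' K c₁ c₂ c₃ d e * y⁻¹ = T' K (k₁ * c₁) (k₂ * c₂) (k₃ * c₃) d' e' := by
  obtain ⟨u, hu, h, hh, rfl⟩ := (mem_borel_iff chevD4 hD4 K y).1 hy
  obtain ⟨χ, hχ, ek⟩ := exists_character_of_mem_diagonal chevD4 hD4 K h hh
  have h21 := diag_conj_xGL chevD4 hD4 K h χ hχ ek 21 (by decide) c₁
  have h17 := diag_conj_xGL chevD4 hD4 K h χ hχ ek 17 (by decide) c₂
  have h20 := diag_conj_xGL chevD4 hD4 K h χ hχ ek 20 (by decide) c₃
  have h22 := diag_conj_xGL chevD4 hD4 K h χ hχ ek 22 (by decide) d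
  have h23 := diag_conj_xGL chevD4 hD4 K h χ hχ ek 23 (by decide) e
  have hT : h * T' K c₁ c₂ c₃ d e * h⁻¹ =
      T' K ((χ 21 : K) * c₁) ((χ 17 : K) * c₂) ((χ 20 : K) * c₃) ((χ 22 : K) * d) ((χ 23 : K) * e) := by
    unfold T' xg
    rw [← h21, ← h17, ← h20, ← h22, ← h23]
    group
  obtain ⟨d', e', hde⟩ := d3nc1_pos_conj_T' K u hu ((χ 21 : K) * c₁) ((χ 17 : K) * c₂) ((χ 20 : K) * c₃)
    ((χ 22 : K) * d) ((χ 23 : K) * e)
  refine ⟨(χ 21 : K), (χ 17 : K), (χ 20 : K), Units.ne_zero _, Units.ne_zero _, Units.ne_zero _, d', e', ?_⟩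
  rw [← hde, ← hT]
  group

/-- D3-NC1 -/
theorem borel_conj_23 (y : GL chevD4.Idx K) (hy : y ∈ chevD4.borelSubgroup K) (e : K) :
    ∃ k : K, y * xg K 23 e * y⁻¹ = xg K 23 (k * e) := by
  obtain ⟨u, hu, h, hh, rfl⟩ := (mem_borel_iff chevD4 hD4 K y).1 hy
  obtain ⟨χ, hχ, ek⟩ := exists_character_of_mem_diagonal chevD4 hD4 K h hh
  have h23 := diag_conj_xGL chevD4 hD4 K h χ hχ ek 23 (by decide) e
  refine ⟨(χ 23 : K), ?_⟩
  have hc := d3nc1_pos_comm_23 K u hu ((χ 23 : K) * e)
  unfold xg at hc ⊢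
  rw [← h23] at hc ⊢
  calc u * h * xGL chevD4 hD4 K 23 e * (u * h)⁻¹
      = u * (h * xGL chevD4 hD4 K 23 e * h⁻¹) * u⁻¹ := by group
    _ = h * xGL chevD4 hD4 K 23 e * h⁻¹ := by rw [hc, mul_inv_cancel_right]

end Cfsg.Agent.Lib.Helper12.D3
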