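import Mathlib
import Cfsg.Agent.Lib.Helper37.Eichler2
import Cfsg.Agent.Lib.Helper8.OrthForms
import Cfsg.Prelude.Def_Steinberg
import Cfsg.Prelude.Def_LieTypes

/-! # `D₄(F) ≅ PΩ₈⁺(F)` (S1082 hive "Do", helper37): definitions (GENERATED by tools/helper37/d4gen.py)

`Q8 F = plusForm 4 F = Σ xᵢyᵢ` on `F^(Fin 4 ⊕ Fin 4)`; `OG F` its isometry group.
Root elements `X r t` (`r : Fin 24` the root index of `Cfsg.Lie.chevD4`): Eichler transformations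
`eichler (Q8 F) (ru r) ((cs r * t) • rv r)` with signs `cs` chosen (by computer) so that the
Steinberg relations hold with EXACTLY the structure constants of `chevD4`.
Coordinates of `x : I8 → F`: `ca1 … ca4` (the `e`-coordinates), `cb1 … cb4` (the `f`-coordinates);
`mk8 a1 a2 a3 a4 b1 b2 b3 b4` the vector. -/

set_option autoImplicit false
set_option linter.unusedSectionVars false
set_option linter.unusedVariables false

namespace Cfsg.Agent.Lib.Helper37.D4O8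

open Matrix Module QuadraticMap
open Cfsg.Agent.Lib.Helper8 Cfsg.Agent.Lib.Helper13 Cfsg.Agent.Lib.Helper37

/-- the index type of the natural module -/
abbrev I8 : Type := Fin 4 ⊕ Fin 4

variable (F : Type*) [Field F]

/-- the quadratic form `Σ xᵢyᵢ` -/
abbrev Q8 : QuadraticForm F (I8 → F) := plusForm 4 F

/-- `O₈⁺(F)` -/
abbrev OG : Type _ := ↥(Cfsg.isometryGroup F ⇑(Q8 F))

variable {F}

def ca1 (x : I8 → F) : F := x (Sum.inl 0)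
def ca2 (x : I8 → F) : F := x (Sum.inl 1)
def ca3 (x : I8 → F) : F := x (Sum.inl 2)
def ca4 (x : I8 → F) : F := x (Sum.inl 3)
def cb1 (x : I8 → F) : F := x (Sum.inr 0)
def cb2 (x : I8 → F) : F := x (Sum.inr 1)
def cb3 (x : I8 → F) : F := x (Sum.inr 2)
def cb4 (x : I8 → F) : F := x (Sum.inr 3)

/-- the vector with given coordinates -/
def mk8 (a1 a2 a3 a4 b1 b2 b3 b4 : F) : I8 → F := Sum.elim ![a1, a2, a3, a4] ![b1, b2, b3, b4]

@[simp] theorem ca1_mk8 (a1 a2 a3 a4 b1 b2 b3 b4 : F) : ca1 (mk8 a1 a2 a3 a4 b1 b2 b3 b4) = a1 := rfl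
@[simp] theorem ca2_mk8 (a1 a2 a3 a4 b1 b2 b3 b4 : F) : ca2 (mk8 a1 a2 a3 a4 b1 b2 b3 b4) = a2 := rfl
@[simp] theorem ca3_mk8 (a1 a2 a3 a4 b1 b2 b3 b4 : F) : ca3 (mk8 a1 a2 a3 a4 b1 b2 b3 b4) = a3 := rfl
@[simp] theorem ca4_mk8 (a1 a2 a3 a4 b1 b2 b3 b4 : F) : ca4 (mk8 a1 a2 a3 a4 b1 b2 b3 b4) = a4 := rfl
@[simp] theorem cb1_mk8 (a1 a2 a3 a4 b1 b2 b3 b4 : F) : cb1 (mk8 a1 a2 a3 a4 b1 b2 b3 b4) = b1 := rfl
@[simp] theorem cb2_mk8 (a1 a2 a3 a4 b1 b2 b3 b4 : F) : cb2 (mk8 a1 a2 a3 a4 b1 b2 b3 b4) = b2 := rfl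
@[simp] theorem cb3_mk8 (a1 a2 a3 a4 b1 b2 b3 b4 : F) : cb3 (mk8 a1 a2 a3 a4 b1 b2 b3 b4) = b3 := rfl
@[simp] theorem cb4_mk8 (a1 a2 a3 a4 b1 b2 b3 b4 : F) : cb4 (mk8 a1 a2 a3 a4 b1 b2 b3 b4) = b4 := rfl

/-- extensionality in coordinates -/
theorem ext8 {x y : I8 → F} (h1 : ca1 x = ca1 y) (h2 : ca2 x = ca2 y) (h3 : ca3 x = ca3 y)
    (h4 : ca4 x = ca4 y) (h5 : cb1 x = cb1 y) (h6 : cb2 x = cb2 y) (h7 : cb3 x = cb3 y)
    (h8 : cb4 x = cb4 y) : x = y := by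
  funext i
  rcases i with i | i
  · fin_cases i
    · exact h1
    · exact h2
    · exact h3
    · exact h4
  · fin_cases i
    · exact h5
    · exact h6
    · exact h7
    · exact h8

theorem mk8_eta (x : I8 → F) : mk8 (ca1 x) (ca2 x) (ca3 x) (ca4 x) (cb1 x) (cb2 x) (cb3 x) (cb4 x) = x :=
  ext8 rfl rfl rfl rfl rfl rfl rfl rfl

@[simp] theorem ca1_add (x y : I8 → F) : ca1 (x + y) = ca1 x + ca1 y := rfl
@[simp] theorem ca1_sub (x y : I8 → F) : ca1 (x - y) = ca1 x - ca1 y := rfl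
@[simp] theorem ca1_smul (c : F) (x : I8 → F) : ca1 (c • x) = c * ca1 x := rfl
@[simp] theorem ca1_neg (x : I8 → F) : ca1 (-x) = - ca1 x := rfl
@[simp] theorem ca1_zero : ca1 (0 : I8 → F) = 0 := rfl
@[simp] theorem ca2_add (x y : I8 → F) : ca2 (x + y) = ca2 x + ca2 y := rfl
@[simp] theorem ca2_sub (x y : I8 → F) : ca2 (x - y) = ca2 x - ca2 y := rfl
@[simp] theorem ca2_smul (c : F) (x : I8 → F) : ca2 (c • x) = c * ca2 x := rfl
@[simp] theorem ca2_neg (x : I8 → F) : ca2 (-x) = - ca2 x := rfl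
@[simp] theorem ca2_zero : ca2 (0 : I8 → F) = 0 := rfl
@[simp] theorem ca3_add (x y : I8 → F) : ca3 (x + y) = ca3 x + ca3 y := rfl
@[simp] theorem ca3_sub (x y : I8 → F) : ca3 (x - y) = ca3 x - ca3 y := rfl
@[simp] theorem ca3_smul (c : F) (x : I8 → F) : ca3 (c • x) = c * ca3 x := rfl
@[simp] theorem ca3_neg (x : I8 → F) : ca3 (-x) = - ca3 x := rfl
@[simp] theorem ca3_zero : ca3 (0 : I8 → F) = 0 := rfl
@[simp] theorem ca4_add (x y : I8 → F) : ca4 (x + y) = ca4 x + ca4 y := rfl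
@[simp] theorem ca4_sub (x y : I8 → F) : ca4 (x - y) = ca4 x - ca4 y := rfl
@[simp] theorem ca4_smul (c : F) (x : I8 → F) : ca4 (c • x) = c * ca4 x := rfl
@[simp] theorem ca4_neg (x : I8 → F) : ca4 (-x) = - ca4 x := rfl
@[simp] theorem ca4_zero : ca4 (0 : I8 → F) = 0 := rfl
@[simp] theorem cb1_add (x y : I8 → F) : cb1 (x + y) = cb1 x + cb1 y := rfl
@[simp] theorem cb1_sub (x y : I8 → F) : cb1 (x - y) = cb1 x - cb1 y := rfl
@[simp] theorem cb1_smul (c : F) (x : I8 → F) : cb1 (c • x) = c * cb1 x := rfl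
@[simp] theorem cb1_neg (x : I8 → F) : cb1 (-x) = - cb1 x := rfl
@[simp] theorem cb1_zero : cb1 (0 : I8 → F) = 0 := rfl
@[simp] theorem cb2_add (x y : I8 → F) : cb2 (x + y) = cb2 x + cb2 y := rfl
@[simp] theorem cb2_sub (x y : I8 → F) : cb2 (x - y) = cb2 x - cb2 y := rfl
@[simp] theorem cb2_smul (c : F) (x : I8 → F) : cb2 (c • x) = c * cb2 x := rfl
@[simp] theorem cb2_neg (x : I8 → F) : cb2 (-x) = - cb2 x := rfl
@[simp] theorem cb2_zero : cb2 (0 : I8 → F) = 0 := rfl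
@[simp] theorem cb3_add (x y : I8 → F) : cb3 (x + y) = cb3 x + cb3 y := rfl
@[simp] theorem cb3_sub (x y : I8 → F) : cb3 (x - y) = cb3 x - cb3 y := rfl
@[simp] theorem cb3_smul (c : F) (x : I8 → F) : cb3 (c • x) = c * cb3 x := rfl
@[simp] theorem cb3_neg (x : I8 → F) : cb3 (-x) = - cb3 x := rfl
@[simp] theorem cb3_zero : cb3 (0 : I8 → F) = 0 := rfl
@[simp] theorem cb4_add (x y : I8 → F) : cb4 (x + y) = cb4 x + cb4 y := rfl
@[simp] theorem cb4_sub (x y : I8 → F) : cb4 (x - y) = cb4 x - cb4 y := rfl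
@[simp] theorem cb4_smul (c : F) (x : I8 → F) : cb4 (c • x) = c * cb4 x := rfl
@[simp] theorem cb4_neg (x : I8 → F) : cb4 (-x) = - cb4 x := rfl
@[simp] theorem cb4_zero : cb4 (0 : I8 → F) = 0 := rfl

/-- the standard basis -/
def ve1 : I8 → F := mk8 1 0 0 0 0 0 0 0
def ve2 : I8 → F := mk8 0 1 0 0 0 0 0 0
def ve3 : I8 → F := mk8 0 0 1 0 0 0 0 0
def ve4 : I8 → F := mk8 0 0 0 1 0 0 0 0
def vf1 : I8 → F := mk8 0 0 0 0 1 0 0 0
def vf2 : I8 → F := mk8 0 0 0 0 0 1 0 0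
def vf3 : I8 → F := mk8 0 0 0 0 0 0 1 0
def vf4 : I8 → F := mk8 0 0 0 0 0 0 0 1

theorem Q8_apply (x : I8 → F) : Q8 F x = ca1 x * cb1 x + ca2 x * cb2 x + ca3 x * cb3 x + ca4 x * cb4 x := by
  rw [← plusForm_coe]
  simp only [Cfsg.quadFormPlus, Fin.sum_univ_four, ca1, ca2, ca3, ca4, cb1, cb2, cb3, cb4]

theorem polar_Q8 (x y : I8 → F) : polar ⇑(Q8 F) x y =
    ca1 x * cb1 y + cb1 x * ca1 y + ca2 x * cb2 y + cb2 x * ca2 y + ca3 x * cb3 y + cb3 x * ca3 y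
      + ca4 x * cb4 y + cb4 x * ca4 y := by
  rw [polar_plusForm]
  simp only [Fin.sum_univ_four, ca1, ca2, ca3, ca4, cb1, cb2, cb3, cb4]
  ring

/-- the singular vector `u_r` of the root `r` -/
def ru (r : Fin 24) : I8 → F := ![vf1, vf1, ve4, vf1, ve3, ve2, vf2, ve4, vf2, ve3, ve4, vf3, ve3, ve3, ve2, ve2, ve2, ve2, ve1, ve1, ve1, ve1, ve1, ve1] r
/-- the second vector `v_r` of the root `r` -/
def rv (r : Fin 24) : I8 → F := ![vf2, vf3, vf1, vf4, vf1, vf1, vf3, vf2, vf4, vf2, vf3, vf4, ve4, vf4, vf3, ve4, vf4, ve3, vf2, vf3, ve4, vf4, ve3, ve2] r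
/-- the sign of the root `r` -/
def cs (r : Fin 24) : F := ![-1, -1, 1, -1, -1, 1, 1, -1, 1, 1, 1, -1, 1, 1, 1, -1, -1, -1, 1, -1, 1, 1, 1, 1] r

theorem Q_ru (r : Fin 24) : Q8 F (ru r : I8 → F) = 0 := by
  rw [Q8_apply]
  fin_cases r <;> simp [ru, rv, cs, ve1, ve2, ve3, ve4, vf1, vf2, vf3, vf4]

theorem Q_rv (r : Fin 24) : Q8 F (rv r : I8 → F) = 0 := by
  rw [Q8_apply]
  fin_cases r <;> simp [ru, rv, cs, ve1, ve2, ve3, ve4, vf1, vf2, vf3, vf4]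

theorem polar_ru_rv (r : Fin 24) : polar ⇑(Q8 F) (ru r : I8 → F) (rv r) = 0 := by
  rw [polar_Q8]
  fin_cases r <;> simp [ru, rv, cs, ve1, ve2, ve3, ve4, vf1, vf2, vf3, vf4]

/-- the root element `x_r(t)` of `O₈⁺(F)` -/
noncomputable def X (r : Fin 24) (t : F) : OG F :=
  eichler (Q8 F) (ru r) ((cs r * t) • rv r) (Q_ru r)
    (by rw [polar_smul_right, polar_ru_rv, smul_zero])

/-- total version on `ℕ` -/
noncomputable def Xn (r : ℕ) (t : F) : OG F := if h : r < 24 then X ⟨r, h⟩ t else 1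

theorem Xn_of_lt {r : ℕ} (h : r < 24) (t : F) : Xn r t = X ⟨r, h⟩ t := by
  unfold Xn; rw [dif_pos h]

/-- the subgroup generated by the root elements -/
def EE (F : Type*) [Field F] : Subgroup (OG F) := Subgroup.closure {g | ∃ (r : Fin 24) (t : F), g = X r t}

theorem X_mem_EE (r : Fin 24) (t : F) : X r t ∈ EE F := Subgroup.subset_closure ⟨r, t, rfl⟩

/-- product of a word of root elements (image of `stWord`) -/
noncomputable def wprod (w : List (ℕ × F)) : OG F := (w.map fun p => Xn p.1 p.2).prod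

/-- the diagonal isometries -/
def DD (F : Type*) [Field F] : Subgroup (OG F) where
  carrier := {g | ∀ i j : I8, i ≠ j → ((g : GL I8 F) : Matrix I8 I8 F) i j = 0}
  one_mem' := by
    intro i j hij
    simp [Matrix.one_apply_ne hij]
  mul_mem' := by
    intro g h hg hh i j hij
    rw [Subgroup.coe_mul, Units.val_mul, Matrix.mul_apply]
    apply Finset.sum_eq_zero
    intro k _
    by_cases hik : i = k
    · subst hik
      rw [hh i j hij, mul_zero]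
    · rw [hg i k hik, zero_mul]
  inv_mem' := by
    intro g hg i j hij
    have hd : ((g : GL I8 F) : Matrix I8 I8 F) = Matrix.diagonal (fun k => ((g : GL I8 F) : Matrix I8 I8 F) k k) := by
      ext a b
      by_cases hab : a = b
      · subst hab; simp
      · rw [hg a b hab, Matrix.diagonal_apply_ne _ hab]
    have h1 : ((g : GL I8 F) : Matrix I8 I8 F) * (((g⁻¹ : OG F) : GL I8 F) : Matrix I8 I8 F) = 1 := by
      rw [← Units.val_mul, ← Subgroup.coe_mul, mul_inv_cancel]; rfl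
    have h2 := congrFun (congrFun h1 i) j
    rw [hd, Matrix.diagonal_mul, Matrix.one_apply_ne hij] at h2
    have h3 : ((g : GL I8 F) : Matrix I8 I8 F) i i ≠ 0 := by
      intro h0
      have h4 := congrFun (congrFun h1 i) i
      rw [hd, Matrix.diagonal_mul, h0, zero_mul, Matrix.one_apply_eq] at h4
      exact zero_ne_one h4
    exact (mul_eq_zero.1 h2).resolve_left h3

/-- explicit action of the root elements -/
theorem act_X_gen (r : Fin 24) (t : F) (x : I8 → F) :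
    act (Q8 F) (X r t) x = x + polar ⇑(Q8 F) x ((cs r * t) • rv r) • ru r
      - polar ⇑(Q8 F) x (ru r) • ((cs r * t) • rv r)
      - (Q8 F ((cs r * t) • rv r) * polar ⇑(Q8 F) x (ru r)) • ru r := by
  unfold X
  rw [act_eichler, eichlerLin_apply]

theorem act_X0 (t : F) (x : I8 → F) : act (Q8 F) (X 0 t) x =
    mk8 (ca1 x) (ca2 x) (ca3 x) (ca4 x) (cb1 x - t * ca2 x) (cb2 x + t * ca1 x) (cb3 x) (cb4 x) := by
  rw [act_X_gen]
  apply ext8 <;> simp [polar_Q8, Q8_apply, ru, rv, cs, ve1, ve2, ve3, ve4, vf1, vf2, vf3, vf4] <;> ring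

theorem act_X1 (t : F) (x : I8 → F) : act (Q8 F) (X 1 t) x =
    mk8 (ca1 x) (ca2 x) (ca3 x) (ca4 x) (cb1 x - t * ca3 x) (cb2 x) (cb3 x + t * ca1 x) (cb4 x) := by
  rw [act_X_gen]
  apply ext8 <;> simp [polar_Q8, Q8_apply, ru, rv, cs, ve1, ve2, ve3, ve4, vf1, vf2, vf3, vf4] <;> ring

theorem act_X2 (t : F) (x : I8 → F) : act (Q8 F) (X 2 t) x =
    mk8 (ca1 x) (ca2 x) (ca3 x) (ca4 x + t * ca1 x) (cb1 x - t * cb4 x) (cb2 x) (cb3 x) (cb4 x) := by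
  rw [act_X_gen]
  apply ext8 <;> simp [polar_Q8, Q8_apply, ru, rv, cs, ve1, ve2, ve3, ve4, vf1, vf2, vf3, vf4] <;> ring

theorem act_X3 (t : F) (x : I8 → F) : act (Q8 F) (X 3 t) x =
    mk8 (ca1 x) (ca2 x) (ca3 x) (ca4 x) (cb1 x - t * ca4 x) (cb2 x) (cb3 x) (cb4 x + t * ca1 x) := by
  rw [act_X_gen]
  apply ext8 <;> simp [polar_Q8, Q8_apply, ru, rv, cs, ve1, ve2, ve3, ve4, vf1, vf2, vf3, vf4] <;> ring

theorem act_X4 (t : F) (x : I8 → F) : act (Q8 F) (X 4 t) x =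
    mk8 (ca1 x) (ca2 x) (ca3 x - t * ca1 x) (ca4 x) (cb1 x + t * cb3 x) (cb2 x) (cb3 x) (cb4 x) := by
  rw [act_X_gen]
  apply ext8 <;> simp [polar_Q8, Q8_apply, ru, rv, cs, ve1, ve2, ve3, ve4, vf1, vf2, vf3, vf4] <;> ring

theorem act_X5 (t : F) (x : I8 → F) : act (Q8 F) (X 5 t) x =
    mk8 (ca1 x) (ca2 x + t * ca1 x) (ca3 x) (ca4 x) (cb1 x - t * cb2 x) (cb2 x) (cb3 x) (cb4 x) := by
  rw [act_X_gen]
  apply ext8 <;> simp [polar_Q8, Q8_apply, ru, rv, cs, ve1, ve2, ve3, ve4, vf1, vf2, vf3, vf4] <;> ring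

theorem act_X6 (t : F) (x : I8 → F) : act (Q8 F) (X 6 t) x =
    mk8 (ca1 x) (ca2 x) (ca3 x) (ca4 x) (cb1 x) (cb2 x + t * ca3 x) (cb3 x - t * ca2 x) (cb4 x) := by
  rw [act_X_gen]
  apply ext8 <;> simp [polar_Q8, Q8_apply, ru, rv, cs, ve1, ve2, ve3, ve4, vf1, vf2, vf3, vf4] <;> ring

theorem act_X7 (t : F) (x : I8 → F) : act (Q8 F) (X 7 t) x =
    mk8 (ca1 x) (ca2 x) (ca3 x) (ca4 x - t * ca2 x) (cb1 x) (cb2 x + t * cb4 x) (cb3 x) (cb4 x) := by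
  rw [act_X_gen]
  apply ext8 <;> simp [polar_Q8, Q8_apply, ru, rv, cs, ve1, ve2, ve3, ve4, vf1, vf2, vf3, vf4] <;> ring

theorem act_X8 (t : F) (x : I8 → F) : act (Q8 F) (X 8 t) x =
    mk8 (ca1 x) (ca2 x) (ca3 x) (ca4 x) (cb1 x) (cb2 x + t * ca4 x) (cb3 x) (cb4 x - t * ca2 x) := by
  rw [act_X_gen]
  apply ext8 <;> simp [polar_Q8, Q8_apply, ru, rv, cs, ve1, ve2, ve3, ve4, vf1, vf2, vf3, vf4] <;> ring

theorem act_X9 (t : F) (x : I8 → F) : act (Q8 F) (X 9 t) x =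
    mk8 (ca1 x) (ca2 x) (ca3 x + t * ca2 x) (ca4 x) (cb1 x) (cb2 x - t * cb3 x) (cb3 x) (cb4 x) := by
  rw [act_X_gen]
  apply ext8 <;> simp [polar_Q8, Q8_apply, ru, rv, cs, ve1, ve2, ve3, ve4, vf1, vf2, vf3, vf4] <;> ring

theorem act_X10 (t : F) (x : I8 → F) : act (Q8 F) (X 10 t) x =
    mk8 (ca1 x) (ca2 x) (ca3 x) (ca4 x + t * ca3 x) (cb1 x) (cb2 x) (cb3 x - t * cb4 x) (cb4 x) := by
  rw [act_X_gen]
  apply ext8 <;> simp [polar_Q8, Q8_apply, ru, rv, cs, ve1, ve2, ve3, ve4, vf1, vf2, vf3, vf4] <;> ring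

theorem act_X11 (t : F) (x : I8 → F) : act (Q8 F) (X 11 t) x =
    mk8 (ca1 x) (ca2 x) (ca3 x) (ca4 x) (cb1 x) (cb2 x) (cb3 x - t * ca4 x) (cb4 x + t * ca3 x) := by
  rw [act_X_gen]
  apply ext8 <;> simp [polar_Q8, Q8_apply, ru, rv, cs, ve1, ve2, ve3, ve4, vf1, vf2, vf3, vf4] <;> ring

theorem act_X12 (t : F) (x : I8 → F) : act (Q8 F) (X 12 t) x =
    mk8 (ca1 x) (ca2 x) (ca3 x + t * cb4 x) (ca4 x - t * cb3 x) (cb1 x) (cb2 x) (cb3 x) (cb4 x) := by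
  rw [act_X_gen]
  apply ext8 <;> simp [polar_Q8, Q8_apply, ru, rv, cs, ve1, ve2, ve3, ve4, vf1, vf2, vf3, vf4] <;> ring

theorem act_X13 (t : F) (x : I8 → F) : act (Q8 F) (X 13 t) x =
    mk8 (ca1 x) (ca2 x) (ca3 x + t * ca4 x) (ca4 x) (cb1 x) (cb2 x) (cb3 x) (cb4 x - t * cb3 x) := by
  rw [act_X_gen]
  apply ext8 <;> simp [polar_Q8, Q8_apply, ru, rv, cs, ve1, ve2, ve3, ve4, vf1, vf2, vf3, vf4] <;> ring

theorem act_X14 (t : F) (x : I8 → F) : act (Q8 F) (X 14 t) x =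
    mk8 (ca1 x) (ca2 x + t * ca3 x) (ca3 x) (ca4 x) (cb1 x) (cb2 x) (cb3 x - t * cb2 x) (cb4 x) := by
  rw [act_X_gen]
  apply ext8 <;> simp [polar_Q8, Q8_apply, ru, rv, cs, ve1, ve2, ve3, ve4, vf1, vf2, vf3, vf4] <;> ring

theorem act_X15 (t : F) (x : I8 → F) : act (Q8 F) (X 15 t) x =
    mk8 (ca1 x) (ca2 x - t * cb4 x) (ca3 x) (ca4 x + t * cb2 x) (cb1 x) (cb2 x) (cb3 x) (cb4 x) := by
  rw [act_X_gen]
  apply ext8 <;> simp [polar_Q8, Q8_apply, ru, rv, cs, ve1, ve2, ve3, ve4, vf1, vf2, vf3, vf4] <;> ring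

theorem act_X16 (t : F) (x : I8 → F) : act (Q8 F) (X 16 t) x =
    mk8 (ca1 x) (ca2 x - t * ca4 x) (ca3 x) (ca4 x) (cb1 x) (cb2 x) (cb3 x) (cb4 x + t * cb2 x) := by
  rw [act_X_gen]
  apply ext8 <;> simp [polar_Q8, Q8_apply, ru, rv, cs, ve1, ve2, ve3, ve4, vf1, vf2, vf3, vf4] <;> ring

theorem act_X17 (t : F) (x : I8 → F) : act (Q8 F) (X 17 t) x =
    mk8 (ca1 x) (ca2 x - t * cb3 x) (ca3 x + t * cb2 x) (ca4 x) (cb1 x) (cb2 x) (cb3 x) (cb4 x) := by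
  rw [act_X_gen]
  apply ext8 <;> simp [polar_Q8, Q8_apply, ru, rv, cs, ve1, ve2, ve3, ve4, vf1, vf2, vf3, vf4] <;> ring

theorem act_X18 (t : F) (x : I8 → F) : act (Q8 F) (X 18 t) x =
    mk8 (ca1 x + t * ca2 x) (ca2 x) (ca3 x) (ca4 x) (cb1 x) (cb2 x - t * cb1 x) (cb3 x) (cb4 x) := by
  rw [act_X_gen]
  apply ext8 <;> simp [polar_Q8, Q8_apply, ru, rv, cs, ve1, ve2, ve3, ve4, vf1, vf2, vf3, vf4] <;> ring

theorem act_X19 (t : F) (x : I8 → F) : act (Q8 F) (X 19 t) x =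
    mk8 (ca1 x - t * ca3 x) (ca2 x) (ca3 x) (ca4 x) (cb1 x) (cb2 x) (cb3 x + t * cb1 x) (cb4 x) := by
  rw [act_X_gen]
  apply ext8 <;> simp [polar_Q8, Q8_apply, ru, rv, cs, ve1, ve2, ve3, ve4, vf1, vf2, vf3, vf4] <;> ring

theorem act_X20 (t : F) (x : I8 → F) : act (Q8 F) (X 20 t) x =
    mk8 (ca1 x + t * cb4 x) (ca2 x) (ca3 x) (ca4 x - t * cb1 x) (cb1 x) (cb2 x) (cb3 x) (cb4 x) := by
  rw [act_X_gen]
  apply ext8 <;> simp [polar_Q8, Q8_apply, ru, rv, cs, ve1, ve2, ve3, ve4, vf1, vf2, vf3, vf4] <;> ring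

theorem act_X21 (t : F) (x : I8 → F) : act (Q8 F) (X 21 t) x =
    mk8 (ca1 x + t * ca4 x) (ca2 x) (ca3 x) (ca4 x) (cb1 x) (cb2 x) (cb3 x) (cb4 x - t * cb1 x) := by
  rw [act_X_gen]
  apply ext8 <;> simp [polar_Q8, Q8_apply, ru, rv, cs, ve1, ve2, ve3, ve4, vf1, vf2, vf3, vf4] <;> ring

theorem act_X22 (t : F) (x : I8 → F) : act (Q8 F) (X 22 t) x =
    mk8 (ca1 x + t * cb3 x) (ca2 x) (ca3 x - t * cb1 x) (ca4 x) (cb1 x) (cb2 x) (cb3 x) (cb4 x) := by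
  rw [act_X_gen]
  apply ext8 <;> simp [polar_Q8, Q8_apply, ru, rv, cs, ve1, ve2, ve3, ve4, vf1, vf2, vf3, vf4] <;> ring

theorem act_X23 (t : F) (x : I8 → F) : act (Q8 F) (X 23 t) x =
    mk8 (ca1 x + t * cb2 x) (ca2 x - t * cb1 x) (ca3 x) (ca4 x) (cb1 x) (cb2 x) (cb3 x) (cb4 x) := by
  rw [act_X_gen]
  apply ext8 <;> simp [polar_Q8, Q8_apply, ru, rv, cs, ve1, ve2, ve3, ve4, vf1, vf2, vf3, vf4] <;> ring

/-- (R1) -/
theorem X_add (r : Fin 24) (t u : F) : X r t * X r u = X r (t + u) := by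
  unfold X
  rw [eichler_mul]
  apply eichler_congr
  rw [mul_add, add_smul]

theorem X_zero (r : Fin 24) : X r (0 : F) = 1 := by
  unfold X
  rw [eichler_congr (Q8 F) (ru r) ((cs r * 0) • rv r) 0 (Q_ru r) _ (by rw [mul_zero, zero_smul])]
  exact eichler_zero_eq_one (Q8 F) (ru r) (Q_ru r)

theorem X_inv (r : Fin 24) (t : F) : (X r t)⁻¹ = X r (-t) := by
  rw [inv_eq_iff_mul_eq_one, X_add, add_neg_cancel, X_zero]

/-- diagonal data of `h_r(t)`: the scalar on `e_1` -/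
def ha1 (r : Fin 24) (t : F) : F := ![t⁻¹, t⁻¹, t⁻¹, t⁻¹, t⁻¹, t⁻¹, 1, 1, 1, 1, 1, 1, 1, 1, 1, 1, 1, 1, t, t, t, t, t, t] r
/-- diagonal data of `h_r(t)`: the scalar on `e_2` -/
def ha2 (r : Fin 24) (t : F) : F := ![t⁻¹, 1, 1, 1, 1, t, t⁻¹, t⁻¹, t⁻¹, t⁻¹, 1, 1, 1, 1, t, t, t, t, t⁻¹, 1, 1, 1, 1, t] r
/-- diagonal data of `h_r(t)`: the scalar on `e_3` -/
def ha3 (r : Fin 24) (t : F) : F := ![1, t⁻¹, 1, 1, t, 1, t⁻¹, 1, 1, t, t⁻¹, t⁻¹, t, t, t⁻¹, 1, 1, t, 1, t⁻¹, 1, 1, t, 1] r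
/-- diagonal data of `h_r(t)`: the scalar on `e_4` -/
def ha4 (r : Fin 24) (t : F) : F := ![1, 1, t, t⁻¹, 1, 1, 1, t, t⁻¹, 1, t, t⁻¹, t, t⁻¹, 1, t, t⁻¹, 1, 1, 1, t, t⁻¹, 1, 1] r

/-- the linear equivalence swapping `e₄` and `f₄` -/
def swEquiv (F : Type*) [Field F] : (I8 → F) ≃ₗ[F] (I8 → F) :=
  LinearEquiv.funCongrLeft F F (Equiv.swap (Sum.inl 3 : I8) (Sum.inr 3))

theorem swEquiv_apply (x : I8 → F) : swEquiv F x =
    mk8 (ca1 x) (ca2 x) (ca3 x) (cb4 x) (cb1 x) (cb2 x) (cb3 x) (ca4 x) := by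
  apply ext8 <;> simp only [ca1_mk8, ca2_mk8, ca3_mk8, ca4_mk8, cb1_mk8, cb2_mk8, cb3_mk8, cb4_mk8] <;>
    simp [swEquiv, LinearEquiv.funCongrLeft_apply, LinearMap.funLeft_apply, ca1, ca2, ca3, ca4, cb1,
      cb2, cb3, cb4, Equiv.swap_apply_def]

/-- the isometry swapping `e₄` and `f₄` (a reflection; not in `Ω`) -/
noncomputable def sw (F : Type*) [Field F] : OG F :=
  isoOfEquiv (Q8 F) (swEquiv F) (fun x => by
    rw [swEquiv_apply, Q8_apply, Q8_apply]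
    simp
    ring)

theorem act_sw (x : I8 → F) : act (Q8 F) (sw F) x =
    mk8 (ca1 x) (ca2 x) (ca3 x) (cb4 x) (cb1 x) (cb2 x) (cb3 x) (ca4 x) := by
  unfold act sw
  rw [isoOfEquiv_mulVec, swEquiv_apply]

end Cfsg.Agent.Lib.Helper37.D4O8
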