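import Cfsg.Agent.Lib.Helper37.D4O8Defs
import Cfsg.Agent.Lib.Helper25.Do_REL2_0
import Cfsg.Agent.Lib.Helper25.Do_REL2_1
import Cfsg.Agent.Lib.Helper25.Do_REL2_2
import Cfsg.Agent.Lib.Helper25.Do_REL2_3
import Cfsg.Agent.Lib.Helper25.Do_REL2_4
import Cfsg.Agent.Lib.Helper25.Do_REL2_5
import Cfsg.Agent.Lib.Helper25.Do_REL2_6
import Cfsg.Agent.Lib.Helper25.Do_REL2_7
import Cfsg.Agent.Lib.Helper25.Do_REL2_8
import Cfsg.Agent.Lib.Helper25.Do_REL2_9
import Cfsg.Agent.Lib.Helper25.Do_REL2_10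
import Cfsg.Agent.Lib.Helper25.Do_REL2_11
import Cfsg.Agent.Lib.Helper25.Do_REL2_12
import Cfsg.Agent.Lib.Helper25.Do_REL2_13
import Cfsg.Agent.Lib.Helper25.Do_REL2_14
import Cfsg.Agent.Lib.Helper25.Do_REL2_15
import Cfsg.Agent.Lib.Helper25.Do_REL2_16
import Cfsg.Agent.Lib.Helper25.Do_REL2_17
import Cfsg.Agent.Lib.Helper25.Do_REL2_18
import Cfsg.Agent.Lib.Helper25.Do_REL2_19
import Cfsg.Agent.Lib.Helper25.Do_REL2_20
import Cfsg.Agent.Lib.Helper73.Do_REL2_21
import Cfsg.Agent.Lib.Helper73.Do_REL2_22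
import Cfsg.Agent.Lib.Helper73.Do_REL2_23
import Cfsg.Agent.Lib.Helper53.Do_REL3

/-! # Do hive (S1082): leaf DO-PSI (helper37) -/

set_option autoImplicit false
set_option linter.unusedSectionVars false
set_option linter.unusedVariables false

namespace Cfsg.Agent.Lib.Helper37.D4O8

open Matrix Module QuadraticMap Cfsg.Lie
open Cfsg.Agent.Lib.Helper8 Cfsg.Agent.Lib.Helper13 Cfsg.Agent.Lib.Helper37

variable {F : Type*} [Field F]

/-- the images of the free generators -/
noncomputable def psib_gen (p : Fin chevD4.nroots × F) : OG F := Xn (p.1 : ℕ) p.2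

theorem psib_lift_stX (r : ℕ) (t : F) :
    FreeGroup.lift (psib_gen (F := F)) (chevD4.stX r t) = Xn r t := by
  unfold ChevalleyDatum.stX
  split_ifs with h
  · rw [FreeGroup.lift_apply_of]; rfl
  · rw [map_one]
    unfold Xn
    rw [dif_neg]
    exact h

theorem psib_lift_stWord (w : List (ℕ × F)) :
    FreeGroup.lift (psib_gen (F := F)) (chevD4.stWord w) = wprod w := by
  unfold ChevalleyDatum.stWord wprod
  induction w with
  | nil => simp
  | cons p w ih =>
    rw [List.map_cons, List.prod_cons, map_mul, ih, psib_lift_stX, List.map_cons, List.prod_cons]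

theorem psib_Xn_add (r : ℕ) (t u : F) : Xn r t * Xn r u = Xn r (t + u) := by
  unfold Xn
  split_ifs with h
  · exact X_add _ t u
  · rw [mul_one]

theorem psib_rel2 (r s : ℕ) (hr : r < 24) (hs : s < 24) (h1 : s ≠ r) (h2 : s ≠ chevD4.neg r) (t u : F) :
    (Xn s u)⁻¹ * (Xn r t)⁻¹ * Xn s u * Xn r t = wprod (chevD4.commWord F r s t u) := by
  interval_cases r
  · exact rel2_0 s hs h1 (by simpa [ChevalleyDatum.neg, chevD4, chevD4NegIdx] using h2) t u
  · exact rel2_1 s hs h1 (by simpa [ChevalleyDatum.neg, chevD4, chevD4NegIdx] using h2) t u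
  · exact rel2_2 s hs h1 (by simpa [ChevalleyDatum.neg, chevD4, chevD4NegIdx] using h2) t u
  · exact rel2_3 s hs h1 (by simpa [ChevalleyDatum.neg, chevD4, chevD4NegIdx] using h2) t u
  · exact rel2_4 s hs h1 (by simpa [ChevalleyDatum.neg, chevD4, chevD4NegIdx] using h2) t u
  · exact rel2_5 s hs h1 (by simpa [ChevalleyDatum.neg, chevD4, chevD4NegIdx] using h2) t u
  · exact rel2_6 s hs h1 (by simpa [ChevalleyDatum.neg, chevD4, chevD4NegIdx] using h2) t u
  · exact rel2_7 s hs h1 (by simpa [ChevalleyDatum.neg, chevD4, chevD4NegIdx] using h2) t u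
  · exact rel2_8 s hs h1 (by simpa [ChevalleyDatum.neg, chevD4, chevD4NegIdx] using h2) t u
  · exact rel2_9 s hs h1 (by simpa [ChevalleyDatum.neg, chevD4, chevD4NegIdx] using h2) t u
  · exact rel2_10 s hs h1 (by simpa [ChevalleyDatum.neg, chevD4, chevD4NegIdx] using h2) t u
  · exact rel2_11 s hs h1 (by simpa [ChevalleyDatum.neg, chevD4, chevD4NegIdx] using h2) t u
  · exact rel2_12 s hs h1 (by simpa [ChevalleyDatum.neg, chevD4, chevD4NegIdx] using h2) t u
  · exact rel2_13 s hs h1 (by simpa [ChevalleyDatum.neg, chevD4, chevD4NegIdx] using h2) t u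
  · exact rel2_14 s hs h1 (by simpa [ChevalleyDatum.neg, chevD4, chevD4NegIdx] using h2) t u
  · exact rel2_15 s hs h1 (by simpa [ChevalleyDatum.neg, chevD4, chevD4NegIdx] using h2) t u
  · exact rel2_16 s hs h1 (by simpa [ChevalleyDatum.neg, chevD4, chevD4NegIdx] using h2) t u
  · exact rel2_17 s hs h1 (by simpa [ChevalleyDatum.neg, chevD4, chevD4NegIdx] using h2) t u
  · exact rel2_18 s hs h1 (by simpa [ChevalleyDatum.neg, chevD4, chevD4NegIdx] using h2) t u
  · exact rel2_19 s hs h1 (by simpa [ChevalleyDatum.neg, chevD4, chevD4NegIdx] using h2) t u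
  · exact rel2_20 s hs h1 (by simpa [ChevalleyDatum.neg, chevD4, chevD4NegIdx] using h2) t u
  · exact rel2_21 s hs h1 (by simpa [ChevalleyDatum.neg, chevD4, chevD4NegIdx] using h2) t u
  · exact rel2_22 s hs h1 (by simpa [ChevalleyDatum.neg, chevD4, chevD4NegIdx] using h2) t u
  · exact rel2_23 s hs h1 (by simpa [ChevalleyDatum.neg, chevD4, chevD4NegIdx] using h2) t u

/-- DO-PSI -/
theorem exists_psi : ∃ ψ : Cfsg.Lie.chevD4.SteinbergGroup F →* OG F,
    ∀ (r : ℕ) (t : F), ψ (Cfsg.Lie.chevD4.stGen F r t) = Xn r t := by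
  have hrel : ∀ r ∈ chevD4.steinbergRels F, FreeGroup.lift (psib_gen (F := F)) r = 1 := by
    rintro _ ((⟨r, t₁, t₂, -, rfl⟩ | ⟨r, s, t, u, hr, hs, hsr, hsn, rfl⟩) | ⟨r, t₁, t₂, hr, h1, h2, rfl⟩)
    · rw [map_mul, map_mul, map_inv, psib_lift_stX, psib_lift_stX, psib_lift_stX, mul_inv_eq_one]
      exact psib_Xn_add r t₁ t₂
    · simp only [map_mul, map_inv, psib_lift_stX, psib_lift_stWord]
      rw [mul_inv_eq_one]
      exact psib_rel2 r s hr hs hsr hsn t u
    · unfold ChevalleyDatum.stH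
      simp only [map_mul, map_inv, psib_lift_stWord]
      rw [mul_inv_eq_one]
      exact rel3 r hr t₁ t₂ h1 h2
  refine ⟨PresentedGroup.toGroup hrel, ?_⟩
  intro r t
  show (PresentedGroup.toGroup hrel) (PresentedGroup.mk _ (chevD4.stX r t)) = Xn r t
  rw [← psib_lift_stX r t]
  rfl

end Cfsg.Agent.Lib.Helper37.D4O8
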