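import Cfsg.Agent.Lib.Helper37.D4O8Defs
import Cfsg.Agent.Lib.Helper37.Do_PSIb
import Cfsg.Agent.Lib.Helper85.Do_PSIR
import Cfsg.Agent.Lib.Helper49.Do_EIN
import Cfsg.Agent.Lib.Helper49.Do_NONCOMM
import Cfsg.Agent.Lib.Helper24.Do_TORUS1
import Cfsg.Agent.Lib.Helper24.Do_TORUS2
import Cfsg.Agent.Lib.Helper55.Do_SWAP1
import Cfsg.Agent.Lib.Helper24.Do_SWAP2
import Cfsg.Agent.Lib.Helper55.Do_SWAP3
import Cfsg.Agent.Lib.Helper13.Do_RED
import Cfsg.Agent.Lib.Helper27.Do_GRP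
import Cfsg.Agent.Lib.Helper9.Bo_BRIDGE
import Cfsg.Agent.S1077
import Cfsg.Agent.S1054

/-! # S1082 hive "Do" (helper37): `D₄(F) ≅ PΩ₈⁺(F)` — assembly -/

set_option autoImplicit false
set_option linter.unusedSectionVars false
set_option linter.unusedVariables false

namespace Cfsg.Agent.Lib.Helper37.D4O8

open Matrix Module QuadraticMap
open Cfsg.Agent.Lib.Helper8 Cfsg.Agent.Lib.Helper13 Cfsg.Agent.Lib.Helper37

variable {F : Type*} [Field F]

theorem EE_eq_omega : EE F = commutator (OG F) := by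
  apply le_antisymm
  · unfold EE
    rw [Subgroup.closure_le]
    rintro _ ⟨r, t, rfl⟩
    exact X_mem_commutator r t
  · exact commutator_le_of_factor' (EE F) (DD F) (sw F) sw_mul_sw DD_comm DD_conj_EE sw_conj_EE
      sw_comm_DD red

theorem main : Nonempty (↥(Cfsg.Lie.chevD4.group F) ≃* Cfsg.POmega F ⇑(Q8 F)) := by
  obtain ⟨θ, hθ, hker, -⟩ := Cfsg.Agent.S1077.result (K := F) Cfsg.Lie.chevD4 (by simp)
  obtain ⟨ψ, hψ⟩ := exists_psi (F := F)
  have hr : ψ.range = commutator (OG F) := by rw [psi_range ψ hψ, EE_eq_omega]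
  let ψ' : Cfsg.Lie.chevD4.SteinbergGroup F →* ↥(commutator (OG F)) :=
    ψ.codRestrict _ (fun x => by rw [← hr]; exact ⟨x, rfl⟩)
  have hψ' : Function.Surjective ψ' := by
    rintro ⟨y, hy⟩
    rw [← hr] at hy
    obtain ⟨x, rfl⟩ := hy
    exact ⟨x, rfl⟩
  obtain ⟨a, ha, b, hb, hab⟩ := EE_noncomm (F := F)
  rw [EE_eq_omega] at ha hb
  exact Cfsg.Agent.Lib.Helper37.B2O5.bridge θ hθ hker
    (Cfsg.Agent.S1054.result (F := F) Cfsg.Lie.chevD4 (by simp)).1 ψ' hψ'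
    ⟨⟨a, ha⟩, ⟨b, hb⟩, fun h => hab (congrArg Subtype.val h)⟩

end Cfsg.Agent.Lib.Helper37.D4O8
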