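import Cfsg.Agent.Lib.Helper61.DihedralLift

set_option autoImplicit false

namespace Cfsg.Agent.Lib.Helper37

/-- a group with a sign character whose kernel is a four-group `{1, x, y, xy}` and with an element
of sign `-1` swapping `x` and `y` is dihedral of order eight -/
theorem dihedral_of_klein_swap {Γ : Type*} [Group Γ] (ā : Γ →* ℤˣ) (x e : Γ)
    (hx2 : x * x = 1) (hcomm : x * (e * x * e⁻¹) = (e * x * e⁻¹) * x)
    (hax : ā x = 1) (hae : ā e = -1) (hxy : e * x * e⁻¹ ≠ x)
    (hV : ∀ g, ā g = 1 → g = 1 ∨ g = x ∨ g = e * x * e⁻¹ ∨ g = x * (e * x * e⁻¹)) :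
    Nonempty (DihedralGroup 4 ≃* Γ) := by
  obtain ⟨y, hy⟩ : ∃ y, y = e * x * e⁻¹ := ⟨_, rfl⟩
  rw [← hy] at hcomm hxy hV
  have hy2 : y * y = 1 := by
    rw [hy]
    calc e * x * e⁻¹ * (e * x * e⁻¹) = e * (x * x) * e⁻¹ := by group
      _ = 1 := by rw [hx2]; group
  have hx1 : x ≠ 1 := by
    intro h1
    apply hxy
    rw [hy, h1]; group
  have hy1 : y ≠ 1 := by
    intro h1
    apply hx1
    have : x = e⁻¹ * y * e := by rw [hy]; group
    rw [this, h1]; group
  have hxinv : x⁻¹ = x := inv_eq_of_mul_eq_one_right hx2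
  have hyinv : y⁻¹ = y := inv_eq_of_mul_eq_one_right hy2
  have hxy1 : x * y ≠ 1 := by
    intro h1
    apply hxy
    have : y = x⁻¹ := (eq_inv_of_mul_eq_one_right h1)
    rw [this, hxinv]
  have hay : ā y = 1 := by
    rw [hy, map_mul, map_mul, hax, map_inv, hae]; decide
  have hae2 : ā (e * e) = 1 := by rw [map_mul, hae]; decide
  -- conjugation by `e` swaps `x` and `y`
  have hex : e * x = y * e := by rw [hy]; group
  -- e² centralises e, so e² ∈ {1, xy}
  have he2 : e * e = 1 ∨ e * e = x * y := by
    rcases hV _ hae2 with h1 | h1 | h1 | h1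
    · left; exact h1
    · exfalso
      apply hxy
      have : e * x * e⁻¹ = e * (e * e) * e⁻¹ := by rw [h1]
      rw [hy, this, ← h1]; group
    · exfalso
      -- e² = y; then e y e⁻¹ = y, but also e y e⁻¹ = e² x e⁻² = y x y⁻¹ = x
      have h3 : e * y * e⁻¹ = y := by
        rw [← h1]; group
      have h4 : e * y * e⁻¹ = x := by
        calc e * y * e⁻¹ = (e * e) * x * (e * e)⁻¹ := by rw [hy]; group
          _ = y * x * y⁻¹ := by rw [h1]
          _ = x * y * y⁻¹ := by rw [hcomm]
          _ = x := by group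
      apply hxy
      rw [← h3, h4]
    · right; exact h1
  have hex' : e * y = x * e := by
    -- e y e⁻¹ = e² x e⁻² = x since e² ∈ {1, xy} commutes with x
    have h4 : e * y * e⁻¹ = (e * e) * x * (e * e)⁻¹ := by rw [hy]; group
    have h5 : (e * e) * x * (e * e)⁻¹ = x := by
      rcases he2 with h1 | h1
      · rw [h1]; group
      · rw [h1]
        calc x * y * x * (x * y)⁻¹ = x * (y * x) * y⁻¹ * x⁻¹ := by group
          _ = x * (x * y) * y⁻¹ * x⁻¹ := by rw [hcomm]
          _ = x := by group
    calc e * y = (e * y * e⁻¹) * e := by group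
      _ = x * e := by rw [h4, h5]
  -- choose the rotation
  obtain ⟨ρ, hρ2, hρa, hρe, hsρ⟩ : ∃ ρ : Γ, ρ * ρ = x * y ∧ ā ρ = -1 ∧
      e ∈ Subgroup.closure ({x, ρ} : Set Γ) ∧ x * ρ * x = ρ⁻¹ := by
    rcases he2 with h1 | h1
    · refine ⟨e * x, ?_, ?_, ?_, ?_⟩
      · calc e * x * (e * x) = (e * x) * e * x := by group
          _ = (y * e) * e * x := by rw [hex]
          _ = y * (e * e) * x := by group
          _ = y * x := by rw [h1]; group
          _ = x * y := hcomm.symm
      · rw [map_mul, hae, hax]; decide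
      · have h3 : e = (e * x) * x⁻¹ := by group
        rw [h3]
        apply Subgroup.mul_mem
        · exact Subgroup.subset_closure (by simp)
        · exact Subgroup.inv_mem _ (Subgroup.subset_closure (by simp))
      · have heinv : e⁻¹ = e := inv_eq_of_mul_eq_one_right h1
        rw [_root_.mul_inv_rev, hxinv, heinv]
        calc x * (e * x) * x = x * e * (x * x) := by group
          _ = x * e := by rw [hx2, mul_one]
    · refine ⟨e, h1, hae, Subgroup.subset_closure (by simp), ?_⟩
      -- x e x = x (e x e⁻¹) e = x y e = e² e ; and e⁻¹ = e³ since e⁴ = 1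
      have h4 : (e * e) * (e * e) = 1 := by
        rw [h1]
        calc x * y * (x * y) = x * (y * x) * y := by group
          _ = x * (x * y) * y := by rw [hcomm]
          _ = (x * x) * (y * y) := by group
          _ = 1 := by rw [hx2, hy2, one_mul]
      have h5 : e⁻¹ = e * e * e := by
        apply inv_eq_of_mul_eq_one_right
        calc e * (e * e * e) = (e * e) * (e * e) := by group
          _ = 1 := h4
      calc x * e * x = x * (e * x) := by group
        _ = x * (y * e) := by rw [hex]
        _ = (x * y) * e := by group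
        _ = e * e * e := by rw [h1]
        _ = e⁻¹ := h5.symm
  have hρ4 : ρ ^ 2 ^ (1 + 1) = 1 := by
    have : ρ ^ 2 ^ (1 + 1) = (ρ * ρ) * (ρ * ρ) := by
      rw [show (2 : ℕ) ^ (1 + 1) = 4 by norm_num]
      simp [pow_succ, mul_assoc]
    rw [this, hρ2]
    calc x * y * (x * y) = x * (y * x) * y := by group
      _ = x * (x * y) * y := by rw [hcomm]
      _ = (x * x) * (y * y) := by group
      _ = 1 := by rw [hx2, hy2, one_mul]
  have hρ2' : ¬ ρ ^ 2 ^ 1 = 1 := by
    have : ρ ^ 2 ^ 1 = ρ * ρ := by
      rw [pow_one, pow_two]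
    rw [this, hρ2]
    exact hxy1
  have hord : orderOf ρ = 4 := by
    have := orderOf_eq_prime_pow (p := 2) hρ2' hρ4
    rw [this]
    norm_num
  have hns : x ∉ Subgroup.zpowers ρ := by
    intro hmem
    rw [Subgroup.mem_zpowers_iff] at hmem
    obtain ⟨k, hk⟩ := hmem
    -- apply ā : (-1)^k = 1, so k even, so x = (ρ²)^j ∈ {1, xy}
    have h1 : ā (ρ ^ k) = 1 := by rw [hk, hax]
    rw [map_zpow, hρa] at h1
    have hkeven : Even k := by
      by_contra hodd
      rw [Int.not_even_iff_odd] at hodd
      rw [hodd.neg_one_zpow] at h1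
      exact absurd h1 (by decide)
    obtain ⟨j, hj⟩ := hkeven
    have hxyxy : (x * y) * (x * y) = 1 := by
      calc x * y * (x * y) = x * (y * x) * y := by group
        _ = x * (x * y) * y := by rw [hcomm]
        _ = (x * x) * (y * y) := by group
        _ = 1 := by rw [hx2, hy2, one_mul]
    have h2 : x = (x * y) ^ j := by
      calc x = ρ ^ k := hk.symm
        _ = (x * y) ^ j := by rw [hj, ← two_mul, zpow_mul, zpow_two, hρ2]
    rcases Int.even_or_odd' j with ⟨i, hi | hi⟩
    · rw [hi, zpow_mul, zpow_two, hxyxy, one_zpow] at h2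
      exact hx1 h2
    · rw [hi, zpow_add, zpow_mul, zpow_two, hxyxy, one_zpow, one_mul, zpow_one] at h2
      apply hy1
      have : x * y = x * 1 := by rw [mul_one]; exact h2.symm
      exact mul_left_cancel this
  have hgen : Subgroup.closure ({x, ρ} : Set Γ) = ⊤ := by
    rw [eq_top_iff]
    intro g _
    have hxm : x ∈ Subgroup.closure ({x, ρ} : Set Γ) := Subgroup.subset_closure (by simp)
    have hym : y ∈ Subgroup.closure ({x, ρ} : Set Γ) := by
      rw [hy]
      exact Subgroup.mul_mem _ (Subgroup.mul_mem _ hρe hxm) (Subgroup.inv_mem _ hρe)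
    have hVm : ∀ g, ā g = 1 → g ∈ Subgroup.closure ({x, ρ} : Set Γ) := by
      intro g hg
      rcases hV g hg with h1 | h1 | h1 | h1 <;> rw [h1]
      · exact Subgroup.one_mem _
      · exact hxm
      · exact hym
      · exact Subgroup.mul_mem _ hxm hym
    rcases Int.units_eq_one_or (ā g) with h1 | h1
    · exact hVm g h1
    · have h3 : ā (e⁻¹ * g) = 1 := by
        rw [map_mul, map_inv, hae, h1]; decide
      have h4 : g = e * (e⁻¹ * g) := by group
      rw [h4]
      exact Subgroup.mul_mem _ hρe (hVm _ h3)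
  rw [← hord]
  exact ⟨Cfsg.Agent.Lib.Helper61.dihedralEquiv x ρ hx2 hsρ hns hgen⟩

end Cfsg.Agent.Lib.Helper37
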