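import Cfsg.Agent.Lib.Helper37.POmegaSimple

set_option autoImplicit false
set_option linter.unusedSectionVars false
set_option linter.unusedVariables false

namespace Cfsg.Agent.Lib.Helper37

open Matrix Module QuadraticMap
open Cfsg.Agent.Lib.Helper8 Cfsg.Agent.Lib.Helper13

variable {ι : Type} [Fintype ι] [DecidableEq ι] {F : Type*} [Field F]

/-- the Eichler (Siegel) transformation `x ↦ x + f(x,v)u - f(x,u)v - Q(v)f(x,u)u` -/
def eichlerFun (Q : QuadraticForm F (ι → F)) (u v x : ι → F) : ι → F :=
  x + polar ⇑Q x v • u - polar ⇑Q x u • v - (Q v * polar ⇑Q x u) • u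

def eichlerLin (Q : QuadraticForm F (ι → F)) (u v : ι → F) : (ι → F) →ₗ[F] (ι → F) where
  toFun := eichlerFun Q u v
  map_add' := by
    intro x y
    unfold eichlerFun
    rw [polar_add_left, polar_add_left]
    module
  map_smul' := by
    intro c x
    unfold eichlerFun
    rw [polar_smul_left, polar_smul_left, RingHom.id_apply, smul_eq_mul, smul_eq_mul]
    module

theorem eichlerLin_apply (Q : QuadraticForm F (ι → F)) (u v x : ι → F) :
    eichlerLin Q u v x = x + polar ⇑Q x v • u - polar ⇑Q x u • v - (Q v * polar ⇑Q x u) • u := rfl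

theorem polar_eichler_u (Q : QuadraticForm F (ι → F)) (u v x : ι → F) (hu : Q u = 0)
    (huv : polar ⇑Q u v = 0) : polar ⇑Q (eichlerLin Q u v x) u = polar ⇑Q x u := by
  have huu : polar ⇑Q u u = 0 := by rw [polar_self, hu]; simp
  rw [eichlerLin_apply, polar_sub_left, polar_sub_left, polar_add_left, polar_smul_left,
    polar_smul_left, polar_smul_left, huu, polar_comm ⇑Q v u, huv]
  simp

theorem eichler_comp (Q : QuadraticForm F (ι → F)) (u v v' x : ι → F) (hu : Q u = 0)
    (huv : polar ⇑Q u v = 0) (huv' : polar ⇑Q u v' = 0) :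
    eichlerLin Q u v (eichlerLin Q u v' x) = eichlerLin Q u (v + v') x := by
  have huu : polar ⇑Q u u = 0 := by rw [polar_self, hu]; simp
  have h1 : polar ⇑Q (eichlerLin Q u v' x) v = polar ⇑Q x v - polar ⇑Q x u * polar ⇑Q v' v := by
    rw [eichlerLin_apply, polar_sub_left, polar_sub_left, polar_add_left, polar_smul_left,
      polar_smul_left, polar_smul_left, huv]
    simp
  rw [eichlerLin_apply Q u v, polar_eichler_u Q u v' x hu huv', h1, eichlerLin_apply,
    eichlerLin_apply, polar_add_right, QuadraticMap.map_add Q v v', polar_comm ⇑Q v' v]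
  module

theorem eichler_zero (Q : QuadraticForm F (ι → F)) (u x : ι → F) :
    eichlerLin Q u 0 x = x := by
  rw [eichlerLin_apply]
  simp [polar]

theorem Q_eichler (Q : QuadraticForm F (ι → F)) (u v x : ι → F) (hu : Q u = 0)
    (huv : polar ⇑Q u v = 0) : Q (eichlerLin Q u v x) = Q x := by
  have huu : polar ⇑Q u u = 0 := by rw [polar_self, hu]; simp
  have e : eichlerLin Q u v x
      = x + ((polar ⇑Q x v - Q v * polar ⇑Q x u) • u + (- polar ⇑Q x u) • v) := by
    rw [eichlerLin_apply]; module
  rw [e, QuadraticMap.map_add Q, QuadraticMap.map_add Q, QuadraticMap.map_smul,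
    QuadraticMap.map_smul, hu, polar_add_right, polar_smul_right, polar_smul_right,
    polar_smul_left, polar_smul_right, huv]
  simp only [smul_eq_mul]
  ring

end Cfsg.Agent.Lib.Helper37
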