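import Cfsg.Agent.Lib.Helper37.Eichler2

set_option autoImplicit false
set_option linter.unusedSectionVars false
set_option linter.unusedVariables false

namespace Cfsg.Agent.Lib.Helper37

open Matrix Module QuadraticMap
open Cfsg.Agent.Lib.Helper8 Cfsg.Agent.Lib.Helper13

variable {ι : Type} [Fintype ι] [DecidableEq ι] {F : Type*} [Field F]

theorem eichler_smul_self (Q : QuadraticForm F (ι → F)) (u : ι → F) (t : F) (hu : Q u = 0) :
    eichler Q u (t • u) hu (by rw [polar_smul_right, polar_self, hu]; simp) = 1 := by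
  apply reflElt_ext
  intro x
  rw [act_eichler, act_one, eichlerLin_apply, polar_smul_right, QuadraticMap.map_smul, hu]
  simp only [smul_eq_mul]
  module

section mem

variable [Fintype F] (Q : QuadraticForm F (ι → F))
  (hQ : (QuadraticMap.polarBilin Q).Nondegenerate) {k : ℕ} {e f : Fin k → ι → F}
  (hfam : HypFam Q k e f) (hk : 3 ≤ k)
  (hcard : Fintype.card F ≠ 2 ∨ finrank F (ι → F) ≠ 4)

include hQ hfam hk hcard

theorem exists_nonsingular_orth_pair (u v : ι → F) (hu0 : u ≠ 0) (hu : Q u = 0) (hv : Q v = 0)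
    (huv : polar ⇑Q u v = 0) (hind : ∀ c : F, v ≠ c • u) :
    ∃ w, Q w ≠ 0 ∧ polar ⇑Q u w = 0 ∧ polar ⇑Q v w = 0 := by
  obtain ⟨g, hg, h1u, h1v⟩ := omega_to_e0e1 Q hQ hfam hk hcard u v hu0 hu hv huv hind
  obtain ⟨h1, h2, h3⟩ := hfam.compl_vec ⟨2, by omega⟩ 1
  refine ⟨act Q g⁻¹ (e ⟨2, by omega⟩ + (1 : F) • f ⟨2, by omega⟩), ?_, ?_, ?_⟩
  · rw [Q_act, h1]; exact one_ne_zero
  · have : u = act Q g⁻¹ (e ⟨0, by omega⟩) := (act_inv_eq Q g _ _ h1u).symm
    rw [this, polar_act, polar_comm]
    exact h2 _ (by intro hh; have := congrArg Fin.val hh; simp at this)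
  · have : v = act Q g⁻¹ (e ⟨1, by omega⟩) := (act_inv_eq Q g _ _ h1v).symm
    rw [this, polar_act, polar_comm]
    exact h2 _ (by intro hh; have := congrArg Fin.val hh; simp at this)

omit hfam hk hcard [Fintype F] in
theorem eichler_mem_omega_of_ne (u v : ι → F) (hu : Q u = 0) (huv : polar ⇑Q u v = 0)
    (hv : Q v ≠ 0) : eichler Q u v hu huv ∈ Cfsg.Omega F ⇑Q := by
  obtain ⟨hv', h⟩ := eichler_eq_refl_mul Q u v hu huv hv
  rw [h]
  apply refl_mul_refl_mem_omega Q hQ
  rw [quad_sub, QuadraticMap.map_smul, hu, polar_smul_right, polar_comm, huv]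
  simp

/-- every Eichler transformation lies in `Ω` -/
theorem eichler_mem_omega (u v : ι → F) (hu : Q u = 0) (huv : polar ⇑Q u v = 0) :
    eichler Q u v hu huv ∈ Cfsg.Omega F ⇑Q := by
  by_cases hv : Q v = 0
  · by_cases hdep : ∃ c : F, v = c • u
    · obtain ⟨c, rfl⟩ := hdep
      rw [eichler_smul_self]
      exact Subgroup.one_mem _
    · push Not at hdep
      by_cases hu0 : u = 0
      · subst hu0
        have : eichler Q 0 v hu huv = 1 := by
          apply reflElt_ext
          intro x
          rw [act_eichler, act_one, eichlerLin_apply]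
          simp [polar]
        rw [this]
        exact Subgroup.one_mem _
      · obtain ⟨w, hw, huw, hvw⟩ :=
          exists_nonsingular_orth_pair Q hQ hfam hk hcard u v hu0 hu hv huv hdep
        have huvw : polar ⇑Q u (v - w) = 0 := by rw [polar_sub_right, huv, huw, sub_zero]
        have hQvw : Q (v - w) ≠ 0 := by
          rw [quad_sub, hv, hvw]
          simpa using hw
        have h1 := eichler_mul Q u w (v - w) hu huw huvw
        rw [eichler_congr Q u (w + (v - w)) v hu _ (by abel)] at h1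
        rw [← h1]
        exact Subgroup.mul_mem _ (eichler_mem_omega_of_ne Q hQ u w hu huw hw)
          (eichler_mem_omega_of_ne Q hQ u (v - w) hu huvw hQvw)
  · exact eichler_mem_omega_of_ne Q hQ u v hu huv hv

end mem

end Cfsg.Agent.Lib.Helper37
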