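import Cfsg.Agent.Lib.Helper37.EichlerStd

set_option autoImplicit false
set_option linter.unusedSectionVars false
set_option linter.unusedVariables false

namespace Cfsg.Agent.Lib.Helper37

open Matrix Module QuadraticMap
open Cfsg.Agent.Lib.Helper8 Cfsg.Agent.Lib.Helper13
open scoped commutatorElement

variable {ι : Type} [Fintype ι] [DecidableEq ι] {F : Type*} [Field F]

section gen

variable [Fintype F] (Q : QuadraticForm F (ι → F))
  (hQ : (QuadraticMap.polarBilin Q).Nondegenerate) {k : ℕ} {e f : Fin k → ι → F}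
  (hfam : HypFam Q k e f) (hk : 3 ≤ k)
  (hcard : Fintype.card F ≠ 2 ∨ finrank F (ι → F) ≠ 4)

include hQ hfam hk hcard

/-- moving a nonsingular vector to standard position inside `Ω` -/
theorem omega_to_e0cf0 (w : ι → F) (c : F) (hc : c ≠ 0) (hw : Q w = c) :
    ∃ g : ↥(Cfsg.isometryGroup F ⇑Q), g ∈ Cfsg.Omega F ⇑Q ∧
      act Q g w = e ⟨0, by omega⟩ + c • f ⟨0, by omega⟩ := by
  obtain ⟨h1, h2, h3⟩ := hfam.compl_vec ⟨0, by omega⟩ c
  have hw0 : w ≠ 0 := by
    rintro rfl
    rw [map_zero] at hw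
    exact hc hw.symm
  have hs0 : e ⟨0, by omega⟩ + c • f ⟨0, by omega⟩ ≠ 0 := by
    intro h0
    rw [h0, map_zero] at h1
    exact hc h1.symm
  obtain ⟨g, hg, hgx⟩ := omega_witt_frame Q hQ hcard 1 ![w]
    ![e ⟨0, by omega⟩ + c • f ⟨0, by omega⟩]
    (linearIndependent_unique_iff.mpr hw0) (linearIndependent_unique_iff.mpr hs0)
    (by intro i; fin_cases i; simp [hw, h1])
    (by
      intro i j; fin_cases i; fin_cases j
      simp only [Fin.zero_eta, Fin.isValue, Matrix.cons_val_zero]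
      rw [polar_self, polar_self, hw, h1])
    (by
      intro c' hc'
      obtain ⟨h1', h2', h3'⟩ := hfam.compl_vec ⟨1, by omega⟩ c'
      refine ⟨_, h1', ?_⟩
      intro i; fin_cases i
      simp only [Fin.zero_eta, Fin.isValue, Matrix.cons_val_zero]
      rw [polar_add_right, polar_smul_right,
        h2' _ (by intro hh; have := congrArg Fin.val hh; simp at this),
        h3' _ (by intro hh; have := congrArg Fin.val hh; simp at this)]
      simp)
  exact ⟨g, hg, hgx 0⟩

/-- a hyperplane `w^⊥` contains a singular vector not orthogonal to `a`, unless `a ∈ ⟨w⟩` -/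
theorem exists_singular_hyperplane (w a : ι → F) (hw0 : w ≠ 0) (ha : ∀ c : F, a ≠ c • w) :
    ∃ u, Q u = 0 ∧ polar ⇑Q u w = 0 ∧ polar ⇑Q u a ≠ 0 := by
  by_contra hcon
  push Not at hcon
  have hstd : ∃ g : ↥(Cfsg.isometryGroup F ⇑Q), ∃ w₀ : ι → F, act Q g w = w₀ ∧
      ∀ a' : ι → F, (∀ u, Q u = 0 → polar ⇑Q u w₀ = 0 → polar ⇑Q u a' = 0) →
        ∀ x, polar ⇑Q x w₀ = 0 → polar ⇑Q x a' = 0 := by
    by_cases hw : Q w = 0
    · obtain ⟨g, -, hg⟩ := omega_to_e0 Q hQ hfam hk hcard w hw0 hw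
      exact ⟨g, _, hg, fun a' => hfam.std_singular_e0 (by omega) a'⟩
    · obtain ⟨g, -, hg⟩ := omega_to_e0cf0 Q hQ hfam hk hcard w (Q w) hw rfl
      exact ⟨g, _, hg, fun a' => hfam.std_singular_e0f0 (by omega) (Q w) a'⟩
  obtain ⟨g, w₀, hgw, hstd⟩ := hstd
  have claim : ∀ x, polar ⇑Q x w = 0 → polar ⇑Q x a = 0 := by
    intro x hx
    have h1 := hstd (act Q g a) (fun u hu huw => by
      have h2 := hcon (act Q g⁻¹ u) (by rw [Q_act]; exact hu) (by
        have h3 := polar_act Q g (act Q g⁻¹ u) w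
        rw [← act_mul, mul_inv_cancel, act_one, hgw] at h3
        rw [← h3]; exact huw)
      have h4 := polar_act Q g (act Q g⁻¹ u) a
      rw [← act_mul, mul_inv_cancel, act_one] at h4
      rw [h4]; exact h2) (act Q g x) (by rw [← hgw, polar_act]; exact hx)
    rwa [polar_act] at h1
  have hmem := mem_span_pair_of_orth Q hQ w w a (fun x h1 _ => by
    rw [polar_comm]; exact claim x (by rw [polar_comm]; exact h1))
  rw [Set.pair_eq_singleton, Submodule.mem_span_singleton] at hmem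
  obtain ⟨c, hc⟩ := hmem
  exact ha c hc.symm

end gen

/-- the subgroup of the isometry group generated by all Eichler transformations -/
def eichlerAll (Q : QuadraticForm F (ι → F)) : Subgroup ↥(Cfsg.isometryGroup F ⇑Q) :=
  Subgroup.closure {g | ∃ (u v : ι → F) (hu : Q u = 0) (huv : polar ⇑Q u v = 0),
    g = eichler Q u v hu huv}

theorem eichlerAll_conj (Q : QuadraticForm F (ι → F)) (g x : ↥(Cfsg.isometryGroup F ⇑Q))
    (hx : x ∈ eichlerAll Q) : g * x * g⁻¹ ∈ eichlerAll Q := by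
  unfold eichlerAll at hx ⊢
  induction hx using Subgroup.closure_induction with
  | mem y hy =>
    obtain ⟨u, v, hu, huv, rfl⟩ := hy
    rw [eichler_conj]
    exact Subgroup.subset_closure ⟨_, _, _, _, rfl⟩
  | one => simp
  | mul y z _ _ hy hz =>
    have : g * (y * z) * g⁻¹ = (g * y * g⁻¹) * (g * z * g⁻¹) := by group
    rw [this]
    exact Subgroup.mul_mem _ hy hz
  | inv y _ hy =>
    have : g * y⁻¹ * g⁻¹ = (g * y * g⁻¹)⁻¹ := by group
    rw [this]
    exact Subgroup.inv_mem _ hy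

instance eichlerAll_normal (Q : QuadraticForm F (ι → F)) : (eichlerAll Q).Normal :=
  ⟨fun x hx g => eichlerAll_conj Q g x hx⟩

end Cfsg.Agent.Lib.Helper37
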