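import Cfsg.Agent.Lib.Helper37.EichlerGen

set_option autoImplicit false
set_option linter.unusedSectionVars false
set_option linter.unusedVariables false

namespace Cfsg.Agent.Lib.Helper37

open Matrix Module QuadraticMap
open Cfsg.Agent.Lib.Helper8 Cfsg.Agent.Lib.Helper13
open scoped commutatorElement

variable {ι : Type} [Fintype ι] [DecidableEq ι] {F : Type*} [Field F]

theorem eichler_congr_left (Q : QuadraticForm F (ι → F)) (u u' v v' : ι → F) (hu : Q u = 0)
    (huv : polar ⇑Q u v = 0) (h : u = u') (h' : v = v') :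
    eichler Q u v hu huv = eichler Q u' v' (by rw [← h]; exact hu)
      (by rw [← h, ← h']; exact huv) := by
  subst h; subst h'; rfl

theorem eichler_zero_left (Q : QuadraticForm F (ι → F)) (v : ι → F) (hu : Q (0 : ι → F) = 0)
    (huv : polar ⇑Q (0 : ι → F) v = 0) : eichler Q 0 v hu huv = 1 := by
  apply reflElt_ext
  intro x
  rw [act_eichler, act_one, eichlerLin_apply]
  simp [polar]

section gen

variable [Fintype F] (Q : QuadraticForm F (ι → F))
  (hQ : (QuadraticMap.polarBilin Q).Nondegenerate) {k : ℕ} {e f : Fin k → ι → F}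
  (hfam : HypFam Q k e f) (hk : 3 ≤ k)
  (hcard : Fintype.card F ≠ 2 ∨ finrank F (ι → F) ≠ 4)

include hQ hfam hk hcard

/-- `Ω` is transitive on nonzero singular vectors -/
theorem omega_trans_singular (u u' : ι → F) (hu0 : u ≠ 0) (hu : Q u = 0) (hu'0 : u' ≠ 0)
    (hu' : Q u' = 0) : ∃ g : ↥(Cfsg.Omega F ⇑Q), act Q g.1 u = u' := by
  obtain ⟨g₁, hg₁, h1⟩ := omega_to_e0 Q hQ hfam hk hcard u hu0 hu
  obtain ⟨g₂, hg₂, h2⟩ := omega_to_e0 Q hQ hfam hk hcard u' hu'0 hu'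
  refine ⟨⟨g₂⁻¹ * g₁, Subgroup.mul_mem _ (Subgroup.inv_mem _ hg₂) hg₁⟩, ?_⟩
  simp only
  rw [act_mul, h1]
  exact act_inv_eq Q g₂ _ _ h2

/-- the conjugates of one Eichler group generate `Ω` -/
theorem normalClosure_eichlerGroup (u : ι → F) (hu0 : u ≠ 0) (hu : Q u = 0) :
    Subgroup.normalClosure
      ((eichlerGroup Q u hu : Subgroup ↥(Cfsg.Omega F ⇑Q)) : Set ↥(Cfsg.Omega F ⇑Q)) = ⊤ := by
  set N := Subgroup.normalClosure
    ((eichlerGroup Q u hu : Subgroup ↥(Cfsg.Omega F ⇑Q)) : Set ↥(Cfsg.Omega F ⇑Q)) with hN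
  have key : ∀ (u' v' : ι → F) (hu' : Q u' = 0) (huv' : polar ⇑Q u' v' = 0),
      (⟨eichler Q u' v' hu' huv', eichler_mem_omega Q hQ hfam hk hcard u' v' hu' huv'⟩ :
        ↥(Cfsg.Omega F ⇑Q)) ∈ N := by
    intro u' v' hu' huv'
    by_cases hu'0 : u' = 0
    · subst hu'0
      have : (⟨eichler Q 0 v' hu' huv', eichler_mem_omega Q hQ hfam hk hcard 0 v' hu' huv'⟩ :
          ↥(Cfsg.Omega F ⇑Q)) = 1 := Subtype.ext (eichler_zero_left Q v' hu' huv')
      rw [this]
      exact N.one_mem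
    · obtain ⟨g, hgu⟩ := omega_trans_singular Q hQ hfam hk hcard u u' hu0 hu hu'0 hu'
      have hpol : polar ⇑Q u (act Q (g.1)⁻¹ v') = 0 := by
        have h3 := polar_act Q g.1 u (act Q (g.1)⁻¹ v')
        rw [hgu, ← act_mul, mul_inv_cancel, act_one, huv'] at h3
        exact h3.symm
      have hmem : (⟨eichler Q u (act Q (g.1)⁻¹ v') hu hpol,
          eichler_mem_omega Q hQ hfam hk hcard u _ hu hpol⟩ : ↥(Cfsg.Omega F ⇑Q)) ∈
          eichlerGroup Q u hu := ⟨_, hpol, rfl⟩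
      have h4 := (Subgroup.normalClosure_normal (s := ((eichlerGroup Q u hu :
        Subgroup ↥(Cfsg.Omega F ⇑Q)) : Set ↥(Cfsg.Omega F ⇑Q)))).conj_mem _
        (Subgroup.subset_normalClosure hmem) g
      have h5 : g * (⟨eichler Q u (act Q (g.1)⁻¹ v') hu hpol,
          eichler_mem_omega Q hQ hfam hk hcard u _ hu hpol⟩ : ↥(Cfsg.Omega F ⇑Q)) * g⁻¹
          = ⟨eichler Q u' v' hu' huv', eichler_mem_omega Q hQ hfam hk hcard u' v' hu' huv'⟩ := by
        apply Subtype.ext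
        rw [Subgroup.coe_mul, Subgroup.coe_mul, Subgroup.coe_inv]
        simp only
        rw [eichler_conj]
        apply eichler_congr_left Q _ _ _ _ _ _ hgu
        rw [← act_mul, mul_inv_cancel, act_one]
      rw [← h5]
      exact h4
  rw [eq_top_iff]
  intro x _
  have hx : x.1 ∈ eichlerAll Q := omega_le_eichlerAll Q hQ hfam hk hcard x.2
  have hall : ∀ y ∈ eichlerAll Q, ∃ hy : y ∈ Cfsg.Omega F ⇑Q,
      (⟨y, hy⟩ : ↥(Cfsg.Omega F ⇑Q)) ∈ N := by
    intro y hy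
    unfold eichlerAll at hy
    induction hy using Subgroup.closure_induction with
    | mem z hz =>
      obtain ⟨u', v', hu', huv', rfl⟩ := hz
      exact ⟨eichler_mem_omega Q hQ hfam hk hcard u' v' hu' huv', key u' v' hu' huv'⟩
    | one => exact ⟨Subgroup.one_mem _, N.one_mem⟩
    | mul y z _ _ hy hz =>
      obtain ⟨h1, h1'⟩ := hy
      obtain ⟨h2, h2'⟩ := hz
      exact ⟨Subgroup.mul_mem _ h1 h2, N.mul_mem h1' h2'⟩
    | inv y _ hy =>
      obtain ⟨h1, h1'⟩ := hy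
      exact ⟨Subgroup.inv_mem _ h1, N.inv_mem h1'⟩
  obtain ⟨hy, hmem⟩ := hall x.1 hx
  exact hmem

end gen

end Cfsg.Agent.Lib.Helper37
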