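import Cfsg.Agent.Lib.Helper37.EichlerAll

set_option autoImplicit false
set_option linter.unusedSectionVars false
set_option linter.unusedVariables false

namespace Cfsg.Agent.Lib.Helper37

open Matrix Module QuadraticMap
open Cfsg.Agent.Lib.Helper8 Cfsg.Agent.Lib.Helper13
open scoped commutatorElement

variable {ι : Type} [Fintype ι] [DecidableEq ι] {F : Type*} [Field F]

theorem reflElt_congr (Q : QuadraticForm F (ι → F)) (a b : ι → F) (ha : Q a ≠ 0) (h : a = b) :
    reflElt Q a ha = reflElt Q b (by rw [← h]; exact ha) := by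
  subst h; rfl

section gen

variable [Fintype F] (Q : QuadraticForm F (ι → F))
  (hQ : (QuadraticMap.polarBilin Q).Nondegenerate) {k : ℕ} {e f : Fin k → ι → F}
  (hfam : HypFam Q k e f) (hk : 3 ≤ k)
  (hcard : Fintype.card F ≠ 2 ∨ finrank F (ι → F) ≠ 4)

include hQ hfam hk hcard

/-- the product of two reflections of equal norm is a product of Eichler transformations -/
theorem refl_mul_refl_mem_eichlerAll (a b : ι → F) (ha : Q a ≠ 0) (hb : Q b ≠ 0)
    (hab : Q b = Q a) : reflElt Q a ha * reflElt Q b hb ∈ eichlerAll Q := by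
  by_cases h1 : b = a
  · subst h1
    rw [reflElt_mul_self]
    exact Subgroup.one_mem _
  by_cases h2 : b = -a
  · subst h2
    have : reflElt Q (-a) hb = reflElt Q a ha := by
      have h3 := reflElt_smul Q a ha (-1) (by simp) (by rw [neg_one_smul]; exact hb)
      rw [← h3]
      exact reflElt_congr Q _ _ hb (by rw [neg_one_smul])
    rw [this, reflElt_mul_self]
    exact Subgroup.one_mem _
  have ha0 : a ≠ 0 := by
    rintro rfl
    exact ha (map_zero Q)
  have hw0 : a - b ≠ 0 := fun h => h1 (sub_eq_zero.mp h).symm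
  have hind : ∀ c : F, a ≠ c • (a - b) := by
    intro c hc
    have hc0 : c ≠ 0 := by
      rintro rfl
      rw [zero_smul] at hc
      exact ha0 hc
    -- b = s • a with s = (c - 1) / c
    have hb' : b = (c⁻¹ * (c - 1)) • a := by
      have h3 : c • b = (c - 1) • a := by
        rw [smul_sub] at hc
        rw [sub_smul, one_smul]
        linear_combination (exp := 1) hc
      rw [← smul_smul, ← h3, smul_smul, inv_mul_cancel₀ hc0, one_smul]
    set s := c⁻¹ * (c - 1) with hs
    have hs2 : s * s = 1 := by
      have h4 := hab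
      rw [hb', QuadraticMap.map_smul, smul_eq_mul] at h4
      have h5 : (s * s - 1) * Q a = 0 := by linear_combination h4
      rcases mul_eq_zero.mp h5 with h | h
      · exact sub_eq_zero.mp h
      · exact absurd h ha
    have hs' : s = 1 ∨ s = -1 := by
      have : (s - 1) * (s + 1) = 0 := by linear_combination hs2
      rcases mul_eq_zero.mp this with h | h
      · left; exact sub_eq_zero.mp h
      · right; exact eq_neg_of_add_eq_zero_left h
    rcases hs' with h | h
    · apply h1; rw [hb', h, one_smul]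
    · apply h2; rw [hb', h, neg_one_smul]
  obtain ⟨u, hu, huw, hua⟩ := exists_singular_hyperplane Q hQ hfam hk hcard (a - b) a hw0 hind
  have hβ : polar ⇑Q a u = polar ⇑Q b u := by
    rw [polar_sub_right, sub_eq_zero] at huw
    rw [polar_comm ⇑Q a u, polar_comm ⇑Q b u]
    exact huw
  obtain ⟨v, huv, hmove⟩ := eichler_moves Q a b u hab hu hβ (by rw [polar_comm]; exact hua)
  set τ := eichler Q u v hu huv with hτ
  have hτmem : τ ∈ eichlerAll Q := Subgroup.subset_closure ⟨u, v, hu, huv, rfl⟩
  have hconj := conj_reflElt Q τ a ha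
  have hrb : reflElt Q b hb = τ * reflElt Q a ha * τ⁻¹ := by
    rw [hconj]
    exact reflElt_congr Q _ _ hb hmove.symm
  have hinv : (reflElt Q a ha)⁻¹ = reflElt Q a ha :=
    inv_mem_reflSet Q _ (reflElt_mem_reflSet Q a ha)
  have : reflElt Q a ha * reflElt Q b hb
      = (reflElt Q a ha * τ * (reflElt Q a ha)⁻¹) * τ⁻¹ := by
    rw [hrb, hinv]; group
  rw [this]
  exact Subgroup.mul_mem _ (eichlerAll_conj Q _ τ hτmem) (Subgroup.inv_mem _ hτmem)

/-- `Ω` is contained in the group generated by the Eichler transformations -/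
theorem omega_le_eichlerAll : Cfsg.Omega F ⇑Q ≤ eichlerAll Q := by
  show commutator _ ≤ _
  rw [← Subgroup.Normal.quotient_commutative_iff_commutator_le]
  have hgen := closure_reflSet_eq_top' Q hQ hcard
  constructor
  constructor
  intro x' y'
  obtain ⟨x, rfl⟩ := QuotientGroup.mk'_surjective (eichlerAll Q) x'
  obtain ⟨y, rfl⟩ := QuotientGroup.mk'_surjective (eichlerAll Q) y'
  have hx : x ∈ Subgroup.closure (reflSet Q) := by rw [hgen]; trivial
  have hy : y ∈ Subgroup.closure (reflSet Q) := by rw [hgen]; trivial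
  show Commute (QuotientGroup.mk' (eichlerAll Q) x) (QuotientGroup.mk' (eichlerAll Q) y)
  induction hx, hy using Subgroup.closure_induction₂ with
  | mem r s hr hs =>
    obtain ⟨a, ha, hra⟩ := hr
    obtain ⟨b, hb, hsb⟩ := hs
    have hr' : r = reflElt Q a ha := eq_reflElt_of_coe Q r a ha hra
    have hs' : s = reflElt Q b hb := eq_reflElt_of_coe Q s b hb hsb
    subst hr' hs'
    -- r s r⁻¹ s⁻¹ ∈ T
    show _ * _ = _ * _
    rw [← map_mul, ← map_mul, QuotientGroup.mk'_apply, QuotientGroup.mk'_apply,
      QuotientGroup.eq]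
    have hinva : (reflElt Q a ha)⁻¹ = reflElt Q a ha :=
      inv_mem_reflSet Q _ (reflElt_mem_reflSet Q a ha)
    have hinvb : (reflElt Q b hb)⁻¹ = reflElt Q b hb :=
      inv_mem_reflSet Q _ (reflElt_mem_reflSet Q b hb)
    have hconj := conj_reflElt Q (reflElt Q a ha) b hb
    have e1 : (reflElt Q a ha * reflElt Q b hb)⁻¹ * (reflElt Q b hb * reflElt Q a ha)
        = reflElt Q b hb * (reflElt Q a ha * reflElt Q b hb * (reflElt Q a ha)⁻¹) := by
      rw [_root_.mul_inv_rev, hinva, hinvb]; group
    rw [e1, hconj]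
    apply refl_mul_refl_mem_eichlerAll Q hQ hfam hk hcard
    exact isoElt_preserves Q _ b
  | one_left x _ => rw [map_one]; exact Commute.one_left _
  | one_right x _ => rw [map_one]; exact Commute.one_right _
  | mul_left x y z _ _ _ h1 h2 => rw [map_mul]; exact h1.mul_left h2
  | mul_right y z x _ _ _ h1 h2 => rw [map_mul]; exact h1.mul_right h2
  | inv_left x y _ _ h => rw [map_inv]; exact h.inv_left
  | inv_right x y _ _ h => rw [map_inv]; exact h.inv_right

end gen

end Cfsg.Agent.Lib.Helper37
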