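import Cfsg.Agent.Lib.Helper37.Eichler3

set_option autoImplicit false
set_option linter.unusedSectionVars false
set_option linter.unusedVariables false

namespace Cfsg.Agent.Lib.Helper37

open Matrix Module QuadraticMap
open Cfsg.Agent.Lib.Helper8 Cfsg.Agent.Lib.Helper13

variable {ι : Type} [Fintype ι] [DecidableEq ι] {F : Type*} [Field F]

/-- the group of Eichler transformations with a fixed singular vector `u`, inside `Ω` -/
noncomputable def eichlerGroup (Q : QuadraticForm F (ι → F)) (u : ι → F) (hu : Q u = 0) :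
    Subgroup ↥(Cfsg.Omega F ⇑Q) where
  carrier := {g | ∃ (v : ι → F) (huv : polar ⇑Q u v = 0), g.1 = eichler Q u v hu huv}
  one_mem' := ⟨0, by simp [polar], by rw [Subgroup.coe_one, eichler_zero_eq_one]⟩
  mul_mem' := by
    rintro a b ⟨v, huv, h⟩ ⟨v', huv', h'⟩
    exact ⟨v + v', by rw [polar_add_right, huv, huv', add_zero],
      by rw [Subgroup.coe_mul, h, h', eichler_mul]⟩
  inv_mem' := by
    rintro a ⟨v, huv, h⟩
    exact ⟨-v, by rw [polar_neg_right, huv, neg_zero], by rw [Subgroup.coe_inv, h, eichler_inv]⟩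

theorem eichlerGroup_comm (Q : QuadraticForm F (ι → F)) (u : ι → F) (hu : Q u = 0) :
    IsMulCommutative (eichlerGroup Q u hu) := by
  constructor
  constructor
  rintro ⟨a, v, huv, h⟩ ⟨b, v', huv', h'⟩
  apply Subtype.ext
  apply Subtype.ext
  show a.1 * b.1 = b.1 * a.1
  rw [h, h', eichler_mul, eichler_mul]
  exact eichler_congr Q u _ _ hu _ (add_comm v v')

/-- the point stabiliser normalises the Eichler group -/
theorem eichlerGroup_normalized (Q : QuadraticForm F (ι → F)) (u : ι → F) (hu0 : u ≠ 0)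
    (hu : Q u = 0) :
    ∀ h ∈ stabPt Q u, ∀ a ∈ eichlerGroup Q u hu, h * a * h⁻¹ ∈ eichlerGroup Q u hu := by
  rintro h ⟨c, hc⟩ a ⟨v, huv, ha⟩
  have hc0 : c ≠ 0 := by
    rintro rfl
    rw [zero_smul] at hc
    exact hu0 (act_eq_zero Q _ _ hc)
  have hpol : polar ⇑Q u (c • act Q h.1 v) = 0 := by
    have h1 := polar_act Q h.1 u v
    rw [hc, huv, polar_smul_left, smul_eq_mul] at h1
    rw [polar_smul_right, (mul_eq_zero.mp h1).resolve_left hc0, smul_zero]
  refine ⟨c • act Q h.1 v, hpol, ?_⟩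
  rw [Subgroup.coe_mul, Subgroup.coe_mul, Subgroup.coe_inv, ha, eichler_conj]
  apply reflElt_ext
  intro x
  rw [act_eichler, act_eichler, eichlerLin_apply, eichlerLin_apply, hc, polar_smul_right,
    polar_smul_right, QuadraticMap.map_smul]
  simp only [smul_eq_mul]
  module

end Cfsg.Agent.Lib.Helper37
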