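import Cfsg.Agent.Lib.Helper37.EichlerGroup

set_option autoImplicit false
set_option linter.unusedSectionVars false
set_option linter.unusedVariables false

namespace Cfsg.Agent.Lib.Helper37

open Matrix Module QuadraticMap
open Cfsg.Agent.Lib.Helper8 Cfsg.Agent.Lib.Helper13

variable {ι : Type} [Fintype ι] [DecidableEq ι] {F : Type*} [Field F]

/-- one Eichler transformation moves `a` to `b` when a singular vector pairs equally and
nontrivially with both -/
theorem eichler_moves (Q : QuadraticForm F (ι → F)) (a b u : ι → F) (hab : Q b = Q a)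
    (hu : Q u = 0) (hβ : polar ⇑Q a u = polar ⇑Q b u) (hβ0 : polar ⇑Q a u ≠ 0) :
    ∃ (v : ι → F) (huv : polar ⇑Q u v = 0), act Q (eichler Q u v hu huv) a = b := by
  set β := polar ⇑Q a u with hβdef
  have huv : polar ⇑Q u (β⁻¹ • (a - b)) = 0 := by
    rw [polar_smul_right, polar_sub_right, polar_comm ⇑Q u a, polar_comm ⇑Q u b, ← hβ, sub_self,
      smul_zero]
  refine ⟨β⁻¹ • (a - b), huv, ?_⟩
  rw [act_eichler, eichlerLin_apply, ← hβdef, polar_smul_right, QuadraticMap.map_smul,
    polar_sub_right, polar_self, quad_sub, hab]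
  simp only [smul_eq_mul, nsmul_eq_mul, Nat.cast_ofNat]
  match_scalars <;> field_simp <;> ring

namespace HypFam

variable {Q : QuadraticForm F (ι → F)} {k : ℕ} {e f : Fin k → ι → F}

/-- the projection away from two hyperbolic pairs -/
theorem proj2 (h : HypFam Q k e f) (i j : Fin k) (hij : i ≠ j) (x : ι → F) :
    ∃ x'' : ι → F, x = x'' + (polar ⇑Q (f i) x • e i + polar ⇑Q (e i) x • f i)
        + (polar ⇑Q (f j) x • e j + polar ⇑Q (e j) x • f j) ∧
      polar ⇑Q (e i) x'' = 0 ∧ polar ⇑Q (f i) x'' = 0 ∧ polar ⇑Q (e j) x'' = 0 ∧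
      polar ⇑Q (f j) x'' = 0 := by
  refine ⟨x - (polar ⇑Q (f i) x • e i + polar ⇑Q (e i) x • f i)
        - (polar ⇑Q (f j) x • e j + polar ⇑Q (e j) x • f j), by abel, ?_, ?_, ?_, ?_⟩
  · rw [polar_sub_right, polar_sub_right, polar_add_right, polar_add_right, polar_smul_right,
      polar_smul_right, polar_smul_right, polar_smul_right, h.ee, h.ee, h.ef, h.ef, if_pos rfl,
      if_neg hij]
    simp
  · rw [polar_sub_right, polar_sub_right, polar_add_right, polar_add_right, polar_smul_right,
      polar_smul_right, polar_smul_right, polar_smul_right, h.ff, h.ff, h.fe, h.fe, if_pos rfl,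
      if_neg hij]
    simp
  · rw [polar_sub_right, polar_sub_right, polar_add_right, polar_add_right, polar_smul_right,
      polar_smul_right, polar_smul_right, polar_smul_right, h.ee, h.ee, h.ef, h.ef, if_pos rfl,
      if_neg (Ne.symm hij)]
    simp
  · rw [polar_sub_right, polar_sub_right, polar_add_right, polar_add_right, polar_smul_right,
      polar_smul_right, polar_smul_right, polar_smul_right, h.ff, h.ff, h.fe, h.fe, if_pos rfl,
      if_neg (Ne.symm hij)]
    simp

end HypFam

end Cfsg.Agent.Lib.Helper37
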