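import Cfsg.Agent.Lib.Helper37.EichlerMoves

set_option autoImplicit false
set_option linter.unusedSectionVars false
set_option linter.unusedVariables false

namespace Cfsg.Agent.Lib.Helper37

open Matrix Module QuadraticMap
open Cfsg.Agent.Lib.Helper8 Cfsg.Agent.Lib.Helper13

variable {ι : Type} [Fintype ι] [DecidableEq ι] {F : Type*} [Field F]

namespace HypFam

variable {Q : QuadraticForm F (ι → F)} {k : ℕ} {e f : Fin k → ι → F}

/-- in the hyperplane `e₀^⊥`, a vector orthogonal to all singular vectors is orthogonal to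
everything -/
theorem std_singular_e0 (h : HypFam Q k e f) (hk : 2 ≤ k) (a : ι → F)
    (hyp : ∀ u, Q u = 0 → polar ⇑Q u (e ⟨0, by omega⟩) = 0 → polar ⇑Q u a = 0) :
    ∀ x, polar ⇑Q x (e ⟨0, by omega⟩) = 0 → polar ⇑Q x a = 0 := by
  intro x hx0
  set i0 : Fin k := ⟨0, by omega⟩ with hi0
  set i1 : Fin k := ⟨1, by omega⟩ with hi1
  have h01 : i0 ≠ i1 := by
    intro hh; have := congrArg Fin.val hh; simp [hi0, hi1] at this
  obtain ⟨x'', hx, h1, h2, h3, h4⟩ := h.proj2 i0 i1 h01 x
  have hs : Q (x'' + ((1 : F) • e i1 + (-Q x'') • f i1)) = 0 := by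
    rw [h.Q_add_comb i1 _ _ x'' h3 h4]; ring
  have hs0 : polar ⇑Q (x'' + ((1 : F) • e i1 + (-Q x'') • f i1)) (e i0) = 0 := by
    rw [polar_add_left, polar_add_left, polar_smul_left, polar_smul_left, polar_comm ⇑Q x'' (e i0),
      h1, h.ee, h.fe, if_neg (Ne.symm h01)]
    simp
  have a0 := hyp (e i0) (h.qe i0) (h.ee i0 i0)
  have a1 := hyp (e i1) (h.qe i1) (h.ee i1 i0)
  have a2 := hyp (f i1) (h.qf i1) (by rw [h.fe, if_neg (Ne.symm h01)])
  have a3 := hyp _ hs hs0
  rw [polar_add_left, polar_add_left, polar_smul_left, polar_smul_left, a1, a2] at a3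
  have hq0 : polar ⇑Q (e i0) x = 0 := by rw [polar_comm]; exact hx0
  have hx2 := congrArg (fun y => polar ⇑Q y a) hx
  simp only [polar_add_left, polar_smul_left, a0, a1, a2, hq0, smul_eq_mul] at hx2
  rw [hx2]
  simp only [smul_eq_mul, mul_zero, add_zero] at a3
  rw [a3]
  simp

/-- the same in the hyperplane `(e₀ + c f₀)^⊥` -/
theorem std_singular_e0f0 (h : HypFam Q k e f) (hk : 2 ≤ k) (c : F) (a : ι → F)
    (hyp : ∀ u, Q u = 0 → polar ⇑Q u (e ⟨0, by omega⟩ + c • f ⟨0, by omega⟩) = 0 →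
      polar ⇑Q u a = 0) :
    ∀ x, polar ⇑Q x (e ⟨0, by omega⟩ + c • f ⟨0, by omega⟩) = 0 → polar ⇑Q x a = 0 := by
  intro x hx0
  set i0 : Fin k := ⟨0, by omega⟩ with hi0
  set i1 : Fin k := ⟨1, by omega⟩ with hi1
  have h01 : i0 ≠ i1 := by
    intro hh; have := congrArg Fin.val hh; simp [hi0, hi1] at this
  obtain ⟨x'', hx, h1, h2, h3, h4⟩ := h.proj2 i0 i1 h01 x
  have hs : Q (x'' + ((1 : F) • e i1 + (-Q x'') • f i1)) = 0 := by
    rw [h.Q_add_comb i1 _ _ x'' h3 h4]; ring
  have hs0 : polar ⇑Q (x'' + ((1 : F) • e i1 + (-Q x'') • f i1)) (e i0 + c • f i0) = 0 := by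
    rw [polar_add_left, polar_add_left, polar_smul_left, polar_smul_left, polar_add_right,
      polar_add_right, polar_add_right, polar_smul_right, polar_smul_right, polar_smul_right,
      polar_comm ⇑Q x'' (e i0), polar_comm ⇑Q x'' (f i0), h1, h2, h.ee, h.ef, h.fe, h.ff,
      if_neg (Ne.symm h01)]
    simp
  have hz : Q (((1 : F) • e i0 + (-c) • f i0) + ((1 : F) • e i1 + c • f i1)) = 0 := by
    rw [h.Q_add_comb i1 _ _ _ (by
        rw [polar_add_right, polar_smul_right, polar_smul_right, h.ee, h.ef,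
          if_neg (Ne.symm h01)]; simp) (by
        rw [polar_add_right, polar_smul_right, polar_smul_right, h.fe, h.ff,
          if_neg (Ne.symm h01)]; simp), h.Q_comb]
    ring
  have hz0 : polar ⇑Q (((1 : F) • e i0 + (-c) • f i0) + ((1 : F) • e i1 + c • f i1))
      (e i0 + c • f i0) = 0 := by
    simp only [polar_add_left, polar_add_right, polar_smul_left, polar_smul_right, h.ee, h.ef,
      h.fe, h.ff, if_neg (Ne.symm h01), if_pos, smul_eq_mul]
    simp
  have a1 := hyp (e i1) (h.qe i1) (by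
    rw [polar_add_right, polar_smul_right, h.ee, h.ef, if_neg (Ne.symm h01)]; simp)
  have a2 := hyp (f i1) (h.qf i1) (by
    rw [polar_add_right, polar_smul_right, h.fe, h.ff, if_neg (Ne.symm h01)]; simp)
  have a3 := hyp _ hs hs0
  have a4 := hyp _ hz hz0
  rw [polar_add_left, polar_add_left, polar_smul_left, polar_smul_left, a1, a2] at a3
  rw [polar_add_left, polar_add_left, polar_add_left, polar_smul_left, polar_smul_left,
    polar_smul_left, polar_smul_left, a1, a2] at a4
  simp only [smul_eq_mul, mul_zero, add_zero, one_mul] at a3 a4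
  have hq0 : polar ⇑Q (e i0) x + c * polar ⇑Q (f i0) x = 0 := by
    rw [polar_add_right, polar_smul_right, smul_eq_mul] at hx0
    rw [polar_comm ⇑Q (e i0) x, polar_comm ⇑Q (f i0) x]
    exact hx0
  have hx2 := congrArg (fun y => polar ⇑Q y a) hx
  simp only [polar_add_left, polar_smul_left, a1, a2, a3, smul_eq_mul] at hx2
  rw [hx2]
  linear_combination (polar ⇑Q (f i0) x) * a4 + (polar ⇑Q (f i0) a) * hq0

end HypFam

end Cfsg.Agent.Lib.Helper37
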