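import Cfsg.Agent.Lib.Helper37.FusGlue2
import Cfsg.Agent.Lib.Helper61.FusC
import Cfsg.Agent.Lib.Helper95.FusA
import Cfsg.Agent.Lib.Helper25.FusB
import Cfsg.Agent.Lib.Helper43.OrthReindex

/-!
# S2720 / S2721: matrix level wrappers of the abstract linear algebra leaves
-/

set_option autoImplicit false
set_option linter.unusedSectionVars false
set_option linter.unusedVariables false

namespace Cfsg.Agent.Lib.Helper37.Fus

open Matrix Module Cfsg.Agent.Lib.Helper37 Cfsg.Agent.Lib.Helper37.IsGram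

universe u

variable {κ : Type} [Fintype κ] [DecidableEq κ] {F : Type u} [Field F] [Fintype F] [DecidableEq F]
  {Q : (κ → F) → F} {G : Matrix κ κ F}

theorem toLin'_pow' (A : Matrix κ κ F) (n : ℕ) :
    Matrix.toLin' (A ^ n) = (Matrix.toLin' A) ^ n := by
  induction n with
  | zero => rw [pow_zero, pow_zero, Matrix.toLin'_one]; rfl
  | succ n ih => rw [pow_succ, pow_succ, Matrix.toLin'_mul, ih]; rfl

theorem bil_nondeg (h : IsGram Q G) (hdet : G.det ≠ 0) (u : κ → F)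
    (hu : ∀ v, Matrix.toBilin' G u v = 0) : u = 0 := by
  by_contra hne
  obtain ⟨y, hy⟩ := h.exists_bilin_ne_zero hdet u hne
  exact hy (hu y)

theorem rfl_eq_toLin' (h : IsGram Q G) (v : κ → F) (hv : Q v ≠ 0) :
    rfl (Matrix.toBilin' G) v = Matrix.toLin' (Cfsg.reflectionMatrix Q v) := by
  apply LinearMap.ext
  intro x
  have e : 2 * (2 * Q v)⁻¹ = (Q v)⁻¹ := by
    have := h.two_ne
    field_simp
  rw [rfl_apply, Matrix.toLin'_apply, h.refl_mulVec, h.self v, e]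

theorem rfl_list (h : IsGram Q G) (vs : List (κ → F)) (hvs : ∀ v ∈ vs, Q v ≠ 0) :
    (vs.map (rfl (Matrix.toBilin' G))).prod =
      Matrix.toLin' ((vs.map (fun v => Cfsg.reflectionMatrix Q v)).prod) := by
  induction vs with
  | nil => simp [Matrix.toLin'_one]; rfl
  | cons a l ih =>
    rw [List.map_cons, List.prod_cons, List.map_cons, List.prod_cons, Matrix.toLin'_mul,
      ih (fun v hv => hvs v (List.mem_cons_of_mem a hv)),
      rfl_eq_toLin' h a (hvs a List.mem_cons_self)]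
    rfl

theorem prod_two_mul (vs : List (κ → F)) (f : (κ → F) → F) :
    (vs.map (fun v => 2 * f v)).prod = 2 ^ vs.length * (vs.map f).prod := by
  induction vs with
  | nil => simp
  | cons a l ih =>
    rw [List.map_cons, List.prod_cons, ih, List.map_cons, List.prod_cons, List.length_cons, pow_succ]
    ring

/-- FUS-C at the matrix level: an element of `SO ∖ Ω` commuting with `A` -/
theorem exists_SO_not_omega_commute (h : IsGram Q G) (hdet : G.det ≠ 0)
    (A : ↥(Cfsg.isometryGroup F Q)) (n : ℕ) (hodd : Odd n) (hnF : (n : F) ≠ 0)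
    (hAn : A ^ n = 1) (hA1 : A ≠ 1) :
    ∃ k₂ : ↥(Cfsg.isometryGroup F Q), (toMat Q k₂).det = 1 ∧ k₂ ∉ Cfsg.Omega F Q ∧
      k₂ * A = A * k₂ := by
  have hAQ : ∀ v, Q (toMat Q A *ᵥ v) = Q v := (mem_isometryGroup_iff' Q A.1).1 A.2
  have ha : ∀ u v, Matrix.toBilin' G (Matrix.toLin' (toMat Q A) u) (Matrix.toLin' (toMat Q A) v) =
      Matrix.toBilin' G u v := by
    intro u v
    rw [Matrix.toLin'_apply, Matrix.toLin'_apply]
    exact h.isometry_bilin _ hAQ u v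
  have han : (Matrix.toLin' (toMat Q A)) ^ n = 1 := by
    rw [← toLin'_pow', ← map_pow, hAn, map_one, Matrix.toLin'_one]
    rfl
  have ha1 : Matrix.toLin' (toMat Q A) ≠ 1 := by
    intro h1
    apply hA1
    apply toMat_injective
    apply Matrix.toLin'.injective
    rw [h1, map_one, Matrix.toLin'_one]
    rfl
  obtain ⟨vs, hvs, hev, hnsq, hcomm⟩ := exists_refl_prod_commute h.two_ne (Matrix.toBilin' G)
    (fun u v => h.symmB u v) (fun u hu => bil_nondeg h hdet u hu) (Matrix.toLin' (toMat Q A)) ha n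
    hodd hnF han ha1
  have hvs' : ∀ v ∈ vs, Q v ≠ 0 := by
    intro v hv hQ
    apply hvs v hv
    rw [h.self v, hQ, mul_zero]
  have hmat : toMat Q ((vs.map h.reflG').prod) =
      (vs.map (fun v => Cfsg.reflectionMatrix Q v)).prod := h.toMat_list vs hvs'
  refine ⟨(vs.map h.reflG').prod, ?_, ?_, ?_⟩
  · rw [hmat, h.det_list vs hvs', hev.neg_one_pow]
  · intro hΩ
    have h1 := (mem_omega_iff h _ vs hvs' hmat).1 hΩ
    apply hnsq
    have e : (vs.map (fun v => Matrix.toBilin' G v v)).prod =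
        2 ^ vs.length * (vs.map (fun v => Q v)).prod := by
      rw [← prod_two_mul]
      congr 1
      apply List.map_congr_left
      intro v _
      exact h.self v
    rw [e]
    obtain ⟨t, ht⟩ := hev
    obtain ⟨y, hy⟩ := h1.2
    refine ⟨2 ^ t * y, ?_⟩
    rw [ht, hy, pow_add]
    ring
  · apply toMat_injective
    apply Matrix.toLin'.injective
    have e1 : toMat Q ((vs.map h.reflG').prod * A) = toMat Q ((vs.map h.reflG').prod) * toMat Q A :=
      map_mul _ _ _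
    have e2 : toMat Q (A * (vs.map h.reflG').prod) = toMat Q A * toMat Q ((vs.map h.reflG').prod) :=
      map_mul _ _ _
    rw [e1, e2, Matrix.toLin'_mul, Matrix.toLin'_mul, hmat, ← rfl_list h vs hvs']
    exact hcomm

section bundled

variable {p : ℕ} [Fact p.Prime] [CharP F p] (Qb : QuadraticForm F (κ → F))
  (h : IsGram (⇑Qb) G) (hdet : G.det ≠ 0)

include h hdet

theorem polarBilin_nondegenerate : (QuadraticMap.polarBilin Qb).Nondegenerate := by
  have e : ∀ u w, QuadraticMap.polarBilin Qb u w = Matrix.toBilin' G u w := by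
    intro u w
    rw [QuadraticMap.polarBilin_apply_apply]
    exact h.polar_eq u w
  refine ⟨?_, ?_⟩
  · intro u hu
    apply bil_nondeg h hdet u
    intro w
    rw [← e]
    exact hu w
  · intro u hu
    apply bil_nondeg h hdet u
    intro w
    rw [h.symmB, ← e]
    exact hu w

/-- helper43: conjugate under the conformal group implies conjugate under the isometry group -/
theorem exists_iso_conj (A : ↥(Cfsg.isometryGroup F (⇑Qb))) {r : ℕ} (hr : r.Prime) (hro : Odd r)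
    (hrp : r ≠ p) (hAr : A ^ r = 1) (hA1 : A ≠ 1)
    (s : ↥(Cfsg.Geo.quadSimilarityGroup (F := F) (⇑Qb))) :
    ∃ g : ↥(Cfsg.isometryGroup F (⇑Qb)),
      isoGO (⇑Qb) g * isoGO (⇑Qb) A * (isoGO (⇑Qb) g)⁻¹ = s * isoGO (⇑Qb) A * s⁻¹ := by
  have hord : orderOf A = r := by
    haveI : Fact r.Prime := ⟨hr⟩
    exact orderOf_eq_prime hAr hA1
  have hp : p.Prime := Fact.out
  have hcop : (orderOf A).Coprime p := by
    rw [hord]
    exact (Nat.coprime_primes hr hp).2 hrp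
  have hc : ((s.1 : GL κ F) : Matrix κ κ F) * ((A : GL κ F) : Matrix κ κ F) =
      ((simConjHom (⇑Qb) s A : GL κ F) : Matrix κ κ F) * ((s.1 : GL κ F) : Matrix κ κ F) := by
    rw [simConjHom_apply, ← Units.val_mul, ← Units.val_mul]
    congr 1
    group
  have hconj := Cfsg.Agent.Lib.Helper43.OrthConj.isConj_isometryGroup_of_isConj Qb
    (polarBilin_nondegenerate Qb h hdet) A (simConjHom (⇑Qb) s A) (by rw [hord]; exact hro) hcop
    s.1 hc
  rw [isConj_iff] at hconj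
  obtain ⟨g, hg⟩ := hconj
  refine ⟨g, ?_⟩
  have e := isoGO_simConjHom s A
  rw [← hg, map_mul, map_mul, map_inv] at e
  exact e

/-- a reflection in a fixed vector commutes -/
theorem reflG_commute_of_fixed (A : ↥(Cfsg.isometryGroup F (⇑Qb))) (w : κ → F) (hw : (⇑Qb) w ≠ 0)
    (hAw : toMat (⇑Qb) A *ᵥ w = w) :
    isoGO (⇑Qb) (h.reflG w hw) * isoGO (⇑Qb) A = isoGO (⇑Qb) A * isoGO (⇑Qb) (h.reflG w hw) := by
  rw [← map_mul, ← map_mul]
  congr 1
  apply toMat_injective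
  have e1 : toMat (⇑Qb) (h.reflG w hw * A) = Cfsg.reflectionMatrix (⇑Qb) w * toMat (⇑Qb) A :=
    map_mul _ _ _
  have e2 : toMat (⇑Qb) (A * h.reflG w hw) = toMat (⇑Qb) A * Cfsg.reflectionMatrix (⇑Qb) w :=
    map_mul _ _ _
  rw [e1, e2]
  have hAQ : ∀ v, (⇑Qb) (toMat (⇑Qb) A *ᵥ v) = (⇑Qb) v := (mem_isometryGroup_iff' (⇑Qb) A.1).1 A.2
  apply Matrix.toLin'.injective
  apply LinearMap.ext
  intro x
  rw [Matrix.toLin'_apply, Matrix.toLin'_apply, ← Matrix.mulVec_mulVec, ← Matrix.mulVec_mulVec,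
    h.refl_mulVec, h.refl_mulVec, Matrix.mulVec_sub, Matrix.mulVec_smul, hAw]
  have e3 := h.isometry_bilin _ hAQ w x
  rw [hAw] at e3
  rw [e3]

/-- E1: a similarity in `simC` commuting with `A` whose multiplier is a nonsquare -/
theorem exists_simC_commute {N : ℕ} (hN : Fintype.card κ = 2 * N) (hn : 2 ≤ Fintype.card κ)
    (hker : ∀ g : ↥(Cfsg.Geo.quadSimilarityGroup (F := F) (⇑Qb)),
      Phi (⇑Qb) g = 1 ↔ ∃ c : F, ((g.1 : GL κ F) : Matrix κ κ F) = c • (1 : Matrix κ κ F))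
    (A : ↥(Cfsg.isometryGroup F (⇑Qb))) {r : ℕ} (hr : r.Prime) (hro : Odd r)
    (hrp : r ≠ p) (hAr : A ^ r = 1) (hA1 : A ≠ 1)
    (s₀ : ↥(Cfsg.Geo.quadSimilarityGroup (F := F) (⇑Qb)))
    (hs₀ : ¬ IsSquare (simMult (⇑Qb) s₀ : F)) :
    ∃ c₁ : ↥(Cfsg.Geo.quadSimilarityGroup (F := F) (⇑Qb)), c₁ ∈ simC h hdet hN hn ∧
      c₁ * isoGO (⇑Qb) A = isoGO (⇑Qb) A * c₁ ∧ ¬ IsSquare (simMult (⇑Qb) c₁ : F) := by
  have hne := exists_Q_eq_one h hdet hn
  obtain ⟨g, hg⟩ := exists_iso_conj Qb h hdet A hr hro hrp hAr hA1 s₀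
  set c := (isoGO (⇑Qb) g)⁻¹ * s₀ with hcdef
  have hc : c * isoGO (⇑Qb) A = isoGO (⇑Qb) A * c := by
    calc c * isoGO (⇑Qb) A = (isoGO (⇑Qb) g)⁻¹ * (s₀ * isoGO (⇑Qb) A * s₀⁻¹) * s₀ := by
          rw [hcdef]; group
      _ = (isoGO (⇑Qb) g)⁻¹ * (isoGO (⇑Qb) g * isoGO (⇑Qb) A * (isoGO (⇑Qb) g)⁻¹) * s₀ := by
          rw [hg]
      _ = isoGO (⇑Qb) A * c := by rw [hcdef]; group
  have hcμ : simMult (⇑Qb) c = simMult (⇑Qb) s₀ := by
    have e1 : simMult (⇑Qb) c = (simMult (⇑Qb) (isoGO (⇑Qb) g))⁻¹ * simMult (⇑Qb) s₀ := by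
      have := (simMultHom hne).map_mul (isoGO (⇑Qb) g)⁻¹ s₀
      rw [map_inv] at this
      exact this
    rw [e1, simMult_isoGO hne, inv_one, one_mul]
  have hAQ : ∀ v, (⇑Qb) (toMat (⇑Qb) A *ᵥ v) = (⇑Qb) v := (mem_isometryGroup_iff' (⇑Qb) A.1).1 A.2
  have ha : ∀ u v, Matrix.toBilin' G (Matrix.toLin' (toMat (⇑Qb) A) u)
      (Matrix.toLin' (toMat (⇑Qb) A) v) = Matrix.toBilin' G u v := by
    intro u v
    rw [Matrix.toLin'_apply, Matrix.toLin'_apply]
    exact h.isometry_bilin _ hAQ u v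
  have han : (Matrix.toLin' (toMat (⇑Qb) A)) ^ r = 1 := by
    rw [← toLin'_pow', ← map_pow, hAr, map_one, Matrix.toLin'_one]
    rfl
  have hp : p.Prime := Fact.out
  have hrF : (r : F) ≠ 0 := by
    intro h0
    rw [CharP.cast_eq_zero_iff F p] at h0
    exact hrp ((Nat.prime_dvd_prime_iff_eq hp hr).1 h0).symm
  by_cases hfix : ∃ v : κ → F, v ≠ 0 ∧ toMat (⇑Qb) A *ᵥ v = v
  · obtain ⟨v, hv0, hv⟩ := hfix
    obtain ⟨w, hw, hww⟩ := exists_fixed_anisotropic h.two_ne (Matrix.toBilin' G)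
      (fun u v => h.symmB u v) (fun u hu => bil_nondeg h hdet u hu) (Matrix.toLin' (toMat (⇑Qb) A))
      ha r hrF han v hv0 (by rw [Matrix.toLin'_apply]; exact hv)
    rw [Matrix.toLin'_apply] at hw
    have hQw : (⇑Qb) w ≠ 0 := by
      intro h0
      apply hww
      rw [h.self w, h0, mul_zero]
    by_cases hcC : c ∈ simC h hdet hN hn
    · exact ⟨c, hcC, hc, by rw [hcμ]; exact hs₀⟩
    · refine ⟨c * isoGO (⇑Qb) (h.reflG w hQw), ?_, ?_, ?_⟩
      · have e1 : simD h hdet hne hN c = -1 := by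
          rcases Int.units_eq_one_or (simD h hdet hne hN c) with e | e
          · exact absurd e hcC
          · exact e
        show simD h hdet hne hN (c * isoGO (⇑Qb) (h.reflG w hQw)) = 1
        rw [map_mul, e1, simD_isoGO_refl h hdet hN hn hker w hQw]
        decide
      · rw [mul_assoc, reflG_commute_of_fixed Qb h hdet A w hQw hw, ← mul_assoc, hc, mul_assoc]
      · have e2 : simMult (⇑Qb) (c * isoGO (⇑Qb) (h.reflG w hQw)) =
            simMult (⇑Qb) c * simMult (⇑Qb) (isoGO (⇑Qb) (h.reflG w hQw)) :=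
          (simMultHom hne).map_mul _ _
        rw [e2, simMult_isoGO hne, mul_one, hcμ]
        exact hs₀
  · refine ⟨c, ?_, hc, by rw [hcμ]; exact hs₀⟩
    rw [mem_simC_iff h hdet hN hn hker]
    have hfix' : ∀ v, Matrix.toLin' (toMat (⇑Qb) A) v = v → v = 0 := by
      intro v hv
      by_contra hv0
      exact hfix ⟨v, hv0, by rw [← Matrix.toLin'_apply]; exact hv⟩
    have hcb : ∀ u v, Matrix.toBilin' G (Matrix.toLin' ((c.1 : GL κ F) : Matrix κ κ F) u)
        (Matrix.toLin' ((c.1 : GL κ F) : Matrix κ κ F) v) =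
        (simMult (⇑Qb) c : F) * Matrix.toBilin' G u v := by
      intro u v
      rw [Matrix.toLin'_apply, Matrix.toLin'_apply]
      exact sim_bilin h c u v
    have hca : Matrix.toLin' ((c.1 : GL κ F) : Matrix κ κ F) * Matrix.toLin' (toMat (⇑Qb) A) =
        Matrix.toLin' (toMat (⇑Qb) A) * Matrix.toLin' ((c.1 : GL κ F) : Matrix κ κ F) := by
      have e3 := congrArg (fun x : ↥(Cfsg.Geo.quadSimilarityGroup (F := F) (⇑Qb)) =>
        ((x.1 : GL κ F) : Matrix κ κ F)) hc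
      simp only [Subgroup.coe_mul, Units.val_mul] at e3
      have e4 : Matrix.toLin' (((c.1 : GL κ F) : Matrix κ κ F) * toMat (⇑Qb) A) =
          Matrix.toLin' (toMat (⇑Qb) A * ((c.1 : GL κ F) : Matrix κ κ F)) := congrArg _ e3
      rw [Matrix.toLin'_mul, Matrix.toLin'_mul] at e4
      exact e4
    have hfr : Module.finrank F (κ → F) = 2 * N := by
      rw [Module.finrank_fintype_fun_eq_card, hN]
    have key := det_of_commute_similitude h.two_ne (Matrix.toBilin' G)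
      (fun u v => h.symmB u v) (fun u hu => bil_nondeg h hdet u hu) (Matrix.toLin' (toMat (⇑Qb) A))
      ha r hro han hfix' (Matrix.toLin' ((c.1 : GL κ F) : Matrix κ κ F)) (simMult (⇑Qb) c : F)
      (simMult (⇑Qb) c).ne_zero hcb hca N hfr
    rw [LinearMap.det_toLin'] at key
    exact key

/-- the class fusion statement for a bundled form -/
theorem fus_form {N : ℕ} (hN : Fintype.card κ = 2 * N) (hn : 2 ≤ Fintype.card κ)
    (hker : ∀ g : ↥(Cfsg.Geo.quadSimilarityGroup (F := F) (⇑Qb)),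
      Phi (⇑Qb) g = 1 ↔ ∃ c : F, ((g.1 : GL κ F) : Matrix κ κ F) = c • (1 : Matrix κ κ F))
    (s₀ : ↥(Cfsg.Geo.quadSimilarityGroup (F := F) (⇑Qb)))
    (hs₀ : ¬ IsSquare (simMult (⇑Qb) s₀ : F))
    (x : MulAut (Cfsg.POmega F (⇑Qb))) (hx : x ∈ Cfsg.pgoAut F (⇑Qb)) {r : ℕ} (hr : r.Prime)
    (hro : Odd r) (hrp : r ≠ p) (hxr : orderOf x = r) :
    (∀ y : MulAut (Cfsg.POmega F (⇑Qb)),
      (Cfsg.IsConjUnder (Cfsg.Inn (Cfsg.POmega F (⇑Qb))) x y ↔
        Cfsg.IsConjUnder ((simC h hdet hN hn).map (Phi (⇑Qb))) x y) ∧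
      (Cfsg.IsConjUnder (Cfsg.psoAut F (⇑Qb)) x y ↔
        Cfsg.IsConjUnder ((simC h hdet hN hn).map (Phi (⇑Qb))) x y)) ∧
    (∀ y : MulAut (Cfsg.POmega F (⇑Qb)),
      Cfsg.IsConjUnder (Cfsg.poAut F (⇑Qb)) x y ↔ Cfsg.IsConjUnder (Cfsg.pgoAut F (⇑Qb)) x y) := by
  have hxr1 : x ^ r = 1 := by rw [← hxr]; exact pow_orderOf_eq_one x
  have hx1 : x ≠ 1 := by
    intro h1
    rw [h1, orderOf_one] at hxr
    exact hr.ne_one hxr.symm
  obtain ⟨A, hAΩ, hAr, hxA⟩ := exists_omega_rep h hdet hN hn hker x hx hro hxr1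
  have hA1 : A ≠ 1 := by
    intro h1
    apply hx1
    rw [hxA, h1, map_one, map_one]
  have hp : p.Prime := Fact.out
  have hrF : (r : F) ≠ 0 := by
    intro h0
    rw [CharP.cast_eq_zero_iff F p] at h0
    exact hrp ((Nat.prime_dvd_prime_iff_eq hp hr).1 h0).symm
  rw [hxA]
  exact fus_main h hdet hN hn hker A
    (exists_simC_commute Qb h hdet hN hn hker A hr hro hrp hAr hA1 s₀ hs₀)
    (exists_SO_not_omega_commute h hdet A r hro hrF hAr hA1)
    (fun s => exists_iso_conj Qb h hdet A hr hro hrp hAr hA1 s)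

end bundled

/-- the same for a form given as a function -/
theorem fus_fun {p : ℕ} [Fact p.Prime] [CharP F p] (Q : (κ → F) → F) (Qb : QuadraticForm F (κ → F))
    (hQ : Q = ⇑Qb) (h : IsGram Q G) (hdet : G.det ≠ 0)
    {N : ℕ} (hN : Fintype.card κ = 2 * N) (hn : 2 ≤ Fintype.card κ)
    (hker : ∀ g : ↥(Cfsg.Geo.quadSimilarityGroup (F := F) Q),
      Phi Q g = 1 ↔ ∃ c : F, ((g.1 : GL κ F) : Matrix κ κ F) = c • (1 : Matrix κ κ F))
    (s₀ : ↥(Cfsg.Geo.quadSimilarityGroup (F := F) Q))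
    (hs₀ : ¬ IsSquare (simMult Q s₀ : F))
    (x : MulAut (Cfsg.POmega F Q)) (hx : x ∈ Cfsg.pgoAut F Q) {r : ℕ} (hr : r.Prime)
    (hro : Odd r) (hrp : r ≠ p) (hxr : orderOf x = r) :
    (∀ y : MulAut (Cfsg.POmega F Q),
      (Cfsg.IsConjUnder (Cfsg.Inn (Cfsg.POmega F Q)) x y ↔
        Cfsg.IsConjUnder ((simC h hdet hN hn).map (Phi Q)) x y) ∧
      (Cfsg.IsConjUnder (Cfsg.psoAut F Q) x y ↔
        Cfsg.IsConjUnder ((simC h hdet hN hn).map (Phi Q)) x y)) ∧
    (∀ y : MulAut (Cfsg.POmega F Q),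
      Cfsg.IsConjUnder (Cfsg.poAut F Q) x y ↔ Cfsg.IsConjUnder (Cfsg.pgoAut F Q) x y) := by
  subst hQ
  exact fus_form Qb h hdet hN hn hker s₀ hs₀ x hx hr hro hrp hxr

end Cfsg.Agent.Lib.Helper37.Fus
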