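import Cfsg.Agent.Lib.Helper37.InnDiag

/-!
# S2720 / S2721: group level glue

From commuting elements in the conformal group to the equality of conjugacy classes.
-/

set_option autoImplicit false
set_option linter.unusedSectionVars false
set_option linter.unusedVariables false

namespace Cfsg.Agent.Lib.Helper37.Fus

open Matrix Module Cfsg.Agent.Lib.Helper37 Cfsg.Agent.Lib.Helper37.IsGram

universe u

variable {κ : Type} [Fintype κ] [DecidableEq κ] {F : Type u} [Field F] [Fintype F] [DecidableEq F]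
  {Q : (κ → F) → F} {G : Matrix κ κ F}

theorem sq_pair (p : ℤˣ × ℤˣ) : p * p = 1 := by
  revert p
  decide

theorem mem_poAut_iff (β : MulAut (Cfsg.POmega F Q)) :
    β ∈ Cfsg.poAut F Q ↔ ∃ k : ↥(Cfsg.isometryGroup F Q), β = Phi Q (isoGO Q k) := by
  have hset : {β : MulAut (Cfsg.POmega F Q) | Cfsg.IsIsometryInducedAutPOmega Q β}
      = ((((isoGO Q).range).map (Phi Q) : Subgroup _) : Set (MulAut (Cfsg.POmega F Q))) := by
    ext β
    constructor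
    · rintro ⟨g, hg, h⟩
      have hg' : g ∈ Cfsg.Geo.quadSimilarityGroup (F := F) Q := isom_le_sim Q hg
      exact ⟨⟨g, hg'⟩, ⟨⟨g, hg⟩, rfl⟩, ((isInduced_iff Q g hg' β).1 h).symm⟩
    · rintro ⟨g, ⟨k, rfl⟩, rfl⟩
      exact ⟨k.1, k.2, (isInduced_iff Q k.1 (isom_le_sim Q k.2) _).2 rfl⟩
  unfold Cfsg.poAut Cfsg.autSubgroupOf
  rw [hset, Subgroup.closure_eq]
  constructor
  · rintro ⟨g, ⟨k, rfl⟩, rfl⟩
    exact ⟨k, rfl⟩
  · rintro ⟨k, rfl⟩
    exact ⟨_, ⟨k, rfl⟩, rfl⟩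

theorem conj_eq_of_commute (A : ↥(Cfsg.isometryGroup F Q))
    (s t c : ↥(Cfsg.Geo.quadSimilarityGroup (F := F) Q)) (hst : s = t * c)
    (hc : c * isoGO Q A = isoGO Q A * c) :
    Phi Q s * Phi Q (isoGO Q A) * (Phi Q s)⁻¹ = Phi Q t * Phi Q (isoGO Q A) * (Phi Q t)⁻¹ := by
  rw [← map_inv, ← map_inv, ← map_mul, ← map_mul, ← map_mul, ← map_mul]
  congr 1
  subst hst
  have e : t * c * isoGO Q A * (t * c)⁻¹ = t * (c * isoGO Q A) * c⁻¹ * t⁻¹ := by group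
  rw [e, hc]
  group

section withKer

variable (h : IsGram Q G) (hdet : G.det ≠ 0) {N : ℕ} (hN : Fintype.card κ = 2 * N)
  (hn : 2 ≤ Fintype.card κ)
  (hker : ∀ g : ↥(Cfsg.Geo.quadSimilarityGroup (F := F) Q),
      Phi Q g = 1 ↔ ∃ c : F, ((g.1 : GL κ F) : Matrix κ κ F) = c • (1 : Matrix κ κ F))

include h hdet hN hn hker

/-- an automorphism of odd order induced by a similarity is induced by an element of `Ω` of the
same order -/
theorem exists_omega_rep (x : MulAut (Cfsg.POmega F Q)) (hx : x ∈ Cfsg.pgoAut F Q) {r : ℕ}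
    (hro : Odd r) (hxr : x ^ r = 1) :
    ∃ A : ↥(Cfsg.isometryGroup F Q), A ∈ Cfsg.Omega F Q ∧ A ^ r = 1 ∧ x = Phi Q (isoGO Q A) := by
  have hne := exists_Q_eq_one h hdet hn
  obtain ⟨α, hα⟩ := FiniteField.exists_nonsquare (ringChar_ne_two_of_two_ne_zero h.two_ne) (F := F)
  rw [pgoAut_eq] at hx
  obtain ⟨g, rfl⟩ := hx
  obtain ⟨j, hj⟩ := hro
  have h1 : Phi Q (g ^ r) = 1 := by rw [map_pow, hxr]
  obtain ⟨c, hc⟩ := (hker _).1 h1
  obtain ⟨c', -, hc'⟩ := eq_scalarGO_of_val h hne _ c hc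
  have hμ : (simMult Q g) ^ r = c' * c' := by
    have e1 : simMult Q (g ^ r) = (simMult Q g) ^ r := (simMultHom hne).map_pow g r
    rw [← e1, hc', simMult_scalarGO h hne]
  have hν : simMult Q g = (c' * ((simMult Q g)⁻¹) ^ j) * (c' * ((simMult Q g)⁻¹) ^ j) := by
    have e2 : (c' * ((simMult Q g)⁻¹) ^ j) * (c' * ((simMult Q g)⁻¹) ^ j) =
        (c' * c') * (((simMult Q g)⁻¹) ^ j * ((simMult Q g)⁻¹) ^ j) := mul_mul_mul_comm _ _ _ _
    rw [e2, ← hμ, hj, ← pow_add, inv_pow, ← two_mul, pow_succ, mul_comm _ (simMult Q g), mul_assoc,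
      mul_inv_cancel, mul_one]
  obtain ⟨k, hk⟩ := exists_scalar_mul_iso h g _ hν
  have hPhi : Phi Q g = Phi Q (isoGO Q k) := by
    conv_lhs => rw [hk]
    rw [map_mul, Phi_scalarGO h hker, one_mul]
  have h2 : Phi Q (isoGO Q (k ^ r)) = 1 := by rw [map_pow, map_pow, ← hPhi, hxr]
  obtain ⟨c2, hc2⟩ := (hker _).1 h2
  obtain ⟨c2', -, hc2'⟩ := eq_scalarGO_of_val h hne _ c2 hc2
  have h3 : isoGO Q (k ^ r) = scalarGO h c2' * isoGO Q 1 := by rw [hc2', map_one, mul_one]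
  have hΩ : ∀ A : ↥(Cfsg.isometryGroup F Q), A ^ r = 1 → A ∈ Cfsg.Omega F Q := by
    intro A hA
    rw [← h.ker_signPair hdet α hα, MonoidHom.mem_ker]
    have e : A = A ^ (j + 1) * A ^ (j + 1) := by
      rw [← pow_add]
      have e3 : j + 1 + (j + 1) = r + 1 := by omega
      rw [e3, pow_succ, hA, one_mul]
    rw [e, map_mul]
    exact sq_pair _
  rcases scalar_iso_cases h hne c2' (k ^ r) 1 h3 with h4 | h4
  · exact ⟨k, hΩ k h4, h4, hPhi⟩
  · rw [mul_one] at h4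
    have hcomm : Commute h.negO k := by
      show h.negO * k = k * h.negO
      apply toMat_injective
      rw [map_mul, map_mul, h.toMat_negO]
      simp
    have h5 : (h.negO * k) ^ r = 1 := by
      rw [hcomm.mul_pow, h4, hj, pow_succ, pow_mul, pow_two, negO_mul_self, one_pow, one_mul,
        negO_mul_self]
    refine ⟨h.negO * k, hΩ _ h5, h5, ?_⟩
    rw [hPhi, map_mul, map_mul, ← scalarGO_neg_one, Phi_scalarGO h hker, one_mul]

theorem exists_commuting_correction (A : ↥(Cfsg.isometryGroup F Q))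
    (c₁ : ↥(Cfsg.Geo.quadSimilarityGroup (F := F) Q)) (hc₁C : c₁ ∈ simC h hdet hN hn)
    (hc₁ : c₁ * isoGO Q A = isoGO Q A * c₁) (hc₁μ : ¬ IsSquare (simMult Q c₁ : F))
    (k₂ : ↥(Cfsg.isometryGroup F Q)) (hk₂d : (toMat Q k₂).det = 1) (hk₂Ω : k₂ ∉ Cfsg.Omega F Q)
    (hk₂ : k₂ * A = A * k₂)
    (s : ↥(Cfsg.Geo.quadSimilarityGroup (F := F) Q)) (hs : s ∈ simC h hdet hN hn) :
    ∃ c : ↥(Cfsg.Geo.quadSimilarityGroup (F := F) Q),
      c * isoGO Q A = isoGO Q A * c ∧ s * c ∈ innPre Q := by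
  have hne := exists_Q_eq_one h hdet hn
  obtain ⟨α, hα⟩ := FiniteField.exists_nonsquare (ringChar_ne_two_of_two_ne_zero h.two_ne) (F := F)
  have hpair : ∀ k : ↥(Cfsg.isometryGroup F Q), (toMat Q k).det = 1 → k ∉ Cfsg.Omega F Q →
      signPair Q α k = (-1, -1) := by
    intro k hkd hkΩ
    rcases h.signPair_of_det_one hdet α hα k hkd with e | e
    · exfalso
      apply hkΩ
      rw [← h.ker_signPair hdet α hα, MonoidHom.mem_ker]
      exact e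
    · exact e
  have key : ∀ s : ↥(Cfsg.Geo.quadSimilarityGroup (F := F) Q), s ∈ simC h hdet hN hn →
      IsSquare (simMult Q s : F) → ∃ c : ↥(Cfsg.Geo.quadSimilarityGroup (F := F) Q),
      c * isoGO Q A = isoGO Q A * c ∧ s * c ∈ innPre Q := by
    intro s hs hsq
    obtain ⟨ν, hν⟩ := isSquare_units (simMult Q s) hsq
    obtain ⟨k, hk⟩ := exists_scalar_mul_iso h s ν hν
    have hkdet : (toMat Q k).det = 1 := by
      rw [← simPsi_isoGO h hdet hne hN]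
      have e1 : simD h hdet hne hN s = 1 := hs
      have e2 : simD h hdet hne hN (scalarGO h ν) = 1 :=
        congrArg Prod.snd (simPsi_scalarGO h hdet hne hN ν)
      have e3 : simD h hdet hne hN (isoGO Q k) = 1 := by
        have e4 : simD h hdet hne hN s = simD h hdet hne hN (scalarGO h ν) *
            simD h hdet hne hN (isoGO Q k) := by
          conv_lhs => rw [hk]
          rw [map_mul]
        rw [e1, e2, one_mul] at e4
        exact e4.symm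
      show ((simA hne (isoGO Q k), simD h hdet hne hN (isoGO Q k)) : ℤˣ × ℤˣ) = 1
      rw [simA_isoGO hne, e3]
      rfl
    by_cases hkΩ : k ∈ Cfsg.Omega F Q
    · refine ⟨1, by rw [one_mul, mul_one], ?_⟩
      rw [mul_one, mem_innPre_iff h hne hker]
      exact ⟨ν, k, hkΩ, hk⟩
    · refine ⟨isoGO Q k₂, ?_, ?_⟩
      · rw [← map_mul, ← map_mul, hk₂]
      · rw [mem_innPre_iff h hne hker]
        refine ⟨ν, k * k₂, ?_, ?_⟩
        · rw [← h.ker_signPair hdet α hα, MonoidHom.mem_ker, map_mul, hpair k hkdet hkΩ,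
            hpair k₂ hk₂d hk₂Ω]
          decide
        · rw [hk, map_mul, mul_assoc]
  by_cases hsq : IsSquare (simMult Q s : F)
  · exact key s hs hsq
  · have hs' : s * c₁ ∈ simC h hdet hN hn := Subgroup.mul_mem _ hs hc₁C
    have hsq' : IsSquare (simMult Q (s * c₁) : F) := by
      rw [← simA_eq_one_iff hne, map_mul, (simA_eq_neg_one_iff hne s).2 hsq,
        (simA_eq_neg_one_iff hne c₁).2 hc₁μ]
      decide
    obtain ⟨c', hc', hmem⟩ := key (s * c₁) hs' hsq'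
    refine ⟨c₁ * c', ?_, ?_⟩
    · rw [mul_assoc, hc', ← mul_assoc, hc₁, mul_assoc]
    · rw [← mul_assoc]
      exact hmem

/-- the main group level statement -/
theorem fus_main (A : ↥(Cfsg.isometryGroup F Q))
    (hE1 : ∃ c₁ : ↥(Cfsg.Geo.quadSimilarityGroup (F := F) Q), c₁ ∈ simC h hdet hN hn ∧
      c₁ * isoGO Q A = isoGO Q A * c₁ ∧ ¬ IsSquare (simMult Q c₁ : F))
    (hE2 : ∃ k₂ : ↥(Cfsg.isometryGroup F Q), (toMat Q k₂).det = 1 ∧ k₂ ∉ Cfsg.Omega F Q ∧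
      k₂ * A = A * k₂)
    (hC : ∀ s : ↥(Cfsg.Geo.quadSimilarityGroup (F := F) Q), ∃ g : ↥(Cfsg.isometryGroup F Q),
      isoGO Q g * isoGO Q A * (isoGO Q g)⁻¹ = s * isoGO Q A * s⁻¹) :
    (∀ y : MulAut (Cfsg.POmega F Q),
      (Cfsg.IsConjUnder (Cfsg.Inn (Cfsg.POmega F Q)) (Phi Q (isoGO Q A)) y ↔
        Cfsg.IsConjUnder ((simC h hdet hN hn).map (Phi Q)) (Phi Q (isoGO Q A)) y) ∧
      (Cfsg.IsConjUnder (Cfsg.psoAut F Q) (Phi Q (isoGO Q A)) y ↔
        Cfsg.IsConjUnder ((simC h hdet hN hn).map (Phi Q)) (Phi Q (isoGO Q A)) y)) ∧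
    (∀ y : MulAut (Cfsg.POmega F Q),
      Cfsg.IsConjUnder (Cfsg.poAut F Q) (Phi Q (isoGO Q A)) y ↔
        Cfsg.IsConjUnder (Cfsg.pgoAut F Q) (Phi Q (isoGO Q A)) y) := by
  have hne := exists_Q_eq_one h hdet hn
  obtain ⟨α, hα⟩ := FiniteField.exists_nonsquare (ringChar_ne_two_of_two_ne_zero h.two_ne) (F := F)
  obtain ⟨c₁, hc₁C, hc₁, hc₁μ⟩ := hE1
  obtain ⟨k₂, hk₂d, hk₂Ω, hk₂⟩ := hE2
  have hdiag_inn : ∀ y : MulAut (Cfsg.POmega F Q),
      Cfsg.IsConjUnder ((simC h hdet hN hn).map (Phi Q)) (Phi Q (isoGO Q A)) y →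
      Cfsg.IsConjUnder (Cfsg.Inn (Cfsg.POmega F Q)) (Phi Q (isoGO Q A)) y := by
    rintro y ⟨β, ⟨s, hs, rfl⟩, hy⟩
    obtain ⟨c, hc, hmem⟩ := exists_commuting_correction h hdet hN hn hker A c₁ hc₁C hc₁ hc₁μ k₂
      hk₂d hk₂Ω hk₂ s hs
    refine ⟨Phi Q (s * c), hmem, ?_⟩
    rw [hy]
    exact (conj_eq_of_commute A (s * c) s c rfl hc).symm
  have hinn_diag : Cfsg.Inn (Cfsg.POmega F Q) ≤ (simC h hdet hN hn).map (Phi Q) := by
    intro β hβ
    obtain ⟨s, hs, rfl⟩ := (mem_inn_iff β).1 hβ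
    refine ⟨isoGO Q s, innPre_le_simC h hdet hN hn hker ?_, rfl⟩
    show Phi Q (isoGO Q s) ∈ Cfsg.Inn (Cfsg.POmega F Q)
    exact hβ
  have hinn_pso : Cfsg.Inn (Cfsg.POmega F Q) ≤ Cfsg.psoAut F Q := by
    intro β hβ
    obtain ⟨s, hs, rfl⟩ := (mem_inn_iff β).1 hβ
    rw [mem_psoAut_iff]
    refine ⟨s, ?_, rfl⟩
    rw [← h.signChar_mul_eq_one_iff hdet α hα, signChar_eq_one_of_mem_omega Q 1 s hs,
      signChar_eq_one_of_mem_omega Q α s hs, one_mul]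
  have hpso_diag : Cfsg.psoAut F Q ≤ (simC h hdet hN hn).map (Phi Q) := by
    intro β hβ
    obtain ⟨k, hk, rfl⟩ := (mem_psoAut_iff β).1 hβ
    refine ⟨isoGO Q k, ?_, rfl⟩
    rw [SetLike.mem_coe, mem_simC_iff h hdet hN hn hker, simMult_isoGO hne, Units.val_one, one_pow]
    exact hk
  refine ⟨fun y => ⟨⟨?_, hdiag_inn y⟩, ⟨?_, ?_⟩⟩, fun y => ⟨?_, ?_⟩⟩
  · rintro ⟨β, hβ, hy⟩
    exact ⟨β, hinn_diag hβ, hy⟩
  · rintro ⟨β, hβ, hy⟩
    exact ⟨β, hpso_diag hβ, hy⟩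
  · intro hy
    obtain ⟨β, hβ, hy'⟩ := hdiag_inn y hy
    exact ⟨β, hinn_pso hβ, hy'⟩
  · rintro ⟨β, hβ, hy⟩
    obtain ⟨k, rfl⟩ := (mem_poAut_iff β).1 hβ
    refine ⟨_, ?_, hy⟩
    rw [pgoAut_eq]
    exact ⟨_, rfl⟩
  · rintro ⟨β, hβ, hy⟩
    rw [pgoAut_eq] at hβ
    obtain ⟨s, rfl⟩ := hβ
    obtain ⟨g, hg⟩ := hC s
    refine ⟨Phi Q (isoGO Q g), (mem_poAut_iff _).2 ⟨g, rfl⟩, ?_⟩
    rw [hy, ← map_inv, ← map_inv, ← map_mul, ← map_mul, ← map_mul, ← map_mul, hg]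

end withKer

end Cfsg.Agent.Lib.Helper37.Fus
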