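import Cfsg.Agent.Lib.Helper20.G2cDefs
import Cfsg.Agent.Lib.Helper36.ChevRank1
import Cfsg.Agent.Lib.Helper18.ChevBruhat
import Cfsg.Agent.Lib.Helper18.ChevHCard

/-! # G2z mini-hive (S4279; architect helper37): common definitions

`G₂(F)`, `F` finite of odd order.  Root numbering of `chevG2` (as in `Helper20.G2cDefs`): `6 = b` (long simple,
`simple 1`), `7 = a` (short simple, `simple 0`), `8 = a+b`, `9 = 2a+b`, `10 = 3a+b`, `11 = 3a+2b`, `neg r = 11 - r`.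

`t0 = h_b(-1) = h_{2a+b}(-1)`; the roots taking the value `+1` on `t0` are `±b = 6, 5` and `±(2a+b) = 9, 2`.
`L1 = ⟨X_6, X_5⟩`, `L2 = ⟨X_9, X_2⟩`, `LL = L1 ⊔ L2`, `CC = G ⊓ C(t0)`. -/

set_option autoImplicit false

namespace Cfsg.Agent.Lib.Helper37.G2z

open Cfsg Cfsg.Lie Cfsg.Agent.Lib.Helper36 Cfsg.Agent.Lib.Helper20.G2c Cfsg.Agent.Lib.Helper18

/-- the conclusion of S4279 for an element `t` of a group `G` (`S = SL₂(F)`, `N = q²(q²-1)²`) -/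
def Good (G : Type*) [Group G] (S : Type*) [Group S] (N : ℕ) (t : G) : Prop :=
  Nat.card (Subgroup.centralizer ({t} : Set G)) = N ∧
  ∃ L₁ L₂ : Subgroup G, Nonempty (L₁ ≃* S) ∧ Nonempty (L₂ ≃* S) ∧ (∀ x ∈ L₁, ∀ y ∈ L₂, x * y = y * x) ∧
    L₁ ⊓ L₂ = Subgroup.zpowers t ∧ L₁ ⊔ L₂ ≤ Subgroup.centralizer ({t} : Set G) ∧
    (L₁ ⊔ L₂).relIndex (Subgroup.centralizer ({t} : Set G)) = 2

variable (F : Type*) [Field F]

/-- the torus involution `h_b(-1)` -/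
noncomputable def t0 : GL chevG2.Idx F := hGL chevG2 hG2 F 6 (-1)

/-- `⟨X_b, X_{-b}⟩` -/
def L1 : Subgroup (GL chevG2.Idx F) := chevG2.rootSubgroup F 6 ⊔ chevG2.rootSubgroup F 5

/-- `⟨X_{2a+b}, X_{-2a-b}⟩` -/
def L2 : Subgroup (GL chevG2.Idx F) := chevG2.rootSubgroup F 9 ⊔ chevG2.rootSubgroup F 2

/-- `L1 L2` -/
def LL : Subgroup (GL chevG2.Idx F) := L1 F ⊔ L2 F

/-- the centraliser of `t0` in `G₂(F)` -/
def CC : Subgroup (GL chevG2.Idx F) := chevG2.group F ⊓ Subgroup.centralizer {t0 F}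

/-- the rank one homomorphisms `SL₂(F) → GL` for the roots `6` and `9` -/
noncomputable def phi6 : Matrix.SpecialLinearGroup (Fin 2) F →* GL chevG2.Idx F :=
  (rank1Data chevG2 hG2 F 6 (by decide)).hom

noncomputable def phi9 : Matrix.SpecialLinearGroup (Fin 2) F →* GL chevG2.Idx F :=
  (rank1Data chevG2 hG2 F 9 (by decide)).hom

/-- `H₀ = {h_a(x) h_b(y) : x a square}` (`torusHom chevG2 F f = h_7(f 0) h_6(f 1)`; `h_9(v) = h_7(v²) h_6(v³)`) -/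
def H0 : Subgroup (GL chevG2.Idx F) :=
  ((powMonoidHom 2 : Fˣ →* Fˣ).range.comap (Pi.evalMonoidHom (fun _ : Fin chevG2.rank => Fˣ) ⟨0, by decide⟩)).map
    (torusHom chevG2 F)

end Cfsg.Agent.Lib.Helper37.G2z
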