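import Cfsg.Agent.Lib.Helper37.G2zDefs
import Cfsg.Agent.Lib.Helper53.SL2Extra
import Cfsg.Agent.Lib.Helper70.G2z_TRANS
import Cfsg.Agent.Lib.Helper5.G2z_SUB
import Cfsg.Agent.Lib.Helper25.G2z_PROD
import Cfsg.Agent.Lib.Helper33.G2z_NOETHER
import Cfsg.Agent.Lib.Helper36.G2z_BRUHAT
import Cfsg.Agent.Lib.Helper78.G2z_CU
import Cfsg.Agent.Lib.Helper90.G2z_CN
import Cfsg.Agent.Lib.Helper36.G2z_INJ
import Cfsg.Agent.Lib.Helper36.G2z_T0
import Cfsg.Agent.Lib.Helper55.G2z_COMM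
import Cfsg.Agent.Lib.Helper65.G2z_LE
import Cfsg.Agent.Lib.Helper53.G2z_NORM
import Cfsg.Agent.Lib.Helper49.G2z_MEET
import Cfsg.Agent.Lib.Helper97.G2z_H0LE
import Cfsg.Agent.Lib.Helper24.G2z_H0IDX
import Cfsg.Agent.Lib.Helper54.G2z_CENTRE
import Cfsg.Agent.Lib.Helper91.G2z_TWO

/-! # G2z mini-hive (S4279): assembly (helper37)

`C_G(t0) = (L1 ⊔ L2) ⊔ H` by the Bruhat form (leaves BRUHAT, CU, CN), `[C : L1 ⊔ L2] = [H : H ⊓ (L1 ⊔ L2)] = [H : H0] = 2`
(NOETHER, MEET, H0LE, H0IDX), `|L1 ⊔ L2| · 2 = |SL₂(F)|²` (PROD, CENTRE, INJ), hence `|C| = q²(q²-1)²`; then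
transport to the subtype (SUB) and along conjugation (TRANS, with S4278). -/

set_option autoImplicit false

/-! ## assembly (helper37) -/

namespace Cfsg.Agent.Lib.Helper37.G2z

open Cfsg Cfsg.Lie Cfsg.Agent.Lib.Helper36 Cfsg.Agent.Lib.Helper20.G2c Cfsg.Agent.Lib.Helper18

variable (F : Type*) [Field F]

theorem CC_eq (h2 : (2 : F) ≠ 0) : CC F = LL F ⊔ chevG2.diagonalSubgroup F := by
  apply le_antisymm
  · intro g hg
    obtain ⟨hgG, hgc⟩ := hg
    have hgc' : t0 F * g = g * t0 F := by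
      have := Subgroup.mem_centralizer_iff.1 hgc (t0 F) (Set.mem_singleton _)
      exact this
    obtain ⟨u1, hu1, h, hh, n, hn, u2, hu2, e, c1, cn, c2⟩ :=
      cent_bruhat F (t0 F) (t0_mem_diag F h2) g hgG hgc'
    rw [e]
    exact mul_mem (mul_mem (mul_mem (le_sup_left (a := LL F) (cent_U F h2 u1 hu1 c1)) (le_sup_right (a := LL F) hh))
      (cent_N F h2 n hn cn)) (le_sup_left (a := LL F) (cent_U F h2 u2 hu2 c2))
  · exact sup_le (LL_le_CC F) (H_le_CC F h2)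

theorem H0_le_H : H0 F ≤ chevG2.diagonalSubgroup F := by
  rw [← torusHom_range chevG2 hG2 F]
  exact Subgroup.map_le_range _ _

theorem relIndex_LL_CC [Fintype F] (hodd : Odd (Fintype.card F)) : (LL F).relIndex (CC F) = 2 := by
  have h2 := two_ne_zero_of_odd F hodd
  rw [CC_eq F h2, relIndex_sup_of_le_normalizer _ _ (H_le_normalizer_LL F)]
  have e : LL F ⊓ chevG2.diagonalSubgroup F = H0 F :=
    le_antisymm (fun x hx => LL_inf_H_le F (phi6_inj F) (phi9_inj F) (phi6_range F) (phi9_range F) (comm_L F) x hx.1 hx.2) (le_inf (H0_le_LL F) (H0_le_H F))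
  rw [e]
  exact H0_relIndex F hodd

noncomputable def equivL1 : Matrix.SpecialLinearGroup (Fin 2) F ≃* ↥(L1 F) :=
  (MonoidHom.ofInjective (phi6_inj F)).trans (MulEquiv.subgroupCongr (phi6_range F))

noncomputable def equivL2 : Matrix.SpecialLinearGroup (Fin 2) F ≃* ↥(L2 F) :=
  (MonoidHom.ofInjective (phi9_inj F)).trans (MulEquiv.subgroupCongr (phi9_range F))

theorem orderOf_t0 (h2 : (2 : F) ≠ 0) : orderOf (t0 F) = 2 := by
  apply orderOf_eq_prime
  · rw [pow_two]; exact t0_mul_self F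
  · exact t0_ne_one F h2

theorem card_LL [Fintype F] (hodd : Odd (Fintype.card F)) :
    Nat.card ↥(LL F) * 2 = (Fintype.card F * (Fintype.card F ^ 2 - 1)) ^ 2 := by
  have h2 := two_ne_zero_of_odd F hodd
  have hfin : Finite (GL chevG2.Idx F) := inferInstance
  have hc : Nat.card ↥(L1 F ⊓ L2 F) = 2 := by
    rw [L1_inf_L2 F (phi9_inj F) (phi6_range F) (phi9_range F) (phi6_neg_one F) (phi9_neg_one F) (comm_L F), Nat.card_zpowers, orderOf_t0 F h2]
  have := card_sup_commute (L1 F) (L2 F) (comm_L F) hc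
  unfold LL
  rw [this, ← Nat.card_congr (equivL1 F).toEquiv, ← Nat.card_congr (equivL2 F).toEquiv,
    Cfsg.Agent.Lib.Helper53.card_sl2]
  exact (pow_two _).symm

theorem card_CC [Fintype F] (hodd : Odd (Fintype.card F)) :
    Nat.card ↥(CC F) = Fintype.card F ^ 2 * (Fintype.card F ^ 2 - 1) ^ 2 := by
  have h1 := relIndex_LL_CC F hodd
  have h2 := card_LL F hodd
  have hle : LL F ≤ CC F := LL_le_CC F
  have h3 : (LL F).relIndex (CC F) * Nat.card ↥(LL F) = Nat.card ↥(CC F) := by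
    unfold Subgroup.relIndex
    rw [← Nat.card_congr (Subgroup.subgroupOfEquivOfLe hle).toEquiv]
    exact Subgroup.index_mul_card _
  rw [← h3, h1, mul_comm, h2, mul_pow]

theorem good_t0 [Fintype F] (hodd : Odd (Fintype.card F)) :
    Good ↥(chevG2.group F) (Matrix.SpecialLinearGroup (Fin 2) F)
      (Fintype.card F ^ 2 * (Fintype.card F ^ 2 - 1) ^ 2)
      ⟨t0 F, diagonal_le_group chevG2 hG2 F (t0_mem_diag F (two_ne_zero_of_odd F hodd))⟩ := by
  have h2 := two_ne_zero_of_odd F hodd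
  have hL : LL F ≤ chevG2.group F := (LL_le_CC F).trans inf_le_left
  refine good_sub _ (chevG2.group F) (t0 F) _ (L1 F) (L2 F) (le_sup_left.trans hL) (le_sup_right.trans hL)
    (card_CC F hodd) ⟨(equivL1 F).symm⟩ ⟨(equivL2 F).symm⟩ (comm_L F) (L1_inf_L2 F (phi9_inj F) (phi6_range F) (phi9_range F) (phi6_neg_one F) (phi9_neg_one F) (comm_L F)) (LL_le_CC F)
    (relIndex_LL_CC F hodd)

theorem g2z_main [Fintype F] (hodd : Odd (Fintype.card F))
    (hconj : ∀ s t : ↥(chevG2.group F), orderOf s = 2 → orderOf t = 2 → IsConj s t)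
    (t : ↥(chevG2.group F)) (ht : orderOf t = 2) :
    Good ↥(chevG2.group F) (Matrix.SpecialLinearGroup (Fin 2) F)
      (Fintype.card F ^ 2 * (Fintype.card F ^ 2 - 1) ^ 2) t := by
  have h2 := two_ne_zero_of_odd F hodd
  refine good_conj _ _ t (hconj _ t ?_ ht) (good_t0 F hodd)
  rw [← Subgroup.orderOf_coe]
  exact orderOf_t0 F h2

end Cfsg.Agent.Lib.Helper37.G2z
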