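import Mathlib

set_option autoImplicit false

namespace Cfsg.Agent.Lib.Helper37.OrthField

open Polynomial Module

/-- an anisotropic binary form over a finite field has a root in every quadratic extension -/
theorem exists_root_quad {F K : Type*} [Field F] [Fintype F] [Field K] [Algebra F K]
    (hK : finrank F K = 2) (a b : F)
    (hab : ∀ z₁ z₂ : F, z₁ ^ 2 + a * z₁ * z₂ + b * z₂ ^ 2 = 0 → z₁ = 0 ∧ z₂ = 0) :
    ∃ θ : K, θ ^ 2 + algebraMap F K a * θ + algebraMap F K b = 0 := by
  classical
  have hdeg : degree (C a * X + C b : F[X]) < ((2 : ℕ) : WithBot ℕ) :=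
    lt_of_le_of_lt degree_linear_le (by norm_num)
  have hmonic : (X ^ 2 + (C a * X + C b) : F[X]).Monic := monic_X_pow_add hdeg
  have hnat : (X ^ 2 + (C a * X + C b) : F[X]).natDegree = 2 := by
    rw [natDegree_add_eq_left_of_degree_lt (by rw [degree_X_pow]; exact hdeg), natDegree_X_pow]
  have hirr : Irreducible (X ^ 2 + (C a * X + C b) : F[X]) := by
    rw [hmonic.irreducible_iff_roots_eq_zero_of_degree_le_three (by rw [hnat])
      (by rw [hnat]; norm_num)]
    apply Multiset.eq_zero_of_forall_notMem
    intro x hx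
    rw [mem_roots hmonic.ne_zero, IsRoot.def] at hx
    simp only [eval_add, eval_pow, eval_X, eval_mul, eval_C] at hx
    have := (hab x 1 (by rw [← hx]; ring)).2
    exact one_ne_zero this
  haveI : Fact (Irreducible (X ^ 2 + (C a * X + C b) : F[X])) := ⟨hirr⟩
  set K₁ := AdjoinRoot (X ^ 2 + (C a * X + C b) : F[X]) with hK₁
  have hK₁2 : finrank F K₁ = 2 := by
    rw [(AdjoinRoot.powerBasis hmonic.ne_zero).finrank, AdjoinRoot.powerBasis_dim, hnat]
  haveI : Module.Finite F K := Module.finite_of_finrank_pos (by rw [hK]; norm_num)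
  haveI : Finite K := Module.finite_of_finite F
  haveI : Fintype K := Fintype.ofFinite K
  haveI : Module.Finite F K₁ := Module.finite_of_finrank_pos (by rw [hK₁2]; norm_num)
  haveI : Finite K₁ := Module.finite_of_finite F
  haveI : Fintype K₁ := Fintype.ofFinite K₁
  have hc : Fintype.card K = Fintype.card K₁ := by
    rw [← Nat.card_eq_fintype_card, ← Nat.card_eq_fintype_card,
      Module.natCard_eq_pow_finrank (K := F) (V := K),
      Module.natCard_eq_pow_finrank (K := F) (V := K₁), hK, hK₁2]
  have s1 : IsSplittingField F K (X ^ Fintype.card K - X) := FiniteField.isSplittingField_sub K F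
  have s2 : IsSplittingField F K₁ (X ^ Fintype.card K - X) := by
    rw [hc]
    exact FiniteField.isSplittingField_sub K₁ F
  let e : K₁ ≃ₐ[F] K := (IsSplittingField.algEquiv K₁ (X ^ Fintype.card K - X : F[X])).trans
    (IsSplittingField.algEquiv K (X ^ Fintype.card K - X : F[X])).symm
  refine ⟨e (AdjoinRoot.root _), ?_⟩
  have h := AdjoinRoot.eval₂_root (X ^ 2 + (C a * X + C b) : F[X])
  simp only [eval₂_add, eval₂_pow, eval₂_X, eval₂_mul, eval₂_C] at h
  have h2 := congrArg e h
  rw [map_add, map_add, map_pow, map_mul, map_zero, ← AdjoinRoot.algebraMap_eq,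
    AlgEquiv.commutes, AlgEquiv.commutes] at h2
  linear_combination h2

end Cfsg.Agent.Lib.Helper37.OrthField
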