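import Mathlib
import Cfsg.Agent.Lib.Helper37.OrthMinus
import Cfsg.Agent.Lib.Helper37.RootQuad
import Cfsg.Agent.Lib.Helper37.OrthCent2
import Cfsg.Agent.Lib.Helper8.CartanDieudonne2
import Cfsg.Agent.Lib.Helper37.InnDiag

set_option autoImplicit false
set_option linter.unusedSectionVars false
set_option linter.unusedVariables false

/-!
# The class preserving similarities of the minus type form are canonical
-/

namespace Cfsg.Agent.Lib.Helper37.OrthField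

open Matrix Module QuadraticMap Polynomial
open Cfsg.Agent.Lib.Helper37 Cfsg.Agent.Lib.Helper43 Cfsg.Agent.Lib.Helper8
open Cfsg.Agent.Lib.Helper37.ParGen Cfsg.Agent.Lib.Helper14

universe u v

variable {ι : Type} [Fintype ι] [DecidableEq ι] {F : Type u} [Field F]

theorem mapGL_scalar {F₀ : Type*} [Field F₀] (j : F₀ →+* F) (c : F₀ˣ) :
    mapGL j (Matrix.GeneralLinearGroup.scalar ι c) =
      Matrix.GeneralLinearGroup.scalar ι (Units.map (j : F₀ →* F) c) := by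
  apply Units.ext
  rw [mapGL_val, coe_scalar_eq_smul, coe_scalar_eq_smul]
  ext i k
  simp only [Matrix.map_apply, Matrix.smul_apply, Matrix.one_apply, smul_eq_mul, Units.coe_map,
    MonoidHom.coe_coe]
  split_ifs <;> simp

section simPgen

variable [Fintype F] (Q : QuadraticForm F (ι → F))
  (hnd : (QuadraticMap.polarBilin Q).Nondegenerate) {N : ℕ} (hV : finrank F (ι → F) = 2 * N)
  (E : Submodule F (ι → F)) (hE : IsLag ⇑Q N E)

theorem simP_mul_refl_iff (u : ι → F) (hu : Q u ≠ 0)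
    (t : ↥(Cfsg.Geo.quadSimilarityGroup (F := F) ⇑Q)) :
    t * ⟨(reflElt Q u hu).1, isom_le_sim ⇑Q (reflElt Q u hu).2⟩ ∈ simP Q hnd hV E hE ↔
      t ∉ simP Q hnd hV E hE := by
  have h1 := parS_lt (N := N) E (SemidirectProduct.inl t.1 : GamL ι F)
  have h2 : parS N E (SemidirectProduct.inl (t.1 * (reflElt Q u hu).1) : GamL ι F) =
      (parS N E (SemidirectProduct.inl t.1 : GamL ι F) + 1) % 2 := by
    rw [map_mul, parS_mul (qsys_of_form Q hnd) hV E hE _ _ (inl_mem_semiO Q t)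
      (inl_mem_semiO Q ⟨(reflElt Q u hu).1, isom_le_sim ⇑Q (reflElt Q u hu).2⟩),
      parS_refl Q hnd hV E hE u hu]
  rw [mem_simP, mem_simP]
  show parS N E (SemidirectProduct.inl (t.1 * (reflElt Q u hu).1) : GamL ι F) = 0 ↔ _
  rw [h2]
  omega

theorem simP_scalar (c : Fˣ) : scO Q c ∈ simP Q hnd hV E hE := by
  rw [mem_simP, scO_val]
  exact parS_sc E hE c

end simPgen

/-- in characteristic two, a subgroup of similarities containing the scalars and exactly one of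
`t`, `t ρ` for every reflection `ρ` is unique -/
theorem sim_eq_of_char_two [Fintype F] [Nonempty ι] (h2 : (2 : F) = 0)
    (Q : QuadraticForm F (ι → F)) (hQ : (QuadraticMap.polarBilin Q).Nondegenerate)
    (hcard : Fintype.card F ≠ 2 ∨ finrank F (ι → F) ≠ 4) (hne : ∃ v, Q v ≠ 0)
    (H₁ H₂ : Subgroup ↥(Cfsg.Geo.quadSimilarityGroup (F := F) ⇑Q))
    (hs₁ : ∀ c : Fˣ, scO Q c ∈ H₁) (hs₂ : ∀ c : Fˣ, scO Q c ∈ H₂)
    (hr₁ : ∀ (u : ι → F) (hu : Q u ≠ 0) (t : ↥(Cfsg.Geo.quadSimilarityGroup (F := F) ⇑Q)),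
      t * ⟨(reflElt Q u hu).1, isom_le_sim ⇑Q (reflElt Q u hu).2⟩ ∈ H₁ ↔ t ∉ H₁)
    (hr₂ : ∀ (u : ι → F) (hu : Q u ≠ 0) (t : ↥(Cfsg.Geo.quadSimilarityGroup (F := F) ⇑Q)),
      t * ⟨(reflElt Q u hu).1, isom_le_sim ⇑Q (reflElt Q u hu).2⟩ ∈ H₂ ↔ t ∉ H₂) :
    H₁ = H₂ := by
  have hchar : ringChar F = 2 := by
    haveI : CharP F 2 := CharTwo.of_one_ne_zero_of_two_eq_zero one_ne_zero h2
    exact ringChar.eq F 2
  have key : ∀ k : ↥(Cfsg.isometryGroup F ⇑Q), ∀ c : Fˣ,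
      (scO Q c * isoGO ⇑Q k ∈ H₁ ↔ scO Q c * isoGO ⇑Q k ∈ H₂) := by
    intro k
    have hk : k ∈ Subgroup.closure (reflSet Q) := by
      rw [closure_reflSet_eq_top' Q hQ hcard]
      exact Subgroup.mem_top _
    induction hk using Subgroup.closure_induction_right with
    | one =>
      intro c
      rw [map_one, mul_one]
      exact ⟨fun _ => hs₂ c, fun _ => hs₁ c⟩
    | mul_right x hx y hy ih =>
      intro c
      obtain ⟨v, hv, hyv⟩ := hy
      obtain rfl := eq_reflElt_of_coe Q y v hv hyv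
      have e : scO Q c * isoGO ⇑Q (x * reflElt Q v hv) =
          (scO Q c * isoGO ⇑Q x) * ⟨(reflElt Q v hv).1, isom_le_sim ⇑Q (reflElt Q v hv).2⟩ := by
        rw [map_mul, mul_assoc]
        rfl
      rw [e, hr₁, hr₂, ih c]
    | mul_inv_cancel x hx y hy ih =>
      intro c
      obtain ⟨v, hv, hyv⟩ := hy
      obtain rfl := eq_reflElt_of_coe Q y v hv hyv
      have hinv : (reflElt Q v hv)⁻¹ = reflElt Q v hv := by
        rw [inv_eq_iff_mul_eq_one]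
        exact reflElt_mul_self Q v hv
      have e : scO Q c * isoGO ⇑Q (x * (reflElt Q v hv)⁻¹) =
          (scO Q c * isoGO ⇑Q x) * ⟨(reflElt Q v hv).1, isom_le_sim ⇑Q (reflElt Q v hv).2⟩ := by
        rw [hinv, map_mul, mul_assoc]
        rfl
      rw [e, hr₁, hr₂, ih c]
  ext g
  obtain ⟨c, hc⟩ := FiniteField.isSquare_of_char_two hchar (simMult ⇑Q g : F)
  have hc0 : c ≠ 0 := by
    rintro rfl
    rw [mul_zero] at hc
    exact (simMult ⇑Q g).ne_zero hc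
  set cu : Fˣ := Units.mk0 c hc0 with hcu
  set k' : ↥(Cfsg.Geo.quadSimilarityGroup (F := F) ⇑Q) := scO Q cu⁻¹ * g with hk'
  have hk'iso : k'.1 ∈ Cfsg.isometryGroup F ⇑Q := by
    rw [mem_isometryGroup_iff']
    intro v
    show Q (((Matrix.GeneralLinearGroup.scalar ι cu⁻¹ * g.1 : GL ι F) : Matrix ι ι F) *ᵥ v) = Q v
    rw [Units.val_mul, ← Matrix.mulVec_mulVec, coe_scalar_eq_smul, Matrix.smul_mulVec,
      Matrix.one_mulVec, QuadraticMap.map_smul, simMult_spec ⇑Q g v, hc, smul_eq_mul,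
      Units.val_inv_eq_inv_val, hcu, Units.val_mk0]
    field_simp
  have hg : g = scO Q cu * isoGO ⇑Q ⟨k'.1, hk'iso⟩ := by
    apply Subtype.ext
    show g.1 = Matrix.GeneralLinearGroup.scalar ι cu * (Matrix.GeneralLinearGroup.scalar ι cu⁻¹ * g.1)
    rw [← mul_assoc, ← map_mul, mul_inv_cancel, map_one, one_mul]
  rw [hg]
  exact key _ cu

/-- base change of a reflection -/
theorem mapGO_refl {F₀ : Type*} [Field F₀] (j : F₀ →+* F) (Q : QuadraticForm F (ι → F))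
    (Q₀ : QuadraticForm F₀ (ι → F₀)) (hQ₀ : ∀ w, j (Q₀ w) = Q (jv j w)) (u : ι → F₀)
    (hu : Q₀ u ≠ 0) (hu' : Q (jv j u) ≠ 0) :
    mapGO j Q Q₀ hQ₀ ⟨(reflElt Q₀ u hu).1, isom_le_sim _ (reflElt Q₀ u hu).2⟩ =
      ⟨(reflElt Q (jv j u) hu').1, isom_le_sim _ (reflElt Q (jv j u) hu').2⟩ := by
  apply Subtype.ext
  apply Units.ext
  rw [mapGO_val, mapGL_val, coe_reflElt, coe_reflElt]
  exact reflMat_map j _ _ hQ₀ u

theorem mapGO_scO {F₀ : Type*} [Field F₀] (j : F₀ →+* F) (Q : QuadraticForm F (ι → F))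
    (Q₀ : QuadraticForm F₀ (ι → F₀)) (hQ₀ : ∀ w, j (Q₀ w) = Q (jv j w)) (c : F₀ˣ) :
    mapGO j Q Q₀ hQ₀ (scO Q₀ c) = scO Q (Units.map (j : F₀ →* F) c) := by
  apply Subtype.ext
  rw [mapGO_val, scO_val, scO_val, mapGL_scalar]

section simMprops

variable [Fintype F] {m : ℕ} (a b : F) {K : Type u} [Field K] [Fintype K] [Algebra F K]
  (θ : K) (hθ : θ ^ 2 + algebraMap F K a * θ + algebraMap F K b = 0)
  (hnd : (polarBilin (minusForm m F a b)).Nondegenerate)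

theorem mem_simM (g : ↥(Cfsg.Geo.quadSimilarityGroup (F := F) ⇑(minusForm m F a b))) :
    g ∈ simM a b θ hθ hnd ↔
      mapGO (algebraMap F K) (minusForm m K (algebraMap F K a) (algebraMap F K b))
        (minusForm m F a b) (minus_hQ₀ (algebraMap F K) a b) g ∈
        simP (minusForm m K (algebraMap F K a) (algebraMap F K b)) (minus_ndK a b hnd) minus_hV
          (LinearMap.ker (minusL m θ)) (minus_lagK _ _ θ hθ) := Iff.rfl

theorem simM_scalar (c : Fˣ) : scO (minusForm m F a b) c ∈ simM a b θ hθ hnd := by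
  rw [mem_simM, mapGO_scO]
  exact simP_scalar _ _ _ _ _ _

theorem simM_mul_refl_iff (u : (Fin m ⊕ Fin m) ⊕ Fin 2 → F) (hu : minusForm m F a b u ≠ 0)
    (t : ↥(Cfsg.Geo.quadSimilarityGroup (F := F) ⇑(minusForm m F a b))) :
    t * ⟨(reflElt (minusForm m F a b) u hu).1,
        isom_le_sim _ (reflElt (minusForm m F a b) u hu).2⟩ ∈ simM a b θ hθ hnd ↔
      t ∉ simM a b θ hθ hnd := by
  have hu' : minusForm m K (algebraMap F K a) (algebraMap F K b) (jv (algebraMap F K) u) ≠ 0 := by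
    rw [← minus_hQ₀]
    exact (map_ne_zero (algebraMap F K)).2 hu
  rw [mem_simM, mem_simM, map_mul, mapGO_refl (algebraMap F K) _ _ _ u hu hu']
  exact simP_mul_refl_iff _ _ _ _ _ _ hu' _

theorem mem_simM_iff_preserves
    (g : ↥(Cfsg.Geo.quadSimilarityGroup (F := F) ⇑(minusForm m F a b))) :
    g ∈ simM a b θ hθ hnd ↔
      Cfsg.PreservesSingularClasses
        (Cfsg.quadFormMinus m K (algebraMap F K a) (algebraMap F K b))
        ((g.1 : Matrix ((Fin m ⊕ Fin m) ⊕ Fin 2) ((Fin m ⊕ Fin m) ⊕ Fin 2) F).map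
          (algebraMap F K)) := by
  rw [mem_simM, mem_simP_iff_preserves, mapGO_val, mapGL_val, ← minusForm_coe]

theorem mem_simM_iff_det (hodd : Odd (Fintype.card F)) (hK2 : finrank F K = 2)
    (hab : ∀ z₁ z₂ : F, z₁ ^ 2 + a * z₁ * z₂ + b * z₂ ^ 2 = 0 → z₁ = 0 ∧ z₂ = 0)
    (g : ↥(Cfsg.Geo.quadSimilarityGroup (F := F) ⇑(minusForm m F a b))) :
    g ∈ simM a b θ hθ hnd ↔
      (g.1 : Matrix ((Fin m ⊕ Fin m) ⊕ Fin 2) ((Fin m ⊕ Fin m) ⊕ Fin 2) F).det =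
        (simMult ⇑(minusForm m F a b) g : F) ^ (m + 1) := by
  rw [mem_simM_iff_preserves]
  have key : ∀ (Qf : ((Fin m ⊕ Fin m) ⊕ Fin 2 → F) → F), Qf = Cfsg.quadFormMinus m F a b →
      ∀ g : ↥(Cfsg.Geo.quadSimilarityGroup (F := F) Qf),
      (Cfsg.PreservesSingularClasses
        (Cfsg.quadFormMinus m K (algebraMap F K a) (algebraMap F K b))
        ((g.1 : Matrix ((Fin m ⊕ Fin m) ⊕ Fin 2) ((Fin m ⊕ Fin m) ⊕ Fin 2) F).map
          (algebraMap F K)) ↔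
      (g.1 : Matrix ((Fin m ⊕ Fin m) ⊕ Fin 2) ((Fin m ⊕ Fin m) ⊕ Fin 2) F).det =
        (simMult Qf g : F) ^ (m + 1)) := by
    intro Qf hQf
    subst hQf
    intro g
    exact minus_preservesK_iff hodd hK2 a b hab g
  exact key _ (minusForm_coe m F a b).symm g

end simMprops

section indep

variable [Fintype F] {m : ℕ} (a b : F)
  (hab : ∀ z₁ z₂ : F, z₁ ^ 2 + a * z₁ * z₂ + b * z₂ ^ 2 = 0 → z₁ = 0 ∧ z₂ = 0)
  {K : Type u} [Field K] [Fintype K] [Algebra F K]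
  (θ : K) (hθ : θ ^ 2 + algebraMap F K a * θ + algebraMap F K b = 0) (hK2 : finrank F K = 2)
  (hnd : (polarBilin (minusForm m F a b)).Nondegenerate)

include hab hK2 in
/-- the class preserving similarities do not depend on the quadratic extension -/
theorem simM_indep (hm : 2 ≤ m) {K' : Type u} [Field K'] [Fintype K'] [Algebra F K']
    (θ' : K') (hθ' : θ' ^ 2 + algebraMap F K' a * θ' + algebraMap F K' b = 0)
    (hK2' : finrank F K' = 2) :
    simM a b θ hθ hnd = simM a b θ' hθ' hnd := by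
  haveI : Nonempty ((Fin m ⊕ Fin m) ⊕ Fin 2) := ⟨Sum.inr 0⟩
  by_cases h2 : (2 : F) = 0
  · have hn : finrank F ((Fin m ⊕ Fin m) ⊕ Fin 2 → F) = 2 * (m + 1) := minus_hV
    refine sim_eq_of_char_two h2 (minusForm m F a b) hnd (Or.inr (by rw [hn]; omega))
      ⟨Pi.single (Sum.inr 0) 1, ?_⟩ _ _
      (simM_scalar a b θ hθ hnd) (simM_scalar a b θ' hθ' hnd)
      (simM_mul_refl_iff a b θ hθ hnd) (simM_mul_refl_iff a b θ' hθ' hnd)
    rw [← minusForm_coe, minus_Q_single]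
    exact one_ne_zero
  · have hodd : Odd (Fintype.card F) := by
      rw [Nat.odd_iff]
      exact FiniteField.odd_card_of_char_ne_two (ringChar_ne_two_of_two_ne_zero h2)
    ext g
    rw [mem_simM_iff_det a b θ hθ hnd hodd hK2 hab, mem_simM_iff_det a b θ' hθ' hnd hodd hK2' hab]

include hab hK2 in
theorem mem_simM_of_preserves (hm : 2 ≤ m)
    (g : ↥(Cfsg.Geo.quadSimilarityGroup (F := F) ⇑(minusForm m F a b)))
    (h : Cfsg.PreservesSingularClassesMinus m a b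
      (g.1 : Matrix ((Fin m ⊕ Fin m) ⊕ Fin 2) ((Fin m ⊕ Fin m) ⊕ Fin 2) F)) :
    g ∈ simM a b θ hθ hnd := by
  obtain ⟨K', instF, instA, hK2', hP⟩ := h
  haveI : Module.Finite F K' := Module.finite_of_finrank_pos (by rw [hK2']; norm_num)
  haveI : Finite K' := Module.finite_of_finite F
  haveI : Fintype K' := Fintype.ofFinite K'
  obtain ⟨θ', hθ'⟩ := exists_root_quad hK2' a b hab
  rw [simM_indep a b hab θ hθ hK2 hnd hm θ' hθ' hK2', mem_simM_iff_preserves]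
  exact hP

include hab hK2 in
/-- `Inndiag(PΩ⁻)` is the image of the class preserving similarities -/
theorem inndiag_minus_eq_map (hm : 2 ≤ m) :
    Cfsg.autSubgroupOf (fun β : Cfsg.POmega F ⇑(minusForm m F a b) ≃*
        Cfsg.POmega F ⇑(minusForm m F a b) =>
      ∃ g : GL ((Fin m ⊕ Fin m) ⊕ Fin 2) F,
        g ∈ Cfsg.Geo.quadSimilarityGroup (F := F) ⇑(minusForm m F a b) ∧
        Cfsg.PreservesSingularClassesMinus m a b
          (g : Matrix ((Fin m ⊕ Fin m) ⊕ Fin 2) ((Fin m ⊕ Fin m) ⊕ Fin 2) F) ∧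
        Cfsg.IsInducedBySemilinearPOmega ⇑(minusForm m F a b) g (RingEquiv.refl F) β) =
      (simM a b θ hθ hnd).map (Phi ⇑(minusForm m F a b)) := by
  classical
  exact autSubgroupOf_eq_map (Q := ⇑(minusForm m F a b))
    (fun g : GL ((Fin m ⊕ Fin m) ⊕ Fin 2) F => Cfsg.PreservesSingularClassesMinus m a b
      (g : Matrix ((Fin m ⊕ Fin m) ⊕ Fin 2) ((Fin m ⊕ Fin m) ⊕ Fin 2) F))
    (simM a b θ hθ hnd)
    (fun g => ⟨mem_simM_of_preserves a b hab θ hθ hK2 hnd hm g,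
      simM_preserves a b θ hθ hnd hK2 g⟩)

end indep

theorem minus_hQ₀' {m : ℕ} {F₀ : Type*} [Field F₀] (j : F₀ →+* F) (a b : F₀)
    (w : (Fin m ⊕ Fin m) ⊕ Fin 2 → F₀) :
    j (minusForm m F₀ a b w) = minusForm m F (j a) (j b) (jv j w) := by
  have h : Cfsg.quadFormMinus m F (j a) (j b) (jv j w) = j (Cfsg.quadFormMinus m F₀ a b w) := by
    unfold Cfsg.quadFormMinus
    simp only [jv_apply, map_add, map_sum, map_mul, map_pow]
  rw [minusForm_coe, minusForm_coe] at h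
  exact h.symm

section rational

variable [Fintype F] {m : ℕ} {F₀ : Type v} [Field F₀] [Fintype F₀] (j : F₀ →+* F) (a₀ b₀ : F₀)
  (hab₀ : ∀ z₁ z₂ : F₀, z₁ ^ 2 + a₀ * z₁ * z₂ + b₀ * z₂ ^ 2 = 0 → z₁ = 0 ∧ z₂ = 0)
  (hab : ∀ z₁ z₂ : F, z₁ ^ 2 + j a₀ * z₁ * z₂ + j b₀ * z₂ ^ 2 = 0 → z₁ = 0 ∧ z₂ = 0)
  {K₀ : Type v} [Field K₀] [Fintype K₀] [Algebra F₀ K₀]
  (θ₀ : K₀) (hθ₀ : θ₀ ^ 2 + algebraMap F₀ K₀ a₀ * θ₀ + algebraMap F₀ K₀ b₀ = 0)
  (hK₀2 : finrank F₀ K₀ = 2)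
  (hnd₀ : (polarBilin (minusForm m F₀ a₀ b₀)).Nondegenerate)
  {K : Type u} [Field K] [Fintype K] [Algebra F K]
  (θ : K) (hθ : θ ^ 2 + algebraMap F K (j a₀) * θ + algebraMap F K (j b₀) = 0)
  (hK2 : finrank F K = 2)
  (hnd : (polarBilin (minusForm m F (j a₀) (j b₀))).Nondegenerate)

theorem simMult_mapGO {ι : Type} [Fintype ι] [DecidableEq ι] (Q : QuadraticForm F (ι → F))
    (Q₀ : QuadraticForm F₀ (ι → F₀)) (hQ₀ : ∀ w, j (Q₀ w) = Q (jv j w)) (hne : ∃ w, Q₀ w ≠ 0)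
    (g₀ : ↥(Cfsg.Geo.quadSimilarityGroup (F := F₀) ⇑Q₀)) :
    simMult ⇑Q (mapGO j Q Q₀ hQ₀ g₀) = Units.map (j : F₀ →* F) (simMult ⇑Q₀ g₀) := by
  obtain ⟨w₀, hw₀⟩ := hne
  have h1 := simMult_spec ⇑Q (mapGO j Q Q₀ hQ₀ g₀) (jv j w₀)
  rw [mapGO_val, mapGL_mulVec, ← hQ₀, simMult_spec ⇑Q₀ g₀ w₀, map_mul, ← hQ₀] at h1
  have hjw : j (Q₀ w₀) ≠ 0 := (map_ne_zero j).2 hw₀
  apply Units.ext
  rw [Units.coe_map]
  exact (mul_right_cancel₀ hjw h1).symm

include hab₀ hab hK₀2 hK2 in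
/-- a rational similarity preserves the classes iff its base change does -/
theorem simM_mapGO_iff (hm : 2 ≤ m)
    (g₀ : ↥(Cfsg.Geo.quadSimilarityGroup (F := F₀) ⇑(minusForm m F₀ a₀ b₀))) :
    mapGO j (minusForm m F (j a₀) (j b₀)) (minusForm m F₀ a₀ b₀) (minus_hQ₀' j a₀ b₀) g₀ ∈
        simM (j a₀) (j b₀) θ hθ hnd ↔
      g₀ ∈ simM a₀ b₀ θ₀ hθ₀ hnd₀ := by
  haveI : Nonempty ((Fin m ⊕ Fin m) ⊕ Fin 2) := ⟨Sum.inr 0⟩
  have hne₀ : ∃ w, minusForm m F₀ a₀ b₀ w ≠ 0 :=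
    ⟨Pi.single (Sum.inr 0) 1, by rw [← minusForm_coe, minus_Q_single]; exact one_ne_zero⟩
  by_cases h2 : (2 : F₀) = 0
  · have hn : finrank F₀ ((Fin m ⊕ Fin m) ⊕ Fin 2 → F₀) = 2 * (m + 1) := minus_hV
    have hH := sim_eq_of_char_two h2 (minusForm m F₀ a₀ b₀) hnd₀ (Or.inr (by rw [hn]; omega))
      hne₀
      ((simM (j a₀) (j b₀) θ hθ hnd).comap
        (mapGO j (minusForm m F (j a₀) (j b₀)) (minusForm m F₀ a₀ b₀) (minus_hQ₀' j a₀ b₀)))
      (simM a₀ b₀ θ₀ hθ₀ hnd₀)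
      (fun c => by
        rw [Subgroup.mem_comap, mapGO_scO]
        exact simM_scalar _ _ θ hθ hnd _)
      (simM_scalar a₀ b₀ θ₀ hθ₀ hnd₀)
      (fun u hu t => by
        have hu' : minusForm m F (j a₀) (j b₀) (jv j u) ≠ 0 := by
          rw [← minus_hQ₀']
          exact (map_ne_zero j).2 hu
        rw [Subgroup.mem_comap, Subgroup.mem_comap, map_mul, mapGO_refl j _ _ _ u hu hu']
        exact simM_mul_refl_iff _ _ θ hθ hnd _ hu' _)
      (simM_mul_refl_iff a₀ b₀ θ₀ hθ₀ hnd₀)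
    rw [← hH, Subgroup.mem_comap]
  · have hodd₀ : Odd (Fintype.card F₀) := by
      rw [Nat.odd_iff]
      exact FiniteField.odd_card_of_char_ne_two (ringChar_ne_two_of_two_ne_zero h2)
    have h2F : (2 : F) ≠ 0 := by
      intro h
      apply h2
      apply j.injective
      rw [map_ofNat, map_zero]
      exact h
    have hodd : Odd (Fintype.card F) := by
      rw [Nat.odd_iff]
      exact FiniteField.odd_card_of_char_ne_two (ringChar_ne_two_of_two_ne_zero h2F)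
    rw [mem_simM_iff_det _ _ θ hθ hnd hodd hK2 hab, mem_simM_iff_det _ _ θ₀ hθ₀ hnd₀ hodd₀ hK₀2 hab₀,
      simMult_mapGO j _ _ (minus_hQ₀' j a₀ b₀) hne₀, mapGO_val, mapGL_val, Units.coe_map,
      ← RingHom.mapMatrix_apply, ← RingHom.map_det]
    show j _ = (j _) ^ (m + 1) ↔ _
    rw [← map_pow]
    exact j.injective.eq_iff

end rational

end Cfsg.Agent.Lib.Helper37.OrthField
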