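import Mathlib
import Cfsg.Agent.Lib.Helper37.OrthField7
import Cfsg.Agent.Lib.Helper37.TwoRank

set_option autoImplicit false
set_option linter.unusedSectionVars false
set_option linter.unusedVariables false

/-!
# Transport of `PΩ` along a linear isometry, and compatibility with the action of pairs
-/

namespace Cfsg.Agent.Lib.Helper37.OrthField

open Matrix Module QuadraticMap
open Cfsg.Agent.Lib.Helper37

universe u

section abstract

variable {A B : Type*} [Group A] [Group B]

theorem map_center_equiv (e : A ≃* B) :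
    (Subgroup.center A).map (e : A →* B) = Subgroup.center B := by
  ext y
  rw [Subgroup.mem_map, Subgroup.mem_center_iff]
  constructor
  · rintro ⟨x, hx, rfl⟩ g
    rw [Subgroup.mem_center_iff] at hx
    obtain ⟨g', rfl⟩ := e.surjective g
    show e g' * e x = e x * e g'
    rw [← map_mul, ← map_mul, hx g']
  · intro hy
    refine ⟨e.symm y, ?_, e.apply_symm_apply y⟩
    rw [Subgroup.mem_center_iff]
    intro g
    apply e.injective
    rw [map_mul, map_mul, e.apply_symm_apply]
    exact hy (e g)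

theorem map_commutator_equiv (e : A ≃* B) :
    (commutator A).map (e : A →* B) = commutator B := by
  rw [commutator_def, Subgroup.map_commutator, commutator_def, ← MonoidHom.range_eq_map,
    MonoidHom.range_eq_top.2 e.surjective]

/-- an isomorphism induces an isomorphism of commutator subgroups -/
noncomputable def commCongr (e : A ≃* B) : ↥(commutator A) ≃* ↥(commutator B) :=
  (e.subgroupMap (commutator A)).trans (MulEquiv.subgroupCongr (map_commutator_equiv e))

theorem commCongr_val (e : A ≃* B) (s : ↥(commutator A)) :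
    ((commCongr e s : ↥(commutator B)) : B) = e s.1 := rfl

/-- an isomorphism induces an isomorphism of the central quotients of the commutator subgroups -/
noncomputable def pcommCongr (e : A ≃* B) :
    (↥(commutator A) ⧸ Subgroup.center ↥(commutator A)) ≃*
      (↥(commutator B) ⧸ Subgroup.center ↥(commutator B)) :=
  QuotientGroup.congr _ _ (commCongr e) (map_center_equiv (commCongr e))

theorem pcommCongr_mk (e : A ≃* B) (s : ↥(commutator A)) :
    pcommCongr e (QuotientGroup.mk s) = QuotientGroup.mk (commCongr e s) := rfl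

end abstract

variable {ι : Type} [Fintype ι] [DecidableEq ι] {F : Type u} [Field F]

/-- conjugation by a linear isometry between two forms, on the isometry groups -/
def isoConj (Q Q' : (ι → F) → F) (k : GL ι F)
    (hk : ∀ v, Q' ((k : Matrix ι ι F) *ᵥ v) = Q v) :
    ↥(Cfsg.isometryGroup F Q) ≃* ↥(Cfsg.isometryGroup F Q') where
  toFun g := ⟨k * g.1 * k⁻¹, by
    have hk' : ∀ u, Q (((k⁻¹ : GL ι F) : Matrix ι ι F) *ᵥ u) = Q' u := by
      intro u
      rw [← hk, Cfsg.Agent.Lib.Helper94.mulVec_inv_mulVec]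
    rw [mem_isometryGroup_iff']
    intro u
    have hg := (mem_isometryGroup_iff' Q g.1).1 g.2
    rw [Units.val_mul, Units.val_mul, ← Matrix.mulVec_mulVec, ← Matrix.mulVec_mulVec, hk, hg, hk']⟩
  invFun g := ⟨k⁻¹ * g.1 * k, by
    have hk' : ∀ u, Q (((k⁻¹ : GL ι F) : Matrix ι ι F) *ᵥ u) = Q' u := by
      intro u
      rw [← hk, Cfsg.Agent.Lib.Helper94.mulVec_inv_mulVec]
    rw [mem_isometryGroup_iff']
    intro u
    have hg := (mem_isometryGroup_iff' Q' g.1).1 g.2
    rw [Units.val_mul, Units.val_mul, ← Matrix.mulVec_mulVec, ← Matrix.mulVec_mulVec, hk', hg, hk]⟩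
  left_inv g := Subtype.ext (by show k⁻¹ * (k * g.1 * k⁻¹) * k = g.1; group)
  right_inv g := Subtype.ext (by show k * (k⁻¹ * g.1 * k) * k⁻¹ = g.1; group)
  map_mul' a b := Subtype.ext (by
    show k * (a.1 * b.1) * k⁻¹ = (k * a.1 * k⁻¹) * (k * b.1 * k⁻¹); group)

theorem isoConj_val (Q Q' : (ι → F) → F) (k : GL ι F)
    (hk : ∀ v, Q' ((k : Matrix ι ι F) *ᵥ v) = Q v) (g : ↥(Cfsg.isometryGroup F Q)) :
    ((isoConj Q Q' k hk g : ↥(Cfsg.isometryGroup F Q')) : GL ι F) = k * g.1 * k⁻¹ := rfl

/-- the isomorphism of `PΩ` induced by a linear isometry -/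
noncomputable def pomegaConj (Q Q' : (ι → F) → F) (k : GL ι F)
    (hk : ∀ v, Q' ((k : Matrix ι ι F) *ᵥ v) = Q v) : Cfsg.POmega F Q ≃* Cfsg.POmega F Q' :=
  pcommCongr (isoConj Q Q' k hk)

/-- the conjugate of a semisimilarity pair by a linear isometry -/
theorem conj_mem_semiO (Q Q' : (ι → F) → F) (k : GL ι F)
    (hk : ∀ v, Q' ((k : Matrix ι ι F) *ᵥ v) = Q v) (p : GamL ι F) (hp : p ∈ semiO Q) :
    SemidirectProduct.inl k * p * (SemidirectProduct.inl k)⁻¹ ∈ semiO Q' := by
  obtain ⟨c, hc⟩ := hp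
  refine ⟨c, fun v => ?_⟩
  have hk' : ∀ u, Q (((k⁻¹ : GL ι F) : Matrix ι ι F) *ᵥ u) = Q' u := by
    intro u
    rw [← hk, Cfsg.Agent.Lib.Helper94.mulVec_inv_mulVec]
  have hr : (SemidirectProduct.inl k * p * (SemidirectProduct.inl k)⁻¹ : GamL ι F).right
      = p.right := by
    simp [SemidirectProduct.mul_right, SemidirectProduct.inv_right]
  rw [hr, sm_mul, sm_mul, ← map_inv, sm_inl, sm_inl, hk, hc, hk']

theorem pomegaConj_Psi (Q Q' : (ι → F) → F) (k : GL ι F)
    (hk : ∀ v, Q' ((k : Matrix ι ι F) *ᵥ v) = Q v) (p : ↥(semiO Q)) (p' : ↥(semiO Q'))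
    (hp' : p'.1 = SemidirectProduct.inl k * p.1 * (SemidirectProduct.inl k)⁻¹)
    (t : Cfsg.POmega F Q) :
    pomegaConj Q Q' k hk (Psi Q p t) = Psi Q' p' (pomegaConj Q Q' k hk t) := by
  induction t using QuotientGroup.induction_on with
  | H s =>
    unfold pomegaConj
    rw [Psi_mk, pcommCongr_mk, pcommCongr_mk, Psi_mk]
    congr 1
    apply Subtype.ext
    apply Subtype.ext
    rw [commCongr_val, isoConj_val, Psi_mk_val, Psi_mk_val, commCongr_val, isoConj_val]
    have e1 : k * (p.1.left * gm p.1.right s.1.1 * p.1.left⁻¹) * k⁻¹ =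
        actGL (SemidirectProduct.inl k : GamL ι F) (actGL p.1 s.1.1) := by
      rw [actGL_apply, actGL_apply]
      simp [gm_one]
    have e2 : p'.1.left * gm p'.1.right (k * s.1.1 * k⁻¹) * p'.1.left⁻¹ =
        actGL p'.1 (actGL (SemidirectProduct.inl k : GamL ι F) s.1.1) := by
      rw [actGL_apply p'.1, actGL_apply (SemidirectProduct.inl k)]
      simp [gm_one]
    rw [e1, e2, hp', map_mul, map_mul, map_inv]
    simp

end Cfsg.Agent.Lib.Helper37.OrthField
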