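import Mathlib
import Cfsg.Agent.Lib.Helper37.OrthMinusCP
import Cfsg.Agent.Lib.Helper37.OrthTransport

set_option autoImplicit false
set_option linter.unusedSectionVars false
set_option linter.unusedVariables false

/-!
# Transport lemmas for the field automorphisms of `PΩ⁻`
-/

namespace Cfsg.Agent.Lib.Helper37.OrthField

open Matrix Module QuadraticMap
open Cfsg.Agent.Lib.Helper37 Cfsg.Agent.Lib.Helper43 Cfsg.Agent.Lib.Helper8
open Cfsg.Agent.Lib.Helper37.ParGen Cfsg.Agent.Lib.Helper14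

universe u v

section grp

variable {X X' : Type*} [Group X] [Group X']

theorem isConjUnder_map (c : X ≃* X') (H : Subgroup X) (x y : X) :
    Cfsg.IsConjUnder (H.map (c : X →* X')) (c x) (c y) ↔ Cfsg.IsConjUnder H x y := by
  constructor
  · rintro ⟨h', ⟨h, hh, rfl⟩, he⟩
    refine ⟨h, hh, ?_⟩
    apply c.injective
    rw [map_mul, map_mul, map_inv]
    exact he
  · rintro ⟨h, hh, he⟩
    refine ⟨c h, ⟨h, hh, rfl⟩, ?_⟩
    rw [he, map_mul, map_mul, map_inv]

/-- `splitClassCount` is invariant under isomorphisms of the ambient group -/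
theorem splitClassCount_map (c : X ≃* X') (H K : Subgroup X) (x : X) :
    Cfsg.splitClassCount (H.map (c : X →* X')) (K.map (c : X →* X')) (c x) =
      Cfsg.splitClassCount H K x := by
  unfold Cfsg.splitClassCount
  symm
  let e : {y : X // Cfsg.IsConjUnder H x y} ≃
      {y : X' // Cfsg.IsConjUnder (H.map (c : X →* X')) (c x) y} :=
    { toFun := fun y => ⟨c y.1, (isConjUnder_map c H x y.1).2 y.2⟩
      invFun := fun y => ⟨c.symm y.1, by
        have h1 := y.2
        have h2 : y.1 = c (c.symm y.1) := (c.apply_symm_apply y.1).symm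
        rw [h2] at h1
        exact (isConjUnder_map c H x _).1 h1⟩
      left_inv := fun y => Subtype.ext (c.symm_apply_apply y.1)
      right_inv := fun y => Subtype.ext (c.apply_symm_apply y.1) }
  refine Nat.card_congr (Quot.congr e ?_)
  intro a b
  exact (isConjUnder_map c K a.1 b.1).symm

theorem map_inf_centralizer (c : X ≃* X') (H : Subgroup X) (x : X) :
    (H ⊓ Subgroup.centralizer {x}).map (c : X →* X') =
      H.map (c : X →* X') ⊓ Subgroup.centralizer {c x} := by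
  ext y
  constructor
  · rintro ⟨z, hz, rfl⟩
    obtain ⟨h1, h2⟩ := Subgroup.mem_inf.1 hz
    refine Subgroup.mem_inf.2 ⟨⟨z, h1, rfl⟩, ?_⟩
    rw [Subgroup.mem_centralizer_singleton_iff] at h2 ⊢
    show c z * c x = c x * c z
    rw [← map_mul, ← map_mul, h2]
  · intro hy
    obtain ⟨⟨z, h1, rfl⟩, h2⟩ := Subgroup.mem_inf.1 hy
    refine ⟨z, Subgroup.mem_inf.2 ⟨h1, ?_⟩, rfl⟩
    rw [Subgroup.mem_centralizer_singleton_iff] at h2 ⊢
    apply c.injective
    rw [map_mul, map_mul]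
    exact h2

/-- an isomorphism of the ambient group carries centralizers in a subgroup to centralizers -/
noncomputable def centMapEquiv (c : X ≃* X') (H : Subgroup X) (x : X) :
    ↥(H ⊓ Subgroup.centralizer {x}) ≃*
      ↥(H.map (c : X →* X') ⊓ Subgroup.centralizer {c x}) :=
  (c.subgroupMap (H ⊓ Subgroup.centralizer {x})).trans
    (MulEquiv.subgroupCongr (map_inf_centralizer c H x))

theorem map_conj_of_mem (H : Subgroup X) (α : X) (hα : α ∈ H) :
    H.map ((MulAut.conj α : X ≃* X) : X →* X) = H := by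
  ext y
  constructor
  · rintro ⟨z, hz, rfl⟩
    show MulAut.conj α z ∈ H
    rw [MulAut.conj_apply]
    exact H.mul_mem (H.mul_mem hα hz) (H.inv_mem hα)
  · intro hy
    refine ⟨α⁻¹ * y * α, H.mul_mem (H.mul_mem (H.inv_mem hα) hy) hα, ?_⟩
    show MulAut.conj α (α⁻¹ * y * α) = y
    rw [MulAut.conj_apply]
    group

theorem map_conj_of_normal (K : Subgroup X) [hK : K.Normal] (α : X) :
    K.map ((MulAut.conj α : X ≃* X) : X →* X) = K := by
  ext y
  constructor
  · rintro ⟨z, hz, rfl⟩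
    show MulAut.conj α z ∈ K
    rw [MulAut.conj_apply]
    exact hK.conj_mem z hz α
  · intro hy
    refine ⟨α⁻¹ * y * α, ?_, ?_⟩
    · have := hK.conj_mem y hy α⁻¹
      rwa [inv_inv] at this
    · show MulAut.conj α (α⁻¹ * y * α) = y
      rw [MulAut.conj_apply]
      group

theorem splitClassCount_conj_mem (H K : Subgroup X) [K.Normal] (α : X) (hα : α ∈ H) (x : X) :
    Cfsg.splitClassCount H K (α * x * α⁻¹) = Cfsg.splitClassCount H K x := by
  have h := splitClassCount_map (MulAut.conj α) H K x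
  rw [map_conj_of_mem H α hα, map_conj_of_normal K α, MulAut.conj_apply] at h
  exact h

theorem centConjMem_nonempty (H : Subgroup X) (α : X) (hα : α ∈ H) (x : X) :
    Nonempty (↥(H ⊓ Subgroup.centralizer {x}) ≃*
      ↥(H ⊓ Subgroup.centralizer {α * x * α⁻¹})) := by
  have E := centMapEquiv (MulAut.conj α) H x
  rw [map_conj_of_mem H α hα, MulAut.conj_apply] at E
  exact ⟨E⟩

end grp

section pres

variable {ι : Type} [Fintype ι] [DecidableEq ι] {K : Type*} [Field K]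

theorem isMax_map (Q Q' : (ι → K) → K) (k : GL ι K)
    (hk : ∀ v, Q' ((k : Matrix ι ι K) *ᵥ v) = Q v) (U : Submodule K (ι → K))
    (hU : Cfsg.IsMaxTotallySingular Q U) :
    Cfsg.IsMaxTotallySingular Q' (U.map (Matrix.toLin' (k : Matrix ι ι K))) := by
  have hk' : ∀ u, Q (((k⁻¹ : GL ι K) : Matrix ι ι K) *ᵥ u) = Q' u := by
    intro u
    rw [← hk, Cfsg.Agent.Lib.Helper94.mulVec_inv_mulVec]
  refine ⟨?_, ?_⟩
  · rintro w ⟨u, hu, rfl⟩
    rw [Matrix.toLin'_apply, hk]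
    exact hU.1 u hu
  · intro W hW hUW
    have h1 : W.map (Matrix.toLin' ((k⁻¹ : GL ι K) : Matrix ι ι K)) = U := by
      apply hU.2
      · rintro w ⟨u, hu, rfl⟩
        rw [Matrix.toLin'_apply, hk']
        exact hW u hu
      · intro u hu
        refine ⟨(k : Matrix ι ι K) *ᵥ u, hUW ⟨u, hu, by rw [Matrix.toLin'_apply]⟩, ?_⟩
        rw [Matrix.toLin'_apply, Cfsg.Agent.Lib.Helper94.inv_mulVec_mulVec]
    rw [← h1, ← Submodule.map_comp, ← Matrix.toLin'_mul, ← Units.val_mul, mul_inv_cancel,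
      Units.val_one, Matrix.toLin'_one, Submodule.map_id]

theorem toLin'_gl_injective (k : GL ι K) :
    Function.Injective (Matrix.toLin' (k : Matrix ι ι K)) := by
  intro u v h
  rw [Matrix.toLin'_apply, Matrix.toLin'_apply] at h
  have := congrArg (fun w => ((k⁻¹ : GL ι K) : Matrix ι ι K) *ᵥ w) h
  simpa [Cfsg.Agent.Lib.Helper94.inv_mulVec_mulVec] using this

theorem preserves_conj_imp (Q Q' : (ι → K) → K) (k : GL ι K)
    (hk : ∀ v, Q' ((k : Matrix ι ι K) *ᵥ v) = Q v) (g : Matrix ι ι K)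
    (h : Cfsg.PreservesSingularClasses Q'
      ((k : Matrix ι ι K) * g * ((k⁻¹ : GL ι K) : Matrix ι ι K))) :
    Cfsg.PreservesSingularClasses Q g := by
  intro U hU
  have h1 := h _ (isMax_map Q Q' k hk U hU)
  unfold Cfsg.SameParityClass Cfsg.imageSubmodule at h1 ⊢
  have e1 : (U.map (Matrix.toLin' (k : Matrix ι ι K))).map
      (Matrix.toLin' ((k : Matrix ι ι K) * g * ((k⁻¹ : GL ι K) : Matrix ι ι K))) =
      (U.map (Matrix.toLin' g)).map (Matrix.toLin' (k : Matrix ι ι K)) := by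
    rw [← Submodule.map_comp, ← Submodule.map_comp, ← Matrix.toLin'_mul, ← Matrix.toLin'_mul]
    congr 2
    rw [mul_assoc, ← Units.val_mul, inv_mul_cancel, Units.val_one, mul_one]
  have hinj := toLin'_gl_injective k
  rw [e1, ← Submodule.map_inf _ hinj,
    ← (Submodule.equivMapOfInjective _ hinj U).finrank_eq,
    ← (Submodule.equivMapOfInjective _ hinj (U ⊓ U.map (Matrix.toLin' g))).finrank_eq] at h1
  exact h1

theorem preserves_conj_iff (Q Q' : (ι → K) → K) (k : GL ι K)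
    (hk : ∀ v, Q' ((k : Matrix ι ι K) *ᵥ v) = Q v) (g : Matrix ι ι K) :
    Cfsg.PreservesSingularClasses Q'
      ((k : Matrix ι ι K) * g * ((k⁻¹ : GL ι K) : Matrix ι ι K)) ↔
    Cfsg.PreservesSingularClasses Q g := by
  refine ⟨preserves_conj_imp Q Q' k hk g, fun h => ?_⟩
  have hk' : ∀ u, Q (((k⁻¹ : GL ι K) : Matrix ι ι K) *ᵥ u) = Q' u := by
    intro u
    rw [← hk, Cfsg.Agent.Lib.Helper94.mulVec_inv_mulVec]
  apply preserves_conj_imp Q' Q k⁻¹ hk'
  have e : ((k⁻¹ : GL ι K) : Matrix ι ι K) *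
      ((k : Matrix ι ι K) * g * ((k⁻¹ : GL ι K) : Matrix ι ι K)) *
      (((k⁻¹)⁻¹ : GL ι K) : Matrix ι ι K) = g := by
    rw [inv_inv, mul_assoc, mul_assoc, ← Units.val_mul, inv_mul_cancel, Units.val_one, mul_one,
      ← mul_assoc, ← Units.val_mul, inv_mul_cancel, Units.val_one, one_mul]
  rw [e]
  exact h

end pres

section simconj

variable {ι : Type} [Fintype ι] [DecidableEq ι] {F : Type u} [Field F]

/-- conjugation by a linear isometry between two forms, on the similarity groups -/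
def simConj (Q Q' : (ι → F) → F) (k : GL ι F)
    (hk : ∀ v, Q' ((k : Matrix ι ι F) *ᵥ v) = Q v) :
    ↥(Cfsg.Geo.quadSimilarityGroup (F := F) Q) →* ↥(Cfsg.Geo.quadSimilarityGroup (F := F) Q') where
  toFun g := ⟨k * g.1 * k⁻¹, by
    have hk' : ∀ u, Q (((k⁻¹ : GL ι F) : Matrix ι ι F) *ᵥ u) = Q' u := by
      intro u
      rw [← hk, Cfsg.Agent.Lib.Helper94.mulVec_inv_mulVec]
    obtain ⟨c, hc⟩ := g.2
    refine ⟨c, fun u => ?_⟩
    rw [Units.val_mul, Units.val_mul, ← Matrix.mulVec_mulVec, ← Matrix.mulVec_mulVec, hk, hc, hk']⟩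
  map_one' := Subtype.ext (by show k * 1 * k⁻¹ = 1; group)
  map_mul' a b := Subtype.ext (by
    show k * (a.1 * b.1) * k⁻¹ = (k * a.1 * k⁻¹) * (k * b.1 * k⁻¹); group)

theorem simConj_val (Q Q' : (ι → F) → F) (k : GL ι F)
    (hk : ∀ v, Q' ((k : Matrix ι ι F) *ᵥ v) = Q v)
    (g : ↥(Cfsg.Geo.quadSimilarityGroup (F := F) Q)) :
    (simConj Q Q' k hk g).1 = k * g.1 * k⁻¹ := rfl

/-- the base change of a linear isometry is a linear isometry -/
theorem isometry_base_change {K : Type*} [Field K] (j : F →+* K)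
    (Q Q' : QuadraticForm F (ι → F)) (QK QK' : QuadraticForm K (ι → K))
    (hQ : ∀ w, j (Q w) = QK (jv j w)) (hQ' : ∀ w, j (Q' w) = QK' (jv j w))
    (k : GL ι F) (hk : ∀ v, Q' ((k : Matrix ι ι F) *ᵥ v) = Q v) :
    ∀ v, QK' (((mapGL j k : GL ι K) : Matrix ι ι K) *ᵥ v) = QK v := by
  have h1 : ∀ w : ι → F, QK' (((mapGL j k : GL ι K) : Matrix ι ι K) *ᵥ jv j w) = QK (jv j w) := by
    intro w
    rw [mapGL_mulVec, ← hQ', hk, hQ]
  have := quad_eq_of_lattice j
    (QK'.comp (Matrix.mulVecLin ((mapGL j k : GL ι K) : Matrix ι ι K))) QK h1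
  intro v
  exact this v

end simconj

section simMconj

variable {m : ℕ} {F : Type u} [Field F] [Fintype F] (a b a' b' : F)
  {K : Type u} [Field K] [Fintype K] [Algebra F K]
  (θ : K) (hθ : θ ^ 2 + algebraMap F K a * θ + algebraMap F K b = 0)
  (hnd : (polarBilin (minusForm m F a b)).Nondegenerate)
  (θ' : K) (hθ' : θ' ^ 2 + algebraMap F K a' * θ' + algebraMap F K b' = 0)
  (hnd' : (polarBilin (minusForm m F a' b')).Nondegenerate)

theorem simM_conj_iff (k : GL ((Fin m ⊕ Fin m) ⊕ Fin 2) F)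
    (hk : ∀ v, minusForm m F a' b' ((k : Matrix _ _ F) *ᵥ v) = minusForm m F a b v)
    (g : ↥(Cfsg.Geo.quadSimilarityGroup (F := F) ⇑(minusForm m F a b))) :
    simConj ⇑(minusForm m F a b) ⇑(minusForm m F a' b') k hk g ∈ simM a' b' θ' hθ' hnd' ↔
      g ∈ simM a b θ hθ hnd := by
  rw [mem_simM_iff_preserves, mem_simM_iff_preserves, simConj_val]
  have hkK := isometry_base_change (algebraMap F K) (minusForm m F a b) (minusForm m F a' b')
    (minusForm m K (algebraMap F K a) (algebraMap F K b))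
    (minusForm m K (algebraMap F K a') (algebraMap F K b'))
    (minus_hQ₀ (algebraMap F K) a b) (minus_hQ₀ (algebraMap F K) a' b') k hk
  rw [← minusForm_coe, ← minusForm_coe] at hkK
  have e : ((k * g.1 * k⁻¹ : GL ((Fin m ⊕ Fin m) ⊕ Fin 2) F) :
      Matrix ((Fin m ⊕ Fin m) ⊕ Fin 2) ((Fin m ⊕ Fin m) ⊕ Fin 2) F).map (algebraMap F K) =
      ((mapGL (algebraMap F K) k : GL _ K) : Matrix _ _ K) *
        (g.1 : Matrix ((Fin m ⊕ Fin m) ⊕ Fin 2) ((Fin m ⊕ Fin m) ⊕ Fin 2) F).map (algebraMap F K) *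
        (((mapGL (algebraMap F K) k)⁻¹ : GL _ K) : Matrix _ _ K) := by
    rw [← mapGL_val, map_mul, map_mul, map_inv, Units.val_mul, Units.val_mul, mapGL_val (g := g.1)]
  rw [e]
  exact preserves_conj_iff _ _ (mapGL (algebraMap F K) k) hkK _

end simMconj

section transportPhi

variable {ι : Type} [Fintype ι] [DecidableEq ι] {F : Type u} [Field F]

theorem inn_map_congr37 {P Q : Type*} [Group P] [Group Q] (e : P ≃* Q) :
    (Cfsg.Inn P).map ((MulAut.congr e : MulAut P ≃* MulAut Q) : MulAut P →* MulAut Q) =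
      Cfsg.Inn Q := by
  have key : ∀ x : P, MulAut.congr e (MulAut.conj x) = MulAut.conj (e x) := by
    intro x
    ext y
    simp [MulAut.congr]
  apply le_antisymm
  · rintro _ ⟨_, ⟨x, rfl⟩, rfl⟩
    exact ⟨e x, (key x).symm⟩
  · rintro _ ⟨y, rfl⟩
    refine ⟨MulAut.conj (e.symm y), ⟨_, rfl⟩, ?_⟩
    show MulAut.congr e (MulAut.conj (e.symm y)) = MulAut.conj y
    rw [key]
    simp

theorem congr_Phi (Q Q' : (ι → F) → F) (k : GL ι F)
    (hk : ∀ v, Q' ((k : Matrix ι ι F) *ᵥ v) = Q v)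
    (g : ↥(Cfsg.Geo.quadSimilarityGroup (F := F) Q)) :
    MulAut.congr (pomegaConj Q Q' k hk) (Phi Q g) = Phi Q' (simConj Q Q' k hk g) := by
  rw [← Psi_simToSemi, ← Psi_simToSemi]
  ext t'
  show pomegaConj Q Q' k hk (Psi Q (simToSemi Q g) ((pomegaConj Q Q' k hk).symm t')) = _
  rw [pomegaConj_Psi Q Q' k hk (simToSemi Q g) (simToSemi Q' (simConj Q Q' k hk g)) ?_ _,
    MulEquiv.apply_symm_apply]
  show (SemidirectProduct.inl (k * g.1 * k⁻¹) : GamL ι F) =
    SemidirectProduct.inl k * SemidirectProduct.inl g.1 * (SemidirectProduct.inl k)⁻¹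
  rw [map_mul, map_mul, map_inv]

theorem map_congr_map_Phi (Q Q' : (ι → F) → F) (k : GL ι F)
    (hk : ∀ v, Q' ((k : Matrix ι ι F) *ᵥ v) = Q v)
    (D : Subgroup ↥(Cfsg.Geo.quadSimilarityGroup (F := F) Q))
    (D' : Subgroup ↥(Cfsg.Geo.quadSimilarityGroup (F := F) Q'))
    (h : ∀ g, simConj Q Q' k hk g ∈ D' ↔ g ∈ D) :
    (D.map (Phi Q)).map ((MulAut.congr (pomegaConj Q Q' k hk) :
      MulAut (Cfsg.POmega F Q) ≃* MulAut (Cfsg.POmega F Q')) :
        MulAut (Cfsg.POmega F Q) →* MulAut (Cfsg.POmega F Q')) = D'.map (Phi Q') := by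
  have hk' : ∀ u, Q (((k⁻¹ : GL ι F) : Matrix ι ι F) *ᵥ u) = Q' u := by
    intro u
    rw [← hk, Cfsg.Agent.Lib.Helper94.mulVec_inv_mulVec]
  ext y
  constructor
  · rintro ⟨_, ⟨g, hg, rfl⟩, rfl⟩
    exact ⟨simConj Q Q' k hk g, (h g).2 hg, (congr_Phi Q Q' k hk g).symm⟩
  · rintro ⟨g', hg', rfl⟩
    have e : simConj Q Q' k hk (simConj Q' Q k⁻¹ hk' g') = g' := by
      apply Subtype.ext
      show k * (k⁻¹ * g'.1 * k⁻¹⁻¹) * k⁻¹ = g'.1
      group
    refine ⟨Phi Q (simConj Q' Q k⁻¹ hk' g'), ⟨_, ?_, rfl⟩, ?_⟩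
    · apply (h _).1
      rw [e]
      exact hg'
    · show MulAut.congr (pomegaConj Q Q' k hk) (Phi Q (simConj Q' Q k⁻¹ hk' g')) = _
      rw [congr_Phi, e]

end transportPhi

section comm

variable {ι : Type} [Fintype ι] [DecidableEq ι] {F : Type u} [Field F] [Fintype F]
  (Q : QuadraticForm F (ι → F))
  (hnd : (QuadraticMap.polarBilin Q).Nondegenerate) {N : ℕ} (hV : finrank F (ι → F) = 2 * N)
  (E : Submodule F (ι → F)) (hE : IsLag ⇑Q N E)

theorem simP_comm (g₁ g₂ : ↥(Cfsg.Geo.quadSimilarityGroup (F := F) ⇑Q)) :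
    g₁ * g₂ * g₁⁻¹ * g₂⁻¹ ∈ simP Q hnd hV E hE := by
  rw [mem_simP]
  have e : (SemidirectProduct.inl (g₁ * g₂ * g₁⁻¹ * g₂⁻¹).1 : GamL ι F) =
      (SemidirectProduct.inl g₁.1 * SemidirectProduct.inl g₂.1 *
        (SemidirectProduct.inl g₁.1)⁻¹) * (SemidirectProduct.inl g₂.1)⁻¹ := by
    rw [Subgroup.coe_mul, Subgroup.coe_mul, Subgroup.coe_mul, Subgroup.coe_inv, Subgroup.coe_inv,
      map_mul, map_mul, map_mul, map_inv, map_inv]
  have h1 := inl_mem_semiO Q g₁
  have h2 := inl_mem_semiO Q g₂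
  rw [e, parS_mul (qsys_of_form Q hnd) hV E hE _ _
      ((semiO ⇑Q).mul_mem ((semiO ⇑Q).mul_mem h1 h2) ((semiO ⇑Q).inv_mem h1))
      ((semiO ⇑Q).inv_mem h2),
    parS_conj (qsys_of_form Q hnd) hV E hE _ _ h2 h1, parS_inv (qsys_of_form Q hnd) hV E hE _ h2]
  have := parS_lt (N := N) E (SemidirectProduct.inl g₂.1 : GamL ι F)
  omega

end comm

section minusN

variable {m : ℕ} {F : Type u} [Field F] [Fintype F] (a b : F)
  {K : Type u} [Field K] [Fintype K] [Algebra F K]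
  (θ : K) (hθ : θ ^ 2 + algebraMap F K a * θ + algebraMap F K b = 0)
  (hnd : (polarBilin (minusForm m F a b)).Nondegenerate)

theorem simM_comm (g₁ g₂ : ↥(Cfsg.Geo.quadSimilarityGroup (F := F) ⇑(minusForm m F a b))) :
    g₁ * g₂ * g₁⁻¹ * g₂⁻¹ ∈ simM a b θ hθ hnd := by
  rw [mem_simM, map_mul, map_mul, map_mul, map_inv, map_inv]
  exact simP_comm _ _ _ _ _ _ _

theorem omega_le_simM (s : ↥(Cfsg.isometryGroup F ⇑(minusForm m F a b)))
    (hs : s ∈ Cfsg.Omega F ⇑(minusForm m F a b)) :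
    isoGO ⇑(minusForm m F a b) s ∈ simM a b θ hθ hnd := by
  have h : Cfsg.Omega F ⇑(minusForm m F a b) ≤
      (simM a b θ hθ hnd).comap (isoGO ⇑(minusForm m F a b)) := by
    show commutator _ ≤ _
    rw [commutator_def, Subgroup.commutator_le]
    intro g₁ _ g₂ _
    rw [Subgroup.mem_comap, commutatorElement_def, map_mul, map_mul, map_mul, map_inv, map_inv]
    exact simM_comm a b θ hθ hnd _ _
  exact h hs

theorem innPre_le_simM
    (hker : ∀ g : ↥(Cfsg.Geo.quadSimilarityGroup (F := F) ⇑(minusForm m F a b)),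
      Phi ⇑(minusForm m F a b) g = 1 ↔ ∃ c : F, ((g.1 : GL ((Fin m ⊕ Fin m) ⊕ Fin 2) F) :
        Matrix ((Fin m ⊕ Fin m) ⊕ Fin 2) ((Fin m ⊕ Fin m) ⊕ Fin 2) F) =
          c • (1 : Matrix ((Fin m ⊕ Fin m) ⊕ Fin 2) ((Fin m ⊕ Fin m) ⊕ Fin 2) F)) :
    innPre ⇑(minusForm m F a b) ≤ simM a b θ hθ hnd := by
  classical
  haveI : Nonempty ((Fin m ⊕ Fin m) ⊕ Fin 2) := ⟨Sum.inr 0⟩
  intro g hg
  unfold innPre at hg
  rw [Subgroup.mem_comap, mem_inn_iff] at hg
  obtain ⟨s, hs, hgs⟩ := hg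
  have h1 : Phi ⇑(minusForm m F a b) (g * (isoGO ⇑(minusForm m F a b) s)⁻¹) = 1 := by
    rw [map_mul, map_inv, hgs, mul_inv_cancel]
  obtain ⟨c, hc⟩ := (hker _).1 h1
  obtain ⟨c', hc'⟩ := exists_scalar_of_smul _ c hc
  have h2 : g = scO (minusForm m F a b) c' * isoGO ⇑(minusForm m F a b) s := by
    have : g * (isoGO ⇑(minusForm m F a b) s)⁻¹ = scO (minusForm m F a b) c' :=
      Subtype.ext hc'
    rw [← this, inv_mul_cancel_right]
  rw [h2]
  exact Subgroup.mul_mem _ (simM_scalar a b θ hθ hnd c') (omega_le_simM a b θ hθ hnd s hs)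

end minusN

end Cfsg.Agent.Lib.Helper37.OrthField
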