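import Mathlib
import Cfsg.Agent.Lib.Helper37.OrthOdd1
import Cfsg.Agent.Lib.Helper37.OrthOdd2
import Cfsg.Agent.Lib.Helper5.SplitClass
import Cfsg.Agent.Lib.Helper45.SplitCount
import Cfsg.Agent.Lib.Helper45.SpAutSplit

set_option autoImplicit false
set_option linter.unusedSectionVars false
set_option linter.unusedVariables false
set_option maxHeartbeats 800000

/-!
# Field automorphisms of prime order of odd-dimensional orthogonal groups
-/

namespace Cfsg.Agent.Lib.Helper37.OrthField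

open Matrix Module QuadraticMap
open Cfsg.Agent.Lib.Helper37 Cfsg.Agent.Lib.Helper43
open Cfsg.Agent.Lib.Helper8 Cfsg.Agent.Lib.Helper13
open Cfsg.Agent.Lib.Helper37.IsGram

universe u

variable {ι : Type} [Fintype ι] [DecidableEq ι] {F : Type u} [Field F]

theorem range_Phi_normal (Q : (ι → F) → F) (hAut : AutSemi Q) : (Phi Q).range.Normal := by
  constructor
  rintro _ ⟨g, rfl⟩ α
  obtain ⟨p, rfl⟩ := hAut α
  rw [← Psi_simToSemi, ← map_inv, ← map_mul, ← map_mul]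
  have hright : (p * simToSemi Q g * p⁻¹).1.right = 1 := by
    simp [Subgroup.coe_mul, SemidirectProduct.mul_right, simToSemi_right]
  rw [eq_simToSemi_of_right_eq_one Q _ hright, Psi_simToSemi]
  exact ⟨_, rfl⟩

theorem inn_eq_map_innPre (Q : (ι → F) → F) :
    Cfsg.Inn (Cfsg.POmega F Q) = (innPre Q).map (Phi Q) := by
  unfold innPre
  rw [Subgroup.map_comap_eq, inf_eq_right.2]
  rw [inn_eq]
  exact Subgroup.map_le_range _ _

theorem odd_dim_main [Fintype F] [Nonempty ι] (Q : QuadraticForm F (ι → F)) (h2 : (2 : F) ≠ 0)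
    (hQ : (QuadraticMap.polarBilin Q).Nondegenerate) {k : ℕ} {e f : Fin k → ι → F}
    (hfam : HypFam Q k e f) (hk : 3 ≤ k)
    {m : ℕ} (hcard : Fintype.card ι = 2 * m + 1) (hm : 3 ≤ m)
    (hAut : AutSemi ⇑Q) (hinv : ∀ (σ : F ≃+* F) v, Q (vm σ v) = σ (Q v))
    (hcls : ∀ σ : F ≃+* F, Hcls Q σ)
    {p f' : ℕ} [Fact p.Prime] (hF : Fintype.card F = p ^ f')
    (x : MulAut (Cfsg.POmega F ⇑Q)) (hx : Cfsg.IsFieldAutClassPOmega ⇑Q x) {r : ℕ}
    (hr : r.Prime) (hxr : orderOf x = r)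
    {F₀ : Type*} [Field F₀] [Fintype F₀] (hF₀ : Fintype.card F₀ = p ^ (f' / r))
    (Q₀ : QuadraticForm F₀ (ι → F₀)) (hQ₀nd : (QuadraticMap.polarBilin Q₀).Nondegenerate)
    {e₀ f₀ : Fin k → ι → F₀} (hfam₀ : HypFam Q₀ k e₀ f₀)
    (hcompat : ∀ (j : F₀ →+* F) w, j (Q₀ w) = Q (jv j w)) :
    r ∣ f' ∧ Nonempty (↥((Phi ⇑Q).range ⊓ Subgroup.centralizer {x}) ≃* ↥(Phi ⇑Q₀).range) ∧
    (Odd r → Cfsg.splitClassCount (Phi ⇑Q).range (Cfsg.Inn (Cfsg.POmega F ⇑Q)) x = 1) ∧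
    (r = 2 → Cfsg.splitClassCount (Phi ⇑Q).range (Cfsg.Inn (Cfsg.POmega F ⇑Q)) x = 2) := by
  classical
  have hn : finrank F (ι → F) = 2 * m + 1 := by
    rw [Module.finrank_fintype_fun_eq_card, hcard]
  have hcardF : Fintype.card F ≠ 2 ∨ finrank F (ι → F) ≠ 4 := Or.inr (by rw [hn]; omega)
  have hn5 : 5 ≤ finrank F (ι → F) := by rw [hn]; omega
  have hn2 : (2 : F) = 0 → 7 ≤ finrank F (ι → F) := fun h => absurd h h2
  obtain ⟨px, hpx, hσ⟩ := field_class_pair Q hQ hfam hk hcardF hn5 hn2 hAut hinv x hx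
  have hxr' : (Psi ⇑Q px) ^ r = 1 := by rw [← hpx, ← hxr]; exact pow_orderOf_eq_one x
  obtain ⟨hord, -⟩ := order_facts Q hQ hfam hk hcardF hn5 hn2 px r hr hxr' hσ
  obtain ⟨t, ht⟩ := conj_to_field Q hQ hfam hk hcardF hn5 hn2 px r hr hxr' hσ
    (hinv px.1.right) (hcls px.1.right)
  set σ : F ≃+* F := px.1.right with hσdef
  clear_value σ
  obtain ⟨F₁, hmem, hrank⟩ := Cfsg.Agent.Lib.Helper5.AutPSLn.exists_fixed_subfield σ
  rw [hord] at hrank
  obtain ⟨hdvd, hcardF₁⟩ := Cfsg.Agent.Lib.Helper5.AutPSLn.card_fixed_subfield hF hr.pos F₁ hrank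
  let instF₁ : Fintype F₁ := Fintype.ofFinite F₁
  have hcc : Fintype.card F₀ = Fintype.card F₁ := by
    rw [hF₀, ← hcardF₁, Nat.card_eq_fintype_card]
  let e₁ : F₀ ≃+* F₁ := FiniteField.ringEquivOfCardEq (K := F₀) (K' := F₁) hcc
  let j : F₀ →+* F := (F₁.subtype : F₁ →+* F).comp (e₁ : F₀ →+* F₁)
  have hj : ∀ a : F, σ a = a ↔ a ∈ Set.range j := by
    intro a
    rw [← hmem]
    constructor
    · intro h
      exact ⟨e₁.symm ⟨a, h⟩, by simp [j]⟩
    · rintro ⟨y, rfl⟩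
      exact (e₁ y).2
  have hQ₀ := hcompat j
  have h2₀ : (2 : F₀) ≠ 0 := two_ne_zero_of_map j h2
  have hker := Phi_eq_one_iff Q hQ hfam hk hcardF hn5 hn2
  have hn₀ : finrank F₀ (ι → F₀) = 2 * m + 1 := by
    rw [Module.finrank_fintype_fun_eq_card, hcard]
  have hker₀ := Phi_eq_one_iff Q₀ hQ₀nd hfam₀ hk (Or.inr (by rw [hn₀]; omega))
    (by rw [hn₀]; omega) (fun h => absurd h h2₀)
  have hx' : x = Phi ⇑Q t * phiF Q σ (hinv σ) * (Phi ⇑Q t)⁻¹ := by rw [hpx, ht]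
  have hnorm := range_Phi_normal ⇑Q hAut
  have hne₀ : ∃ w, Q₀ w ≠ 0 := odd_hne Q₀ h2₀ hQ₀nd hcard (by omega)
  have hcount : Cfsg.splitClassCount (Phi ⇑Q).range (Cfsg.Inn (Cfsg.POmega F ⇑Q)) x =
      (innPre ⇑Q ⊔ (Subgroup.centralizer {phiF Q σ (hinv σ)}).comap (Phi ⇑Q)).index := by
    rw [hx', Cfsg.Agent.Lib.Helper5.SplitClass.splitClassCount_conj hnorm (Cfsg.innNormal _)
      (Phi ⇑Q t) _, inn_eq_map_innPre]
    exact Cfsg.Agent.Lib.Helper45.AutPSL.splitClassCount_eq_index (Phi ⇑Q) (innPre ⇑Q) _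
  refine ⟨hdvd, ?_, ?_, ?_⟩
  · obtain ⟨E⟩ := cent_equiv j Q Q₀ hQ₀ σ hj (hinv σ) hker hker₀ ⊤ ⊤
      (fun _ => Subgroup.mem_top _) (fun _ => by simp) hne₀ r hord hr.pos
    have E2 := Cfsg.Agent.Lib.Helper5.SplitClass.centralizerConjEquiv hnorm (Phi ⇑Q t)
      (phiF Q σ (hinv σ))
    rw [← hx'] at E2
    rw [← MonoidHom.range_eq_map, ← MonoidHom.range_eq_map] at E
    exact ⟨E2.symm.trans E⟩
  · intro hrodd
    rw [hcount]
    have hσr : σ ^ r = 1 := by rw [← hord]; exact pow_orderOf_eq_one σ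
    obtain ⟨a, haF₁, hansq⟩ := Cfsg.Agent.Lib.Helper45.SpAut.exists_fixed_nonsquare
      (ringChar_ne_two_of_two_ne_zero h2) σ hσr hrodd F₁ hmem
    set α₀ : F₀ := e₁.symm ⟨(a : F), haF₁⟩ with hα₀
    have hjα : j α₀ = a := by simp [j, α₀]
    have h₀ := isGram_gramOf h2₀ Q₀
    have hdet₀ := det_gramOf Q₀ hQ₀nd
    obtain ⟨u₀, hu₀⟩ := h₀.universal hdet₀ (by rw [hcard]; omega) 1
    obtain ⟨v₀, hv₀⟩ := h₀.universal hdet₀ (by rw [hcard]; omega) α₀
    have hv' : ¬ IsSquare (j (Q₀ v₀)) := by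
      rw [hv₀, hjα]
      rintro ⟨b, hb⟩
      apply hansq
      have hb0 : b ≠ 0 := by
        rintro rfl
        rw [mul_zero] at hb
        exact a.ne_zero hb
      exact ⟨Units.mk0 b hb0, Units.ext hb⟩
    obtain ⟨k₁, hk₁det, hk₁Ω, hk₁gm⟩ := rational_rot j Q Q₀ hQ₀ h2 hQ σ hj u₀ v₀ hu₀ hv'
    have hk₁C : isoGO ⇑Q k₁ ∈
        (Subgroup.centralizer {phiF Q σ (hinv σ)}).comap (Phi ⇑Q) := by
      rw [Subgroup.mem_comap, Subgroup.mem_centralizer_iff]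
      intro z hz
      rw [Set.mem_singleton_iff] at hz
      subst hz
      symm
      rw [comm_iff Q σ (hinv σ) hker]
      exact ⟨1, by rw [map_one, one_mul, hk₁gm]⟩
    rw [sup_eq_top_odd Q h2 hQ hcard hker (by omega) _ k₁ hk₁det hk₁Ω hk₁C, Subgroup.index_top]
  · intro hr2
    rw [hcount]
    have hsq : ∀ a₀ : F₀, IsSquare (j a₀) := by
      intro a₀
      by_cases ha0 : a₀ = 0
      · rw [ha0, map_zero]
        exact ⟨0, by simp⟩
      · have hja0 : j a₀ ≠ 0 := fun h => ha0 ((map_eq_zero j).1 h)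
        have hmemF₁ : ((Units.mk0 (j a₀) hja0 : Fˣ) : F) ∈ F₁ := (e₁ a₀).2
        obtain ⟨b, hb⟩ := Cfsg.Agent.Lib.Helper45.SpAut.isSquare_of_fixed_two
          (ringChar_ne_two_of_two_ne_zero h2) F₁ (by rw [hrank, hr2])
          (Units.mk0 (j a₀) hja0) hmemF₁
        refine ⟨(b : F), ?_⟩
        have := congrArg Units.val hb
        simpa using this
    have hle : (Subgroup.centralizer {phiF Q σ (hinv σ)}).comap (Phi ⇑Q) ≤ innPre ⇑Q := by
      intro g hg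
      rw [Subgroup.mem_comap, Subgroup.mem_centralizer_iff] at hg
      have hcomm := (hg _ rfl).symm
      obtain ⟨e', g₀, hg₀⟩ := exists_rational_of_comm j Q Q₀ hQ₀ σ hj (hinv σ) hker g hcomm
        hne₀ r hord hr.pos
      have h1 := mapGO_mem_innPre j Q Q₀ hQ₀ h2 hQ hQ₀nd hcard (by omega) hker hsq g₀
      rw [hg₀] at h1
      have h3 : scO Q e' ∈ innPre ⇑Q := by
        have : scO Q e' = scalarGO (isGram_gramOf h2 Q) e' := by
          apply Subtype.ext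
          apply Units.ext
          rw [scalarGO_val]
          exact coe_scalar_eq_smul e'
        rw [this]
        exact scalar_mem_innPre_odd Q h2 hQ hcard hker (by omega) e'
      exact (Subgroup.mul_mem_cancel_left _ h3).1 h1
    rw [sup_eq_left.2 hle]
    exact index_innPre_odd Q h2 hQ hcard hker (by omega)

/-- the statement on field automorphisms of prime order of `Ω_{2m+1}(F)`, given the
automorphism theorem -/
theorem odd_field_main {F : Type*} [Field F] [Fintype F] {p f : ℕ} [Fact p.Prime]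
    (hF : Fintype.card F = p ^ f) (hf : 1 ≤ f) (hodd : Odd (Fintype.card F)) {m : ℕ} (hm : 3 ≤ m)
    (hAut : ∀ α : MulAut (Cfsg.POmega F (Cfsg.quadFormOdd m F)),
      ∃ (g : GL (Unit ⊕ (Fin m ⊕ Fin m)) F) (σ : F ≃+* F),
        Cfsg.IsSemisimilarityPair (Cfsg.quadFormOdd m F) g σ ∧
        Cfsg.IsInducedBySemilinearPOmega (Cfsg.quadFormOdd m F) g σ α)
    (x : MulAut (Cfsg.POmega F (Cfsg.quadFormOdd m F)))
    (hx : Cfsg.IsFieldAutClassPOmega (Cfsg.quadFormOdd m F) x) {r : ℕ} (hr : r.Prime)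
    (hxr : orderOf x = r) (F₀ : Type*) [Field F₀] [Fintype F₀]
    (hF₀ : Fintype.card F₀ = p ^ (f / r)) :
    r ∣ f ∧ Nonempty (↥(Cfsg.inndiagPOmegaOdd m F ⊓ Subgroup.centralizer {x}) ≃*
      ↥(Cfsg.inndiagPOmegaOdd m F₀)) ∧
    (Odd r → Cfsg.splitClassCount (Cfsg.inndiagPOmegaOdd m F)
      (Cfsg.Inn (Cfsg.POmega F (Cfsg.quadFormOdd m F))) x = 1) ∧
    (r = 2 → Cfsg.splitClassCount (Cfsg.inndiagPOmegaOdd m F)
      (Cfsg.Inn (Cfsg.POmega F (Cfsg.quadFormOdd m F))) x = 2) := by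
  have h2 := two_ne_zero_of_odd hodd
  rw [inndiagOdd_eq, inndiagOdd_eq]
  have key : ∀ (Qf : (Unit ⊕ (Fin m ⊕ Fin m) → F) → F)
      (Qf₀ : (Unit ⊕ (Fin m ⊕ Fin m) → F₀) → F₀), Qf = ⇑(oddForm m F) → Qf₀ = ⇑(oddForm m F₀) →
      (∀ α : MulAut (Cfsg.POmega F Qf),
        ∃ (g : GL (Unit ⊕ (Fin m ⊕ Fin m)) F) (σ : F ≃+* F),
          Cfsg.IsSemisimilarityPair Qf g σ ∧ Cfsg.IsInducedBySemilinearPOmega Qf g σ α) →
      ∀ (x : MulAut (Cfsg.POmega F Qf)), Cfsg.IsFieldAutClassPOmega Qf x → orderOf x = r →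
        (r ∣ f ∧ Nonempty (↥((Phi Qf).range ⊓ Subgroup.centralizer {x}) ≃* ↥(Phi Qf₀).range) ∧
          (Odd r → Cfsg.splitClassCount (Phi Qf).range (Cfsg.Inn (Cfsg.POmega F Qf)) x = 1) ∧
          (r = 2 → Cfsg.splitClassCount (Phi Qf).range (Cfsg.Inn (Cfsg.POmega F Qf)) x = 2)) := by
    intro Qf Qf₀ hQf hQf₀
    subst hQf hQf₀
    intro hAut x hx hxr
    have hcard : Fintype.card (Unit ⊕ (Fin m ⊕ Fin m)) = 2 * m + 1 := by
      simp only [Fintype.card_sum, Fintype.card_fin, Fintype.card_unit]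
      omega
    have h2₀ : (2 : F₀) ≠ 0 := by
      have hp : Odd p := by
        rcases Nat.even_or_odd p with h | h
        · exfalso
          have h3 : Even (p ^ f) := Nat.even_pow.2 ⟨h, by omega⟩
          rw [← hF] at h3
          exact (Nat.not_even_iff_odd.2 hodd) h3
        · exact h
      have h4 : Odd (Fintype.card F₀) := by
        rw [hF₀]
        exact hp.pow
      exact two_ne_zero_of_odd h4
    exact odd_dim_main (oddForm m F) h2 (odd_nondeg m h2) (odd_hypFam' m F) hm hcard hm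
      (autSemi_of_raw _ hAut) (fun σ v => odd_inv m σ v) (fun σ => odd_hcls m h2 σ) hF x hx hr hxr
      hF₀ (oddForm m F₀) (odd_nondeg m h2₀) (odd_hypFam' m F₀)
      (fun j w => by
        have h := quadFormOdd_map j m w
        rw [oddForm_coe, oddForm_coe] at h
        exact h)
  exact key _ _ (oddForm_coe m F) (oddForm_coe m F₀) hAut x hx hxr

end Cfsg.Agent.Lib.Helper37.OrthField
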