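import Mathlib
import Cfsg.Agent.Lib.Helper37.OrthMinusSplit
import Cfsg.Agent.Lib.Helper37.OrthOdd3
import Cfsg.Agent.Lib.Helper37.OrthSum

set_option autoImplicit false
set_option linter.unusedSectionVars false
set_option linter.unusedVariables false
set_option maxHeartbeats 800000

/-!
# Field automorphisms of prime order of `PΩ⁻`: the standard case
-/

namespace Cfsg.Agent.Lib.Helper37.OrthField

open Matrix Module QuadraticMap
open Cfsg.Agent.Lib.Helper37 Cfsg.Agent.Lib.Helper43 Cfsg.Agent.Lib.Helper8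
open Cfsg.Agent.Lib.Helper37.ParGen Cfsg.Agent.Lib.Helper14

universe u v

section general

variable {ι : Type} [Fintype ι] [DecidableEq ι] {F : Type u} [Field F] [Fintype F]
  (Q : QuadraticForm F (ι → F))

/-- a similarity with square multiplier is a scalar times an isometry -/
theorem sq_decomp (g : ↥(Cfsg.Geo.quadSimilarityGroup (F := F) ⇑Q)) (c : F)
    (hc : (simMult ⇑Q g : F) = c * c) :
    ∃ (cu : Fˣ) (k : ↥(Cfsg.isometryGroup F ⇑Q)), g = scO Q cu * isoGO ⇑Q k := by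
  have hc0 : c ≠ 0 := by
    rintro rfl
    rw [mul_zero] at hc
    exact (simMult ⇑Q g).ne_zero hc
  set cu : Fˣ := Units.mk0 c hc0 with hcu
  set k' : ↥(Cfsg.Geo.quadSimilarityGroup (F := F) ⇑Q) := scO Q cu⁻¹ * g with hk'
  have hk'iso : k'.1 ∈ Cfsg.isometryGroup F ⇑Q := by
    rw [mem_isometryGroup_iff']
    intro v
    show Q (((Matrix.GeneralLinearGroup.scalar ι cu⁻¹ * g.1 : GL ι F) : Matrix ι ι F) *ᵥ v) = Q v
    rw [Units.val_mul, ← Matrix.mulVec_mulVec, coe_scalar_eq_smul, Matrix.smul_mulVec,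
      Matrix.one_mulVec, QuadraticMap.map_smul, simMult_spec ⇑Q g v, hc, smul_eq_mul,
      Units.val_inv_eq_inv_val, hcu, Units.val_mk0]
    field_simp
  refine ⟨cu, ⟨k'.1, hk'iso⟩, ?_⟩
  apply Subtype.ext
  show g.1 = Matrix.GeneralLinearGroup.scalar ι cu * (Matrix.GeneralLinearGroup.scalar ι cu⁻¹ * g.1)
  rw [← mul_assoc, ← map_mul, mul_inv_cancel, map_one, one_mul]

variable (hker : ∀ g : ↥(Cfsg.Geo.quadSimilarityGroup (F := F) ⇑Q),
    Phi ⇑Q g = 1 ↔ ∃ c : F, ((g.1 : GL ι F) : Matrix ι ι F) = c • (1 : Matrix ι ι F))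

include hker in
theorem Phi_scO (c : Fˣ) : Phi ⇑Q (scO Q c) = 1 := by
  rw [hker]
  exact ⟨c, coe_scalar_eq_smul c⟩

include hker in
theorem mem_innPre_of_omega (c : Fˣ) (k : ↥(Cfsg.isometryGroup F ⇑Q))
    (hk : k ∈ Cfsg.Omega F ⇑Q) : scO Q c * isoGO ⇑Q k ∈ innPre ⇑Q := by
  classical
  unfold innPre
  rw [Subgroup.mem_comap, map_mul, Phi_scO Q hker, one_mul, mem_inn_iff]
  exact ⟨k, hk, rfl⟩

include hker in
theorem omega_of_mem_innPre (h2 : (2 : F) = 0) (hne : ∃ v, Q v ≠ 0) (c : Fˣ)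
    (k : ↥(Cfsg.isometryGroup F ⇑Q)) (h : scO Q c * isoGO ⇑Q k ∈ innPre ⇑Q) :
    k ∈ Cfsg.Omega F ⇑Q := by
  classical
  unfold innPre at h
  rw [Subgroup.mem_comap, map_mul, Phi_scO Q hker, one_mul, mem_inn_iff] at h
  obtain ⟨s, hs, hks⟩ := h
  have h1 : Phi ⇑Q (isoGO ⇑Q (k * s⁻¹)) = 1 := by
    rw [map_mul, map_mul, map_inv, map_inv, hks, mul_inv_cancel]
  obtain ⟨e, he⟩ := (hker _).1 h1
  obtain ⟨v, hv⟩ := hne
  have h3 := (mem_isometryGroup_iff' ⇑Q (k * s⁻¹).1).1 (k * s⁻¹).2 v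
  have he' : (((k * s⁻¹ : ↥(Cfsg.isometryGroup F ⇑Q)) : GL ι F) : Matrix ι ι F) =
      e • (1 : Matrix ι ι F) := he
  rw [he', Matrix.smul_mulVec, Matrix.one_mulVec, QuadraticMap.map_smul, smul_eq_mul] at h3
  have h4 : e * e = 1 := by
    have := mul_right_cancel₀ hv (h3.trans (one_mul _).symm)
    exact this
  have h5 : e = 1 := by
    have h6 : (e - 1) * (e - 1) = 0 := by
      have : (e - 1) * (e - 1) = e * e - 2 * e + 1 := by ring
      rw [this, h4, h2]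
      ring_nf
      rw [show (2 : F) = 0 from h2]
    have := mul_self_eq_zero.1 h6
    exact sub_eq_zero.1 this
  have h7 : k * s⁻¹ = 1 := by
    apply Subtype.ext
    apply Units.ext
    rw [he', h5, one_smul]
    rfl
  have : k = s := by
    rw [mul_inv_eq_one] at h7
    exact h7
  rw [this]
  exact hs

section chartwo

variable [Nonempty ι] (hQ : (QuadraticMap.polarBilin Q).Nondegenerate)
  (hcard : Fintype.card F ≠ 2 ∨ finrank F (ι → F) ≠ 4) (hne : ∃ v, Q v ≠ 0) (h2 : (2 : F) = 0)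

include hker hQ hcard hne h2 in
theorem innPre_mul_refl_iff (u : ι → F) (hu : Q u ≠ 0)
    (t : ↥(Cfsg.Geo.quadSimilarityGroup (F := F) ⇑Q)) :
    t * ⟨(reflElt Q u hu).1, isom_le_sim ⇑Q (reflElt Q u hu).2⟩ ∈ innPre ⇑Q ↔
      t ∉ innPre ⇑Q := by
  have hchar : ringChar F = 2 := by
    haveI : CharP F 2 := CharTwo.of_one_ne_zero_of_two_eq_zero one_ne_zero h2
    exact ringChar.eq F 2
  obtain ⟨c, hc⟩ := FiniteField.isSquare_of_char_two hchar (simMult ⇑Q t : F)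
  obtain ⟨cu, k, rfl⟩ := sq_decomp Q t c hc
  have e : scO Q cu * isoGO ⇑Q k * ⟨(reflElt Q u hu).1, isom_le_sim ⇑Q (reflElt Q u hu).2⟩ =
      scO Q cu * isoGO ⇑Q (k * reflElt Q u hu) := by
    rw [map_mul, mul_assoc]
    rfl
  rw [e]
  have hA : ∀ k', scO Q cu * isoGO ⇑Q k' ∈ innPre ⇑Q ↔ dicksonPar Q k' = 0 := fun k' =>
    ⟨fun h => (mem_omega_iff_dicksonPar h2 Q hQ hcard hne k').1
        (omega_of_mem_innPre Q hker h2 hne cu k' h),
      fun h => mem_innPre_of_omega Q hker cu k'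
        ((mem_omega_iff_dicksonPar h2 Q hQ hcard hne k').2 h)⟩
  rw [hA, hA, dicksonPar_mul_refl Q hQ k (reflElt Q u hu) (reflElt_mem_reflSet Q u hu)]
  generalize dicksonPar Q k = x
  revert x
  decide

end chartwo

end general

section small

variable {F : Type u} [Field F]

theorem isSquare_mul_of_nonsquare [Fintype F] (x y : F) (hx : ¬ IsSquare x)
    (hy : ¬ IsSquare y) : IsSquare (x * y) := by
  classical
  have hx0 : x ≠ 0 := by
    rintro rfl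
    exact hx ⟨0, by simp⟩
  have hy0 : y ≠ 0 := by
    rintro rfl
    exact hy ⟨0, by simp⟩
  rw [← quadraticChar_one_iff_isSquare (mul_ne_zero hx0 hy0), map_mul,
    quadraticChar_neg_one_iff_not_isSquare.2 hx, quadraticChar_neg_one_iff_not_isSquare.2 hy]
  norm_num

/-- a non-square of the fixed field of an automorphism of odd order stays a non-square -/
theorem nonsquare_of_odd_order {F₀ : Type v} [Field F₀] (h2 : (2 : F) ≠ 0) (σ : F ≃+* F) {r : ℕ}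
    (hσr : σ ^ r = 1) (hodd : Odd r) (j : F₀ →+* F)
    (hj : ∀ a, σ a = a ↔ a ∈ Set.range j) (ν₀ : F₀) (hν : ¬ IsSquare ν₀) :
    ¬ IsSquare (j ν₀) := by
  rintro ⟨s, hs⟩
  have h1 : σ s * σ s = s * s := by
    rw [← map_mul, ← hs]
    exact (hj _).2 ⟨ν₀, rfl⟩
  rcases mul_self_eq_mul_self_iff.1 h1 with h | h
  · obtain ⟨s₀, rfl⟩ := (hj s).1 h
    apply hν
    exact ⟨s₀, j.injective (by rw [map_mul]; exact hs)⟩
  · have h3 : ∀ n : ℕ, (σ ^ n) s = (-1) ^ n * s := by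
      intro n
      induction n with
      | zero => simp
      | succ n ih =>
        rw [pow_succ', RingAut.mul_apply, ih, map_mul, map_pow, map_neg, map_one, h, pow_succ]
        ring
    have h4 := h3 r
    rw [hσr, hodd.neg_one_pow] at h4
    have h5 : s = 0 := by
      have h6 : (2 : F) * s = 0 := by
        have : (1 : F ≃+* F) s = s := rfl
        rw [this] at h4
        linear_combination h4
      rcases mul_eq_zero.1 h6 with h7 | h7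
      · exact absurd h7 h2
      · exact h7
    apply hν
    rw [h5, mul_zero] at hs
    have : ν₀ = 0 := (map_eq_zero j).1 hs
    rw [this]
    exact ⟨0, by simp⟩

end small

section minusstd

variable {m : ℕ} {F : Type u} [Field F] [Fintype F]

/-- a similarity of the minus type form (as a bundled form) with given norm as multiplier -/
noncomputable def minusSim' (m : ℕ) (a b w1 w2 : F)
    (hw : w1 ^ 2 + a * w1 * w2 + b * w2 ^ 2 ≠ 0) :
    ↥(Cfsg.Geo.quadSimilarityGroup (F := F) ⇑(minusForm m F a b)) :=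
  ⟨Matrix.GeneralLinearGroup.mkOfDetNeZero (minusSimMat m a b w1 w2) (by
      rw [minusSimMat_det]
      exact mul_ne_zero (pow_ne_zero _ hw) hw),
    Units.mk0 _ hw, fun v => by
      rw [← minusForm_coe]
      exact minusSimMat_Q m a b w1 w2 v⟩

theorem minus_hne' (a b : F) : ∃ v, minusForm m F a b v ≠ 0 :=
  ⟨Pi.single (Sum.inr 0) 1, by rw [← minusForm_coe, minus_Q_single]; exact one_ne_zero⟩

theorem simMult_minusSim' (a b w1 w2 : F) (hw : w1 ^ 2 + a * w1 * w2 + b * w2 ^ 2 ≠ 0) :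
    simMult ⇑(minusForm m F a b) (minusSim' m a b w1 w2 hw) = Units.mk0 _ hw := by
  apply simMult_unique (minus_hne' a b)
  intro v
  have h := minusSimMat_Q m a b w1 w2 v
  rw [minusForm_coe] at h
  exact h

variable (a b : F)
  (hab : ∀ z₁ z₂ : F, z₁ ^ 2 + a * z₁ * z₂ + b * z₂ ^ 2 = 0 → z₁ = 0 ∧ z₂ = 0)
  {K : Type u} [Field K] [Fintype K] [Algebra F K]
  (θ : K) (hθ : θ ^ 2 + algebraMap F K a * θ + algebraMap F K b = 0) (hK2 : finrank F K = 2)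
  (hnd : (polarBilin (minusForm m F a b)).Nondegenerate)
  (hker : ∀ g : ↥(Cfsg.Geo.quadSimilarityGroup (F := F) ⇑(minusForm m F a b)),
      Phi ⇑(minusForm m F a b) g = 1 ↔ ∃ c : F, ((g.1 : GL ((Fin m ⊕ Fin m) ⊕ Fin 2) F) :
        Matrix ((Fin m ⊕ Fin m) ⊕ Fin 2) ((Fin m ⊕ Fin m) ⊕ Fin 2) F) =
          c • (1 : Matrix ((Fin m ⊕ Fin m) ⊕ Fin 2) ((Fin m ⊕ Fin m) ⊕ Fin 2) F))

include hker in
theorem simM_eq_innPre_char_two (hm : 2 ≤ m) (h2 : (2 : F) = 0) :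
    simM a b θ hθ hnd = innPre ⇑(minusForm m F a b) := by
  haveI : Nonempty ((Fin m ⊕ Fin m) ⊕ Fin 2) := ⟨Sum.inr 0⟩
  have hn : finrank F ((Fin m ⊕ Fin m) ⊕ Fin 2 → F) = 2 * (m + 1) := minus_hV
  have hcard : Fintype.card F ≠ 2 ∨ finrank F ((Fin m ⊕ Fin m) ⊕ Fin 2 → F) ≠ 4 :=
    Or.inr (by rw [hn]; omega)
  refine sim_eq_of_char_two h2 (minusForm m F a b) hnd hcard (minus_hne' a b) _ _
    (simM_scalar a b θ hθ hnd) (fun c => ?_) (simM_mul_refl_iff a b θ hθ hnd)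
    (innPre_mul_refl_iff (minusForm m F a b) hker hnd hcard (minus_hne' a b) h2)
  unfold innPre
  rw [Subgroup.mem_comap, Phi_scO _ hker]
  exact Subgroup.one_mem _

end minusstd

section rationalodd

variable {m : ℕ} {F : Type u} [Field F] [Fintype F] {F₀ : Type v} [Field F₀] [Fintype F₀]
  (j : F₀ →+* F) (a₀ b₀ : F₀)
  (hab₀ : ∀ z₁ z₂ : F₀, z₁ ^ 2 + a₀ * z₁ * z₂ + b₀ * z₂ ^ 2 = 0 → z₁ = 0 ∧ z₂ = 0)
  (hab : ∀ z₁ z₂ : F, z₁ ^ 2 + j a₀ * z₁ * z₂ + j b₀ * z₂ ^ 2 = 0 → z₁ = 0 ∧ z₂ = 0)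
  {K : Type u} [Field K] [Fintype K] [Algebra F K]
  (θ : K) (hθ : θ ^ 2 + algebraMap F K (j a₀) * θ + algebraMap F K (j b₀) = 0)
  (hK2 : finrank F K = 2)
  (hnd : (polarBilin (minusForm m F (j a₀) (j b₀))).Nondegenerate)
  (hker : ∀ g : ↥(Cfsg.Geo.quadSimilarityGroup (F := F) ⇑(minusForm m F (j a₀) (j b₀))),
      Phi ⇑(minusForm m F (j a₀) (j b₀)) g = 1 ↔
        ∃ c : F, ((g.1 : GL ((Fin m ⊕ Fin m) ⊕ Fin 2) F) :
        Matrix ((Fin m ⊕ Fin m) ⊕ Fin 2) ((Fin m ⊕ Fin m) ⊕ Fin 2) F) =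
          c • (1 : Matrix ((Fin m ⊕ Fin m) ⊕ Fin 2) ((Fin m ⊕ Fin m) ⊕ Fin 2) F))
  (σ : F ≃+* F) (hj : ∀ a, σ a = a ↔ a ∈ Set.range j)

include hab₀ hab hK2 hker hj in
theorem minus_decomp_odd (h2 : (2 : F) ≠ 0) {r : ℕ} (hσr : σ ^ r = 1) (hodd : Odd r)
    (d : ↥(Cfsg.Geo.quadSimilarityGroup (F := F) ⇑(minusForm m F (j a₀) (j b₀))))
    (hd : d ∈ simM (j a₀) (j b₀) θ hθ hnd) :
    ∃ n ∈ innPre ⇑(minusForm m F (j a₀) (j b₀)),
      ∃ c ∈ simM (j a₀) (j b₀) θ hθ hnd, gm σ c.1 = c.1 ∧ d = n * c := by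
  classical
  haveI : Nonempty ((Fin m ⊕ Fin m) ⊕ Fin 2) := ⟨Sum.inr 0⟩
  have h2₀ : (2 : F₀) ≠ 0 := two_ne_zero_of_map j h2
  have hoddF : Odd (Fintype.card F) := by
    rw [Nat.odd_iff]
    exact FiniteField.odd_card_of_char_ne_two (ringChar_ne_two_of_two_ne_zero h2)
  have hne := minus_hne' (m := m) (j a₀) (j b₀)
  have hne₀ := minus_hne' (m := m) a₀ b₀
  have hnd₀ : (polarBilin (minusForm m F₀ a₀ b₀)).Nondegenerate :=
    (minus_family m F₀ a₀ b₀).nondegenerate (minusForm_zero_nondegenerate F₀ a₀ b₀ hab₀)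
  have hQ₀ := minus_hQ₀' (m := m) j a₀ b₀
  have hdetiff := mem_simM_iff_det (m := m) (j a₀) (j b₀) θ hθ hnd hoddF hK2 hab
  -- a non-square norm
  obtain ⟨w1, w2, hνsq⟩ := exists_nonsquare_norm h2₀ a₀ b₀ hab₀
  have hν0 : w1 ^ 2 + a₀ * w1 * w2 + b₀ * w2 ^ 2 ≠ 0 := by
    intro h0
    apply hνsq
    rw [h0]
    exact ⟨0, by simp⟩
  have hνF : ¬ IsSquare (j (w1 ^ 2 + a₀ * w1 * w2 + b₀ * w2 ^ 2)) :=
    nonsquare_of_odd_order h2 σ hσr hodd j hj _ hνsq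
  set c₁ := mapGO j (minusForm m F (j a₀) (j b₀)) (minusForm m F₀ a₀ b₀) hQ₀
    (minusSim' m a₀ b₀ w1 w2 hν0) with hc₁
  have hμ₁ : (simMult ⇑(minusForm m F (j a₀) (j b₀)) c₁ : F) =
      j (w1 ^ 2 + a₀ * w1 * w2 + b₀ * w2 ^ 2) := by
    rw [hc₁, simMult_mapGO j _ _ hQ₀ hne₀, simMult_minusSim', Units.coe_map, Units.val_mk0]
    rfl
  have hc₁D : c₁ ∈ simM (j a₀) (j b₀) θ hθ hnd := by
    rw [hdetiff, hμ₁, hc₁, mapGO_val, mapGL_val, ← RingHom.mapMatrix_apply, ← RingHom.map_det,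
      ← map_pow]
    congr 1
    show (minusSimMat m a₀ b₀ w1 w2).det = _
    rw [minusSimMat_det]
    ring
  have hc₁gm : gm σ c₁.1 = c₁.1 := by
    rw [hc₁, mapGO_val]
    exact gm_mapGL j σ hj _
  -- make the multiplier a square
  obtain ⟨c₂, hc₂D, hc₂gm, s, hs⟩ : ∃ c₂ ∈ simM (j a₀) (j b₀) θ hθ hnd, gm σ c₂.1 = c₂.1 ∧
      ∃ s : F, (simMult ⇑(minusForm m F (j a₀) (j b₀)) (d * c₂) : F) = s * s := by
    by_cases hsq : IsSquare (simMult ⇑(minusForm m F (j a₀) (j b₀)) d : F)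
    · obtain ⟨s, hs⟩ := hsq
      exact ⟨1, Subgroup.one_mem _, map_one _, s, by rw [mul_one]; exact hs⟩
    · obtain ⟨s, hs⟩ := isSquare_mul_of_nonsquare _ _ hsq hνF
      refine ⟨c₁, hc₁D, hc₁gm, s, ?_⟩
      rw [← simMultHom_apply hne, map_mul, Units.val_mul, simMultHom_apply, simMultHom_apply,
        hμ₁]
      exact hs
  have hd'D : d * c₂ ∈ simM (j a₀) (j b₀) θ hθ hnd := Subgroup.mul_mem _ hd hc₂D
  obtain ⟨su, k, hd'⟩ := sq_decomp (minusForm m F (j a₀) (j b₀)) (d * c₂) s hs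
  have hkD : isoGO ⇑(minusForm m F (j a₀) (j b₀)) k ∈ simM (j a₀) (j b₀) θ hθ hnd := by
    have e : isoGO ⇑(minusForm m F (j a₀) (j b₀)) k =
        (scO (minusForm m F (j a₀) (j b₀)) su)⁻¹ * (d * c₂) := by
      rw [hd', inv_mul_cancel_left]
    rw [e]
    exact Subgroup.mul_mem _ (Subgroup.inv_mem _ (simM_scalar _ _ θ hθ hnd su)) hd'D
  have hkdet : (toMat ⇑(minusForm m F (j a₀) (j b₀)) k).det = 1 := by
    have := (hdetiff _).1 hkD
    rw [simMult_isoGO hne k, Units.val_one, one_pow] at this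
    exact this
  -- a rational rotation outside Ω
  have h₀ := isGram_gramOf h2₀ (minusForm m F₀ a₀ b₀)
  have hdet₀ := det_gramOf (minusForm m F₀ a₀ b₀) hnd₀
  obtain ⟨v₀, hv₀⟩ := h₀.universal hdet₀ (by rw [minus_hN]; omega)
    (w1 ^ 2 + a₀ * w1 * w2 + b₀ * w2 ^ 2)
  have hu₀ : minusForm m F₀ a₀ b₀ (Pi.single (Sum.inr 0) 1) = 1 := by
    rw [← minusForm_coe, minus_Q_single]
  obtain ⟨k₁, hk₁det, hk₁Ω, hk₁gm⟩ := rational_rot j (minusForm m F (j a₀) (j b₀))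
    (minusForm m F₀ a₀ b₀) hQ₀ h2 hnd σ hj _ v₀ hu₀ (by rw [hv₀]; exact hνF)
  have hk₁D : isoGO ⇑(minusForm m F (j a₀) (j b₀)) k₁ ∈ simM (j a₀) (j b₀) θ hθ hnd := by
    rw [hdetiff, simMult_isoGO hne k₁, Units.val_one, one_pow]
    exact hk₁det
  have h := isGram_gramOf h2 (minusForm m F (j a₀) (j b₀))
  have hdet := det_gramOf (minusForm m F (j a₀) (j b₀)) hnd
  obtain ⟨α, hα⟩ := FiniteField.exists_nonsquare (ringChar_ne_two_of_two_ne_zero h2) (F := F)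
  have hd2 : d = (d * c₂) * c₂⁻¹ := by rw [mul_inv_cancel_right]
  have hc₂inv : gm σ (c₂⁻¹).1 = (c₂⁻¹).1 := by
    rw [Subgroup.coe_inv, map_inv, hc₂gm]
  by_cases hkΩ : k ∈ Cfsg.Omega F ⇑(minusForm m F (j a₀) (j b₀))
  · refine ⟨d * c₂, ?_, c₂⁻¹, Subgroup.inv_mem _ hc₂D, hc₂inv, hd2⟩
    rw [hd']
    exact mem_innPre_of_omega _ hker su k hkΩ
  · have e1 : IsGram.signPair ⇑(minusForm m F (j a₀) (j b₀)) α k = (-1, -1) := by
      rcases h.signPair_of_det_one hdet α hα k hkdet with h1 | h1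
      · exfalso
        apply hkΩ
        rw [← h.ker_signPair hdet α hα, MonoidHom.mem_ker]
        exact h1
      · exact h1
    have e2 : IsGram.signPair ⇑(minusForm m F (j a₀) (j b₀)) α k₁ = (-1, -1) := by
      rcases h.signPair_of_det_one hdet α hα k₁ hk₁det with h1 | h1
      · exfalso
        apply hk₁Ω
        rw [← h.ker_signPair hdet α hα, MonoidHom.mem_ker]
        exact h1
      · exact h1
    have e3 : k * k₁⁻¹ ∈ Cfsg.Omega F ⇑(minusForm m F (j a₀) (j b₀)) := by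
      rw [← h.ker_signPair hdet α hα, MonoidHom.mem_ker, map_mul, map_inv, e1, e2]
      decide
    refine ⟨scO (minusForm m F (j a₀) (j b₀)) su *
        isoGO ⇑(minusForm m F (j a₀) (j b₀)) (k * k₁⁻¹),
      mem_innPre_of_omega _ hker su _ e3,
      isoGO ⇑(minusForm m F (j a₀) (j b₀)) k₁ * c₂⁻¹,
      Subgroup.mul_mem _ hk₁D (Subgroup.inv_mem _ hc₂D), ?_, ?_⟩
    · rw [Subgroup.coe_mul, map_mul, hk₁gm, hc₂inv]
    · rw [hd2, hd', map_mul, map_inv]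
      group

end rationalodd

section stdmain

variable {m : ℕ} {F : Type u} [Field F] [Fintype F]

/-- a prime order automorphism fixing the coefficients of an anisotropic binary form has odd
order -/
theorem odd_of_fixes (a' b' : F)
    (hab' : ∀ z₁ z₂ : F, z₁ ^ 2 + a' * z₁ * z₂ + b' * z₂ ^ 2 = 0 → z₁ = 0 ∧ z₂ = 0)
    (σ : F ≃+* F) (hσa : σ a' = a') (hσb : σ b' = b') {r : ℕ} (hr : r.Prime)
    (hσr : orderOf σ = r) : Odd r := by
  rcases hr.eq_two_or_odd' with h2 | h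
  · exfalso
    obtain ⟨F₁, hmem, hrank⟩ := Cfsg.Agent.Lib.Helper5.AutPSLn.exists_fixed_subfield σ
    rw [hσr, h2] at hrank
    letI : Fintype F₁ := Fintype.ofFinite F₁
    have hab₁ : ∀ z₁ z₂ : F₁, z₁ ^ 2 + (⟨a', (hmem a').2 hσa⟩ : F₁) * z₁ * z₂ +
        (⟨b', (hmem b').2 hσb⟩ : F₁) * z₂ ^ 2 = 0 → z₁ = 0 ∧ z₂ = 0 := by
      intro z₁ z₂ h
      have h1 := congrArg Subtype.val h
      have h3 := hab' z₁ z₂ (by simpa using h1)
      exact ⟨Subtype.ext h3.1, Subtype.ext h3.2⟩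
    obtain ⟨θ, hθ⟩ := exists_root_quad hrank (⟨a', (hmem a').2 hσa⟩ : F₁)
      (⟨b', (hmem b').2 hσb⟩ : F₁) hab₁
    have e1 : algebraMap F₁ F (⟨a', (hmem a').2 hσa⟩ : F₁) = a' := rfl
    have e2 : algebraMap F₁ F (⟨b', (hmem b').2 hσb⟩ : F₁) = b' := rfl
    rw [e1, e2] at hθ
    have := (hab' θ 1 (by rw [← hθ]; ring)).2
    exact one_ne_zero this
  · exact h

theorem rat_mem_cent {ι : Type} [Fintype ι] [DecidableEq ι] [Nonempty ι]
    (Q : QuadraticForm F (ι → F)) (σ : F ≃+* F) (hσQ : ∀ v, Q (vm σ v) = σ (Q v))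
    (hker : ∀ g : ↥(Cfsg.Geo.quadSimilarityGroup (F := F) ⇑Q),
      Phi ⇑Q g = 1 ↔ ∃ c : F, ((g.1 : GL ι F) : Matrix ι ι F) = c • (1 : Matrix ι ι F))
    (g : ↥(Cfsg.Geo.quadSimilarityGroup (F := F) ⇑Q)) (hg : gm σ g.1 = g.1) :
    Phi ⇑Q g ∈ Subgroup.centralizer {phiF Q σ hσQ} := by
  rw [Subgroup.mem_centralizer_iff]
  intro z hz
  rw [Set.mem_singleton_iff] at hz
  subst hz
  symm
  rw [comm_iff Q σ hσQ hker]
  exact ⟨1, by rw [map_one, one_mul, hg]⟩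

end stdmain

section stdmain2

variable {m : ℕ} {F : Type u} [Field F] [Fintype F] {F₀ : Type v} [Field F₀] [Fintype F₀]

/-- `Inndiag(PΩ⁻)` as the image of the class preserving similarities, as an isomorphism with
the group defined via the function form -/
theorem inndiag_minus_equiv (hm : 2 ≤ m) (a₀ b₀ : F₀)
    (hab₀ : ∀ z₁ z₂ : F₀, z₁ ^ 2 + a₀ * z₁ * z₂ + b₀ * z₂ ^ 2 = 0 → z₁ = 0 ∧ z₂ = 0)
    {K₀ : Type v} [Field K₀] [Fintype K₀] [Algebra F₀ K₀]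
    (θ₀ : K₀) (hθ₀ : θ₀ ^ 2 + algebraMap F₀ K₀ a₀ * θ₀ + algebraMap F₀ K₀ b₀ = 0)
    (hK₀2 : finrank F₀ K₀ = 2)
    (hnd₀ : (polarBilin (minusForm m F₀ a₀ b₀)).Nondegenerate) :
    Nonempty (↥((simM a₀ b₀ θ₀ hθ₀ hnd₀).map (Phi ⇑(minusForm m F₀ a₀ b₀))) ≃*
      ↥(Cfsg.inndiagPOmegaMinus m F₀ a₀ b₀)) := by
  have key : ∀ (Qf : ((Fin m ⊕ Fin m) ⊕ Fin 2 → F₀) → F₀), Qf = ⇑(minusForm m F₀ a₀ b₀) →
      Nonempty (↥((simM a₀ b₀ θ₀ hθ₀ hnd₀).map (Phi ⇑(minusForm m F₀ a₀ b₀))) ≃*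
        ↥(Cfsg.autSubgroupOf (fun β : Cfsg.POmega F₀ Qf ≃* Cfsg.POmega F₀ Qf =>
          ∃ g : GL ((Fin m ⊕ Fin m) ⊕ Fin 2) F₀,
            g ∈ Cfsg.Geo.quadSimilarityGroup (F := F₀) Qf ∧
            Cfsg.PreservesSingularClassesMinus m a₀ b₀
              (g : Matrix ((Fin m ⊕ Fin m) ⊕ Fin 2) ((Fin m ⊕ Fin m) ⊕ Fin 2) F₀) ∧
            Cfsg.IsInducedBySemilinearPOmega Qf g (RingEquiv.refl F₀) β))) := by
    intro Qf hQf
    subst hQf
    rw [inndiag_minus_eq_map a₀ b₀ hab₀ θ₀ hθ₀ hK₀2 hnd₀ hm]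
    exact ⟨MulEquiv.refl _⟩
  exact key _ (minusForm_coe m F₀ a₀ b₀)

theorem minus_std_main (hm : 3 ≤ m) (j : F₀ →+* F) (a₀ b₀ : F₀)
    (hab₀ : ∀ z₁ z₂ : F₀, z₁ ^ 2 + a₀ * z₁ * z₂ + b₀ * z₂ ^ 2 = 0 → z₁ = 0 ∧ z₂ = 0)
    (hab : ∀ z₁ z₂ : F, z₁ ^ 2 + j a₀ * z₁ * z₂ + j b₀ * z₂ ^ 2 = 0 → z₁ = 0 ∧ z₂ = 0)
    {K : Type u} [Field K] [Fintype K] [Algebra F K]
    (θ : K) (hθ : θ ^ 2 + algebraMap F K (j a₀) * θ + algebraMap F K (j b₀) = 0)
    (hK2 : finrank F K = 2)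
    (hnd : (polarBilin (minusForm m F (j a₀) (j b₀))).Nondegenerate)
    (σ : F ≃+* F) (hj : ∀ a, σ a = a ↔ a ∈ Set.range j) {r : ℕ} (hr : r.Prime)
    (hσr : orderOf σ = r) (hodd : Odd r)
    (hσQ : ∀ v, minusForm m F (j a₀) (j b₀) (vm σ v) = σ (minusForm m F (j a₀) (j b₀) v)) :
    Nonempty (↥((simM (j a₀) (j b₀) θ hθ hnd).map (Phi ⇑(minusForm m F (j a₀) (j b₀))) ⊓
        Subgroup.centralizer {phiF (minusForm m F (j a₀) (j b₀)) σ hσQ}) ≃*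
      ↥(Cfsg.inndiagPOmegaMinus m F₀ a₀ b₀)) ∧
    Cfsg.splitClassCount ((simM (j a₀) (j b₀) θ hθ hnd).map (Phi ⇑(minusForm m F (j a₀) (j b₀))))
      (Cfsg.Inn (Cfsg.POmega F ⇑(minusForm m F (j a₀) (j b₀))))
      (phiF (minusForm m F (j a₀) (j b₀)) σ hσQ) = 1 := by
  classical
  haveI : Nonempty ((Fin m ⊕ Fin m) ⊕ Fin 2) := ⟨Sum.inr 0⟩
  have hn : finrank F ((Fin m ⊕ Fin m) ⊕ Fin 2 → F) = 2 * (m + 1) := minus_hV
  have hn₀ : finrank F₀ ((Fin m ⊕ Fin m) ⊕ Fin 2 → F₀) = 2 * (m + 1) := minus_hV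
  have hnd₀ : (polarBilin (minusForm m F₀ a₀ b₀)).Nondegenerate :=
    (minus_family m F₀ a₀ b₀).nondegenerate (minusForm_zero_nondegenerate F₀ a₀ b₀ hab₀)
  have hker := Phi_eq_one_iff (minusForm m F (j a₀) (j b₀)) hnd (minus_hypFam37 m F (j a₀) (j b₀))
    hm (Or.inr (by rw [hn]; omega)) (by rw [hn]; omega) (fun _ => by rw [hn]; omega)
  have hker₀ := Phi_eq_one_iff (minusForm m F₀ a₀ b₀) hnd₀ (minus_hypFam37 m F₀ a₀ b₀)
    hm (Or.inr (by rw [hn₀]; omega)) (by rw [hn₀]; omega) (fun _ => by rw [hn₀]; omega)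
  have hσr' : σ ^ r = 1 := by rw [← hσr]; exact pow_orderOf_eq_one σ
  constructor
  · obtain ⟨K₀, _, _, θ₀, hK₀2, hθ₀⟩ := exists_quad_ext_root a₀ b₀ hab₀
    haveI : Module.Finite F₀ K₀ := Module.finite_of_finrank_pos (by rw [hK₀2]; norm_num)
    haveI : Finite K₀ := Module.finite_of_finite F₀
    haveI : Fintype K₀ := Fintype.ofFinite K₀
    obtain ⟨E⟩ := cent_equiv j (minusForm m F (j a₀) (j b₀)) (minusForm m F₀ a₀ b₀)
      (minus_hQ₀' j a₀ b₀) σ hj hσQ hker hker₀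
      (simM (j a₀) (j b₀) θ hθ hnd) (simM a₀ b₀ θ₀ hθ₀ hnd₀)
      (simM_scalar _ _ θ hθ hnd)
      (fun g₀ => simM_mapGO_iff j a₀ b₀ hab₀ hab θ₀ hθ₀ hK₀2 hnd₀ θ hθ hK2 hnd (by omega) g₀)
      (minus_hne' a₀ b₀) r hσr hr.pos
    obtain ⟨E'⟩ := inndiag_minus_equiv (by omega) a₀ b₀ hab₀ θ₀ hθ₀ hK₀2 hnd₀
    exact ⟨E.trans E'⟩
  · have hle := innPre_le_simM (j a₀) (j b₀) θ hθ hnd hker
    have hdecomp : ∀ d ∈ simM (j a₀) (j b₀) θ hθ hnd,
        ∃ n ∈ innPre ⇑(minusForm m F (j a₀) (j b₀)),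
          ∃ c ∈ simM (j a₀) (j b₀) θ hθ hnd, gm σ c.1 = c.1 ∧ d = n * c := by
      by_cases h2 : (2 : F) = 0
      · intro d hd
        refine ⟨d, ?_, 1, Subgroup.one_mem _, map_one _, (mul_one d).symm⟩
        rw [← simM_eq_innPre_char_two (j a₀) (j b₀) θ hθ hnd hker (by omega) h2]
        exact hd
      · intro d hd
        exact minus_decomp_odd j a₀ b₀ hab₀ hab θ hθ hK2 hnd hker σ hj h2 hσr' hodd d hd
    have hcount := Cfsg.Agent.Lib.Helper45.AutPSL.splitClassCount_eq_index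
      ((Phi ⇑(minusForm m F (j a₀) (j b₀))).comp (simM (j a₀) (j b₀) θ hθ hnd).subtype)
      ((innPre ⇑(minusForm m F (j a₀) (j b₀))).subgroupOf (simM (j a₀) (j b₀) θ hθ hnd))
      (phiF (minusForm m F (j a₀) (j b₀)) σ hσQ)
    have hrange : ((Phi ⇑(minusForm m F (j a₀) (j b₀))).comp
        (simM (j a₀) (j b₀) θ hθ hnd).subtype).range =
        (simM (j a₀) (j b₀) θ hθ hnd).map (Phi ⇑(minusForm m F (j a₀) (j b₀))) := by
      rw [MonoidHom.range_comp, Subgroup.range_subtype]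
    have hNmap : ((innPre ⇑(minusForm m F (j a₀) (j b₀))).subgroupOf
        (simM (j a₀) (j b₀) θ hθ hnd)).map ((Phi ⇑(minusForm m F (j a₀) (j b₀))).comp
        (simM (j a₀) (j b₀) θ hθ hnd).subtype) =
        Cfsg.Inn (Cfsg.POmega F ⇑(minusForm m F (j a₀) (j b₀))) := by
      rw [← Subgroup.map_map, Subgroup.subgroupOf_map_subtype, inf_eq_left.2 hle,
        inn_eq_map_innPre]
    rw [hrange, hNmap] at hcount
    rw [hcount, Subgroup.index_eq_one, eq_top_iff]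
    intro d _
    obtain ⟨n, hn', c, hcD, hcgm, hdnc⟩ := hdecomp d.1 d.2
    have hd : d = (⟨n, hle hn'⟩ : ↥(simM (j a₀) (j b₀) θ hθ hnd)) * ⟨c, hcD⟩ :=
      Subtype.ext hdnc
    rw [hd]
    refine Subgroup.mul_mem_sup ?_ ?_
    · exact hn'
    · rw [Subgroup.mem_comap]
      exact rat_mem_cent (minusForm m F (j a₀) (j b₀)) σ hσQ hker c hcgm

end stdmain2

end Cfsg.Agent.Lib.Helper37.OrthField
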