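import Mathlib
import Cfsg.Agent.Lib.Helper37.OrthPlus
import Cfsg.Agent.Lib.Helper37.InnDiag

set_option autoImplicit false
set_option linter.unusedSectionVars false
set_option linter.unusedVariables false

/-!
# Coset conjugacy for field and graph-field automorphisms of `PΩ⁺`
-/

namespace Cfsg.Agent.Lib.Helper37.OrthField

open Matrix Module QuadraticMap
open Cfsg.Agent.Lib.Helper37 Cfsg.Agent.Lib.Helper43 Cfsg.Agent.Lib.Helper8
open Cfsg.Agent.Lib.Helper37.ParGen Cfsg.Agent.Lib.Helper14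

universe u

variable {ι : Type} [Fintype ι] [DecidableEq ι] {F : Type u} [Field F]

section gen

variable [Fintype F] [Nonempty ι] (Q : QuadraticForm F (ι → F))
  (hQ : (QuadraticMap.polarBilin Q).Nondegenerate) {k : ℕ} {e f : Fin k → ι → F}
  (hfam : HypFam Q k e f) (hk : 3 ≤ k)
  (hcard : Fintype.card F ≠ 2 ∨ finrank F (ι → F) ≠ 4)
  (hn5 : 5 ≤ finrank F (ι → F)) (hn2 : (2 : F) = 0 → 7 ≤ finrank F (ι → F))

include hQ hfam hk hcard hn5 hn2

/-- a graph-field automorphism (as a class) is induced by a pair with non-trivial field part -/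
theorem graph_field_class_pair (hAut : AutSemi ⇑Q)
    (hinv : ∀ (σ : F ≃+* F) v, Q (vm σ v) = σ (Q v))
    (x : MulAut (Cfsg.POmega F ⇑Q))
    (hx : ∃ (α γ φ : MulAut (Cfsg.POmega F ⇑Q)) (σ : F ≃+* F) (v : ι → F) (r₀ : GL ι F),
      σ ≠ RingEquiv.refl F ∧ Q v ≠ 0 ∧ (∀ i, σ (v i) = v i) ∧
      (r₀ : Matrix ι ι F) = Cfsg.reflectionMatrix ⇑Q v ∧
      Cfsg.IsInducedBySemilinearPOmega ⇑Q r₀ (RingEquiv.refl F) γ ∧
      Cfsg.IsFieldAutPOmegaOf ⇑Q σ φ ∧ α * x * α⁻¹ = γ * φ) :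
    ∃ p : ↥(semiO ⇑Q), x = Psi ⇑Q p ∧ p.1.right ≠ 1 := by
  obtain ⟨α, γ, φ, σ', v, r₀, hσ', hv, -, hr₀, hγ, hφ, hconj⟩ := hx
  obtain ⟨pα, rfl⟩ := hAut α
  obtain ⟨px, rfl⟩ := hAut x
  refine ⟨px, rfl, ?_⟩
  intro h1
  have hr₀' : r₀ = (reflElt Q v hv).1 := by
    apply Units.ext
    rw [hr₀, coe_reflElt]
  have hr₀m : r₀ ∈ Cfsg.Geo.quadSimilarityGroup (F := F) ⇑Q := by
    rw [hr₀']
    exact isom_le_sim ⇑Q (reflElt Q v hv).2
  rw [isInduced_iff ⇑Q r₀ hr₀m] at hγ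
  rw [isFieldAutOf_iff ⇑Q σ' (hinv σ')] at hφ
  rw [hγ, hφ, ← Psi_simToSemi, ← map_inv, ← map_mul, ← map_mul, ← map_mul] at hconj
  have h2 := right_eq_of_Psi_eq Q hQ hfam hk hcard hn5 hn2 _ _ hconj
  simp only [Subgroup.coe_mul, Subgroup.coe_inv, SemidirectProduct.mul_right,
    SemidirectProduct.inv_right, SemidirectProduct.right_inr, h1, mul_one, mul_inv_cancel,
    simToSemi_right, one_mul] at h2
  exact hσ' h2.symm

end gen

section plus

variable [Fintype F] {m : ℕ}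

/-- the key conjugacy statement for the plus type -/
theorem plus_conj_aux (hm : 5 ≤ m)
    (px : ↥(semiO ⇑(plusForm m F)))
    (d : ↥(Cfsg.Geo.quadSimilarityGroup (F := F) ⇑(plusForm m F)))
    (hd : d ∈ simP (plusForm m F) (plusForm_nondegenerate m F) plus_hV (stdL m F) plus_lag)
    (r : ℕ) (hr : r.Prime) (hx : (Psi ⇑(plusForm m F) px) ^ r = 1)
    (hy : (Phi ⇑(plusForm m F) d * Psi ⇑(plusForm m F) px) ^ r = 1) (hσ : px.1.right ≠ 1) :
    ∃ t ∈ simP (plusForm m F) (plusForm_nondegenerate m F) plus_hV (stdL m F) plus_lag,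
      Phi ⇑(plusForm m F) d * Psi ⇑(plusForm m F) px =
        Phi ⇑(plusForm m F) t * Psi ⇑(plusForm m F) px * (Phi ⇑(plusForm m F) t)⁻¹ := by
  haveI : Nonempty (Fin m ⊕ Fin m) := ⟨Sum.inl ⟨0, by omega⟩⟩
  have hn : finrank F (Fin m ⊕ Fin m → F) = 2 * m := plus_hV
  have hQ := plusForm_nondegenerate m F
  have hfam := plus_hypFam37 m F
  have hk : 3 ≤ m := by omega
  have hcard : Fintype.card F ≠ 2 ∨ finrank F (Fin m ⊕ Fin m → F) ≠ 4 :=
    Or.inr (by rw [hn]; omega)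
  have hn5 : 5 ≤ finrank F (Fin m ⊕ Fin m → F) := by rw [hn]; omega
  have hn2 : (2 : F) = 0 → 7 ≤ finrank F (Fin m ⊕ Fin m → F) := fun _ => by rw [hn]; omega
  set py : ↥(semiO ⇑(plusForm m F)) := simToSemi ⇑(plusForm m F) d * px with hpy
  have hpy1 : Phi ⇑(plusForm m F) d * Psi ⇑(plusForm m F) px = Psi ⇑(plusForm m F) py := by
    rw [hpy, map_mul, Psi_simToSemi]
  have hxy : py.1.right = px.1.right := by
    rw [hpy, Subgroup.coe_mul, SemidirectProduct.mul_right, simToSemi_right, one_mul]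
  have hpyv : py.1 = SemidirectProduct.inl d.1 * px.1 := rfl
  rw [hpy1] at hy ⊢
  obtain ⟨hord, -, -⟩ := order_facts (plusForm m F) hQ hfam hk hcard hn5 hn2 px r hr hx hσ
  have hqs := qsys_of_form (plusForm m F) hQ
  apply conj_of_same_type (plusForm m F) hQ hfam hk hcard hn5 hn2 plus_hN
    (simP (plusForm m F) hQ plus_hV (stdL m F) plus_lag)
    (simP_adj (plusForm m F) hQ plus_hV (stdL m F) plus_lag) px py r hr hx hy hσ hxy
  intro F₁ hF₁ z z' b b' μ μ' P₀ P₀' hL hL'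
  haveI : Fintype F₁ := Fintype.ofFinite _
  have hj : ∀ a, px.1.right a = a ↔ a ∈ Set.range F₁.subtype := by
    intro a
    rw [← hF₁]
    constructor
    · intro h; exact ⟨⟨a, h⟩, rfl⟩
    · rintro ⟨b, rfl⟩; exact b.2
  rcases hr.eq_two_or_odd' with h2 | hodd
  · subst h2
    apply count_eq_of_parS_eq F₁.subtype px.1.right hj (by omega) hord px.1 py.1 px.2 py.2 rfl hxy
      z z' b b' μ μ' P₀ P₀' hL hL'
    rw [hpyv, parS_mul hqs plus_hV _ plus_lag _ _ (inl_mem_semiO (plusForm m F) d) px.2,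
      (mem_simP (plusForm m F) hQ plus_hV (stdL m F) plus_lag d).1 hd, zero_add]
    exact (Nat.mod_eq_of_lt (parS_lt _ _)).symm
  · have hσr : px.1.right ^ r = 1 := by rw [← hord]; exact pow_orderOf_eq_one _
    have hQc : Nat.card {v : Fin m ⊕ Fin m → F // plusForm m F v = 0} =
        ZZ (Fintype.card F) 0 1 m := card_zeros_plusForm m
    rw [lattice_plus_of_odd F₁.subtype plus_hN (plusForm m F) hQ hQc px.1.right hj r hσr hodd
        b μ P₀ hL.2,
      lattice_plus_of_odd F₁.subtype plus_hN (plusForm m F) hQ hQc px.1.right hj r hσr hodd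
        b' μ' P₀' hL'.2]

/-- coset conjugacy for field and graph-field automorphisms of `PΩ⁺`, given the automorphism
theorem -/
theorem plus_coset_conj (hm : 5 ≤ m)
    (hAut : ∀ α : MulAut (Cfsg.POmega F (Cfsg.quadFormPlus m F)),
      ∃ (g : GL (Fin m ⊕ Fin m) F) (σ : F ≃+* F),
        Cfsg.IsSemisimilarityPair (Cfsg.quadFormPlus m F) g σ ∧
        Cfsg.IsInducedBySemilinearPOmega (Cfsg.quadFormPlus m F) g σ α)
    (x δ : MulAut (Cfsg.POmega F (Cfsg.quadFormPlus m F)))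
    (hx : Cfsg.IsFieldAutClassPOmega (Cfsg.quadFormPlus m F) x ∨
      Cfsg.IsGraphFieldAutClassPOmegaPlus m x) {r : ℕ} (hr : r.Prime)
    (hxr : orderOf x = r) (hδ : δ ∈ Cfsg.inndiagPOmegaPlus m F) :
    orderOf (δ * x) = r ↔ Cfsg.IsConjUnder (Cfsg.inndiagPOmegaPlus m F) x (δ * x) := by
  classical
  have key : ∀ (Qf : (Fin m ⊕ Fin m → F) → F), Qf = ⇑(plusForm m F) →
      (∀ α : MulAut (Cfsg.POmega F Qf),
        ∃ (g : GL (Fin m ⊕ Fin m) F) (σ : F ≃+* F),
          Cfsg.IsSemisimilarityPair Qf g σ ∧ Cfsg.IsInducedBySemilinearPOmega Qf g σ α) →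
      ∀ (x δ : MulAut (Cfsg.POmega F Qf)),
        (Cfsg.IsFieldAutClassPOmega Qf x ∨
          ∃ (α γ φ : MulAut (Cfsg.POmega F Qf)) (σ : F ≃+* F) (v : Fin m ⊕ Fin m → F)
            (r₀ : GL (Fin m ⊕ Fin m) F),
            σ ≠ RingEquiv.refl F ∧ Qf v ≠ 0 ∧ (∀ i, σ (v i) = v i) ∧
            (r₀ : Matrix (Fin m ⊕ Fin m) (Fin m ⊕ Fin m) F) = Cfsg.reflectionMatrix Qf v ∧
            Cfsg.IsInducedBySemilinearPOmega Qf r₀ (RingEquiv.refl F) γ ∧
            Cfsg.IsFieldAutPOmegaOf Qf σ φ ∧ α * x * α⁻¹ = γ * φ) →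
        orderOf x = r →
        δ ∈ Cfsg.autSubgroupOf (fun β : Cfsg.POmega F Qf ≃* Cfsg.POmega F Qf =>
          ∃ g : GL (Fin m ⊕ Fin m) F, g ∈ Cfsg.Geo.quadSimilarityGroup (F := F) Qf ∧
            Cfsg.PreservesSingularClasses Qf (g : Matrix (Fin m ⊕ Fin m) (Fin m ⊕ Fin m) F) ∧
            Cfsg.IsInducedBySemilinearPOmega Qf g (RingEquiv.refl F) β) →
        (orderOf (δ * x) = r ↔
          Cfsg.IsConjUnder (Cfsg.autSubgroupOf
            (fun β : Cfsg.POmega F Qf ≃* Cfsg.POmega F Qf =>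
              ∃ g : GL (Fin m ⊕ Fin m) F, g ∈ Cfsg.Geo.quadSimilarityGroup (F := F) Qf ∧
                Cfsg.PreservesSingularClasses Qf
                  (g : Matrix (Fin m ⊕ Fin m) (Fin m ⊕ Fin m) F) ∧
                Cfsg.IsInducedBySemilinearPOmega Qf g (RingEquiv.refl F) β)) x (δ * x)) := by
    intro Qf hQf
    subst hQf
    intro hAut x δ hx hxr hδ
    haveI : Nonempty (Fin m ⊕ Fin m) := ⟨Sum.inl ⟨0, by omega⟩⟩
    have hn : finrank F (Fin m ⊕ Fin m → F) = 2 * m := plus_hV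
    have hQ := plusForm_nondegenerate m F
    have hfam := plus_hypFam37 m F
    have hk : 3 ≤ m := by omega
    have hcard : Fintype.card F ≠ 2 ∨ finrank F (Fin m ⊕ Fin m → F) ≠ 4 :=
      Or.inr (by rw [hn]; omega)
    have hn5 : 5 ≤ finrank F (Fin m ⊕ Fin m → F) := by rw [hn]; omega
    have hn2 : (2 : F) = 0 → 7 ≤ finrank F (Fin m ⊕ Fin m → F) := fun _ => by rw [hn]; omega
    have hmap := autSubgroupOf_eq_map (Q := ⇑(plusForm m F))
      (fun g : GL (Fin m ⊕ Fin m) F => Cfsg.PreservesSingularClasses ⇑(plusForm m F)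
        (g : Matrix (Fin m ⊕ Fin m) (Fin m ⊕ Fin m) F))
      (simP (plusForm m F) hQ plus_hV (stdL m F) plus_lag)
      (fun g => (mem_simP_iff_preserves (plusForm m F) hQ plus_hV (stdL m F) plus_lag g).symm)
    rw [hmap] at hδ ⊢
    constructor
    · intro hy
      have hA : AutSemi ⇑(plusForm m F) := autSemi_of_raw _ hAut
      have hinv : ∀ (σ : F ≃+* F) v, plusForm m F (vm σ v) = σ (plusForm m F v) :=
        fun σ v => plus_inv σ v
      obtain ⟨px, hpx, hσ⟩ : ∃ p : ↥(semiO ⇑(plusForm m F)),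
          x = Psi ⇑(plusForm m F) p ∧ p.1.right ≠ 1 := by
        rcases hx with hx | hx
        · exact field_class_pair (plusForm m F) hQ hfam hk hcard hn5 hn2 hA hinv x hx
        · exact graph_field_class_pair (plusForm m F) hQ hfam hk hcard hn5 hn2 hA hinv x hx
      obtain ⟨d, hd, rfl⟩ := hδ
      have hxr' : (Psi ⇑(plusForm m F) px) ^ r = 1 := by
        rw [← hpx, ← hxr]; exact pow_orderOf_eq_one x
      have hyr' : (Phi ⇑(plusForm m F) d * Psi ⇑(plusForm m F) px) ^ r = 1 := by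
        rw [← hpx, ← hy]; exact pow_orderOf_eq_one _
      obtain ⟨t, ht, hconj⟩ := plus_conj_aux hm px d hd r hr hxr' hyr' hσ
      refine ⟨Phi ⇑(plusForm m F) t, Subgroup.mem_map_of_mem _ ht, ?_⟩
      rw [hpx]
      exact hconj
    · rintro ⟨h, -, hh⟩
      rw [hh, ← hxr]
      have := MulEquiv.orderOf_eq (MulAut.conj h) x
      rwa [MulAut.conj_apply] at this
  exact key _ (plusForm_coe m F) hAut x δ hx hxr hδ

end plus

end Cfsg.Agent.Lib.Helper37.OrthField
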