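import Cfsg.Agent.Lib.Helper37.InnDiag
import Cfsg.Agent.Lib.Helper37.SingClass
import Cfsg.Agent.Lib.Helper37.PlusAut
import Cfsg.Agent.Lib.Helper37.LeviPlus

set_option autoImplicit false
set_option linter.unusedSectionVars false
set_option linter.unusedVariables false

namespace Cfsg.Agent.Lib.Helper37

open Matrix Module IsGram
open Cfsg.Agent.Lib.Helper14

universe u

variable {F : Type u} [Field F] {m : ℕ}

theorem plusSim_mulVec (c : Fˣ) (v : Fin m ⊕ Fin m → F) :
    ((plusSim m c).1 : Matrix (Fin m ⊕ Fin m) (Fin m ⊕ Fin m) F) *ᵥ v =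
      Sum.elim (fun i => (c : F) * v (.inl i)) (fun i => v (.inr i)) := by
  show Matrix.diagonal (Sum.elim (fun _ => (c : F)) (fun _ => 1)) *ᵥ v = _
  funext k
  rw [Matrix.mulVec_diagonal]
  rcases k with k | k <;> simp

theorem plusSim_det (c : Fˣ) :
    ((plusSim m c).1 : Matrix (Fin m ⊕ Fin m) (Fin m ⊕ Fin m) F).det = (c : F) ^ m := by
  show (Matrix.diagonal (Sum.elim (fun _ => (c : F)) (fun _ => 1))).det = _
  rw [Matrix.det_diagonal, Fintype.prod_sum_type]
  simp only [Sum.elim_inl, Sum.elim_inr, Finset.prod_const, Finset.card_univ, Fintype.card_fin,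
    one_pow, mul_one]

theorem plusSim_stdL (c : Fˣ) : imgS (plusSim m c).1 (stdL m F) = stdL m F := by
  symm
  apply Submodule.eq_of_le_of_finrank_eq
  · intro v hv
    rw [mem_imgS]
    refine ⟨Sum.elim (fun i => ((c⁻¹ : Fˣ) : F) * v (.inl i)) (fun i => v (.inr i)), ?_, ?_⟩
    · rw [mem_stdL] at hv ⊢
      intro i
      exact hv i
    · rw [plusSim_mulVec]
      funext k
      rcases k with k | k
      · simp only [Sum.elim_inl]
        rw [← mul_assoc, ← Units.val_mul, mul_inv_cancel, Units.val_one, one_mul]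
      · simp only [Sum.elim_inr]
  · rw [finrank_imgS]

/-- a similarity of the hyperbolic form preserves the two classes of maximal totally singular
subspaces iff its determinant is the `m`-th power of its multiplier -/
theorem plus_preserves_iff [Fintype F] [DecidableEq F] (h2 : (2 : F) ≠ 0) (hm : 1 ≤ m)
    (g : ↥(Cfsg.Geo.quadSimilarityGroup (F := F) (Cfsg.quadFormPlus m F))) :
    Cfsg.PreservesSingularClasses (Cfsg.quadFormPlus m F)
        (g.1 : Matrix (Fin m ⊕ Fin m) (Fin m ⊕ Fin m) F) ↔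
      (g.1 : Matrix (Fin m ⊕ Fin m) (Fin m ⊕ Fin m) F).det =
        (simMult (Cfsg.quadFormPlus m F) g : F) ^ m := by
  have hne := exists_Q_eq_one (plus_isGram h2 m) (gramP_det_ne_zero m)
    (by rw [plus_card_two_mul]; omega)
  exact preserves_iff (plus_isGram h2 m) (gramP_det_ne_zero m) (plus_card_two_mul m)
    (stdL m F) (finrank_stdL m F) (stdL_singular m F) hne g
    (plusSim m (simMult (Cfsg.quadFormPlus m F) g))
    (simMult_plusSim h2 hm _) (plusSim_stdL _) (plusSim_det _)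

/-- the isometry swapping each `e_i` with `f_i` -/
noncomputable def plusSwap (m : ℕ) (F : Type u) [Field F] :
    ↥(Cfsg.isometryGroup F (Cfsg.quadFormPlus m F)) :=
  ⟨Matrix.GeneralLinearGroup.mkOfDetNeZero (gramP m F) (gramP_det_ne_zero m), by
    rw [Cfsg.Agent.Lib.Helper94.mem_isom]
    intro v
    have e1 : ∀ i, (gramP m F *ᵥ v) (.inl i) = v (.inr i) := by
      intro i
      simp [Matrix.mulVec, dotProduct, gramP_inl]
    have e2 : ∀ i, (gramP m F *ᵥ v) (.inr i) = v (.inl i) := by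
      intro i
      simp [Matrix.mulVec, dotProduct, gramP_inr]
    show Cfsg.quadFormPlus m F (gramP m F *ᵥ v) = Cfsg.quadFormPlus m F v
    unfold Cfsg.quadFormPlus
    apply Finset.sum_congr rfl
    intro i _
    rw [e1, e2, mul_comm]⟩

theorem plusSwap_mulVec (v : Fin m ⊕ Fin m → F) :
    (((plusSwap m F).1 : GL (Fin m ⊕ Fin m) F) : Matrix (Fin m ⊕ Fin m) (Fin m ⊕ Fin m) F) *ᵥ v =
      Sum.elim (fun i => v (.inr i)) (fun i => v (.inl i)) := by
  show gramP m F *ᵥ v = _
  funext k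
  rcases k with k | k
  · simp [Matrix.mulVec, dotProduct, gramP_inl]
  · simp [Matrix.mulVec, dotProduct, gramP_inr]

theorem plusSwap_det : (toMat (Cfsg.quadFormPlus m F) (plusSwap m F)).det = (-1) ^ m :=
  gramP_det m F

theorem plusSim_swap_sq (h2 : (2 : F) ≠ 0) (c : Fˣ) :
    (plusSim m c * isoGO (Cfsg.quadFormPlus m F) (plusSwap m F)) *
      (plusSim m c * isoGO (Cfsg.quadFormPlus m F) (plusSwap m F)) =
      scalarGO (plus_isGram h2 m) c := by
  apply Subtype.ext
  apply gl_ext_mulVec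
  intro v
  rw [scalarGO_mulVec]
  simp only [Subgroup.coe_mul, Units.val_mul, ← Matrix.mulVec_mulVec]
  rw [isoGO_val, plusSwap_mulVec, plusSim_mulVec, plusSwap_mulVec, plusSim_mulVec]
  funext k
  rcases k with k | k <;> simp

theorem plus_inndiag_eq [Fintype F] [DecidableEq F] (h2 : (2 : F) ≠ 0) (hm : 4 ≤ m) :
    Cfsg.inndiagPOmegaPlus m F =
      (simC (plus_isGram h2 m) (gramP_det_ne_zero m) (plus_card_two_mul m)
        (by rw [plus_card_two_mul]; omega)).map (Phi (Cfsg.quadFormPlus m F)) := by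
  have hP : ∀ g : ↥(Cfsg.Geo.quadSimilarityGroup (F := F) (Cfsg.quadFormPlus m F)),
      Cfsg.PreservesSingularClasses (Cfsg.quadFormPlus m F)
        (g.1 : Matrix (Fin m ⊕ Fin m) (Fin m ⊕ Fin m) F) ↔
      g ∈ simC (plus_isGram h2 m) (gramP_det_ne_zero m) (plus_card_two_mul m)
        (by rw [plus_card_two_mul]; omega) := by
    intro g
    rw [mem_simC_iff _ _ _ _ (plus_hker (by omega)), plus_preserves_iff h2 (by omega)]
  have key := autSubgroupOf_eq_map
    (fun g : GL (Fin m ⊕ Fin m) F => Cfsg.PreservesSingularClasses (Cfsg.quadFormPlus m F)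
      (g : Matrix (Fin m ⊕ Fin m) (Fin m ⊕ Fin m) F)) _ hP
  unfold Cfsg.inndiagPOmegaPlus Cfsg.IsInnerDiagonalAutPOmegaPlus
  exact key

/-- the structure of `Inndiag(PΩ⁺) / Inn` in abstract form -/
theorem plus_inndiag_structure [Fintype F] [DecidableEq F] (h2 : (2 : F) ≠ 0) (hm : 4 ≤ m)
    (R : Subgroup (MulAut (Cfsg.POmega F (Cfsg.quadFormPlus m F))))
    (hR : R = (simC (plus_isGram h2 m) (gramP_det_ne_zero m) (plus_card_two_mul m)
        (by rw [plus_card_two_mul]; omega)).map (Phi (Cfsg.quadFormPlus m F))) :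
    (¬ (∃ g : ↥(Cfsg.isometryGroup F (Cfsg.quadFormPlus m F)),
        g ∈ Cfsg.Omega F (Cfsg.quadFormPlus m F) ∧
        ((g : GL (Fin m ⊕ Fin m) F) : Matrix (Fin m ⊕ Fin m) (Fin m ⊕ Fin m) F) = -1) →
      ∃ φ : ↥R →* Multiplicative (ZMod 2), Function.Surjective φ ∧
        φ.ker = (Cfsg.Inn (Cfsg.POmega F (Cfsg.quadFormPlus m F))).subgroupOf R) ∧
    ((∃ g : ↥(Cfsg.isometryGroup F (Cfsg.quadFormPlus m F)),
        g ∈ Cfsg.Omega F (Cfsg.quadFormPlus m F) ∧
        ((g : GL (Fin m ⊕ Fin m) F) : Matrix (Fin m ⊕ Fin m) (Fin m ⊕ Fin m) F) = -1) → Odd m →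
      ∃ φ : ↥R →* Multiplicative (ZMod 4), Function.Surjective φ ∧
        φ.ker = (Cfsg.Inn (Cfsg.POmega F (Cfsg.quadFormPlus m F))).subgroupOf R) ∧
    ((∃ g : ↥(Cfsg.isometryGroup F (Cfsg.quadFormPlus m F)),
        g ∈ Cfsg.Omega F (Cfsg.quadFormPlus m F) ∧
        ((g : GL (Fin m ⊕ Fin m) F) : Matrix (Fin m ⊕ Fin m) (Fin m ⊕ Fin m) F) = -1) → Even m →
      ∃ φ : ↥R →* Multiplicative (ZMod 2 × ZMod 2),
        Function.Surjective φ ∧
        φ.ker = (Cfsg.Inn (Cfsg.POmega F (Cfsg.quadFormPlus m F))).subgroupOf R) := by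
  subst hR
  have h := plus_isGram h2 m
  have hdet := gramP_det_ne_zero (F := F) m
  have hN := plus_card_two_mul m
  have hn : 2 ≤ Fintype.card (Fin m ⊕ Fin m) := by rw [plus_card_two_mul]; omega
  have hker := plus_hker (F := F) hm
  obtain ⟨c, hc⟩ := exists_nonsquare_unit h2 (F := F)
  have hd : ¬ IsSquare (simMult (Cfsg.quadFormPlus m F) (plusSim m c) : F) := by
    rw [simMult_plusSim h2 (by omega)]; exact hc
  have hdC : plusSim m c ∈ simC h hdet hN hn := by
    rw [mem_simC_iff h hdet hN hn hker, plusSim_det, simMult_plusSim h2 (by omega)]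
  rw [negOne_iff h]
  refine ⟨?_, ?_, ?_⟩
  · intro hneg
    exact inndiag_mod_inn_two h hdet hN hn hker _ hd hdC hneg
  · intro hneg hodd
    apply inndiag_mod_inn_four h hdet hN hn hker _ hd hdC hneg
    rw [sq_mem_innPre_iff h hdet hN hn hker hneg _ hd (plusSwap m F) c (plusSim_swap_sq h2 c),
      plusSwap_det, hodd.neg_one_pow]
    intro h1
    apply h2
    linear_combination -h1
  · intro hneg hev
    apply inndiag_mod_inn_klein h hdet hN hn hker _ hd hdC hneg
    rw [sq_mem_innPre_iff h hdet hN hn hker hneg _ hd (plusSwap m F) c (plusSim_swap_sq h2 c),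
      plusSwap_det, hev.neg_one_pow]

end Cfsg.Agent.Lib.Helper37
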