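import Mathlib
import Cfsg.Agent.Lib.Helper37.OrthMinusField
import Cfsg.Agent.Lib.Helper37.OrthPlusMain
import Cfsg.Agent.Lib.Helper37.PlusDiag

set_option autoImplicit false
set_option linter.unusedSectionVars false
set_option linter.unusedVariables false
set_option maxHeartbeats 800000

/-!
# Field automorphisms of prime order of `PΩ⁺`: preparation
-/

namespace Cfsg.Agent.Lib.Helper37.OrthField

open Matrix Module QuadraticMap
open Cfsg.Agent.Lib.Helper37 Cfsg.Agent.Lib.Helper43 Cfsg.Agent.Lib.Helper8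
open Cfsg.Agent.Lib.Helper37.ParGen Cfsg.Agent.Lib.Helper14

universe u v

section gensimP

variable {ι : Type} [Fintype ι] [DecidableEq ι] {F : Type u} [Field F] [Fintype F]
  (Q : QuadraticForm F (ι → F))
  (hnd : (QuadraticMap.polarBilin Q).Nondegenerate) {N : ℕ} (hV : finrank F (ι → F) = 2 * N)
  (E : Submodule F (ι → F)) (hE : IsLag ⇑Q N E)

theorem omega_le_simP (s : ↥(Cfsg.isometryGroup F ⇑Q)) (hs : s ∈ Cfsg.Omega F ⇑Q) :
    isoGO ⇑Q s ∈ simP Q hnd hV E hE := by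
  have h : Cfsg.Omega F ⇑Q ≤ (simP Q hnd hV E hE).comap (isoGO ⇑Q) := by
    show commutator _ ≤ _
    rw [commutator_def, Subgroup.commutator_le]
    intro g₁ _ g₂ _
    rw [Subgroup.mem_comap, commutatorElement_def, map_mul, map_mul, map_mul, map_inv, map_inv]
    exact simP_comm Q hnd hV E hE _ _
  exact h hs

theorem innPre_le_simP [Nonempty ι]
    (hker : ∀ g : ↥(Cfsg.Geo.quadSimilarityGroup (F := F) ⇑Q),
      Phi ⇑Q g = 1 ↔ ∃ c : F, ((g.1 : GL ι F) : Matrix ι ι F) = c • (1 : Matrix ι ι F)) :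
    innPre ⇑Q ≤ simP Q hnd hV E hE := by
  classical
  intro g hg
  unfold innPre at hg
  rw [Subgroup.mem_comap, mem_inn_iff] at hg
  obtain ⟨s, hs, hgs⟩ := hg
  have h1 : Phi ⇑Q (g * (isoGO ⇑Q s)⁻¹) = 1 := by
    rw [map_mul, map_inv, hgs, mul_inv_cancel]
  obtain ⟨c, hc⟩ := (hker _).1 h1
  obtain ⟨c', hc'⟩ := exists_scalar_of_smul _ c hc
  have h2 : g = scO Q c' * isoGO ⇑Q s := by
    have : g * (isoGO ⇑Q s)⁻¹ = scO Q c' := Subtype.ext hc'
    rw [← this, inv_mul_cancel_right]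
  rw [h2]
  exact Subgroup.mul_mem _ (simP_scalar Q hnd hV E hE c') (omega_le_simP Q hnd hV E hE s hs)

theorem simP_eq_innPre_char_two [Nonempty ι]
    (hker : ∀ g : ↥(Cfsg.Geo.quadSimilarityGroup (F := F) ⇑Q),
      Phi ⇑Q g = 1 ↔ ∃ c : F, ((g.1 : GL ι F) : Matrix ι ι F) = c • (1 : Matrix ι ι F))
    (hcard : Fintype.card F ≠ 2 ∨ finrank F (ι → F) ≠ 4) (hne : ∃ v, Q v ≠ 0)
    (h2 : (2 : F) = 0) :
    simP Q hnd hV E hE = innPre ⇑Q := by
  refine sim_eq_of_char_two h2 Q hnd hcard hne _ _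
    (simP_scalar Q hnd hV E hE) (fun c => ?_) (simP_mul_refl_iff Q hnd hV E hE)
    (innPre_mul_refl_iff Q hker hnd hcard hne h2)
  unfold innPre
  rw [Subgroup.mem_comap, Phi_scO _ hker]
  exact Subgroup.one_mem _

end gensimP

section plusbasic

variable {m : ℕ} {F : Type u} [Field F]

theorem plus_hQ₀' {F₀ : Type*} [Field F₀] (j : F₀ →+* F) (w : Fin m ⊕ Fin m → F₀) :
    j (plusForm m F₀ w) = plusForm m F (jv j w) := by
  have h : Cfsg.quadFormPlus m F (jv j w) = j (Cfsg.quadFormPlus m F₀ w) := by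
    unfold Cfsg.quadFormPlus
    simp only [jv_apply, map_sum, map_mul]
  rw [plusForm_coe, plusForm_coe] at h
  exact h.symm

theorem plusSimMat_Q (c : Fˣ) (v : Fin m ⊕ Fin m → F) :
    plusForm m F (((plusSim m c).1 : Matrix (Fin m ⊕ Fin m) (Fin m ⊕ Fin m) F) *ᵥ v) =
      (c : F) * plusForm m F v := by
  have h : Cfsg.quadFormPlus m F
      (Matrix.diagonal (Sum.elim (fun _ => (c : F)) (fun _ => 1)) *ᵥ v) =
      (c : F) * Cfsg.quadFormPlus m F v := by
    unfold Cfsg.quadFormPlus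
    rw [Finset.mul_sum]
    apply Finset.sum_congr rfl
    intro i _
    rw [Matrix.mulVec_diagonal, Matrix.mulVec_diagonal]
    simp only [Sum.elim_inl, Sum.elim_inr]
    ring
  rw [plusForm_coe] at h
  exact h

/-- the similarity `diag(c, 1)` of the hyperbolic form (as a bundled form) -/
def plusSim' (m : ℕ) (c : Fˣ) :
    ↥(Cfsg.Geo.quadSimilarityGroup (F := F) ⇑(plusForm m F)) :=
  ⟨(plusSim m c).1, ⟨c, fun v => plusSimMat_Q c v⟩⟩

theorem plusSim'_val (c : Fˣ) :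
    ((plusSim' m c).1 : Matrix (Fin m ⊕ Fin m) (Fin m ⊕ Fin m) F) =
      Matrix.diagonal (Sum.elim (fun _ => (c : F)) (fun _ => 1)) := rfl

theorem simMult_plusSim' [Fintype F] (hm : 1 ≤ m) (c : Fˣ) :
    simMult ⇑(plusForm m F) (plusSim' m c) = c :=
  simMult_unique (plus_hne hm) _ c (plusSimMat_Q c)

theorem plusSim'_det (c : Fˣ) :
    ((plusSim' m c).1 : Matrix (Fin m ⊕ Fin m) (Fin m ⊕ Fin m) F).det = (c : F) ^ m :=
  plusSim_det c

end plusbasic

section plusD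

variable {m : ℕ} {F : Type u} [Field F] [Fintype F]

/-- the class preserving similarities of the hyperbolic form -/
noncomputable abbrev simPl (m : ℕ) (F : Type u) [Field F] [Fintype F] :
    Subgroup ↥(Cfsg.Geo.quadSimilarityGroup (F := F) ⇑(plusForm m F)) :=
  simP (plusForm m F) (plusForm_nondegenerate m F) plus_hV (stdL m F) plus_lag

theorem mem_simPl_iff_det (h2 : (2 : F) ≠ 0) (hm : 1 ≤ m)
    (g : ↥(Cfsg.Geo.quadSimilarityGroup (F := F) ⇑(plusForm m F))) :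
    g ∈ simPl m F ↔
      (g.1 : Matrix (Fin m ⊕ Fin m) (Fin m ⊕ Fin m) F).det =
        (simMult ⇑(plusForm m F) g : F) ^ m := by
  classical
  rw [mem_simP_iff_preserves]
  have key : ∀ (Qf : (Fin m ⊕ Fin m → F) → F), Qf = Cfsg.quadFormPlus m F →
      ∀ g : ↥(Cfsg.Geo.quadSimilarityGroup (F := F) Qf),
      (Cfsg.PreservesSingularClasses Qf
        (g.1 : Matrix (Fin m ⊕ Fin m) (Fin m ⊕ Fin m) F) ↔
      (g.1 : Matrix (Fin m ⊕ Fin m) (Fin m ⊕ Fin m) F).det = (simMult Qf g : F) ^ m) := by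
    intro Qf hQf
    subst hQf
    intro g
    exact plus_preserves_iff h2 hm g
  exact key _ (plusForm_coe m F).symm g

theorem simPl_mapGO_iff {F₀ : Type v} [Field F₀] [Fintype F₀] (j : F₀ →+* F) (hm : 3 ≤ m)
    (g₀ : ↥(Cfsg.Geo.quadSimilarityGroup (F := F₀) ⇑(plusForm m F₀))) :
    mapGO j (plusForm m F) (plusForm m F₀) (plus_hQ₀' j) g₀ ∈ simPl m F ↔ g₀ ∈ simPl m F₀ := by
  haveI : Nonempty (Fin m ⊕ Fin m) := ⟨Sum.inl ⟨0, by omega⟩⟩
  have hne₀ : ∃ w, plusForm m F₀ w ≠ 0 := plus_hne (by omega)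
  by_cases h2 : (2 : F₀) = 0
  · have hn : finrank F₀ (Fin m ⊕ Fin m → F₀) = 2 * m := plus_hV
    have hH := sim_eq_of_char_two h2 (plusForm m F₀) (plusForm_nondegenerate m F₀)
      (Or.inr (by rw [hn]; omega)) hne₀
      ((simPl m F).comap (mapGO j (plusForm m F) (plusForm m F₀) (plus_hQ₀' j)))
      (simPl m F₀)
      (fun c => by
        rw [Subgroup.mem_comap, mapGO_scO]
        exact simP_scalar _ _ _ _ _ _)
      (simP_scalar _ _ _ _ _)
      (fun u hu t => by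
        have hu' : plusForm m F (jv j u) ≠ 0 := by
          rw [← plus_hQ₀']
          exact (map_ne_zero j).2 hu
        rw [Subgroup.mem_comap, Subgroup.mem_comap, map_mul, mapGO_refl j _ _ _ u hu hu']
        exact simP_mul_refl_iff _ _ _ _ _ _ hu' _)
      (simP_mul_refl_iff _ _ _ _ _)
    rw [← hH, Subgroup.mem_comap]
  · have h2F : (2 : F) ≠ 0 := by
      intro h
      apply h2
      apply j.injective
      rw [map_ofNat, map_zero]
      exact h
    rw [mem_simPl_iff_det h2F (by omega), mem_simPl_iff_det h2 (by omega),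
      simMult_mapGO j _ _ (plus_hQ₀' j) hne₀, mapGO_val, mapGL_val, Units.coe_map,
      ← RingHom.mapMatrix_apply, ← RingHom.map_det]
    show j _ = (j _) ^ m ↔ _
    rw [← map_pow]
    exact j.injective.eq_iff

/-- `Inndiag(PΩ⁺)` as the image of the class preserving similarities -/
theorem inndiag_plus_eq_map :
    Cfsg.autSubgroupOf (fun β : Cfsg.POmega F ⇑(plusForm m F) ≃*
        Cfsg.POmega F ⇑(plusForm m F) =>
      ∃ g : GL (Fin m ⊕ Fin m) F,
        g ∈ Cfsg.Geo.quadSimilarityGroup (F := F) ⇑(plusForm m F) ∧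
        Cfsg.PreservesSingularClasses ⇑(plusForm m F)
          (g : Matrix (Fin m ⊕ Fin m) (Fin m ⊕ Fin m) F) ∧
        Cfsg.IsInducedBySemilinearPOmega ⇑(plusForm m F) g (RingEquiv.refl F) β) =
      (simPl m F).map (Phi ⇑(plusForm m F)) := by
  classical
  exact autSubgroupOf_eq_map (Q := ⇑(plusForm m F))
    (fun g : GL (Fin m ⊕ Fin m) F => Cfsg.PreservesSingularClasses ⇑(plusForm m F)
      (g : Matrix (Fin m ⊕ Fin m) (Fin m ⊕ Fin m) F))
    (simPl m F)
    (fun g => (mem_simP_iff_preserves (plusForm m F) (plusForm_nondegenerate m F) plus_hV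
      (stdL m F) plus_lag g).symm)

theorem inndiag_plus_equiv :
    Nonempty (↥((simPl m F).map (Phi ⇑(plusForm m F))) ≃* ↥(Cfsg.inndiagPOmegaPlus m F)) := by
  have key : ∀ (Qf : (Fin m ⊕ Fin m → F) → F), Qf = ⇑(plusForm m F) →
      Nonempty (↥((simPl m F).map (Phi ⇑(plusForm m F))) ≃*
        ↥(Cfsg.autSubgroupOf (fun β : Cfsg.POmega F Qf ≃* Cfsg.POmega F Qf =>
          ∃ g : GL (Fin m ⊕ Fin m) F,
            g ∈ Cfsg.Geo.quadSimilarityGroup (F := F) Qf ∧
            Cfsg.PreservesSingularClasses Qf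
              (g : Matrix (Fin m ⊕ Fin m) (Fin m ⊕ Fin m) F) ∧
            Cfsg.IsInducedBySemilinearPOmega Qf g (RingEquiv.refl F) β))) := by
    intro Qf hQf
    subst hQf
    rw [inndiag_plus_eq_map]
    exact ⟨MulEquiv.refl _⟩
  exact key _ (plusForm_coe m F)

end plusD

section rationaloddplus

variable {m : ℕ} {F : Type u} [Field F] [Fintype F] {F₀ : Type v} [Field F₀] [Fintype F₀]
  (j : F₀ →+* F)
  (hker : ∀ g : ↥(Cfsg.Geo.quadSimilarityGroup (F := F) ⇑(plusForm m F)),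
      Phi ⇑(plusForm m F) g = 1 ↔
        ∃ c : F, ((g.1 : GL (Fin m ⊕ Fin m) F) :
        Matrix (Fin m ⊕ Fin m) (Fin m ⊕ Fin m) F) =
          c • (1 : Matrix (Fin m ⊕ Fin m) (Fin m ⊕ Fin m) F))
  (σ : F ≃+* F) (hj : ∀ a, σ a = a ↔ a ∈ Set.range j)

include hker hj in
theorem plus_decomp_odd (hm : 3 ≤ m) (h2 : (2 : F) ≠ 0) {r : ℕ} (hσr : σ ^ r = 1)
    (hodd : Odd r)
    (d : ↥(Cfsg.Geo.quadSimilarityGroup (F := F) ⇑(plusForm m F)))
    (hd : d ∈ simPl m F) :
    ∃ n ∈ innPre ⇑(plusForm m F),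
      ∃ c ∈ simPl m F, gm σ c.1 = c.1 ∧ d = n * c := by
  classical
  haveI : Nonempty (Fin m ⊕ Fin m) := ⟨Sum.inl ⟨0, by omega⟩⟩
  have h2₀ : (2 : F₀) ≠ 0 := two_ne_zero_of_map j h2
  have hne : ∃ v, plusForm m F v ≠ 0 := plus_hne (by omega)
  have hne₀ : ∃ v, plusForm m F₀ v ≠ 0 := plus_hne (by omega)
  have hnd := plusForm_nondegenerate m F
  have hnd₀ := plusForm_nondegenerate m F₀
  have hQ₀ := plus_hQ₀' (m := m) j
  have hdetiff := mem_simPl_iff_det (m := m) (F := F) h2 (by omega)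
  -- a non-square
  obtain ⟨ν₀, hνsq⟩ := FiniteField.exists_nonsquare (ringChar_ne_two_of_two_ne_zero h2₀) (F := F₀)
  have hν0 : ν₀ ≠ 0 := by
    rintro rfl
    exact hνsq ⟨0, by simp⟩
  have hνF : ¬ IsSquare (j ν₀) := nonsquare_of_odd_order h2 σ hσr hodd j hj _ hνsq
  set c₁ := mapGO j (plusForm m F) (plusForm m F₀) hQ₀ (plusSim' m (Units.mk0 ν₀ hν0)) with hc₁
  have hμ₁ : (simMult ⇑(plusForm m F) c₁ : F) = j ν₀ := by
    rw [hc₁, simMult_mapGO j _ _ hQ₀ hne₀, simMult_plusSim' (by omega), Units.coe_map,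
      Units.val_mk0]
    rfl
  have hc₁D : c₁ ∈ simPl m F := by
    rw [hdetiff, hμ₁, hc₁, mapGO_val, mapGL_val, ← RingHom.mapMatrix_apply, ← RingHom.map_det,
      ← map_pow, plusSim'_det, Units.val_mk0]
  have hc₁gm : gm σ c₁.1 = c₁.1 := by
    rw [hc₁, mapGO_val]
    exact gm_mapGL j σ hj _
  -- make the multiplier a square
  obtain ⟨c₂, hc₂D, hc₂gm, s, hs⟩ : ∃ c₂ ∈ simPl m F, gm σ c₂.1 = c₂.1 ∧
      ∃ s : F, (simMult ⇑(plusForm m F) (d * c₂) : F) = s * s := by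
    by_cases hsq : IsSquare (simMult ⇑(plusForm m F) d : F)
    · obtain ⟨s, hs⟩ := hsq
      exact ⟨1, Subgroup.one_mem _, map_one _, s, by rw [mul_one]; exact hs⟩
    · obtain ⟨s, hs⟩ := isSquare_mul_of_nonsquare _ _ hsq hνF
      refine ⟨c₁, hc₁D, hc₁gm, s, ?_⟩
      rw [← simMultHom_apply hne, map_mul, Units.val_mul, simMultHom_apply, simMultHom_apply,
        hμ₁]
      exact hs
  have hd'D : d * c₂ ∈ simPl m F := Subgroup.mul_mem _ hd hc₂D
  obtain ⟨su, k, hd'⟩ := sq_decomp (plusForm m F) (d * c₂) s hs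
  have hkD : isoGO ⇑(plusForm m F) k ∈ simPl m F := by
    have e : isoGO ⇑(plusForm m F) k = (scO (plusForm m F) su)⁻¹ * (d * c₂) := by
      rw [hd', inv_mul_cancel_left]
    rw [e]
    exact Subgroup.mul_mem _ (Subgroup.inv_mem _ (simP_scalar _ _ _ _ _ su)) hd'D
  have hkdet : (toMat ⇑(plusForm m F) k).det = 1 := by
    have := (hdetiff _).1 hkD
    rw [simMult_isoGO hne k, Units.val_one, one_pow] at this
    exact this
  -- a rational rotation outside Ω
  have h₀ := isGram_gramOf h2₀ (plusForm m F₀)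
  have hdet₀ := det_gramOf (plusForm m F₀) hnd₀
  obtain ⟨v₀, hv₀⟩ := h₀.universal hdet₀ (by rw [plus_hN]; omega) ν₀
  obtain ⟨u₀, hu₀⟩ := h₀.universal hdet₀ (by rw [plus_hN]; omega) 1
  obtain ⟨k₁, hk₁det, hk₁Ω, hk₁gm⟩ := rational_rot j (plusForm m F)
    (plusForm m F₀) hQ₀ h2 hnd σ hj u₀ v₀ hu₀ (by rw [hv₀]; exact hνF)
  have hk₁D : isoGO ⇑(plusForm m F) k₁ ∈ simPl m F := by
    rw [hdetiff, simMult_isoGO hne k₁, Units.val_one, one_pow]
    exact hk₁det
  have h := isGram_gramOf h2 (plusForm m F)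
  have hdet := det_gramOf (plusForm m F) hnd
  obtain ⟨α, hα⟩ := FiniteField.exists_nonsquare (ringChar_ne_two_of_two_ne_zero h2) (F := F)
  have hd2 : d = (d * c₂) * c₂⁻¹ := by rw [mul_inv_cancel_right]
  have hc₂inv : gm σ (c₂⁻¹).1 = (c₂⁻¹).1 := by
    rw [Subgroup.coe_inv, map_inv, hc₂gm]
  by_cases hkΩ : k ∈ Cfsg.Omega F ⇑(plusForm m F)
  · refine ⟨d * c₂, ?_, c₂⁻¹, Subgroup.inv_mem _ hc₂D, hc₂inv, hd2⟩
    rw [hd']
    exact mem_innPre_of_omega _ hker su k hkΩ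
  · have e1 : IsGram.signPair ⇑(plusForm m F) α k = (-1, -1) := by
      rcases h.signPair_of_det_one hdet α hα k hkdet with h1 | h1
      · exfalso
        apply hkΩ
        rw [← h.ker_signPair hdet α hα, MonoidHom.mem_ker]
        exact h1
      · exact h1
    have e2 : IsGram.signPair ⇑(plusForm m F) α k₁ = (-1, -1) := by
      rcases h.signPair_of_det_one hdet α hα k₁ hk₁det with h1 | h1
      · exfalso
        apply hk₁Ω
        rw [← h.ker_signPair hdet α hα, MonoidHom.mem_ker]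
        exact h1
      · exact h1
    have e3 : k * k₁⁻¹ ∈ Cfsg.Omega F ⇑(plusForm m F) := by
      rw [← h.ker_signPair hdet α hα, MonoidHom.mem_ker, map_mul, map_inv, e1, e2]
      decide
    refine ⟨scO (plusForm m F) su * isoGO ⇑(plusForm m F) (k * k₁⁻¹),
      mem_innPre_of_omega _ hker su _ e3,
      isoGO ⇑(plusForm m F) k₁ * c₂⁻¹,
      Subgroup.mul_mem _ hk₁D (Subgroup.inv_mem _ hc₂D), ?_, ?_⟩
    · rw [Subgroup.coe_mul, map_mul, hk₁gm, hc₂inv]
    · rw [hd2, hd', map_mul, map_inv]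
      group

end rationaloddplus

end Cfsg.Agent.Lib.Helper37.OrthField
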