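import Mathlib
import Cfsg.Agent.Lib.Helper37.OrthPlusField

set_option autoImplicit false
set_option linter.unusedSectionVars false
set_option linter.unusedVariables false
set_option maxHeartbeats 800000

/-!
# Field automorphisms of order two of `PΩ⁺`: the number of classes
-/

namespace Cfsg.Agent.Lib.Helper37.OrthField

open Matrix Module QuadraticMap
open Cfsg.Agent.Lib.Helper37 Cfsg.Agent.Lib.Helper43 Cfsg.Agent.Lib.Helper8
open Cfsg.Agent.Lib.Helper37.ParGen Cfsg.Agent.Lib.Helper14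
open Cfsg.Agent.Lib.Helper37.IsGram

universe u v

section rationalSO

variable {ι : Type} [Fintype ι] [DecidableEq ι] {F : Type u} [Field F] [Fintype F]
  {F₀ : Type v} [Field F₀] [Fintype F₀] (j : F₀ →+* F)
  (Q : QuadraticForm F (ι → F)) (Q₀ : QuadraticForm F₀ (ι → F₀))
  (hQ₀ : ∀ w, j (Q₀ w) = Q (jv j w))
  (h2 : (2 : F) ≠ 0) (hQnd₀ : (QuadraticMap.polarBilin Q₀).Nondegenerate)
  (hsq : ∀ a₀ : F₀, IsSquare (j a₀))

include hQ₀ h2 hQnd₀ hsq in
/-- if every element of the small field is a square in the big field, a rational isometry of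
determinant one lies in `Ω` -/
theorem rational_SO_mem_omega (k₀ : ↥(Cfsg.isometryGroup F₀ ⇑Q₀))
    (hk₀det : (toMat ⇑Q₀ k₀).det = 1) :
    ∃ k : ↥(Cfsg.isometryGroup F ⇑Q), k ∈ Cfsg.Omega F ⇑Q ∧
      toMat ⇑Q k = (toMat ⇑Q₀ k₀).map j := by
  classical
  have h := isGram_gramOf h2 Q
  have h2₀ : (2 : F₀) ≠ 0 := two_ne_zero_of_map j h2
  have h₀ := isGram_gramOf h2₀ Q₀
  have hdet₀ := det_gramOf Q₀ hQnd₀
  obtain ⟨vs₀, hvs₀, hprod₀⟩ := h₀.cartan_dieudonne hdet₀ k₀
  have hev : Even vs₀.length := by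
    have h1 := h₀.det_list vs₀ hvs₀
    rw [← hprod₀, hk₀det] at h1
    by_contra hodd
    rw [Nat.not_even_iff_odd] at hodd
    rw [hodd.neg_one_pow] at h1
    apply h2₀
    linear_combination h1
  set vs := vs₀.map (jv j) with hvsdef
  have hvs : ∀ v ∈ vs, Q v ≠ 0 := by
    intro v hv
    obtain ⟨w, hw, rfl⟩ := List.mem_map.1 hv
    rw [← hQ₀]
    exact fun h0 => hvs₀ w hw ((map_eq_zero j).1 h0)
  set k := (vs.map h.reflG').prod with hkdef
  have hkmat : toMat ⇑Q k = (toMat ⇑Q₀ k₀).map j := by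
    rw [h.toMat_list vs hvs, hprod₀]
    exact reflList_map j Q Q₀ hQ₀ vs₀
  have hkΩ : k ∈ Cfsg.Omega F ⇑Q := by
    refine h.mem_omega_of_even_and_isSquare k vs hvs (h.toMat_list vs hvs)
      (by rw [hvsdef, List.length_map]; exact hev) ?_
    have : (vs.map (fun v => Q v)).prod = j ((vs₀.map (fun v => Q₀ v)).prod) := by
      rw [map_list_prod, List.map_map, List.map_map]
      congr 1
      apply List.map_congr_left
      intro w _
      simp [hQ₀]
    rw [this]
    exact hsq _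
  exact ⟨k, hkΩ, hkmat⟩

variable (hker : ∀ g : ↥(Cfsg.Geo.quadSimilarityGroup (F := F) ⇑Q),
    Phi ⇑Q g = 1 ↔ ∃ c : F, ((g.1 : GL ι F) : Matrix ι ι F) = c • (1 : Matrix ι ι F))

include hQ₀ h2 hQnd₀ hsq hker in
/-- a rational similarity `c₀ k₀` with `det k₀ = 1` induces an inner automorphism -/
theorem mapGO_mem_innPre_of_SO (c₀ : F₀ˣ) (k₀ : ↥(Cfsg.isometryGroup F₀ ⇑Q₀))
    (hk₀det : (toMat ⇑Q₀ k₀).det = 1) :
    mapGO j Q Q₀ hQ₀ (scO Q₀ c₀ * isoGO ⇑Q₀ k₀) ∈ innPre ⇑Q := by
  obtain ⟨k, hkΩ, hkmat⟩ := rational_SO_mem_omega j Q Q₀ hQ₀ h2 hQnd₀ hsq k₀ hk₀det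
  have e : mapGO j Q Q₀ hQ₀ (isoGO ⇑Q₀ k₀) = isoGO ⇑Q k := by
    apply Subtype.ext
    apply Units.ext
    rw [mapGO_val, mapGL_val]
    exact hkmat.symm
  rw [map_mul, mapGO_scO, e]
  exact mem_innPre_of_omega Q hker _ k hkΩ

end rationalSO

section numtheory

variable {F : Type u} [Field F] [Fintype F] {F₀ : Type v} [Field F₀] [Fintype F₀]

/-- a square root (in a quadratic extension) of a non-square of `F₀` is a square iff
`|F₀| ≡ 3 (mod 4)` -/
theorem isSquare_sqrt_iff (j : F₀ →+* F) (h2 : (2 : F) ≠ 0)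
    (hcard : Fintype.card F = Fintype.card F₀ ^ 2) (ν₀ : F₀) (hν : ¬ IsSquare ν₀) (s : F)
    (hs : j ν₀ = s * s) : IsSquare s ↔ Fintype.card F₀ % 4 = 3 := by
  have h2₀ : (2 : F₀) ≠ 0 := two_ne_zero_of_map j h2
  have hc₀ : ringChar F₀ ≠ 2 := ringChar_ne_two_of_two_ne_zero h2₀
  have hc : ringChar F ≠ 2 := ringChar_ne_two_of_two_ne_zero h2
  have hν0 : ν₀ ≠ 0 := by
    rintro rfl
    exact hν ⟨0, by simp⟩
  have hs0 : s ≠ 0 := by
    rintro rfl
    rw [mul_zero] at hs
    exact hν0 ((map_eq_zero j).1 hs)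
  have hodd₀ : Fintype.card F₀ % 2 = 1 := FiniteField.odd_card_of_char_ne_two hc₀
  obtain ⟨a, ha⟩ : ∃ a, Fintype.card F₀ = 2 * a + 1 := ⟨Fintype.card F₀ / 2, by omega⟩
  have hdiv : Fintype.card F₀ / 2 = a := by omega
  have e1 : ν₀ ^ a = -1 := by
    have := FiniteField.pow_dichotomy hc₀ hν0
    rw [hdiv] at this
    rcases this with h | h
    · exfalso
      apply hν
      rw [FiniteField.isSquare_iff hc₀ hν0, hdiv]
      exact h
    · exact h
  have hdivF : Fintype.card F / 2 = 2 * (a * (a + 1)) := by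
    rw [hcard, ha]
    have : (2 * a + 1) ^ 2 = 2 * (2 * (a * (a + 1))) + 1 := by ring
    omega
  rw [FiniteField.isSquare_iff hc hs0, hdivF, pow_mul, pow_two, ← hs, pow_mul, ← map_pow, e1,
    map_neg, map_one]
  have hne : (-1 : F) ≠ 1 := by
    intro h
    apply h2
    linear_combination -h
  rw [_root_.neg_one_pow_eq_one_iff_even hne, Nat.even_iff, ha]
  omega

end numtheory

section delta

variable {m : ℕ} {F : Type u} [Field F] [Fintype F]

theorem scO_comm {ι : Type} [Fintype ι] [DecidableEq ι] (Q : QuadraticForm F (ι → F)) (c : Fˣ)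
    (x : ↥(Cfsg.Geo.quadSimilarityGroup (F := F) ⇑Q)) : scO Q c * x = x * scO Q c := by
  apply Subtype.ext
  apply Units.ext
  rw [Subgroup.coe_mul, Subgroup.coe_mul, Units.val_mul, Units.val_mul, scO_val,
    coe_scalar_eq_smul, Matrix.smul_mul, Matrix.mul_smul, Matrix.one_mul, Matrix.mul_one]

theorem scO_mul {ι : Type} [Fintype ι] [DecidableEq ι] (Q : QuadraticForm F (ι → F))
    (c d : Fˣ) : scO Q (c * d) = scO Q c * scO Q d := by
  apply Subtype.ext
  show Matrix.GeneralLinearGroup.scalar ι (c * d) = _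
  rw [map_mul]
  rfl

/-- the swap of the two halves of the standard basis, as an isometry of the bundled form -/
noncomputable def plusSwap' (m : ℕ) (F : Type u) [Field F] :
    ↥(Cfsg.isometryGroup F ⇑(plusForm m F)) :=
  ⟨(plusSwap m F).1, by
    have h := (plusSwap m F).2
    rw [mem_isometryGroup_iff'] at h ⊢
    intro u
    rw [← plusForm_coe]
    exact h u⟩

theorem plusSim'_mul (c d : Fˣ) : plusSim' (F := F) m (c * d) = plusSim' m c * plusSim' m d := by
  apply Subtype.ext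
  apply Units.ext
  rw [Subgroup.coe_mul, Units.val_mul, plusSim'_val, plusSim'_val, plusSim'_val,
    Matrix.diagonal_mul_diagonal]
  congr 1
  funext i
  rcases i with i | i <;> simp

variable (h2 : (2 : F) ≠ 0)
  (hker : ∀ g : ↥(Cfsg.Geo.quadSimilarityGroup (F := F) ⇑(plusForm m F)),
      Phi ⇑(plusForm m F) g = 1 ↔
        ∃ c : F, ((g.1 : GL (Fin m ⊕ Fin m) F) :
        Matrix (Fin m ⊕ Fin m) (Fin m ⊕ Fin m) F) =
          c • (1 : Matrix (Fin m ⊕ Fin m) (Fin m ⊕ Fin m) F))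

include hker in
/-- the square of `diag(s, 1)` for a non-square `s` is inner iff `m` is even -/
theorem plusSim_sq_mem_innPre_iff (hm : 1 ≤ m)
    (hneg : (isGram_gramOf h2 (plusForm m F)).negO ∈ Cfsg.Omega F ⇑(plusForm m F))
    (su : Fˣ) (hsn : ¬ IsSquare (su : F)) :
    plusSim' m (su * su) ∈ innPre ⇑(plusForm m F) ↔ Even m := by
  classical
  have h := isGram_gramOf h2 (plusForm m F)
  have hdet := det_gramOf (plusForm m F) (plusForm_nondegenerate m F)
  have hN : Fintype.card (Fin m ⊕ Fin m) = 2 * m := plus_hN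
  have hn : 2 ≤ Fintype.card (Fin m ⊕ Fin m) := by rw [hN]; omega
  have hd : ¬ IsSquare (simMult ⇑(plusForm m F) (plusSim' m su) : F) := by
    rw [simMult_plusSim' hm]
    exact hsn
  have hR : (plusSim' m su * isoGO ⇑(plusForm m F) (plusSwap' m F)) *
      (plusSim' m su * isoGO ⇑(plusForm m F) (plusSwap' m F)) =
      scalarGO (isGram_gramOf h2 (plusForm m F)) su := by
    apply Subtype.ext
    have := congrArg Subtype.val (plusSim_swap_sq (m := m) h2 su)
    exact this
  rw [plusSim'_mul, sq_mem_innPre_iff (isGram_gramOf h2 (plusForm m F)) hdet hN hn hker hneg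
    (plusSim' m su) hd (plusSwap' m F) su hR]
  have e : (toMat ⇑(plusForm m F) (plusSwap' m F)).det = (-1) ^ m := plusSwap_det (m := m) (F := F)
  rw [e]
  have hne : (-1 : F) ≠ 1 := by
    intro h
    apply h2
    linear_combination -h
  exact _root_.neg_one_pow_eq_one_iff_even hne

include h2 hker in
/-- `diag(t⁴, 1)` is inner -/
theorem plusSim_fourth_mem_innPre (hm : 1 ≤ m) (tu : Fˣ) :
    plusSim' m ((tu * tu) * (tu * tu)) ∈ innPre ⇑(plusForm m F) := by
  classical
  haveI : Nonempty (Fin m ⊕ Fin m) := ⟨Sum.inl ⟨0, by omega⟩⟩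
  have h := isGram_gramOf h2 (plusForm m F)
  have hdet := det_gramOf (plusForm m F) (plusForm_nondegenerate m F)
  have hne : ∃ v, plusForm m F v ≠ 0 := plus_hne hm
  obtain ⟨cu, k, hk⟩ := sq_decomp (plusForm m F) (plusSim' m (tu * tu)) tu
    (by rw [simMult_plusSim' hm, Units.val_mul])
  have hD : plusSim' m (tu * tu) ∈ simPl m F := by
    rw [mem_simPl_iff_det h2 hm, plusSim'_det, simMult_plusSim' hm]
  have hkD : isoGO ⇑(plusForm m F) k ∈ simPl m F := by
    have e : isoGO ⇑(plusForm m F) k = (scO (plusForm m F) cu)⁻¹ * plusSim' m (tu * tu) := by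
      rw [hk, inv_mul_cancel_left]
    rw [e]
    exact Subgroup.mul_mem _ (Subgroup.inv_mem _ (simP_scalar _ _ _ _ _ cu)) hD
  have hkdet : (toMat ⇑(plusForm m F) k).det = 1 := by
    have := (mem_simPl_iff_det h2 hm _).1 hkD
    rw [simMult_isoGO hne k, Units.val_one, one_pow] at this
    exact this
  obtain ⟨α, hα⟩ := FiniteField.exists_nonsquare (ringChar_ne_two_of_two_ne_zero h2) (F := F)
  have hk2 : k * k ∈ Cfsg.Omega F ⇑(plusForm m F) := by
    rw [← h.ker_signPair hdet α hα, MonoidHom.mem_ker, map_mul]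
    rcases h.signPair_of_det_one hdet α hα k hkdet with h1 | h1
    · rw [h1, mul_one]
    · rw [h1]
      decide
  have e2 : plusSim' m (tu * tu) * plusSim' m (tu * tu) =
      scO (plusForm m F) (cu * cu) * isoGO ⇑(plusForm m F) (k * k) := by
    rw [hk, scO_mul, map_mul]
    have hc := scO_comm (plusForm m F) cu (isoGO ⇑(plusForm m F) k)
    generalize scO (plusForm m F) cu = A at hc ⊢
    generalize isoGO ⇑(plusForm m F) k = B at hc ⊢
    calc A * B * (A * B) = A * (B * A) * B := by group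
      _ = A * (A * B) * B := by rw [← hc]
      _ = _ := by group
  rw [plusSim'_mul, e2]
  exact mem_innPre_of_omega _ hker _ _ hk2

end delta

section counting

theorem index_sup_of_coset {G : Type*} [Group G] (N C : Subgroup G) [N.Normal] (δ : G)
    (hδC : δ ∈ C) (hN : N.index = 4) (hC : ∀ b ∈ C, b ∈ N ∨ b * δ ∈ N) :
    (δ ∈ N → (N ⊔ C).index = 4) ∧ (δ ∉ N → (N ⊔ C).index = 2) := by
  constructor
  · intro hδ
    have hle : C ≤ N := by
      intro b hb
      rcases hC b hb with h | h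
      · exact h
      · exact (Subgroup.mul_mem_cancel_right N hδ).1 h
    rw [sup_eq_left.2 hle, hN]
  · intro hδ
    have h1 : N.relIndex C = 2 := by
      rw [Subgroup.relIndex_eq_two_iff]
      refine ⟨δ, hδC, fun b hb => ?_⟩
      rcases hC b hb with h | h
      · refine Or.inr ⟨h, fun h' => hδ ?_⟩
        exact (Subgroup.mul_mem_cancel_left N h).1 h'
      · refine Or.inl ⟨h, fun h' => hδ ?_⟩
        exact (Subgroup.mul_mem_cancel_left N h').1 h
    have h2 : N.relIndex (N ⊔ C) = 2 := by rw [Subgroup.relIndex_sup_left, h1]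
    have h3 := Subgroup.relIndex_mul_index (le_sup_left : N ≤ N ⊔ C)
    rw [h2, hN] at h3
    omega

variable {ι : Type} [Fintype ι] [DecidableEq ι] {F : Type u} [Field F] [Fintype F]

/-- the number of `Inn`-classes in the class under the image of a group of similarities -/
theorem splitCount_eq_index_sup (Q : QuadraticForm F (ι → F))
    (D : Subgroup ↥(Cfsg.Geo.quadSimilarityGroup (F := F) ⇑Q)) (hle : innPre ⇑Q ≤ D)
    (x : MulAut (Cfsg.POmega F ⇑Q)) :
    Cfsg.splitClassCount (D.map (Phi ⇑Q)) (Cfsg.Inn (Cfsg.POmega F ⇑Q)) x =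
      ((innPre ⇑Q).subgroupOf D ⊔
        (Subgroup.centralizer {x}).comap ((Phi ⇑Q).comp D.subtype)).index := by
  classical
  have hcount := Cfsg.Agent.Lib.Helper45.AutPSL.splitClassCount_eq_index
    ((Phi ⇑Q).comp D.subtype) ((innPre ⇑Q).subgroupOf D) x
  have hrange : ((Phi ⇑Q).comp D.subtype).range = D.map (Phi ⇑Q) := by
    rw [MonoidHom.range_comp, Subgroup.range_subtype]
  have hNmap : ((innPre ⇑Q).subgroupOf D).map ((Phi ⇑Q).comp D.subtype) =
      Cfsg.Inn (Cfsg.POmega F ⇑Q) := by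
    rw [← Subgroup.map_map, Subgroup.subgroupOf_map_subtype, inf_eq_left.2 hle,
      inn_eq_map_innPre]
  rw [hrange, hNmap] at hcount
  exact hcount

end counting

section two

variable {m : ℕ} {F : Type u} [Field F] [Fintype F] {F₀ : Type v} [Field F₀] [Fintype F₀]

/-- every element of `F₀` is a square in a quadratic extension -/
theorem isSquare_of_card_sq (j : F₀ →+* F) (h2 : (2 : F) ≠ 0)
    (hcard : Fintype.card F = Fintype.card F₀ ^ 2) (a₀ : F₀) : IsSquare (j a₀) := by
  by_cases ha0 : a₀ = 0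
  · rw [ha0, map_zero]
    exact ⟨0, by simp⟩
  have h2₀ : (2 : F₀) ≠ 0 := two_ne_zero_of_map j h2
  have hc₀ : ringChar F₀ ≠ 2 := ringChar_ne_two_of_two_ne_zero h2₀
  have hc : ringChar F ≠ 2 := ringChar_ne_two_of_two_ne_zero h2
  have hodd₀ : Fintype.card F₀ % 2 = 1 := FiniteField.odd_card_of_char_ne_two hc₀
  obtain ⟨a, ha⟩ : ∃ a, Fintype.card F₀ = 2 * a + 1 := ⟨Fintype.card F₀ / 2, by omega⟩
  have hdivF : Fintype.card F / 2 = 2 * a * (a + 1) := by
    rw [hcard, ha]
    have : (2 * a + 1) ^ 2 = 2 * (2 * a * (a + 1)) + 1 := by ring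
    omega
  have hja0 : j a₀ ≠ 0 := (map_ne_zero j).2 ha0
  have e1 : a₀ ^ (2 * a) = 1 := by
    have := FiniteField.pow_card_sub_one_eq_one a₀ ha0
    rw [ha] at this
    exact this
  rw [FiniteField.isSquare_iff hc hja0, hdivF, pow_mul, ← map_pow, e1, map_one, one_pow]

theorem plus_two_count (hm : 4 ≤ m) (j : F₀ →+* F) (h2 : (2 : F) ≠ 0) (σ : F ≃+* F)
    (hj : ∀ a, σ a = a ↔ a ∈ Set.range j) (hσr : orderOf σ = 2)
    (hcard : Fintype.card F = Fintype.card F₀ ^ 2) :
    ((Odd m ∧ Fintype.card F₀ % 4 = 1) →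
      Cfsg.splitClassCount ((simPl m F).map (Phi ⇑(plusForm m F)))
        (Cfsg.Inn (Cfsg.POmega F ⇑(plusForm m F)))
        (phiF (plusForm m F) σ (plus_inv σ)) = 2) ∧
    (¬ (Odd m ∧ Fintype.card F₀ % 4 = 1) →
      Cfsg.splitClassCount ((simPl m F).map (Phi ⇑(plusForm m F)))
        (Cfsg.Inn (Cfsg.POmega F ⇑(plusForm m F)))
        (phiF (plusForm m F) σ (plus_inv σ)) = 4) := by
  classical
  haveI : Nonempty (Fin m ⊕ Fin m) := ⟨Sum.inl ⟨0, by omega⟩⟩
  have hn : finrank F (Fin m ⊕ Fin m → F) = 2 * m := plus_hV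
  have hn₀ : finrank F₀ (Fin m ⊕ Fin m → F₀) = 2 * m := plus_hV
  have hnd := plusForm_nondegenerate m F
  have hnd₀ := plusForm_nondegenerate m F₀
  have h2₀ : (2 : F₀) ≠ 0 := two_ne_zero_of_map j h2
  have hne : ∃ v, plusForm m F v ≠ 0 := plus_hne (by omega)
  have hne₀ : ∃ v, plusForm m F₀ v ≠ 0 := plus_hne (by omega)
  have hQ₀ := plus_hQ₀' (m := m) j
  have hker := Phi_eq_one_iff (plusForm m F) hnd (plus_hypFam37 m F)
    (by omega) (Or.inr (by rw [hn]; omega)) (by rw [hn]; omega) (fun _ => by rw [hn]; omega)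
  have hsq := isSquare_of_card_sq j h2 hcard
  have h := isGram_gramOf h2 (plusForm m F)
  have hdet := det_gramOf (plusForm m F) hnd
  have h₀ := isGram_gramOf h2₀ (plusForm m F₀)
  have hN : Fintype.card (Fin m ⊕ Fin m) = 2 * m := plus_hN
  have hnc : 2 ≤ Fintype.card (Fin m ⊕ Fin m) := by rw [hN]; omega
  have hle := innPre_le_simP (plusForm m F) hnd plus_hV (stdL m F) plus_lag hker
  -- `-1 ∈ Ω`
  have hneg : (isGram_gramOf h2 (plusForm m F)).negO ∈ Cfsg.Omega F ⇑(plusForm m F) := by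
    obtain ⟨k, hkΩ, hkmat⟩ := rational_SO_mem_omega j (plusForm m F) (plusForm m F₀) hQ₀ h2 hnd₀
      hsq h₀.negO (h₀.det_negO hN)
    have : k = (isGram_gramOf h2 (plusForm m F)).negO := by
      apply toMat_injective
      rw [hkmat, h₀.toMat_negO, (isGram_gramOf h2 (plusForm m F)).toMat_negO]
      ext a b
      simp [Matrix.map_apply, Matrix.neg_apply, Matrix.one_apply]
    rw [← this]
    exact hkΩ
  -- the index of the inner part
  have hDC : simPl m F = simC (isGram_gramOf h2 (plusForm m F)) hdet hN hnc := by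
    ext g
    rw [mem_simC_iff _ _ _ _ hker, mem_simPl_iff_det h2 (by omega)]
  obtain ⟨α, hα⟩ := FiniteField.exists_nonsquare (ringChar_ne_two_of_two_ne_zero h2) (F := F)
  have hα0 : α ≠ 0 := by
    rintro rfl
    exact hα ⟨0, by simp⟩
  have hNidx : ((innPre ⇑(plusForm m F)).subgroupOf (simPl m F)).index = 4 := by
    have := relIndex_innPre_simC (isGram_gramOf h2 (plusForm m F)) hdet hN hnc hker
      (plusSim' m (Units.mk0 α hα0))
      (by rw [simMult_plusSim' (by omega), Units.val_mk0]; exact hα) hneg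
    rw [← hDC] at this
    exact this
  -- the element δ
  obtain ⟨ν₀, hνsq⟩ := FiniteField.exists_nonsquare (ringChar_ne_two_of_two_ne_zero h2₀) (F := F₀)
  have hν0 : ν₀ ≠ 0 := by
    rintro rfl
    exact hνsq ⟨0, by simp⟩
  obtain ⟨s, hs⟩ := hsq ν₀
  have hs0 : s ≠ 0 := by
    rintro rfl
    rw [mul_zero] at hs
    exact hν0 ((map_eq_zero j).1 hs)
  set δ := mapGO j (plusForm m F) (plusForm m F₀) hQ₀ (plusSim' m (Units.mk0 ν₀ hν0)) with hδ
  have hδeq : δ = plusSim' m (Units.mk0 s hs0 * Units.mk0 s hs0) := by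
    apply Subtype.ext
    apply Units.ext
    rw [hδ, mapGO_val, mapGL_val, plusSim'_val, plusSim'_val]
    ext a b
    rw [Matrix.map_apply, Matrix.diagonal_apply, Matrix.diagonal_apply]
    split_ifs with hab
    · rcases a with a | a
      · simp only [Sum.elim_inl, Units.val_mk0, Units.val_mul]
        exact hs
      · simp
    · simp
  have hδD₀ : plusSim' m (Units.mk0 ν₀ hν0) ∈ simPl m F₀ := by
    rw [mem_simPl_iff_det h2₀ (by omega), plusSim'_det, simMult_plusSim' (by omega)]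
  have hδD : δ ∈ simPl m F := (simPl_mapGO_iff j (by omega) _).2 hδD₀
  have hδgm : gm σ δ.1 = δ.1 := by
    rw [hδ, mapGO_val]
    exact gm_mapGL j σ hj _
  have hδiff : δ ∈ innPre ⇑(plusForm m F) ↔ ¬ (Odd m ∧ Fintype.card F₀ % 4 = 1) := by
    have hodd₀ : Fintype.card F₀ % 2 = 1 :=
      FiniteField.odd_card_of_char_ne_two (ringChar_ne_two_of_two_ne_zero h2₀)
    have hiff := isSquare_sqrt_iff j h2 hcard ν₀ hνsq s hs
    by_cases hss : IsSquare s
    · have h3 := hiff.1 hss
      obtain ⟨t, ht⟩ := hss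
      have ht0 : t ≠ 0 := by
        rintro rfl
        rw [mul_zero] at ht
        exact hs0 ht
      have e : Units.mk0 s hs0 = Units.mk0 t ht0 * Units.mk0 t ht0 := by
        apply Units.ext
        rw [Units.val_mul, Units.val_mk0, Units.val_mk0]
        exact ht
      constructor
      · intro _ hc
        omega
      · intro _
        rw [hδeq, e]
        exact plusSim_fourth_mem_innPre h2 hker (by omega) _
    · have h3 : Fintype.card F₀ % 4 = 1 := by
        have : ¬ Fintype.card F₀ % 4 = 3 := fun hc => hss (hiff.2 hc)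
        omega
      rw [hδeq, plusSim_sq_mem_innPre_iff h2 hker (by omega) hneg _
        (by rw [Units.val_mk0]; exact hss)]
      constructor
      · intro hev hc
        exact (Nat.not_even_iff_odd.2 hc.1) hev
      · intro hc
        by_contra hev
        exact hc ⟨Nat.not_even_iff_odd.1 hev, h3⟩
  -- rational elements
  have hrat : ∀ g₀ : ↥(Cfsg.Geo.quadSimilarityGroup (F := F₀) ⇑(plusForm m F₀)),
      g₀ ∈ simPl m F₀ → IsSquare (simMult ⇑(plusForm m F₀) g₀ : F₀) →
      mapGO j (plusForm m F) (plusForm m F₀) hQ₀ g₀ ∈ innPre ⇑(plusForm m F) := by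
    intro g₀ hg₀ hsq₀
    obtain ⟨s₀, hs₀⟩ := hsq₀
    obtain ⟨cu, k₀, hk₀⟩ := sq_decomp (plusForm m F₀) g₀ s₀ hs₀
    have hkD : isoGO ⇑(plusForm m F₀) k₀ ∈ simPl m F₀ := by
      have e : isoGO ⇑(plusForm m F₀) k₀ = (scO (plusForm m F₀) cu)⁻¹ * g₀ := by
        rw [hk₀, inv_mul_cancel_left]
      rw [e]
      exact Subgroup.mul_mem _ (Subgroup.inv_mem _ (simP_scalar _ _ _ _ _ cu)) hg₀
    have hkdet : (toMat ⇑(plusForm m F₀) k₀).det = 1 := by
      have := (mem_simPl_iff_det h2₀ (by omega) _).1 hkD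
      rw [simMult_isoGO hne₀ k₀, Units.val_one, one_pow] at this
      exact this
    rw [hk₀]
    exact mapGO_mem_innPre_of_SO j (plusForm m F) (plusForm m F₀) hQ₀ h2 hnd₀ hsq hker cu k₀ hkdet
  have hcount := splitCount_eq_index_sup (plusForm m F) (simPl m F) hle
    (phiF (plusForm m F) σ (plus_inv σ))
  rw [hcount]
  have hδC : (⟨δ, hδD⟩ : ↥(simPl m F)) ∈
      (Subgroup.centralizer {phiF (plusForm m F) σ (plus_inv σ)}).comap
        ((Phi ⇑(plusForm m F)).comp (simPl m F).subtype) := by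
    rw [Subgroup.mem_comap]
    exact rat_mem_cent (plusForm m F) σ (plus_inv σ) hker δ hδgm
  have hC : ∀ b ∈ (Subgroup.centralizer {phiF (plusForm m F) σ (plus_inv σ)}).comap
        ((Phi ⇑(plusForm m F)).comp (simPl m F).subtype),
      b ∈ (innPre ⇑(plusForm m F)).subgroupOf (simPl m F) ∨
        b * (⟨δ, hδD⟩ : ↥(simPl m F)) ∈ (innPre ⇑(plusForm m F)).subgroupOf (simPl m F) := by
    intro b hb
    rw [Subgroup.mem_comap, Subgroup.mem_centralizer_iff] at hb
    have hcomm := (hb _ rfl).symm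
    obtain ⟨e', g₀, hg₀⟩ := exists_rational_of_comm j (plusForm m F) (plusForm m F₀) hQ₀ σ hj
      (plus_inv σ) hker b.1 hcomm hne₀ 2 hσr (by norm_num)
    have hg₀D : g₀ ∈ simPl m F₀ := by
      rw [← simPl_mapGO_iff j (by omega), hg₀]
      exact Subgroup.mul_mem _ (simP_scalar _ _ _ _ _ e') b.2
    have hscN : scO (plusForm m F) e' ∈ innPre ⇑(plusForm m F) := by
      unfold innPre
      rw [Subgroup.mem_comap, Phi_scO _ hker]
      exact Subgroup.one_mem _
    by_cases hsq₀ : IsSquare (simMult ⇑(plusForm m F₀) g₀ : F₀)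
    · left
      rw [Subgroup.mem_subgroupOf]
      have h1 := hrat g₀ hg₀D hsq₀
      rw [hg₀] at h1
      exact (Subgroup.mul_mem_cancel_left _ hscN).1 h1
    · right
      rw [Subgroup.mem_subgroupOf]
      have h3 : IsSquare (simMult ⇑(plusForm m F₀) (g₀ * plusSim' m (Units.mk0 ν₀ hν0)) : F₀) := by
        rw [← simMultHom_apply hne₀, map_mul, Units.val_mul, simMultHom_apply, simMultHom_apply,
          simMult_plusSim' (by omega), Units.val_mk0]
        exact isSquare_mul_of_nonsquare _ _ hsq₀ hνsq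
      have h1 := hrat _ (Subgroup.mul_mem _ hg₀D hδD₀) h3
      rw [map_mul, hg₀, ← hδ, mul_assoc] at h1
      exact (Subgroup.mul_mem_cancel_left _ hscN).1 h1
  obtain ⟨hA, hB⟩ := index_sup_of_coset _ _ (⟨δ, hδD⟩ : ↥(simPl m F)) hδC hNidx hC
  constructor
  · intro hc
    apply hB
    intro hmem
    rw [Subgroup.mem_subgroupOf] at hmem
    exact (hδiff.1 hmem) hc
  · intro hc
    apply hA
    rw [Subgroup.mem_subgroupOf]
    exact hδiff.2 hc

end two

end Cfsg.Agent.Lib.Helper37.OrthField
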