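import Cfsg.Agent.Lib.Helper37.InnDiag
import Cfsg.Agent.Lib.Helper37.OrthPlusTwo

set_option autoImplicit false
set_option linter.unusedSectionVars false
set_option linter.unusedVariables false

/-!
# Involutory graph automorphisms of even-dimensional orthogonal groups: the class splitting
(generic part)
-/

namespace Cfsg.Agent.Lib.Helper37.GraphInv

open Matrix Module Cfsg.Agent.Lib.Helper37 Cfsg.Agent.Lib.Helper37.IsGram

universe u

variable {κ : Type} [Fintype κ] [DecidableEq κ] {F : Type u} [Field F] [Fintype F] [DecidableEq F]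
  {Q : (κ → F) → F} {G : Matrix κ κ F}

theorem gi_isSquare_mul (x y : F) (hx : ¬ IsSquare x) (hy : ¬ IsSquare y) :
    IsSquare (x * y) := by
  have hx0 : x ≠ 0 := by
    rintro rfl
    exact hx ⟨0, by simp⟩
  have hy0 : y ≠ 0 := by
    rintro rfl
    exact hy ⟨0, by simp⟩
  rw [← quadraticChar_one_iff_isSquare (mul_ne_zero hx0 hy0), map_mul,
    quadraticChar_neg_one_iff_not_isSquare.2 hx, quadraticChar_neg_one_iff_not_isSquare.2 hy]
  norm_num

theorem gi_swap_aux : ∀ p1 p2 : ℤˣ, ¬ (p1 * p2 = 1) →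
    ((p1, p2) : ℤˣ × ℤˣ) * Prod.swap ((p1, p2) : ℤˣ × ℤˣ)⁻¹ = (-1, -1) := by decide

section core

variable (h : IsGram Q G) (hdet : G.det ≠ 0) {N : ℕ} (hN : Fintype.card κ = 2 * N)
  (hn : 2 ≤ Fintype.card κ)
  (hker : ∀ g : ↥(Cfsg.Geo.quadSimilarityGroup (F := F) Q),
      Phi Q g = 1 ↔ ∃ c : F, ((g.1 : GL κ F) : Matrix κ κ F) = c • (1 : Matrix κ κ F))

include h hdet hN hn hker

theorem scalarGO_mem_simC (c : Fˣ) : scalarGO h c ∈ simC h hdet hN hn :=
  innPre_le_simC h hdet hN hn hker (scalarGO_mem_innPre h hdet hN hn hker c)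

/-- an isometry of determinant `≠ 1` cannot commute modulo scalars with a similarity with
non-square multiplier (when `-1 ∈ Ω`) -/
theorem stepB_iso (hneg : h.negO ∈ Cfsg.Omega F Q)
    (b : ↥(Cfsg.Geo.quadSimilarityGroup (F := F) Q)) (hbμ : ¬ IsSquare (simMult Q b : F))
    (k0 : ↥(Cfsg.isometryGroup F Q)) (hk0 : (toMat Q k0).det ≠ 1) (c : Fˣ)
    (hcomm : isoGO Q k0 * b * (isoGO Q k0)⁻¹ * b⁻¹ = scalarGO h c) : False := by
  have hne := exists_Q_eq_one h hdet hn
  obtain ⟨α, hα⟩ := FiniteField.exists_nonsquare (ringChar_ne_two_of_two_ne_zero h.two_ne) (F := F)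
  have e1 : isoGO Q k0 * b * (isoGO Q k0)⁻¹ * b⁻¹ = isoGO Q (k0 * simConjHom Q b k0⁻¹) := by
    rw [map_mul, isoGO_simConjHom, map_inv]
    group
  have hsp : signPair Q α (k0 * simConjHom Q b k0⁻¹) = (-1, -1) := by
    rw [map_mul, signPair_conj h hdet α hα b hbμ, map_inv]
    have h1 : ¬ (signChar Q 1 k0 * signChar Q α k0 = 1) := fun hh =>
      hk0 ((h.signChar_mul_eq_one_iff hdet α hα k0).1 hh)
    have h0 : signPair Q α k0 = (signChar Q 1 k0, signChar Q α k0) := rfl
    rw [h0]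
    exact gi_swap_aux _ _ h1
  have hcases := scalar_iso_cases h hne c (k0 * simConjHom Q b k0⁻¹) 1
    (by rw [map_one, mul_one, ← e1, hcomm])
  have hΩ : k0 * simConjHom Q b k0⁻¹ ∈ Cfsg.Omega F Q := by
    rcases hcases with h3 | h3
    · rw [h3]; exact Subgroup.one_mem _
    · rw [h3, mul_one]; exact hneg
  rw [← h.ker_signPair hdet α hα, MonoidHom.mem_ker, hsp] at hΩ
  exact absurd hΩ (by decide)

/-- the same for a similarity with square multiplier outside `simC` -/
theorem stepB_sq (hneg : h.negO ∈ Cfsg.Omega F Q)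
    (b g : ↥(Cfsg.Geo.quadSimilarityGroup (F := F) Q)) (hbμ : ¬ IsSquare (simMult Q b : F))
    (hg : g ∉ simC h hdet hN hn) (hgμ : IsSquare (simMult Q g : F)) (c : Fˣ)
    (hcomm : g * b * g⁻¹ * b⁻¹ = scalarGO h c) : False := by
  have hne := exists_Q_eq_one h hdet hn
  obtain ⟨d, hd⟩ := isSquare_units (simMult Q g) hgμ
  obtain ⟨k, hk⟩ := exists_scalar_mul_iso h g d hd
  have hkdet : (toMat Q k).det ≠ 1 := by
    intro h1
    apply hg
    rw [hk]
    apply Subgroup.mul_mem _ (scalarGO_mem_simC h hdet hN hn hker d)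
    rw [mem_simC_iff h hdet hN hn hker, simMult_isoGO hne, Units.val_one, one_pow]
    exact h1
  have hz : ∀ x : ↥(Cfsg.Geo.quadSimilarityGroup (F := F) Q),
      scalarGO h d * x = x * scalarGO h d := scalarGO_comm h d
  have e : g * b * g⁻¹ * b⁻¹ = isoGO Q k * b * (isoGO Q k)⁻¹ * b⁻¹ := by
    rw [hk]
    calc scalarGO h d * isoGO Q k * b * (scalarGO h d * isoGO Q k)⁻¹ * b⁻¹
        = scalarGO h d * (isoGO Q k * b * (isoGO Q k)⁻¹) * (scalarGO h d)⁻¹ * b⁻¹ := by group
      _ = (isoGO Q k * b * (isoGO Q k)⁻¹) * scalarGO h d * (scalarGO h d)⁻¹ * b⁻¹ := by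
          rw [hz]
      _ = isoGO Q k * b * (isoGO Q k)⁻¹ * b⁻¹ := by group
  rw [e] at hcomm
  exact stepB_iso h hdet hN hn hker hneg b hbμ k hkdet c hcomm

/-- Step B: an element outside `simC` cannot commute modulo scalars with an element of `simC`
with non-square multiplier (when `-1 ∈ Ω`) -/
theorem stepB (hneg : h.negO ∈ Cfsg.Omega F Q)
    (b g : ↥(Cfsg.Geo.quadSimilarityGroup (F := F) Q)) (hb : b ∈ simC h hdet hN hn)
    (hbμ : ¬ IsSquare (simMult Q b : F))
    (hg : g ∉ simC h hdet hN hn) (c : Fˣ)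
    (hcomm : g * b * g⁻¹ * b⁻¹ = scalarGO h c) : False := by
  have hne := exists_Q_eq_one h hdet hn
  by_cases hgμ : IsSquare (simMult Q g : F)
  · exact stepB_sq h hdet hN hn hker hneg b g hbμ hg hgμ c hcomm
  · apply stepB_sq h hdet hN hn hker hneg b (g * b) hbμ _ _ c
    · rw [← hcomm]; group
    · intro hgb
      apply hg
      have := Subgroup.mul_mem _ hgb (Subgroup.inv_mem _ hb)
      rwa [mul_inv_cancel_right] at this
    · rw [← simMultHom_apply hne, map_mul, Units.val_mul, simMultHom_apply, simMultHom_apply]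
      exact gi_isSquare_mul _ _ hgμ hbμ

/-- elements of `simC` centralizing a graph automorphism have square multiplier -/
theorem cent_isSquare (hneg : h.negO ∈ Cfsg.Omega F Q)
    (b g : ↥(Cfsg.Geo.quadSimilarityGroup (F := F) Q)) (hb : b ∈ simC h hdet hN hn)
    (hg : g ∉ simC h hdet hN hn) (hcomm : Phi Q b * Phi Q g = Phi Q g * Phi Q b) :
    IsSquare (simMult Q b : F) := by
  have hne := exists_Q_eq_one h hdet hn
  by_contra hbμ
  have h1 : Phi Q (g * b * g⁻¹ * b⁻¹) = 1 := by
    rw [map_mul, map_mul, map_mul, map_inv, map_inv, ← hcomm]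
    group
  obtain ⟨c, hc⟩ := (hker _).1 h1
  obtain ⟨c', -, hc'⟩ := eq_scalarGO_of_val h hne _ c hc
  exact stepB h hdet hN hn hker hneg b g hb hbμ hg c' hc'

/-- the count when `-1 ∈ Ω` -/
theorem count_eq_two (hneg : h.negO ∈ Cfsg.Omega F Q)
    (d0 : ↥(Cfsg.Geo.quadSimilarityGroup (F := F) Q)) (hd0 : ¬ IsSquare (simMult Q d0 : F))
    (g : ↥(Cfsg.Geo.quadSimilarityGroup (F := F) Q)) (hg : g ∉ simC h hdet hN hn)
    (k1 : ↥(Cfsg.isometryGroup F Q)) (hk1det : (toMat Q k1).det = 1)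
    (hk1 : k1 ∉ Cfsg.Omega F Q)
    (hk1c : Phi Q (isoGO Q k1) * Phi Q g = Phi Q g * Phi Q (isoGO Q k1)) :
    ((innPre Q).subgroupOf (simC h hdet hN hn) ⊔
      (Subgroup.centralizer {Phi Q g}).comap
        ((Phi Q).comp (simC h hdet hN hn).subtype)).index = 2 := by
  have hne := exists_Q_eq_one h hdet hn
  obtain ⟨α, hα⟩ := FiniteField.exists_nonsquare (ringChar_ne_two_of_two_ne_zero h.two_ne) (F := F)
  have hNidx : ((innPre Q).subgroupOf (simC h hdet hN hn)).index = 4 :=
    relIndex_innPre_simC h hdet hN hn hker d0 hd0 hneg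
  have hδD : isoGO Q k1 ∈ simC h hdet hN hn := by
    rw [mem_simC_iff h hdet hN hn hker, simMult_isoGO hne, Units.val_one, one_pow]
    exact hk1det
  have hsp1 : signPair Q α k1 = (-1, -1) := by
    rcases h.signPair_of_det_one hdet α hα k1 hk1det with h1 | h1
    · exfalso
      apply hk1
      rw [← h.ker_signPair hdet α hα, MonoidHom.mem_ker]
      exact h1
    · exact h1
  have hδC : (⟨isoGO Q k1, hδD⟩ : ↥(simC h hdet hN hn)) ∈
      (Subgroup.centralizer {Phi Q g}).comap ((Phi Q).comp (simC h hdet hN hn).subtype) := by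
    rw [Subgroup.mem_comap, Subgroup.mem_centralizer_iff]
    rintro _ rfl
    exact hk1c.symm
  have hC : ∀ b ∈ (Subgroup.centralizer {Phi Q g}).comap
        ((Phi Q).comp (simC h hdet hN hn).subtype),
      b ∈ (innPre Q).subgroupOf (simC h hdet hN hn) ∨
        b * (⟨isoGO Q k1, hδD⟩ : ↥(simC h hdet hN hn)) ∈
          (innPre Q).subgroupOf (simC h hdet hN hn) := by
    intro b hb
    rw [Subgroup.mem_comap, Subgroup.mem_centralizer_iff] at hb
    have hcomm : Phi Q b.1 * Phi Q g = Phi Q g * Phi Q b.1 := (hb _ rfl).symm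
    have hsq := cent_isSquare h hdet hN hn hker hneg b.1 g b.2 hg hcomm
    obtain ⟨d, hd⟩ := isSquare_units (simMult Q b.1) hsq
    obtain ⟨k, hk⟩ := exists_scalar_mul_iso h b.1 d hd
    have hkC : isoGO Q k ∈ simC h hdet hN hn := by
      have e : isoGO Q k = (scalarGO h d)⁻¹ * b.1 := by rw [hk, inv_mul_cancel_left]
      rw [e]
      exact Subgroup.mul_mem _ (Subgroup.inv_mem _ (scalarGO_mem_simC h hdet hN hn hker d)) b.2
    have hkdet : (toMat Q k).det = 1 := by
      have := (mem_simC_iff h hdet hN hn hker _).1 hkC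
      rw [simMult_isoGO hne, Units.val_one, one_pow] at this
      exact this
    rw [Subgroup.mem_subgroupOf, Subgroup.mem_subgroupOf]
    rcases h.signPair_of_det_one hdet α hα k hkdet with h1 | h1
    · left
      rw [mem_innPre_iff h hne hker]
      refine ⟨d, k, ?_, hk⟩
      rw [← h.ker_signPair hdet α hα, MonoidHom.mem_ker]
      exact h1
    · right
      rw [mem_innPre_iff h hne hker]
      refine ⟨d, k * k1, ?_, ?_⟩
      · rw [← h.ker_signPair hdet α hα, MonoidHom.mem_ker, map_mul, h1, hsp1]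
        decide
      · show b.1 * isoGO Q k1 = _
        rw [hk, map_mul, mul_assoc]
  have hδN : (⟨isoGO Q k1, hδD⟩ : ↥(simC h hdet hN hn)) ∉
      (innPre Q).subgroupOf (simC h hdet hN hn) := by
    rw [Subgroup.mem_subgroupOf]
    show isoGO Q k1 ∉ innPre Q
    rw [isoGO_mem_innPre_iff h hdet hN hn hker hneg]
    exact hk1
  exact (Cfsg.Agent.Lib.Helper37.OrthField.index_sup_of_coset _ _ _ hδC hNidx hC).2 hδN

/-- the count when `-1 ∉ Ω` -/
theorem count_le_two (hneg : h.negO ∉ Cfsg.Omega F Q)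
    (C : Subgroup ↥(simC h hdet hN hn)) :
    ((innPre Q).subgroupOf (simC h hdet hN hn) ⊔ C).index = 1 ∨
    ((innPre Q).subgroupOf (simC h hdet hN hn) ⊔ C).index = 2 := by
  have hne := exists_Q_eq_one h hdet hn
  have hNker : (innPre Q).subgroupOf (simC h hdet hN hn) =
      ((simA hne).comp (simC h hdet hN hn).subtype).ker := by
    ext g
    rw [MonoidHom.mem_ker, MonoidHom.comp_apply, Subgroup.mem_subgroupOf,
      innPre_eq_ker h hdet hN hn hker hneg, MonoidHom.mem_ker]
    have hg2 : simD h hdet hne hN g.1 = 1 := g.2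
    constructor
    · intro h1
      exact congrArg Prod.fst h1
    · intro h1
      exact Prod.ext h1 hg2
  have h1 : ((innPre Q).subgroupOf (simC h hdet hN hn)).index ∣ 2 := by
    rw [hNker, Subgroup.index_ker]
    have := Subgroup.card_subgroup_dvd_card ((simA hne).comp (simC h hdet hN hn).subtype).range
    rwa [Nat.card_eq_fintype_card (α := ℤˣ), Fintype.card_units_int] at this
  have h2 := Subgroup.index_dvd_of_le (le_sup_left :
    (innPre Q).subgroupOf (simC h hdet hN hn) ≤ (innPre Q).subgroupOf (simC h hdet hN hn) ⊔ C)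
  have h3 := dvd_trans h2 h1
  have h4 := Nat.le_of_dvd (by norm_num) h3
  have h5 : ((innPre Q).subgroupOf (simC h hdet hN hn) ⊔ C).index ≠ 0 := by
    intro h0
    rw [h0] at h3
    simp at h3
  omega

end core

end Cfsg.Agent.Lib.Helper37.GraphInv
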