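import Cfsg.Agent.Lib.Helper37.GraphInv1
import Cfsg.Agent.S0756

set_option autoImplicit false
set_option linter.unusedSectionVars false
set_option linter.unusedVariables false

/-!
# Involutory graph automorphisms: the centralizing rotation outside `Ω`
-/

namespace Cfsg.Agent.Lib.Helper37.GraphInv

open Matrix Module Cfsg.Agent.Lib.Helper37 Cfsg.Agent.Lib.Helper37.IsGram

universe u

theorem det_of_involution_eigen {K V : Type*} [Field K] [AddCommGroup V] [Module K V]
    [FiniteDimensional K V] (a : Module.End K V) (E1 E2 : Submodule K V) (hc : IsCompl E1 E2)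
    (h1 : ∀ x ∈ E1, a x = x) (h2 : ∀ x ∈ E2, a x = -x) :
    LinearMap.det a = (-1) ^ finrank K E2 := by
  set e := Submodule.prodEquivOfIsCompl E1 E2 hc with he
  have hconj : a = (e : (↥E1 × ↥E2) →ₗ[K] V) ∘ₗ
      (LinearMap.prodMap (LinearMap.id : ↥E1 →ₗ[K] ↥E1) ((-1 : K) • (LinearMap.id : ↥E2 →ₗ[K] ↥E2))) ∘ₗ
      (e.symm : V →ₗ[K] (↥E1 × ↥E2)) := by
    apply LinearMap.ext
    intro v
    obtain ⟨⟨x1, x2⟩, rfl⟩ := e.surjective v
    simp only [LinearMap.comp_apply, LinearEquiv.coe_coe, LinearEquiv.symm_apply_apply,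
      LinearMap.prodMap_apply, LinearMap.id_apply, LinearMap.smul_apply]
    rw [he, Submodule.coe_prodEquivOfIsCompl', Submodule.coe_prodEquivOfIsCompl', map_add,
      h1 x1.1 x1.2, h2 x2.1 x2.2]
    simp
  rw [hconj, LinearMap.det_conj, LinearMap.det_prodMap, LinearMap.det_smul]
  simp

variable {κ : Type} [Fintype κ] [DecidableEq κ] {F : Type u} [Field F] [Fintype F] [DecidableEq F]
  {Q : (κ → F) → F} {G : Matrix κ κ F}

/-- a product of two reflections with non-square product of norms is a rotation outside `Ω` -/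
theorem pair_refl_k1 (h : IsGram Q G) (hdet : G.det ≠ 0) (u u' : κ → F) (hu : Q u ≠ 0)
    (hu' : Q u' ≠ 0) (hns : ¬ IsSquare (Q u * Q u')) :
    (toMat Q (h.reflG u hu * h.reflG u' hu')).det = 1 ∧
      h.reflG u hu * h.reflG u' hu' ∉ Cfsg.Omega F Q := by
  obtain ⟨α, hα⟩ := FiniteField.exists_nonsquare (ringChar_ne_two_of_two_ne_zero h.two_ne) (F := F)
  constructor
  · rw [map_mul, Matrix.det_mul]
    have e1 : toMat Q (h.reflG u hu) = Cfsg.reflectionMatrix Q u := rfl
    have e2 : toMat Q (h.reflG u' hu') = Cfsg.reflectionMatrix Q u' := rfl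
    rw [e1, e2, h.det_refl u hu, h.det_refl u' hu']
    ring
  · intro hΩ
    rw [← h.ker_signPair hdet α hα, MonoidHom.mem_ker, map_mul] at hΩ
    by_cases h1 : IsSquare (Q u)
    · have h2 : ¬ IsSquare (Q u') := by
        intro h2
        exact hns (h1.mul h2)
      rw [(h.signPair_reflG u hu α hα).1 h1, (h.signPair_reflG u' hu' α hα).2 h2] at hΩ
      exact absurd hΩ (by decide)
    · have h2 : IsSquare (Q u') := by
        by_contra h2
        exact hns (gi_isSquare_mul _ _ h1 h2)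
      rw [(h.signPair_reflG u hu α hα).2 h1, (h.signPair_reflG u' hu' α hα).1 h2] at hΩ
      exact absurd hΩ (by decide)

/-- a similarity fixes (by conjugation) the reflection in an eigenvector -/
theorem conj_refl_eigen (h : IsGram Q G) (g : ↥(Cfsg.Geo.quadSimilarityGroup (F := F) Q))
    (u : κ → F) (hu : Q u ≠ 0) (c : F) (hc : c ≠ 0)
    (hgu : (g.1 : Matrix κ κ F) *ᵥ u = c • u) :
    g * isoGO Q (h.reflG u hu) * g⁻¹ = isoGO Q (h.reflG u hu) := by
  rw [conj_reflG_sim h g u hu]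
  congr 1
  apply h.reflG_congr
  rw [hgu, h.refl_smul u c hc]

/-- reflections in orthogonal vectors commute -/
theorem refl_comm_of_orth (h : IsGram Q G) (u u' : κ → F) (hu : Q u ≠ 0) (hu' : Q u' ≠ 0)
    (horth : Matrix.toBilin' G u u' = 0) :
    h.reflG u hu * h.reflG u' hu' = h.reflG u' hu' * h.reflG u hu := by
  have h1 := conj_reflG_sim h (isoGO Q (h.reflG u hu)) u' hu'
  have h2 : ((isoGO Q (h.reflG u hu)).1 : Matrix κ κ F) *ᵥ u' = u' := by
    show Cfsg.reflectionMatrix Q u *ᵥ u' = u'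
    exact h.refl_fixes u u' horth
  have h3 : isoGO Q (h.reflG u hu) * isoGO Q (h.reflG u' hu') * (isoGO Q (h.reflG u hu))⁻¹ =
      isoGO Q (h.reflG u' hu') := by
    rw [h1]
    congr 1
    apply h.reflG_congr
    rw [h2]
  rw [← map_inv, ← map_mul, ← map_mul] at h3
  have h4 := isoGO_injective h3
  calc h.reflG u hu * h.reflG u' hu'
      = (h.reflG u hu * h.reflG u' hu' * (h.reflG u hu)⁻¹) * h.reflG u hu := by group
    _ = h.reflG u' hu' * h.reflG u hu := by rw [h4]

/-- the commutation with `Phi g` of a rotation fixed by conjugation -/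
theorem phi_comm_of_conj (g : ↥(Cfsg.Geo.quadSimilarityGroup (F := F) Q))
    (k : ↥(Cfsg.isometryGroup F Q)) (hk : g * isoGO Q k * g⁻¹ = isoGO Q k) :
    Phi Q (isoGO Q k) * Phi Q g = Phi Q g * Phi Q (isoGO Q k) := by
  rw [← map_mul, ← map_mul]
  congr 1
  have : g * isoGO Q k = isoGO Q k * g := by
    calc g * isoGO Q k = (g * isoGO Q k * g⁻¹) * g := by group
      _ = isoGO Q k * g := by rw [hk]
  exact this.symm

theorem gram_isSymm (h : IsGram Q G) : (Matrix.toBilin' G).IsSymm :=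
  ⟨fun x y => h.symmB x y⟩

/-- in a subspace of dimension at least two with an orthogonal complement there are two
non-singular vectors whose norms lie in different square classes -/
theorem sub_pair (h : IsGram Q G) (hdet : G.det ≠ 0) (E E' : Submodule F (κ → F))
    (hc : IsCompl E E') (horth : ∀ x ∈ E, ∀ y ∈ E', Matrix.toBilin' G x y = 0)
    (hE : 2 ≤ finrank F E) :
    ∃ u ∈ E, ∃ u' ∈ E, Q u ≠ 0 ∧ Q u' ≠ 0 ∧ ¬ IsSquare (Q u * Q u') := by
  have h2 := h.two_ne
  haveI : Invertible (2 : F) := invertibleOfNonzero h2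
  obtain ⟨α, hα⟩ := FiniteField.exists_nonsquare (ringChar_ne_two_of_two_ne_zero h2) (F := F)
  have hα0 : α ≠ 0 := by
    rintro rfl
    exact hα ⟨0, by simp⟩
  have hnd := (h.qsys hdet).nondeg
  set B := Matrix.toBilin' G with hBdef
  have hS : B.IsSymm := gram_isSymm h
  have hSE : (B.restrict E).IsSymm := ⟨fun x y => hS.eq x.1 y.1⟩
  have hNE : (B.restrict E).Nondegenerate := by
    have key : ∀ x : ↥E, (∀ y : ↥E, B x.1 y.1 = 0) → x = 0 := by
      intro x hx
      apply Subtype.ext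
      apply hnd.1 x.1
      intro v
      obtain ⟨e, he, e', he', rfl⟩ : ∃ e ∈ E, ∃ e' ∈ E', e + e' = v := by
        have : v ∈ E ⊔ E' := by rw [hc.sup_eq_top]; exact Submodule.mem_top
        obtain ⟨e, he, e', he', hv⟩ := Submodule.mem_sup.1 this
        exact ⟨e, he, e', he', hv⟩
      rw [map_add, hx ⟨e, he⟩, horth x.1 x.2 e' he', add_zero]
    constructor
    · intro x hx
      exact key x hx
    · intro y hy
      apply key y
      intro x
      have := hy x
      rw [LinearMap.BilinForm.restrict_apply] at this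
      rw [hS.eq]
      exact this
  obtain ⟨v, hv⟩ := LinearMap.BilinForm.exists_orthogonal_basis (LinearMap.BilinForm.isSymm_iff.1 hSE)
  have i0 : Fin (finrank F E) := ⟨0, by omega⟩
  have i1 : Fin (finrank F E) := ⟨1, by omega⟩
  obtain ⟨i0, i1, hi01⟩ : ∃ i0 i1 : Fin (finrank F E), i0 ≠ i1 :=
    ⟨⟨0, by omega⟩, ⟨1, by omega⟩, by intro hh; simpa using congrArg Fin.val hh⟩
  have ha := LinearMap.BilinForm.iIsOrtho.not_isOrtho_basis_self_of_nondegenerate hv hNE i0
  have hb := LinearMap.BilinForm.iIsOrtho.not_isOrtho_basis_self_of_nondegenerate hv hNE i1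
  have h01 : B (v i0).1 (v i1).1 = 0 := hv hi01
  have hQ0 : Q (v i0).1 ≠ 0 := by
    intro h0
    apply ha
    show B (v i0).1 (v i0).1 = 0
    rw [h.self, h0, mul_zero]
  have hQ1 : Q (v i1).1 ≠ 0 := by
    intro h0
    apply hb
    show B (v i1).1 (v i1).1 = 0
    rw [h.self, h0, mul_zero]
  obtain ⟨x, y, hxy⟩ := Cfsg.Agent.S0756.exists_sq_add_sq h2 (Q (v i0).1) (Q (v i1).1)
    (α * Q (v i0).1) hQ0 hQ1
  have hQu' : Q (x • (v i0).1 + y • (v i1).1) = α * Q (v i0).1 := by
    rw [h.Q_add, h.Q_smul, h.Q_smul]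
    simp only [map_smul, LinearMap.smul_apply, smul_eq_mul]
    rw [h01]
    linear_combination hxy
  refine ⟨(v i0).1, (v i0).2, x • (v i0).1 + y • (v i1).1,
    E.add_mem (E.smul_mem _ (v i0).2) (E.smul_mem _ (v i1).2), hQ0, ?_, ?_⟩
  · rw [hQu']
    exact mul_ne_zero hα0 hQ0
  · rw [hQu']
    rintro ⟨t, ht⟩
    apply hα
    refine ⟨t / Q (v i0).1, ?_⟩
    field_simp
    linear_combination ht


section caseA

variable (h : IsGram Q G) (hdet : G.det ≠ 0) {N : ℕ} (hN : Fintype.card κ = 2 * N)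
  (g : ↥(Cfsg.Geo.quadSimilarityGroup (F := F) Q)) (s : F) (hs : s ≠ 0)
  (hM : (g.1 : Matrix κ κ F) * (g.1 : Matrix κ κ F) = (s * s) • (1 : Matrix κ κ F))

include h hs hM in
/-- the eigenspaces of a similarity whose square is a square scalar -/
theorem caseA_setup :
    ∃ (a : Module.End F (κ → F)) (E1 E2 : Submodule F (κ → F)), IsCompl E1 E2 ∧
      (∀ x ∈ E1, (g.1 : Matrix κ κ F) *ᵥ x = s • x) ∧
      (∀ x ∈ E2, (g.1 : Matrix κ κ F) *ᵥ x = (-s) • x) ∧
      (∀ x, a x = s⁻¹ • ((g.1 : Matrix κ κ F) *ᵥ x)) := by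
  have h2 := h.two_ne
  set a : Module.End F (κ → F) := s⁻¹ • Matrix.toLin' (g.1 : Matrix κ κ F) with ha
  have hax : ∀ x, a x = s⁻¹ • ((g.1 : Matrix κ κ F) *ᵥ x) := by
    intro x
    rw [ha, LinearMap.smul_apply, Matrix.toLin'_apply]
  have haa : a * a = 1 := by
    apply LinearMap.ext
    intro x
    rw [Module.End.mul_apply, hax, hax, Matrix.mulVec_smul, Matrix.mulVec_mulVec, hM,
      Matrix.smul_mulVec, Matrix.one_mulVec, smul_smul, smul_smul, Module.End.one_apply]
    have : s⁻¹ * s⁻¹ * (s * s) = 1 := by field_simp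
    rw [this, one_smul]
  refine ⟨a, LinearMap.ker (a - 1), LinearMap.ker (a + 1), isCompl_ker_of_involution h2 a haa,
    ?_, ?_, hax⟩
  · intro x hx
    rw [LinearMap.mem_ker, LinearMap.sub_apply, Module.End.one_apply, sub_eq_zero, hax] at hx
    have this : s • (s⁻¹ • ((g.1 : Matrix κ κ F) *ᵥ x)) = s • x := congrArg (fun v => s • v) hx
    rw [smul_smul, mul_inv_cancel₀ hs, one_smul] at this
    exact this
  · intro x hx
    rw [LinearMap.mem_ker, LinearMap.add_apply, Module.End.one_apply, hax,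
      add_eq_zero_iff_eq_neg] at hx
    have this : s • (s⁻¹ • ((g.1 : Matrix κ κ F) *ᵥ x)) = s • (-x) :=
      congrArg (fun v => s • v) hx
    rw [smul_smul, mul_inv_cancel₀ hs, one_smul] at this
    rw [this, neg_smul, smul_neg]

include h hdet hN hs hM in
/-- Case A2: an involutory similarity (modulo scalars) with square multiplier centralizes a
rotation outside `Ω` -/
theorem caseA2 (hμ : (simMult Q g : F) = s * s) (h3 : 3 ≤ Fintype.card κ) :
    ∃ k1 : ↥(Cfsg.isometryGroup F Q), (toMat Q k1).det = 1 ∧ k1 ∉ Cfsg.Omega F Q ∧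
      g * isoGO Q k1 * g⁻¹ = isoGO Q k1 := by
  have h2 := h.two_ne
  obtain ⟨a, E1, E2, hc, hE1, hE2, hax⟩ := caseA_setup h g s hs hM
  have horth : ∀ x ∈ E1, ∀ y ∈ E2, Matrix.toBilin' G x y = 0 := by
    intro x hx y hy
    have h1 := sim_bilin h g x y
    rw [hE1 x hx, hE2 y hy, hμ] at h1
    simp only [map_smul, LinearMap.smul_apply, smul_eq_mul] at h1
    have h4 : (2 * (s * s)) * Matrix.toBilin' G x y = 0 := by linear_combination -h1
    rcases mul_eq_zero.1 h4 with h5 | h5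
    · exfalso
      exact (mul_ne_zero h2 (mul_ne_zero hs hs)) h5
    · exact h5
  have hfin := Submodule.finrank_add_eq_of_isCompl hc
  rw [Module.finrank_fintype_fun_eq_card] at hfin
  have key : ∀ (E E' : Submodule F (κ → F)) (c : F), c ≠ 0 → IsCompl E E' →
      (∀ x ∈ E, ∀ y ∈ E', Matrix.toBilin' G x y = 0) →
      (∀ x ∈ E, (g.1 : Matrix κ κ F) *ᵥ x = c • x) → 2 ≤ finrank F E →
      ∃ k1 : ↥(Cfsg.isometryGroup F Q), (toMat Q k1).det = 1 ∧ k1 ∉ Cfsg.Omega F Q ∧
        g * isoGO Q k1 * g⁻¹ = isoGO Q k1 := by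
    intro E E' c hc0 hcE horthE heig hfE
    obtain ⟨u, hu, u', hu', hQu, hQu', hns⟩ := sub_pair h hdet E E' hcE horthE hfE
    obtain ⟨hd1, hΩ⟩ := pair_refl_k1 h hdet u u' hQu hQu' hns
    refine ⟨h.reflG u hQu * h.reflG u' hQu', hd1, hΩ, ?_⟩
    have e1 := conj_refl_eigen h g u hQu c hc0 (heig u hu)
    have e2 := conj_refl_eigen h g u' hQu' c hc0 (heig u' hu')
    rw [map_mul]
    calc g * (isoGO Q (h.reflG u hQu) * isoGO Q (h.reflG u' hQu')) * g⁻¹
        = (g * isoGO Q (h.reflG u hQu) * g⁻¹) * (g * isoGO Q (h.reflG u' hQu') * g⁻¹) := by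
          group
      _ = isoGO Q (h.reflG u hQu) * isoGO Q (h.reflG u' hQu') := by rw [e1, e2]
  by_cases hf1 : 2 ≤ finrank F E1
  · exact key E1 E2 s hs hc horth hE1 hf1
  · have hf2 : 2 ≤ finrank F E2 := by omega
    refine key E2 E1 (-s) (neg_ne_zero.2 hs) hc.symm ?_ hE2 hf2
    intro x hx y hy
    rw [h.symmB]
    exact horth y hy x hx

include h hdet hN hs hM in
/-- Case A1: an involutory similarity (modulo scalars) with multiplier `-s²` has determinant
`μ^N` -/
theorem caseA1 (hμ : (simMult Q g : F) = -(s * s)) :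
    (g.1 : Matrix κ κ F).det = (simMult Q g : F) ^ N := by
  have h2 := h.two_ne
  obtain ⟨a, E1, E2, hc, hE1, hE2, hax⟩ := caseA_setup h g s hs hM
  have hts : ∀ (E : Submodule F (κ → F)) (c : F), c * c = s * s →
      (∀ x ∈ E, (g.1 : Matrix κ κ F) *ᵥ x = c • x) → ∀ x ∈ E, Q x = 0 := by
    intro E c hcc heig x hx
    have h1 := simMult_spec Q g x
    rw [heig x hx, h.Q_smul, hμ] at h1
    have h4 : (2 * (s * s)) * Q x = 0 := by linear_combination h1 - Q x * hcc
    rcases mul_eq_zero.1 h4 with h5 | h5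
    · exfalso
      exact (mul_ne_zero h2 (mul_ne_zero hs hs)) h5
    · exact h5
  have hts1 := hts E1 s rfl hE1
  have hts2 := hts E2 (-s) (by ring) hE2
  have hle1 := ts_finrank_le h hdet hN E1 hts1
  have hle2 := ts_finrank_le h hdet hN E2 hts2
  have hfin := Submodule.finrank_add_eq_of_isCompl hc
  rw [Module.finrank_fintype_fun_eq_card, hN] at hfin
  have hf2 : finrank F E2 = N := by omega
  have hdeta := det_of_involution_eigen a E1 E2 hc
    (fun x hx => by rw [hax, hE1 x hx, smul_smul, inv_mul_cancel₀ hs, one_smul])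
    (fun x hx => by
      rw [hax, hE2 x hx, smul_smul, mul_neg, inv_mul_cancel₀ hs, neg_smul, one_smul])
  rw [hf2] at hdeta
  have ha' : a = s⁻¹ • Matrix.toLin' (g.1 : Matrix κ κ F) := by
    apply LinearMap.ext
    intro x
    rw [hax, LinearMap.smul_apply, Matrix.toLin'_apply]
  rw [ha', LinearMap.det_smul, LinearMap.det_toLin', Module.finrank_fintype_fun_eq_card, hN]
    at hdeta
  rw [hμ]
  have hsN : (s⁻¹ ^ (2 * N)) ≠ 0 := pow_ne_zero _ (inv_ne_zero hs)
  have e : (g.1 : Matrix κ κ F).det = (s ^ (2 * N)) * (s⁻¹ ^ (2 * N) * (g.1 : Matrix κ κ F).det) := by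
    rw [← mul_assoc, ← mul_pow, mul_inv_cancel₀ hs, one_pow, one_mul]
  rw [e, hdeta, pow_mul, ← mul_pow]
  congr 1
  ring

end caseA

end Cfsg.Agent.Lib.Helper37.GraphInv
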