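import Cfsg.Agent.Lib.Helper37.GraphInv2
import Cfsg.Agent.Lib.Helper35.GIDet
import Cfsg.Agent.Lib.Helper35.GIReal

set_option autoImplicit false
set_option linter.unusedSectionVars false
set_option linter.unusedVariables false

/-!
# Involutory graph automorphisms: the case of a non-square scalar square, and the assembly
-/

namespace Cfsg.Agent.Lib.Helper37.GraphInv

open Matrix Module Cfsg.Agent.Lib.Helper37 Cfsg.Agent.Lib.Helper37.IsGram

universe u

variable {κ : Type} [Fintype κ] [DecidableEq κ] {F : Type u} [Field F] [Fintype F] [DecidableEq F]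
  {Q : (κ → F) → F} {G : Matrix κ κ F}

section caseB

variable (h : IsGram Q G) (hdet : G.det ≠ 0) {N : ℕ} (hN : Fintype.card κ = 2 * N)
  (g : ↥(Cfsg.Geo.quadSimilarityGroup (F := F) Q)) (lam : F) (hlam : ¬ IsSquare lam)
  (hM : (g.1 : Matrix κ κ F) * (g.1 : Matrix κ κ F) = lam • (1 : Matrix κ κ F))

include h hdet hlam hM in
/-- Case B: a similarity with multiplier `lam` whose square is the non-square scalar `lam`
centralizes a rotation outside `Ω` -/
theorem caseB (hμ : (simMult Q g : F) = lam) (h4 : 4 ≤ Fintype.card κ) :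
    ∃ k1 : ↥(Cfsg.isometryGroup F Q), (toMat Q k1).det = 1 ∧ k1 ∉ Cfsg.Omega F Q ∧
      g * isoGO Q k1 * g⁻¹ = isoGO Q k1 := by
  have h2 := h.two_ne
  have hlam0 : lam ≠ 0 := by
    rintro rfl
    exact hlam ⟨0, by simp⟩
  have hMM : ∀ v, (g.1 : Matrix κ κ F) *ᵥ ((g.1 : Matrix κ κ F) *ᵥ v) = lam • v := by
    intro v
    rw [Matrix.mulVec_mulVec, hM, Matrix.smul_mulVec, Matrix.one_mulVec]
  have hadj : ∀ u v, Matrix.toBilin' G ((g.1 : Matrix κ κ F) *ᵥ u) v =
      Matrix.toBilin' G u ((g.1 : Matrix κ κ F) *ᵥ v) := by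
    intro u v
    have h1 := sim_bilin h g u ((g.1 : Matrix κ κ F) *ᵥ v)
    rw [hMM, hμ, map_smul, smul_eq_mul] at h1
    exact mul_left_cancel₀ hlam0 h1
  obtain ⟨x, hx1, hx2⟩ := exists_real_vector h2 (Matrix.toBilin' G) (gram_isSymm h)
    (h.qsys hdet).nondeg (Matrix.toLin' (g.1 : Matrix κ κ F)) lam hlam
    (fun v => by rw [Matrix.toLin'_apply, Matrix.toLin'_apply, hMM])
    (fun u v => by rw [Matrix.toLin'_apply, Matrix.toLin'_apply, hadj])
    (by rw [Module.finrank_fintype_fun_eq_card]; exact h4)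
  rw [Matrix.toLin'_apply] at hx1
  have hQx : Q x ≠ 0 := by
    intro h0
    apply hx2
    rw [h.self, h0, mul_zero]
  have hQx' : Q ((g.1 : Matrix κ κ F) *ᵥ x) = lam * Q x := by
    rw [simMult_spec Q, hμ]
  have hQx'0 : Q ((g.1 : Matrix κ κ F) *ᵥ x) ≠ 0 := by
    rw [hQx']
    exact mul_ne_zero hlam0 hQx
  have hns : ¬ IsSquare (Q x * Q ((g.1 : Matrix κ κ F) *ᵥ x)) := by
    rw [hQx']
    rintro ⟨t, ht⟩
    apply hlam
    refine ⟨t / Q x, ?_⟩
    field_simp
    linear_combination ht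
  obtain ⟨hd1, hΩ⟩ := pair_refl_k1 h hdet x _ hQx hQx'0 hns
  refine ⟨h.reflG x hQx * h.reflG _ hQx'0, hd1, hΩ, ?_⟩
  have e1 : g * isoGO Q (h.reflG x hQx) * g⁻¹ = isoGO Q (h.reflG _ hQx'0) :=
    conj_reflG_sim h g x hQx
  have e2 : g * isoGO Q (h.reflG _ hQx'0) * g⁻¹ = isoGO Q (h.reflG x hQx) := by
    rw [conj_reflG_sim h g _ hQx'0]
    congr 1
    apply h.reflG_congr
    rw [hMM, h.refl_smul x lam hlam0]
  rw [map_mul]
  calc g * (isoGO Q (h.reflG x hQx) * isoGO Q (h.reflG _ hQx'0)) * g⁻¹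
      = (g * isoGO Q (h.reflG x hQx) * g⁻¹) * (g * isoGO Q (h.reflG _ hQx'0) * g⁻¹) := by group
    _ = isoGO Q (h.reflG _ hQx'0) * isoGO Q (h.reflG x hQx) := by rw [e1, e2]
    _ = isoGO Q (h.reflG x hQx) * isoGO Q (h.reflG _ hQx'0) := by
        rw [← map_mul, ← map_mul, refl_comm_of_orth h x _ hQx hQx'0 hx1]

end caseB

section main

variable (h : IsGram Q G) (hdet : G.det ≠ 0) {N : ℕ} (hN : Fintype.card κ = 2 * N)
  (hn : 2 ≤ Fintype.card κ)
  (hker : ∀ g : ↥(Cfsg.Geo.quadSimilarityGroup (F := F) Q),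
      Phi Q g = 1 ↔ ∃ c : F, ((g.1 : GL κ F) : Matrix κ κ F) = c • (1 : Matrix κ κ F))

include h hdet hN hn hker in
/-- an involutory (modulo scalars) similarity outside `simC` centralizes, modulo scalars, a
rotation outside `Ω` -/
theorem exists_rotation (h4 : 4 ≤ Fintype.card κ)
    (g : ↥(Cfsg.Geo.quadSimilarityGroup (F := F) Q)) (hg : g ∉ simC h hdet hN hn)
    (hg2 : Phi Q g * Phi Q g = 1) :
    ∃ k1 : ↥(Cfsg.isometryGroup F Q), (toMat Q k1).det = 1 ∧ k1 ∉ Cfsg.Omega F Q ∧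
      g * isoGO Q k1 * g⁻¹ = isoGO Q k1 := by
  have hne := exists_Q_eq_one h hdet hn
  have h2 := h.two_ne
  rw [← map_mul] at hg2
  obtain ⟨c, hc⟩ := (hker _).1 hg2
  obtain ⟨c', hc'c, hgg⟩ := eq_scalarGO_of_val h hne _ c hc
  have hM : (g.1 : Matrix κ κ F) * (g.1 : Matrix κ κ F) = c • (1 : Matrix κ κ F) := by
    rw [← hc]
    rfl
  have hμ2 : (simMult Q g : F) * (simMult Q g : F) = c * c := by
    have h1 := congrArg (simMult Q) hgg
    rw [simMult_scalarGO h hne, ← simMultHom_apply hne, map_mul, simMultHom_apply] at h1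
    have h3 := congrArg Units.val h1
    rw [Units.val_mul, Units.val_mul, hc'c] at h3
    exact h3
  have hμ : (simMult Q g : F) = c ∨ (simMult Q g : F) = -c := mul_self_eq_mul_self_iff.1 hμ2
  have hc0 : c ≠ 0 := by
    rw [← hc'c]
    exact c'.ne_zero
  by_cases hsq : IsSquare c
  · obtain ⟨s, hs⟩ := hsq
    have hs0 : s ≠ 0 := by
      rintro rfl
      rw [mul_zero] at hs
      exact hc0 hs
    rw [hs] at hM hμ
    rcases hμ with hμ | hμ
    · exact caseA2 h hdet hN g s hs0 hM hμ (by omega)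
    · exfalso
      apply hg
      rw [mem_simC_iff h hdet hN hn hker]
      exact caseA1 h hdet hN g s hs0 hM hμ
  · rcases hμ with hμ | hμ
    · exact caseB h hdet g c hsq hM hμ h4
    · exfalso
      apply hg
      rw [mem_simC_iff h hdet hN hn hker, hμ]
      exact det_of_sq_eq_nonsquare _ c hsq hM hN

include h hdet hN hn hker in
/-- the number of inner classes in the inner-diagonal class of an involutory graph
automorphism, in terms of the index -/
theorem graph_main (h4 : 4 ≤ Fintype.card κ)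
    (d0 : ↥(Cfsg.Geo.quadSimilarityGroup (F := F) Q)) (hd0 : ¬ IsSquare (simMult Q d0 : F))
    (g : ↥(Cfsg.Geo.quadSimilarityGroup (F := F) Q)) (hg : g ∉ simC h hdet hN hn)
    (hg2 : Phi Q g * Phi Q g = 1) :
    (((innPre Q).subgroupOf (simC h hdet hN hn) ⊔
      (Subgroup.centralizer {Phi Q g}).comap
        ((Phi Q).comp (simC h hdet hN hn).subtype)).index = 1 ∨
     ((innPre Q).subgroupOf (simC h hdet hN hn) ⊔
      (Subgroup.centralizer {Phi Q g}).comap
        ((Phi Q).comp (simC h hdet hN hn).subtype)).index = 2) ∧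
    (h.negO ∈ Cfsg.Omega F Q →
      ((innPre Q).subgroupOf (simC h hdet hN hn) ⊔
      (Subgroup.centralizer {Phi Q g}).comap
        ((Phi Q).comp (simC h hdet hN hn).subtype)).index = 2) := by
  have key : h.negO ∈ Cfsg.Omega F Q →
      ((innPre Q).subgroupOf (simC h hdet hN hn) ⊔
      (Subgroup.centralizer {Phi Q g}).comap
        ((Phi Q).comp (simC h hdet hN hn).subtype)).index = 2 := by
    intro hneg
    obtain ⟨k1, hk1det, hk1Ω, hk1c⟩ := exists_rotation h hdet hN hn hker h4 g hg hg2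
    exact count_eq_two h hdet hN hn hker hneg d0 hd0 g hg k1 hk1det hk1Ω
      (phi_comm_of_conj g k1 hk1c)
  refine ⟨?_, key⟩
  by_cases hneg : h.negO ∈ Cfsg.Omega F Q
  · exact Or.inr (key hneg)
  · exact count_le_two h hdet hN hn hker hneg _

end main

end Cfsg.Agent.Lib.Helper37.GraphInv
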