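import Cfsg.Agent.Lib.Helper37.GraphInv3

set_option autoImplicit false
set_option linter.unusedSectionVars false
set_option linter.unusedVariables false
set_option maxHeartbeats 800000

/-!
# Involutory graph automorphisms: the case of even `N` with `-1 ∉ Ω`
-/

namespace Cfsg.Agent.Lib.Helper37.GraphInv

open Matrix Module Cfsg.Agent.Lib.Helper37 Cfsg.Agent.Lib.Helper37.IsGram

universe u

variable {κ : Type} [Fintype κ] [DecidableEq κ] {F : Type u} [Field F] [Fintype F] [DecidableEq F]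
  {Q : (κ → F) → F} {G : Matrix κ κ F}

section even

variable (h : IsGram Q G) (hdet : G.det ≠ 0) {N : ℕ} (hN : Fintype.card κ = 2 * N)
  (hn : 2 ≤ Fintype.card κ)
  (hker : ∀ g : ↥(Cfsg.Geo.quadSimilarityGroup (F := F) Q),
      Phi Q g = 1 ↔ ∃ c : F, ((g.1 : GL κ F) : Matrix κ κ F) = c • (1 : Matrix κ κ F))

/-- an involution anticommuting with an invertible matrix has determinant `(-1)^N` -/
theorem det_of_anticomm (h2 : (2 : F) ≠ 0) (K B B' : Matrix κ κ F) (hKK : K * K = 1)
    (hBB : B' * B = 1) (hKB : K * B = -(B * K)) (hN : Fintype.card κ = 2 * N) :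
    K.det = (-1) ^ N := by
  set a : Module.End F (κ → F) := Matrix.toLin' K with ha
  have haa : a * a = 1 := by
    rw [ha, Module.End.mul_eq_comp, ← Matrix.toLin'_mul, hKK, Matrix.toLin'_one]
    rfl
  have hc := isCompl_ker_of_involution h2 a haa
  set f : (κ → F) →ₗ[F] (κ → F) := Matrix.toLin' B with hf
  have hfinj : Function.Injective f := by
    intro x y hxy
    have h1 : B' *ᵥ (B *ᵥ x) = B' *ᵥ (B *ᵥ y) := by
      have : B *ᵥ x = B *ᵥ y := by simpa [hf, Matrix.toLin'_apply] using hxy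
      rw [this]
    rwa [Matrix.mulVec_mulVec, Matrix.mulVec_mulVec, hBB, Matrix.one_mulVec,
      Matrix.one_mulVec] at h1
  have hKBx : ∀ x, K *ᵥ (B *ᵥ x) = -(B *ᵥ (K *ᵥ x)) := by
    intro x
    rw [Matrix.mulVec_mulVec, hKB, Matrix.neg_mulVec, ← Matrix.mulVec_mulVec]
  have h12 : (LinearMap.ker (a - 1)).map f ≤ LinearMap.ker (a + 1) := by
    rintro _ ⟨x, hx, rfl⟩
    have hx' : K *ᵥ x = x := by
      have := LinearMap.mem_ker.1 hx
      rw [LinearMap.sub_apply, Module.End.one_apply, sub_eq_zero, ha, Matrix.toLin'_apply] at this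
      exact this
    rw [LinearMap.mem_ker, LinearMap.add_apply, Module.End.one_apply, ha, hf,
      Matrix.toLin'_apply, Matrix.toLin'_apply, hKBx, hx']
    exact neg_add_cancel _
  have h21 : (LinearMap.ker (a + 1)).map f ≤ LinearMap.ker (a - 1) := by
    rintro _ ⟨x, hx, rfl⟩
    have hx' : K *ᵥ x = -x := by
      have := LinearMap.mem_ker.1 hx
      rw [LinearMap.add_apply, Module.End.one_apply, ha, Matrix.toLin'_apply,
        add_eq_zero_iff_eq_neg] at this
      exact this
    rw [LinearMap.mem_ker, LinearMap.sub_apply, Module.End.one_apply, ha, hf,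
      Matrix.toLin'_apply, Matrix.toLin'_apply, hKBx, hx', Matrix.mulVec_neg, neg_neg]
    exact sub_self _
  have e1 := (Submodule.equivMapOfInjective f hfinj (LinearMap.ker (a - 1))).finrank_eq
  have e2 := (Submodule.equivMapOfInjective f hfinj (LinearMap.ker (a + 1))).finrank_eq
  have l1 := Submodule.finrank_mono h12
  have l2 := Submodule.finrank_mono h21
  have hfin := Submodule.finrank_add_eq_of_isCompl hc
  rw [Module.finrank_fintype_fun_eq_card, hN] at hfin
  have hE2 : finrank F ↥(LinearMap.ker (a + 1)) = N := by omega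
  have hdeta := det_of_involution_eigen a _ _ hc
    (fun x hx => by
      have := LinearMap.mem_ker.1 hx
      rwa [LinearMap.sub_apply, Module.End.one_apply, sub_eq_zero] at this)
    (fun x hx => by
      have := LinearMap.mem_ker.1 hx
      rwa [LinearMap.add_apply, Module.End.one_apply, add_eq_zero_iff_eq_neg] at this)
  rw [hE2, ha, LinearMap.det_toLin'] at hdeta
  exact hdeta

include h hdet hN hn hker

/-- an isometry involution of determinant `≠ 1` cannot commute modulo scalars with a similarity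
with non-square multiplier when `N` is even -/
theorem stepB_even (hNe : Even N)
    (b : ↥(Cfsg.Geo.quadSimilarityGroup (F := F) Q)) (hbμ : ¬ IsSquare (simMult Q b : F))
    (k0 : ↥(Cfsg.isometryGroup F Q)) (hk0 : (toMat Q k0).det ≠ 1)
    (hkk : toMat Q k0 * toMat Q k0 = 1) (c : Fˣ)
    (hcomm : isoGO Q k0 * b * (isoGO Q k0)⁻¹ * b⁻¹ = scalarGO h c) : False := by
  have hne := exists_Q_eq_one h hdet hn
  obtain ⟨α, hα⟩ := FiniteField.exists_nonsquare (ringChar_ne_two_of_two_ne_zero h.two_ne) (F := F)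
  have e1 : isoGO Q k0 * b * (isoGO Q k0)⁻¹ * b⁻¹ = isoGO Q (k0 * simConjHom Q b k0⁻¹) := by
    rw [map_mul, isoGO_simConjHom, map_inv]
    group
  have hsp : signPair Q α (k0 * simConjHom Q b k0⁻¹) = (-1, -1) := by
    rw [map_mul, signPair_conj h hdet α hα b hbμ, map_inv]
    have h1 : ¬ (signChar Q 1 k0 * signChar Q α k0 = 1) := fun hh =>
      hk0 ((h.signChar_mul_eq_one_iff hdet α hα k0).1 hh)
    have h0 : signPair Q α k0 = (signChar Q 1 k0, signChar Q α k0) := rfl
    rw [h0]
    exact gi_swap_aux _ _ h1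
  have hcases := scalar_iso_cases h hne c (k0 * simConjHom Q b k0⁻¹) 1
    (by rw [map_one, mul_one, ← e1, hcomm])
  rcases hcases with h3 | h3
  · rw [h3, map_one] at hsp
    exact absurd hsp (by decide)
  · rw [mul_one] at h3
    apply hk0
    have hcomm' : isoGO Q k0 * b * (isoGO Q k0)⁻¹ * b⁻¹ = isoGO Q h.negO := by rw [e1, h3]
    have h4 : isoGO Q k0 * b = isoGO Q h.negO * b * isoGO Q k0 := by
      rw [← hcomm']; group
    have h5 := congrArg
      (fun x : ↥(Cfsg.Geo.quadSimilarityGroup (F := F) Q) => ((x.1 : GL κ F) : Matrix κ κ F)) h4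
    simp only [Subgroup.coe_mul, Units.val_mul, isoGO_val] at h5
    have h6 : ((h.negO.1 : GL κ F) : Matrix κ κ F) = -1 := h.toMat_negO
    rw [h6] at h5
    have hKB : toMat Q k0 * (b.1 : Matrix κ κ F) = -((b.1 : Matrix κ κ F) * toMat Q k0) := by
      rw [toMat_apply, h5]
      simp
    have hBB : ((b.1⁻¹ : GL κ F) : Matrix κ κ F) * (b.1 : Matrix κ κ F) = 1 := by
      rw [← Units.val_mul, inv_mul_cancel, Units.val_one]
    rw [det_of_anticomm h.two_ne _ _ _ hkk hBB hKB hN, hNe.neg_one_pow]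

/-- elements of `simC` centralizing an involutory graph automorphism have square multiplier
(`N` even) -/
theorem cent_isSquare_even (hNe : Even N)
    (b g : ↥(Cfsg.Geo.quadSimilarityGroup (F := F) Q)) (hb : b ∈ simC h hdet hN hn)
    (hg : g ∉ simC h hdet hN hn) (hg2 : Phi Q g * Phi Q g = 1)
    (hcomm : Phi Q b * Phi Q g = Phi Q g * Phi Q b) :
    IsSquare (simMult Q b : F) := by
  have hne := exists_Q_eq_one h hdet hn
  have h2 := h.two_ne
  rw [← map_mul] at hg2
  obtain ⟨c, hc⟩ := (hker _).1 hg2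
  obtain ⟨c', hc'c, hgg⟩ := eq_scalarGO_of_val h hne _ c hc
  have hM : (g.1 : Matrix κ κ F) * (g.1 : Matrix κ κ F) = c • (1 : Matrix κ κ F) := by
    rw [← hc]
    rfl
  have hμ2 : (simMult Q g : F) * (simMult Q g : F) = c * c := by
    have h1 := congrArg (simMult Q) hgg
    rw [simMult_scalarGO h hne, ← simMultHom_apply hne, map_mul, simMultHom_apply] at h1
    have h3 := congrArg Units.val h1
    rw [Units.val_mul, Units.val_mul, hc'c] at h3
    exact h3
  have hμ : (simMult Q g : F) = c ∨ (simMult Q g : F) = -c := mul_self_eq_mul_self_iff.1 hμ2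
  have hc0 : c ≠ 0 := by
    rw [← hc'c]
    exact c'.ne_zero
  have hsq : IsSquare c := by
    by_contra hsq
    apply hg
    rw [mem_simC_iff h hdet hN hn hker, det_of_sq_eq_nonsquare _ c hsq hM hN]
    rcases hμ with hμ | hμ
    · rw [hμ, hNe.neg_pow]
    · rw [hμ]
  obtain ⟨s, hs⟩ := hsq
  have hs0 : s ≠ 0 := by
    rintro rfl
    rw [mul_zero] at hs
    exact hc0 hs
  rw [hs] at hM hμ
  have hμs : (simMult Q g : F) = s * s := by
    rcases hμ with hμ | hμ
    · exact hμ
    · exfalso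
      apply hg
      rw [mem_simC_iff h hdet hN hn hker]
      exact caseA1 h hdet hN g s hs0 hM hμ
  have hd : simMult Q g = Units.mk0 s hs0 * Units.mk0 s hs0 := by
    apply Units.ext
    rw [Units.val_mul, Units.val_mk0, hμs]
  obtain ⟨k, hk⟩ := exists_scalar_mul_iso h g (Units.mk0 s hs0) hd
  have hkdet : (toMat Q k).det ≠ 1 := by
    intro h1
    apply hg
    rw [hk]
    apply Subgroup.mul_mem _ (scalarGO_mem_simC h hdet hN hn hker _)
    rw [mem_simC_iff h hdet hN hn hker, simMult_isoGO hne, Units.val_one, one_pow]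
    exact h1
  have hgk : (g.1 : Matrix κ κ F) = s • toMat Q k := by
    have h5 := congrArg
      (fun x : ↥(Cfsg.Geo.quadSimilarityGroup (F := F) Q) => ((x.1 : GL κ F) : Matrix κ κ F)) hk
    simp only [Subgroup.coe_mul, Units.val_mul, isoGO_val] at h5
    rw [h5, scalarGO_val, Units.val_mk0, Matrix.smul_mul, Matrix.one_mul]
    rfl
  have hkk : toMat Q k * toMat Q k = 1 := by
    rw [hgk, Matrix.smul_mul, Matrix.mul_smul, smul_smul] at hM
    have hss : s * s ≠ 0 := mul_ne_zero hs0 hs0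
    have := congrArg (fun A : Matrix κ κ F => (s * s)⁻¹ • A) hM
    simp only [smul_smul, inv_mul_cancel₀ hss, one_smul] at this
    exact this
  by_contra hbμ
  have h1 : Phi Q (g * b * g⁻¹ * b⁻¹) = 1 := by
    rw [map_mul, map_mul, map_mul, map_inv, map_inv, ← hcomm]
    group
  obtain ⟨c2, hc2⟩ := (hker _).1 h1
  obtain ⟨c2', -, hc2'⟩ := eq_scalarGO_of_val h hne _ c2 hc2
  have hz : ∀ x : ↥(Cfsg.Geo.quadSimilarityGroup (F := F) Q),
      scalarGO h (Units.mk0 s hs0) * x = x * scalarGO h (Units.mk0 s hs0) := scalarGO_comm h _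
  have e : g * b * g⁻¹ * b⁻¹ = isoGO Q k * b * (isoGO Q k)⁻¹ * b⁻¹ := by
    rw [hk]
    calc scalarGO h (Units.mk0 s hs0) * isoGO Q k * b *
          (scalarGO h (Units.mk0 s hs0) * isoGO Q k)⁻¹ * b⁻¹
        = scalarGO h (Units.mk0 s hs0) * (isoGO Q k * b * (isoGO Q k)⁻¹) *
          (scalarGO h (Units.mk0 s hs0))⁻¹ * b⁻¹ := by group
      _ = (isoGO Q k * b * (isoGO Q k)⁻¹) * scalarGO h (Units.mk0 s hs0) *
          (scalarGO h (Units.mk0 s hs0))⁻¹ * b⁻¹ := by rw [hz]
      _ = isoGO Q k * b * (isoGO Q k)⁻¹ * b⁻¹ := by group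
  rw [e] at hc2'
  exact stepB_even h hdet hN hn hker hNe b hbμ k hkdet hkk c2' hc2'

/-- the count when `N` is even and `-1 ∉ Ω` -/
theorem count_even (hNe : Even N) (hneg : h.negO ∉ Cfsg.Omega F Q)
    (d0 : ↥(Cfsg.Geo.quadSimilarityGroup (F := F) Q)) (hd0 : ¬ IsSquare (simMult Q d0 : F))
    (hd0C : d0 ∈ simC h hdet hN hn)
    (g : ↥(Cfsg.Geo.quadSimilarityGroup (F := F) Q)) (hg : g ∉ simC h hdet hN hn)
    (hg2 : Phi Q g * Phi Q g = 1) :
    ((innPre Q).subgroupOf (simC h hdet hN hn) ⊔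
      (Subgroup.centralizer {Phi Q g}).comap
        ((Phi Q).comp (simC h hdet hN hn).subtype)).index = 2 := by
  have hne := exists_Q_eq_one h hdet hn
  have hle : (Subgroup.centralizer {Phi Q g}).comap ((Phi Q).comp (simC h hdet hN hn).subtype) ≤
      (innPre Q).subgroupOf (simC h hdet hN hn) := by
    intro b hb
    rw [Subgroup.mem_comap, Subgroup.mem_centralizer_iff] at hb
    have hcomm : Phi Q b.1 * Phi Q g = Phi Q g * Phi Q b.1 := (hb _ rfl).symm
    have hsq := cent_isSquare_even h hdet hN hn hker hNe b.1 g b.2 hg hg2 hcomm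
    rw [Subgroup.mem_subgroupOf, innPre_eq_ker h hdet hN hn hker hneg, MonoidHom.mem_ker]
    have hb2 : simD h hdet hne hN b.1 = 1 := b.2
    exact Prod.ext ((simA_eq_one_iff hne _).2 hsq) hb2
  rw [sup_eq_left.2 hle]
  rcases count_le_two h hdet hN hn hker hneg ⊥ with h1 | h1
  · exfalso
    rw [sup_bot_eq, Subgroup.index_eq_one] at h1
    have hmem : (⟨d0, hd0C⟩ : ↥(simC h hdet hN hn)) ∈
        (innPre Q).subgroupOf (simC h hdet hN hn) := by
      rw [h1]; trivial
    rw [Subgroup.mem_subgroupOf, innPre_eq_ker h hdet hN hn hker hneg, MonoidHom.mem_ker] at hmem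
    have := congrArg Prod.fst hmem
    exact hd0 ((simA_eq_one_iff hne _).1 this)
  · rwa [sup_bot_eq] at h1

end even

end Cfsg.Agent.Lib.Helper37.GraphInv
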