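import Mathlib
import Cfsg.Agent.Lib.Helper37.OrthField7

set_option autoImplicit false
set_option linter.unusedSectionVars false
set_option linter.unusedVariables false

/-!
# From `gammaPOmega = ⊤` to: every automorphism is induced by a semisimilarity pair
-/

namespace Cfsg.Agent.Lib.Helper37.OrthField

open Matrix
open Cfsg.Agent.Lib.Helper37

universe u

variable {ι : Type} [Fintype ι] [DecidableEq ι] {F : Type u} [Field F]

theorem gamma_le_range_Psi (Q : (ι → F) → F) : Cfsg.gammaPOmega F Q ≤ (Psi Q).range := by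
  unfold Cfsg.gammaPOmega Cfsg.autSubgroupOf
  rw [Subgroup.closure_le]
  rintro β ⟨g, σ, h1, h2⟩
  exact ⟨⟨⟨g, σ⟩, h1⟩, ((isInduced_iff_Psi Q ⟨⟨g, σ⟩, h1⟩ β).1 h2).symm⟩

theorem raw_of_gamma_eq_top (Q : (ι → F) → F) (h : Cfsg.gammaPOmega F Q = ⊤)
    (α : MulAut (Cfsg.POmega F Q)) :
    ∃ (g : GL ι F) (σ : F ≃+* F),
      Cfsg.IsSemisimilarityPair Q g σ ∧ Cfsg.IsInducedBySemilinearPOmega Q g σ α := by
  have h1 : α ∈ (Psi Q).range := gamma_le_range_Psi Q (by rw [h]; exact Subgroup.mem_top _)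
  obtain ⟨p, rfl⟩ := h1
  exact ⟨p.1.left, p.1.right, p.2, (isInduced_iff_Psi Q p _).2 rfl⟩

end Cfsg.Agent.Lib.Helper37.OrthField
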