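import Mathlib
import Cfsg.Agent.Lib.Helper37.OrthMinus
import Cfsg.Agent.Lib.Helper37.OrthTransport
import Cfsg.Agent.Lib.Helper37.InnDiag

set_option autoImplicit false
set_option linter.unusedSectionVars false
set_option linter.unusedVariables false

/-!
# Coset conjugacy for field automorphisms of `PΩ⁻`
-/

namespace Cfsg.Agent.Lib.Helper37.OrthField

open Matrix Module QuadraticMap
open Cfsg.Agent.Lib.Helper37 Cfsg.Agent.Lib.Helper43 Cfsg.Agent.Lib.Helper8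
open Cfsg.Agent.Lib.Helper37.ParGen Cfsg.Agent.Lib.Helper14

universe u

variable {ι : Type} [Fintype ι] [DecidableEq ι] {F : Type u} [Field F]

section transport

variable [Fintype F] [Nonempty ι]

/-- if the transport of `x` to `PΩ` of an isometric form is a standard field automorphism, then
`x` is induced by a pair with non-trivial field part -/
theorem class_pair_transport (Q Q' : QuadraticForm F (ι → F))
    (hQ' : (QuadraticMap.polarBilin Q').Nondegenerate) {k' : ℕ} {e' f' : Fin k' → ι → F}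
    (hfam' : HypFam Q' k' e' f') (hk' : 3 ≤ k')
    (hcard : Fintype.card F ≠ 2 ∨ finrank F (ι → F) ≠ 4)
    (hn5 : 5 ≤ finrank F (ι → F)) (hn2 : (2 : F) = 0 → 7 ≤ finrank F (ι → F))
    (hAut : AutSemi ⇑Q) (hAut' : AutSemi ⇑Q')
    (k : GL ι F) (hk : ∀ v, Q' ((k : Matrix ι ι F) *ᵥ v) = Q v)
    (Qf' : (ι → F) → F) (hQf' : Qf' = ⇑Q')
    (ψ : Cfsg.POmega F ⇑Q ≃* Cfsg.POmega F Qf') (σ : F ≃+* F) (hσ : σ ≠ RingEquiv.refl F)
    (hσQ' : ∀ v, Q' (vm σ v) = σ (Q' v))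
    (x : MulAut (Cfsg.POmega F ⇑Q))
    (hx : Cfsg.IsFieldAutPOmegaOf Qf' σ ((ψ.symm.trans x).trans ψ)) :
    ∃ p : ↥(semiO ⇑Q), x = Psi ⇑Q p ∧ p.1.right ≠ 1 := by
  subst hQf'
  obtain ⟨px, rfl⟩ := hAut x
  refine ⟨px, rfl, ?_⟩
  intro h1
  set ι₀ := pomegaConj ⇑Q ⇑Q' k hk with hι₀
  obtain ⟨p₁, hp₁⟩ := hAut' (ι₀.symm.trans ψ)
  set p' : ↥(semiO ⇑Q') := ⟨SemidirectProduct.inl k * px.1 * (SemidirectProduct.inl k)⁻¹,
    conj_mem_semiO ⇑Q ⇑Q' k hk px.1 px.2⟩ with hp'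
  rw [isFieldAutOf_iff ⇑Q' σ hσQ'] at hx
  have hY : (ψ.symm.trans (Psi ⇑Q px)).trans ψ = Psi ⇑Q' (p₁ * p' * p₁⁻¹) := by
    rw [map_mul, map_mul, map_inv, ← hp₁]
    ext t'
    show ψ (Psi ⇑Q px (ψ.symm t')) =
      (ι₀.symm.trans ψ) (Psi ⇑Q' p' ((ι₀.symm.trans ψ).symm t'))
    have h2 : (ι₀.symm.trans ψ).symm t' = ι₀ (ψ.symm t') := rfl
    rw [h2, ← pomegaConj_Psi ⇑Q ⇑Q' k hk px p' rfl (ψ.symm t')]
    show _ = ψ (ι₀.symm (ι₀ _))
    rw [ι₀.symm_apply_apply]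
  rw [hY] at hx
  have h3 := right_eq_of_Psi_eq Q' hQ' hfam' hk' hcard hn5 hn2 _ _ hx
  simp only [Subgroup.coe_mul, Subgroup.coe_inv, SemidirectProduct.mul_right,
    SemidirectProduct.inv_right, SemidirectProduct.right_inr, SemidirectProduct.right_inl, hp',
    h1, mul_one, one_mul, mul_inv_cancel, inv_one] at h3
  exact hσ h3.symm

end transport

section minus

variable [Fintype F] {m : ℕ}

/-- the key conjugacy statement for the minus type -/
theorem minus_conj_aux (hm : 3 ≤ m) (a b : F)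
    (hab : ∀ z₁ z₂ : F, z₁ ^ 2 + a * z₁ * z₂ + b * z₂ ^ 2 = 0 → z₁ = 0 ∧ z₂ = 0)
    {K : Type u} [Field K] [Fintype K] [Algebra F K]
    (θ : K) (hθ : θ ^ 2 + algebraMap F K a * θ + algebraMap F K b = 0)
    (hnd : (polarBilin (minusForm m F a b)).Nondegenerate)
    (px : ↥(semiO ⇑(minusForm m F a b)))
    (d : ↥(Cfsg.Geo.quadSimilarityGroup (F := F) ⇑(minusForm m F a b)))
    (r : ℕ) (hr : r.Prime) (hx : (Psi ⇑(minusForm m F a b) px) ^ r = 1)
    (hy : (Phi ⇑(minusForm m F a b) d * Psi ⇑(minusForm m F a b) px) ^ r = 1)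
    (hσ : px.1.right ≠ 1) :
    ∃ t ∈ simM a b θ hθ hnd,
      Phi ⇑(minusForm m F a b) d * Psi ⇑(minusForm m F a b) px =
        Phi ⇑(minusForm m F a b) t * Psi ⇑(minusForm m F a b) px *
          (Phi ⇑(minusForm m F a b) t)⁻¹ := by
  haveI : Nonempty ((Fin m ⊕ Fin m) ⊕ Fin 2) := ⟨Sum.inr 0⟩
  have hn : finrank F ((Fin m ⊕ Fin m) ⊕ Fin 2 → F) = 2 * (m + 1) := minus_hV
  have hfam := minus_hypFam37 m F a b
  have hcard : Fintype.card F ≠ 2 ∨ finrank F ((Fin m ⊕ Fin m) ⊕ Fin 2 → F) ≠ 4 :=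
    Or.inr (by rw [hn]; omega)
  have hn5 : 5 ≤ finrank F ((Fin m ⊕ Fin m) ⊕ Fin 2 → F) := by rw [hn]; omega
  have hn2 : (2 : F) = 0 → 7 ≤ finrank F ((Fin m ⊕ Fin m) ⊕ Fin 2 → F) :=
    fun _ => by rw [hn]; omega
  set py : ↥(semiO ⇑(minusForm m F a b)) := simToSemi ⇑(minusForm m F a b) d * px with hpy
  have hpy1 : Phi ⇑(minusForm m F a b) d * Psi ⇑(minusForm m F a b) px =
      Psi ⇑(minusForm m F a b) py := by
    rw [hpy, map_mul, Psi_simToSemi]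
  have hxy : py.1.right = px.1.right := by
    rw [hpy, Subgroup.coe_mul, SemidirectProduct.mul_right, simToSemi_right, one_mul]
  rw [hpy1] at hy ⊢
  apply conj_of_same_type (minusForm m F a b) hnd hfam hm hcard hn5 hn2 minus_hN
    (simM a b θ hθ hnd) (simM_adj a b θ hθ hnd) px py r hr hx hy hσ hxy
  intro F₁ hF₁ z z' b₁ b₁' μ μ' P₀ P₀' hL hL'
  haveI : Fintype F₁ := Fintype.ofFinite _
  have hQc : Nat.card {v : (Fin m ⊕ Fin m) ⊕ Fin 2 → F // minusForm m F a b v = 0} =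
      ZZ (Fintype.card F) 2 1 (m + 1 - 1) := by
    rw [Nat.add_sub_cancel]
    exact card_zeros_minusForm m a b hab
  rw [lattice_minus_of_minus F₁.subtype minus_hN (by omega) (minusForm m F a b) hnd hQc
      b₁ μ P₀ hL.2,
    lattice_minus_of_minus F₁.subtype minus_hN (by omega) (minusForm m F a b) hnd hQc
      b₁' μ' P₀' hL'.2]

theorem minus_inv_of_fixed (a' b' : F) (σ : F ≃+* F) (ha : σ a' = a') (hb : σ b' = b')
    (v : (Fin m ⊕ Fin m) ⊕ Fin 2 → F) :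
    minusForm m F a' b' (vm σ v) = σ (minusForm m F a' b' v) := by
  have h := jv_minus (σ : F →+* F) m a' b' v
  rw [minusForm_coe, minusForm_coe] at h
  have e1 : (σ : F →+* F) a' = a' := ha
  have e2 : (σ : F →+* F) b' = b' := hb
  rw [e1, e2] at h
  exact h

/-- a field automorphism of `PΩ⁻` (as a class) is induced by a pair with non-trivial field
part -/
theorem minus_class_pair (hm : 3 ≤ m) (a b : F)
    (hab : ∀ z₁ z₂ : F, z₁ ^ 2 + a * z₁ * z₂ + b * z₂ ^ 2 = 0 → z₁ = 0 ∧ z₂ = 0)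
    (hAut : ∀ a' b' : F,
      (∀ z₁ z₂ : F, z₁ ^ 2 + a' * z₁ * z₂ + b' * z₂ ^ 2 = 0 → z₁ = 0 ∧ z₂ = 0) →
      AutSemi ⇑(minusForm m F a' b'))
    (x : MulAut (Cfsg.POmega F ⇑(minusForm m F a b)))
    (hx : ∃ (a' b' : F) (ψ : Cfsg.POmega F ⇑(minusForm m F a b) ≃*
        Cfsg.POmega F (Cfsg.quadFormMinus m F a' b')) (σ : F ≃+* F),
      (∀ z₁ z₂ : F, z₁ ^ 2 + a' * z₁ * z₂ + b' * z₂ ^ 2 = 0 → z₁ = 0 ∧ z₂ = 0) ∧
      σ ≠ RingEquiv.refl F ∧ σ a' = a' ∧ σ b' = b' ∧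
      Cfsg.IsFieldAutPOmegaOf (Cfsg.quadFormMinus m F a' b') σ ((ψ.symm.trans x).trans ψ)) :
    ∃ p : ↥(semiO ⇑(minusForm m F a b)), x = Psi ⇑(minusForm m F a b) p ∧ p.1.right ≠ 1 := by
  obtain ⟨a', b', ψ, σ, hab', hσ, hσa, hσb, hφ⟩ := hx
  haveI : Nonempty ((Fin m ⊕ Fin m) ⊕ Fin 2) := ⟨Sum.inr 0⟩
  have hn : finrank F ((Fin m ⊕ Fin m) ⊕ Fin 2 → F) = 2 * (m + 1) := minus_hV
  have hcard : Fintype.card F ≠ 2 ∨ finrank F ((Fin m ⊕ Fin m) ⊕ Fin 2 → F) ≠ 4 :=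
    Or.inr (by rw [hn]; omega)
  have hn5 : 5 ≤ finrank F ((Fin m ⊕ Fin m) ⊕ Fin 2 → F) := by rw [hn]; omega
  have hn2 : (2 : F) = 0 → 7 ≤ finrank F ((Fin m ⊕ Fin m) ⊕ Fin 2 → F) :=
    fun _ => by rw [hn]; omega
  have hnd : (polarBilin (minusForm m F a b)).Nondegenerate :=
    (minus_family m F a b).nondegenerate (minusForm_zero_nondegenerate F a b hab)
  have hnd' : (polarBilin (minusForm m F a' b')).Nondegenerate :=
    (minus_family m F a' b').nondegenerate (minusForm_zero_nondegenerate F a' b' hab')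
  have hdim : finrank F ((Fin m ⊕ Fin m) ⊕ Fin 2 → F) = 2 * m + 2 := by rw [hn]; ring
  obtain ⟨Θ, hΘ⟩ := ZeroCount.classify_minus_gen a' b' hab' _ (minusForm m F a b) hnd m hdim
    (card_zeros_minusForm m a b hab)
  have hk : ∀ v, minusForm m F a' b'
      (((glOfEquiv Θ : GL _ F) : Matrix _ _ F) *ᵥ v) = minusForm m F a b v := by
    intro v
    rw [glOfEquiv_mulVec, ← minusForm_coe]
    exact hΘ v
  exact class_pair_transport (minusForm m F a b) (minusForm m F a' b') hnd'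
    (minus_hypFam37 m F a' b') hm hcard hn5 hn2 (hAut a b hab) (hAut a' b' hab')
    (glOfEquiv Θ) hk _ (minusForm_coe m F a' b') ψ σ hσ
    (minus_inv_of_fixed a' b' σ hσa hσb) x hφ

/-- coset conjugacy for field automorphisms of `PΩ⁻`, given the automorphism theorem -/
theorem minus_coset_conj (hm : 3 ≤ m) (a b : F)
    (hab : ∀ z₁ z₂ : F, z₁ ^ 2 + a * z₁ * z₂ + b * z₂ ^ 2 = 0 → z₁ = 0 ∧ z₂ = 0)
    (hAut : ∀ a' b' : F,
      (∀ z₁ z₂ : F, z₁ ^ 2 + a' * z₁ * z₂ + b' * z₂ ^ 2 = 0 → z₁ = 0 ∧ z₂ = 0) →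
      ∀ α : MulAut (Cfsg.POmega F (Cfsg.quadFormMinus m F a' b')),
      ∃ (g : GL ((Fin m ⊕ Fin m) ⊕ Fin 2) F) (σ : F ≃+* F),
        Cfsg.IsSemisimilarityPair (Cfsg.quadFormMinus m F a' b') g σ ∧
        Cfsg.IsInducedBySemilinearPOmega (Cfsg.quadFormMinus m F a' b') g σ α)
    (x δ : MulAut (Cfsg.POmega F (Cfsg.quadFormMinus m F a b)))
    (hx : Cfsg.IsFieldAutClassPOmegaMinus m x) {r : ℕ} (hr : r.Prime)
    (hxr : orderOf x = r) (hδ : δ ∈ Cfsg.inndiagPOmegaMinus m F a b) :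
    orderOf (δ * x) = r ↔ Cfsg.IsConjUnder (Cfsg.inndiagPOmegaMinus m F a b) x (δ * x) := by
  classical
  have hAut' : ∀ a' b' : F,
      (∀ z₁ z₂ : F, z₁ ^ 2 + a' * z₁ * z₂ + b' * z₂ ^ 2 = 0 → z₁ = 0 ∧ z₂ = 0) →
      AutSemi ⇑(minusForm m F a' b') := by
    intro a' b' hab'
    have := autSemi_of_raw _ (hAut a' b' hab')
    rw [minusForm_coe] at this
    exact this
  have key : ∀ (Qf : ((Fin m ⊕ Fin m) ⊕ Fin 2 → F) → F), Qf = ⇑(minusForm m F a b) →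
      ∀ (x δ : MulAut (Cfsg.POmega F Qf)),
        (∃ (a' b' : F) (ψ : Cfsg.POmega F Qf ≃* Cfsg.POmega F (Cfsg.quadFormMinus m F a' b'))
          (σ : F ≃+* F),
          (∀ z₁ z₂ : F, z₁ ^ 2 + a' * z₁ * z₂ + b' * z₂ ^ 2 = 0 → z₁ = 0 ∧ z₂ = 0) ∧
          σ ≠ RingEquiv.refl F ∧ σ a' = a' ∧ σ b' = b' ∧
          Cfsg.IsFieldAutPOmegaOf (Cfsg.quadFormMinus m F a' b') σ
            ((ψ.symm.trans x).trans ψ)) →
        orderOf x = r →
        δ ∈ Cfsg.autSubgroupOf (fun β : Cfsg.POmega F Qf ≃* Cfsg.POmega F Qf =>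
          ∃ g : GL ((Fin m ⊕ Fin m) ⊕ Fin 2) F, g ∈ Cfsg.Geo.quadSimilarityGroup (F := F) Qf ∧
            Cfsg.PreservesSingularClassesMinus m a b
              (g : Matrix ((Fin m ⊕ Fin m) ⊕ Fin 2) ((Fin m ⊕ Fin m) ⊕ Fin 2) F) ∧
            Cfsg.IsInducedBySemilinearPOmega Qf g (RingEquiv.refl F) β) →
        (orderOf (δ * x) = r ↔
          Cfsg.IsConjUnder (Cfsg.autSubgroupOf
            (fun β : Cfsg.POmega F Qf ≃* Cfsg.POmega F Qf =>
              ∃ g : GL ((Fin m ⊕ Fin m) ⊕ Fin 2) F,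
                g ∈ Cfsg.Geo.quadSimilarityGroup (F := F) Qf ∧
                Cfsg.PreservesSingularClassesMinus m a b
                  (g : Matrix ((Fin m ⊕ Fin m) ⊕ Fin 2) ((Fin m ⊕ Fin m) ⊕ Fin 2) F) ∧
                Cfsg.IsInducedBySemilinearPOmega Qf g (RingEquiv.refl F) β)) x (δ * x)) := by
    intro Qf hQf
    subst hQf
    intro x δ hx hxr hδ
    have hnd : (polarBilin (minusForm m F a b)).Nondegenerate :=
      (minus_family m F a b).nondegenerate (minusForm_zero_nondegenerate F a b hab)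
    constructor
    · intro hy
      obtain ⟨px, hpx, hσ⟩ := minus_class_pair hm a b hab hAut' x hx
      have hδ' : δ ∈ (Phi ⇑(minusForm m F a b)).range := by
        refine (Subgroup.closure_le _).2 ?_ hδ
        rintro β ⟨g, hg, -, hβ⟩
        exact ⟨⟨g, hg⟩, ((isInduced_iff _ g hg β).1 hβ).symm⟩
      obtain ⟨d, rfl⟩ := hδ'
      obtain ⟨K, _, _, θ, hK2, hθ⟩ := exists_quad_ext_root a b hab
      haveI : Module.Finite F K := Module.finite_of_finrank_pos (by rw [hK2]; norm_num)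
      haveI : Finite K := Module.finite_of_finite F
      haveI : Fintype K := Fintype.ofFinite K
      have hxr' : (Psi ⇑(minusForm m F a b) px) ^ r = 1 := by
        rw [← hpx, ← hxr]; exact pow_orderOf_eq_one x
      have hyr' : (Phi ⇑(minusForm m F a b) d * Psi ⇑(minusForm m F a b) px) ^ r = 1 := by
        rw [← hpx, ← hy]; exact pow_orderOf_eq_one _
      obtain ⟨t, ht, hconj⟩ := minus_conj_aux hm a b hab θ hθ hnd px d r hr hxr' hyr' hσ
      refine ⟨Phi ⇑(minusForm m F a b) t, Subgroup.subset_closure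
        ⟨t.1, t.2, simM_preserves a b θ hθ hnd hK2 t ht, (isInduced_iff _ t.1 t.2 _).2 rfl⟩, ?_⟩
      rw [hpx]
      exact hconj
    · rintro ⟨h, -, hh⟩
      rw [hh, ← hxr]
      have := MulEquiv.orderOf_eq (MulAut.conj h) x
      rwa [MulAut.conj_apply] at this
  exact key _ (minusForm_coe m F a b) x δ hx hxr hδ

end minus

end Cfsg.Agent.Lib.Helper37.OrthField
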