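import Mathlib
import Cfsg.Agent.Lib.Helper37.OrthMinusField
import Cfsg.Agent.Lib.Helper37.OrthMinusMain
import Cfsg.Agent.Lib.Helper43.RingAutFin

set_option autoImplicit false
set_option linter.unusedSectionVars false
set_option linter.unusedVariables false
set_option maxHeartbeats 1600000

/-!
# Field automorphisms of prime order of `PΩ⁻`: the main theorem
-/

namespace Cfsg.Agent.Lib.Helper37.OrthField

open Matrix Module QuadraticMap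
open Cfsg.Agent.Lib.Helper37 Cfsg.Agent.Lib.Helper43 Cfsg.Agent.Lib.Helper8
open Cfsg.Agent.Lib.Helper37.ParGen Cfsg.Agent.Lib.Helper14

universe u v

theorem ringAut_comm {F : Type*} [Field F] [Fintype F] {p f : ℕ} [Fact p.Prime]
    (hF : Fintype.card F = p ^ f) (a b : F ≃+* F) : a * b = b * a := by
  haveI : CharP F p := charP_of_card_eq_prime_pow hF
  haveI : IsCyclic (F ≃+* F) := Cfsg.Agent.Lib.Helper43.RingAutFin.isCyclic_ringAut p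
  obtain ⟨g, hg⟩ := IsCyclic.exists_generator (α := F ≃+* F)
  obtain ⟨i, rfl⟩ := Subgroup.mem_zpowers_iff.1 (hg a)
  obtain ⟨k, rfl⟩ := Subgroup.mem_zpowers_iff.1 (hg b)
  exact zpow_mul_comm g i k

section main

variable {m : ℕ} {F : Type u} [Field F] [Fintype F]

/-- the order of the field part -/
theorem minus_sigma_order (hm : 3 ≤ m) (a b a' b' : F)
    (hab' : ∀ z₁ z₂ : F, z₁ ^ 2 + a' * z₁ * z₂ + b' * z₂ ^ 2 = 0 → z₁ = 0 ∧ z₂ = 0)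
    (σ : F ≃+* F) (hσne : σ ≠ RingEquiv.refl F) (hσa : σ a' = a') (hσb : σ b' = b')
    (Qf' : ((Fin m ⊕ Fin m) ⊕ Fin 2 → F) → F) (hQf' : Qf' = ⇑(minusForm m F a' b'))
    (ψ : Cfsg.POmega F ⇑(minusForm m F a b) ≃* Cfsg.POmega F Qf')
    (x : MulAut (Cfsg.POmega F ⇑(minusForm m F a b)))
    (hφ : Cfsg.IsFieldAutPOmegaOf Qf' σ ((ψ.symm.trans x).trans ψ))
    {r : ℕ} (hr : r.Prime) (hxr : orderOf x = r) : orderOf σ = r := by
  subst hQf'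
  haveI : Nonempty ((Fin m ⊕ Fin m) ⊕ Fin 2) := ⟨Sum.inr 0⟩
  have hn : finrank F ((Fin m ⊕ Fin m) ⊕ Fin 2 → F) = 2 * (m + 1) := minus_hV
  have hcard : Fintype.card F ≠ 2 ∨ finrank F ((Fin m ⊕ Fin m) ⊕ Fin 2 → F) ≠ 4 :=
    Or.inr (by rw [hn]; omega)
  have hn5 : 5 ≤ finrank F ((Fin m ⊕ Fin m) ⊕ Fin 2 → F) := by rw [hn]; omega
  have hn2 : (2 : F) = 0 → 7 ≤ finrank F ((Fin m ⊕ Fin m) ⊕ Fin 2 → F) :=
    fun _ => by rw [hn]; omega
  have hnd' : (polarBilin (minusForm m F a' b')).Nondegenerate :=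
    (minus_family m F a' b').nondegenerate (minusForm_zero_nondegenerate F a' b' hab')
  have hσQ' := minus_inv_of_fixed (m := m) a' b' σ hσa hσb
  rw [isFieldAutOf_iff ⇑(minusForm m F a' b') σ hσQ'] at hφ
  have hφr : (Psi ⇑(minusForm m F a' b')
      ⟨SemidirectProduct.inr σ, inr_mem_semiO ⇑(minusForm m F a' b') σ hσQ'⟩) ^ r = 1 := by
    rw [← hφ]
    have : (ψ.symm.trans x).trans ψ = MulAut.congr ψ x := rfl
    rw [this, ← map_pow, ← hxr, pow_orderOf_eq_one, map_one]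
  obtain ⟨hord, -⟩ := order_facts (minusForm m F a' b') hnd' (minus_hypFam37 m F a' b') hm hcard
    hn5 hn2 ⟨SemidirectProduct.inr σ, inr_mem_semiO ⇑(minusForm m F a' b') σ hσQ'⟩ r hr hφr
    (fun h => hσne h)
  exact hord

end main

section main2

variable {m : ℕ} {F : Type u} [Field F] [Fintype F]

theorem minus_field_aux {p f : ℕ} [Fact p.Prime] (hF : Fintype.card F = p ^ f) (hm : 3 ≤ m)
    (a b : F)
    (hab : ∀ z₁ z₂ : F, z₁ ^ 2 + a * z₁ * z₂ + b * z₂ ^ 2 = 0 → z₁ = 0 ∧ z₂ = 0)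
    (hAut : ∀ a' b' : F,
      (∀ z₁ z₂ : F, z₁ ^ 2 + a' * z₁ * z₂ + b' * z₂ ^ 2 = 0 → z₁ = 0 ∧ z₂ = 0) →
      AutSemi ⇑(minusForm m F a' b'))
    (a' b' : F)
    (hab' : ∀ z₁ z₂ : F, z₁ ^ 2 + a' * z₁ * z₂ + b' * z₂ ^ 2 = 0 → z₁ = 0 ∧ z₂ = 0)
    (σ : F ≃+* F) (hσne : σ ≠ RingEquiv.refl F) (hσa : σ a' = a') (hσb : σ b' = b')
    (Qf' : ((Fin m ⊕ Fin m) ⊕ Fin 2 → F) → F) (hQf' : Qf' = ⇑(minusForm m F a' b'))
    (ψ : Cfsg.POmega F ⇑(minusForm m F a b) ≃* Cfsg.POmega F Qf')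
    (x : MulAut (Cfsg.POmega F ⇑(minusForm m F a b)))
    (hφ : Cfsg.IsFieldAutPOmegaOf Qf' σ ((ψ.symm.trans x).trans ψ))
    {r : ℕ} (hr : r.Prime) (hxr : orderOf x = r)
    (F₀ : Type v) [Field F₀] [Fintype F₀] (hF₀ : Fintype.card F₀ = p ^ (f / r)) :
    Odd r ∧ r ∣ f ∧
    (∃ a₀ b₀ : F₀, (∀ z₁ z₂ : F₀, z₁ ^ 2 + a₀ * z₁ * z₂ + b₀ * z₂ ^ 2 = 0 → z₁ = 0 ∧ z₂ = 0) ∧
      Nonempty (↥(Cfsg.autSubgroupOf (fun β : Cfsg.POmega F ⇑(minusForm m F a b) ≃*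
          Cfsg.POmega F ⇑(minusForm m F a b) =>
        ∃ g : GL ((Fin m ⊕ Fin m) ⊕ Fin 2) F,
          g ∈ Cfsg.Geo.quadSimilarityGroup (F := F) ⇑(minusForm m F a b) ∧
          Cfsg.PreservesSingularClassesMinus m a b
            (g : Matrix ((Fin m ⊕ Fin m) ⊕ Fin 2) ((Fin m ⊕ Fin m) ⊕ Fin 2) F) ∧
          Cfsg.IsInducedBySemilinearPOmega ⇑(minusForm m F a b) g (RingEquiv.refl F) β) ⊓
          Subgroup.centralizer {x}) ≃* ↥(Cfsg.inndiagPOmegaMinus m F₀ a₀ b₀))) ∧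
    Cfsg.splitClassCount (Cfsg.autSubgroupOf (fun β : Cfsg.POmega F ⇑(minusForm m F a b) ≃*
          Cfsg.POmega F ⇑(minusForm m F a b) =>
        ∃ g : GL ((Fin m ⊕ Fin m) ⊕ Fin 2) F,
          g ∈ Cfsg.Geo.quadSimilarityGroup (F := F) ⇑(minusForm m F a b) ∧
          Cfsg.PreservesSingularClassesMinus m a b
            (g : Matrix ((Fin m ⊕ Fin m) ⊕ Fin 2) ((Fin m ⊕ Fin m) ⊕ Fin 2) F) ∧
          Cfsg.IsInducedBySemilinearPOmega ⇑(minusForm m F a b) g (RingEquiv.refl F) β))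
      (Cfsg.Inn (Cfsg.POmega F ⇑(minusForm m F a b))) x = 1 := by
  classical
  have hord := minus_sigma_order hm a b a' b' hab' σ hσne hσa hσb Qf' hQf' ψ x hφ hr hxr
  subst hQf'
  have hodd := odd_of_fixes a' b' hab' σ hσa hσb hr hord
  -- descent data
  obtain ⟨hdvd, j, hj⟩ : r ∣ f ∧ ∃ j : F₀ →+* F, ∀ a : F, σ a = a ↔ a ∈ Set.range j := by
    obtain ⟨F₁, hmem, hrank⟩ := Cfsg.Agent.Lib.Helper5.AutPSLn.exists_fixed_subfield σ
    rw [hord] at hrank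
    obtain ⟨hdvd, hcardF₁⟩ :=
      Cfsg.Agent.Lib.Helper5.AutPSLn.card_fixed_subfield hF hr.pos F₁ hrank
    let instF₁ : Fintype F₁ := Fintype.ofFinite F₁
    have hcc : Fintype.card F₀ = Fintype.card F₁ := by
      rw [hF₀, ← hcardF₁, Nat.card_eq_fintype_card]
    let e₁ : F₀ ≃+* F₁ := FiniteField.ringEquivOfCardEq (K := F₀) (K' := F₁) hcc
    refine ⟨hdvd, (F₁.subtype : F₁ →+* F).comp (e₁ : F₀ →+* F₁), ?_⟩
    intro a
    rw [← hmem]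
    constructor
    · intro h
      exact ⟨e₁.symm ⟨a, h⟩, by simp⟩
    · rintro ⟨y, rfl⟩
      exact (e₁ y).2
  obtain ⟨a₀, rfl⟩ := (hj a').1 hσa
  obtain ⟨b₀, rfl⟩ := (hj b').1 hσb
  have hab₀ : ∀ z₁ z₂ : F₀, z₁ ^ 2 + a₀ * z₁ * z₂ + b₀ * z₂ ^ 2 = 0 → z₁ = 0 ∧ z₂ = 0 := by
    intro z₁ z₂ h
    have h1 := hab' (j z₁) (j z₂) (by
      have := congrArg j h
      simpa only [map_add, map_mul, map_pow, map_zero] using this)
    exact ⟨(map_eq_zero j).1 h1.1, (map_eq_zero j).1 h1.2⟩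
  refine ⟨hodd, hdvd, ?_⟩
  haveI : Nonempty ((Fin m ⊕ Fin m) ⊕ Fin 2) := ⟨Sum.inr 0⟩
  have hn : finrank F ((Fin m ⊕ Fin m) ⊕ Fin 2 → F) = 2 * (m + 1) := minus_hV
  have hcard : Fintype.card F ≠ 2 ∨ finrank F ((Fin m ⊕ Fin m) ⊕ Fin 2 → F) ≠ 4 :=
    Or.inr (by rw [hn]; omega)
  have hn5 : 5 ≤ finrank F ((Fin m ⊕ Fin m) ⊕ Fin 2 → F) := by rw [hn]; omega
  have hn2 : (2 : F) = 0 → 7 ≤ finrank F ((Fin m ⊕ Fin m) ⊕ Fin 2 → F) :=
    fun _ => by rw [hn]; omega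
  have hnd : (polarBilin (minusForm m F a b)).Nondegenerate :=
    (minus_family m F a b).nondegenerate (minusForm_zero_nondegenerate F a b hab)
  have hnd' : (polarBilin (minusForm m F (j a₀) (j b₀))).Nondegenerate :=
    (minus_family m F (j a₀) (j b₀)).nondegenerate
      (minusForm_zero_nondegenerate F (j a₀) (j b₀) hab')
  have hσQ' := minus_inv_of_fixed (m := m) (j a₀) (j b₀) σ hσa hσb
  rw [isFieldAutOf_iff ⇑(minusForm m F (j a₀) (j b₀)) σ hσQ'] at hφ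
  have hφr : (Psi ⇑(minusForm m F (j a₀) (j b₀))
      ⟨SemidirectProduct.inr σ, inr_mem_semiO ⇑(minusForm m F (j a₀) (j b₀)) σ hσQ'⟩) ^ r =
      1 := by
    rw [← hφ]
    have : (ψ.symm.trans x).trans ψ = MulAut.congr ψ x := rfl
    rw [this, ← map_pow, ← hxr, pow_orderOf_eq_one, map_one]
  -- the quadratic extension
  obtain ⟨K, _, _, θ, hK2, hθ⟩ := exists_quad_ext_root a b hab
  haveI : Module.Finite F K := Module.finite_of_finrank_pos (by rw [hK2]; norm_num)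
  haveI : Finite K := Module.finite_of_finite F
  haveI : Fintype K := Fintype.ofFinite K
  obtain ⟨θ', hθ'⟩ := exists_root_quad hK2 (j a₀) (j b₀) hab'
  -- the isometry
  have hdim : finrank F ((Fin m ⊕ Fin m) ⊕ Fin 2 → F) = 2 * m + 2 := by rw [hn]; ring
  obtain ⟨Θ, hΘ⟩ := ZeroCount.classify_minus_gen (j a₀) (j b₀) hab' _ (minusForm m F a b) hnd m
    hdim (card_zeros_minusForm m a b hab)
  have hk : ∀ v, minusForm m F (j a₀) (j b₀)
      (((glOfEquiv Θ : GL _ F) : Matrix _ _ F) *ᵥ v) = minusForm m F a b v := by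
    intro v
    rw [glOfEquiv_mulVec, ← minusForm_coe]
    exact hΘ v
  generalize glOfEquiv Θ = k at hk
  -- the standard main theorem
  obtain ⟨⟨E₀⟩, hsplit₀⟩ := minus_std_main hm j a₀ b₀ hab₀ hab' θ' hθ' hK2 hnd' σ hj hr hord hodd
    hσQ'
  -- transport
  have hGeq := inndiag_minus_eq_map a b hab θ hθ hK2 hnd (by omega : 2 ≤ m)
  rw [hGeq]
  set c₀ := MulAut.congr (pomegaConj ⇑(minusForm m F a b) ⇑(minusForm m F (j a₀) (j b₀)) k hk)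
    with hc₀
  have hGmap : ((simM a b θ hθ hnd).map (Phi ⇑(minusForm m F a b))).map
      (c₀ : MulAut (Cfsg.POmega F ⇑(minusForm m F a b)) →*
        MulAut (Cfsg.POmega F ⇑(minusForm m F (j a₀) (j b₀)))) =
      (simM (j a₀) (j b₀) θ' hθ' hnd').map (Phi ⇑(minusForm m F (j a₀) (j b₀))) :=
    map_congr_map_Phi _ _ k hk _ _ (simM_conj_iff a b (j a₀) (j b₀) θ hθ hnd θ' hθ' hnd' k hk)
  have hImap : (Cfsg.Inn (Cfsg.POmega F ⇑(minusForm m F a b))).map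
      (c₀ : MulAut (Cfsg.POmega F ⇑(minusForm m F a b)) →*
        MulAut (Cfsg.POmega F ⇑(minusForm m F (j a₀) (j b₀)))) =
      Cfsg.Inn (Cfsg.POmega F ⇑(minusForm m F (j a₀) (j b₀))) := inn_map_congr37 _
  -- the image of x
  obtain ⟨p₁, hp₁⟩ := hAut (j a₀) (j b₀) hab'
    ((pomegaConj ⇑(minusForm m F a b) ⇑(minusForm m F (j a₀) (j b₀)) k hk).symm.trans ψ)
  obtain ⟨px, hpx⟩ := hAut a b hab x
  set p' : ↥(semiO ⇑(minusForm m F (j a₀) (j b₀))) :=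
    ⟨SemidirectProduct.inl k * px.1 * (SemidirectProduct.inl k)⁻¹,
      conj_mem_semiO ⇑(minusForm m F a b) ⇑(minusForm m F (j a₀) (j b₀)) k hk px.1 px.2⟩ with hp'
  have hcx : c₀ x = Psi ⇑(minusForm m F (j a₀) (j b₀)) p' := by
    rw [hpx]
    ext t'
    show pomegaConj ⇑(minusForm m F a b) ⇑(minusForm m F (j a₀) (j b₀)) k hk
      (Psi ⇑(minusForm m F a b) px
        ((pomegaConj ⇑(minusForm m F a b) ⇑(minusForm m F (j a₀) (j b₀)) k hk).symm t')) = _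
    rw [pomegaConj_Psi ⇑(minusForm m F a b) ⇑(minusForm m F (j a₀) (j b₀)) k hk px p' rfl,
      MulEquiv.apply_symm_apply]
  have hY : (ψ.symm.trans x).trans ψ =
      Psi ⇑(minusForm m F (j a₀) (j b₀)) (p₁ * p' * p₁⁻¹) := by
    rw [map_mul, map_mul, map_inv, ← hp₁, ← hcx]
    ext t'
    show ψ (x (ψ.symm t')) = ψ ((pomegaConj ⇑(minusForm m F a b)
      ⇑(minusForm m F (j a₀) (j b₀)) k hk).symm ((c₀ x) ((pomegaConj ⇑(minusForm m F a b)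
      ⇑(minusForm m F (j a₀) (j b₀)) k hk) (ψ.symm t'))))
    rw [hc₀]
    show ψ (x (ψ.symm t')) = ψ ((pomegaConj ⇑(minusForm m F a b)
      ⇑(minusForm m F (j a₀) (j b₀)) k hk).symm ((pomegaConj ⇑(minusForm m F a b)
      ⇑(minusForm m F (j a₀) (j b₀)) k hk) (x ((pomegaConj ⇑(minusForm m F a b)
      ⇑(minusForm m F (j a₀) (j b₀)) k hk).symm ((pomegaConj ⇑(minusForm m F a b)
      ⇑(minusForm m F (j a₀) (j b₀)) k hk) (ψ.symm t'))))))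
    rw [MulEquiv.symm_apply_apply, MulEquiv.symm_apply_apply]
  rw [hY] at hφ
  have h3 := right_eq_of_Psi_eq (minusForm m F (j a₀) (j b₀)) hnd'
    (minus_hypFam37 m F (j a₀) (j b₀)) hm hcard hn5 hn2 _ _ hφ
  have hp'r : p'.1.right = σ := by
    simp only [Subgroup.coe_mul, Subgroup.coe_inv, SemidirectProduct.mul_right,
      SemidirectProduct.inv_right, SemidirectProduct.right_inr] at h3
    rw [ringAut_comm hF p₁.1.right p'.1.right, mul_inv_cancel_right] at h3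
    exact h3
  set pσ : ↥(semiO ⇑(minusForm m F (j a₀) (j b₀))) :=
    ⟨SemidirectProduct.inr σ, inr_mem_semiO ⇑(minusForm m F (j a₀) (j b₀)) σ hσQ'⟩ with hpσ
  have hd1 : (p' * pσ⁻¹).1.right = 1 := by
    rw [Subgroup.coe_mul, Subgroup.coe_inv, SemidirectProduct.mul_right,
      SemidirectProduct.inv_right, hp'r]
    exact mul_inv_cancel σ
  have hd2 := eq_simToSemi_of_right_eq_one ⇑(minusForm m F (j a₀) (j b₀)) (p' * pσ⁻¹) hd1
  have hp'd : Psi ⇑(minusForm m F (j a₀) (j b₀)) p' =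
      Phi ⇑(minusForm m F (j a₀) (j b₀)) ⟨(p' * pσ⁻¹).1.left,
        mem_sim_of_right_eq_one ⇑(minusForm m F (j a₀) (j b₀)) _ hd1⟩ *
      Psi ⇑(minusForm m F (j a₀) (j b₀)) pσ := by
    calc Psi ⇑(minusForm m F (j a₀) (j b₀)) p'
        = Psi ⇑(minusForm m F (j a₀) (j b₀)) ((p' * pσ⁻¹) * pσ) := by
          rw [inv_mul_cancel_right]
      _ = Psi ⇑(minusForm m F (j a₀) (j b₀)) (p' * pσ⁻¹) *
          Psi ⇑(minusForm m F (j a₀) (j b₀)) pσ := map_mul _ _ _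
      _ = _ := by
          rw [← Psi_simToSemi]
          exact congrArg (fun z => Psi ⇑(minusForm m F (j a₀) (j b₀)) z *
            Psi ⇑(minusForm m F (j a₀) (j b₀)) pσ) hd2
  have hyr : (Phi ⇑(minusForm m F (j a₀) (j b₀)) ⟨(p' * pσ⁻¹).1.left,
        mem_sim_of_right_eq_one ⇑(minusForm m F (j a₀) (j b₀)) _ hd1⟩ *
      Psi ⇑(minusForm m F (j a₀) (j b₀)) pσ) ^ r = 1 := by
    rw [← hp'd, ← hcx, ← map_pow, ← hxr, pow_orderOf_eq_one, map_one]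
  obtain ⟨t, ht, hconj⟩ := minus_conj_aux hm (j a₀) (j b₀) hab' θ' hθ' hnd' pσ _ r hr hφr hyr
    (fun h => hσne h)
  have hcx' : c₀ x = Phi ⇑(minusForm m F (j a₀) (j b₀)) t *
      phiF (minusForm m F (j a₀) (j b₀)) σ hσQ' *
      (Phi ⇑(minusForm m F (j a₀) (j b₀)) t)⁻¹ := by
    rw [hcx, hp'd, hconj]
    rfl
  have htG : Phi ⇑(minusForm m F (j a₀) (j b₀)) t ∈
      (simM (j a₀) (j b₀) θ' hθ' hnd').map (Phi ⇑(minusForm m F (j a₀) (j b₀))) :=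
    ⟨t, ht, rfl⟩
  constructor
  · refine ⟨a₀, b₀, hab₀, ?_⟩
    have E1 := centMapEquiv c₀ ((simM a b θ hθ hnd).map (Phi ⇑(minusForm m F a b))) x
    rw [hGmap, hcx'] at E1
    obtain ⟨E2⟩ := centConjMem_nonempty
      ((simM (j a₀) (j b₀) θ' hθ' hnd').map (Phi ⇑(minusForm m F (j a₀) (j b₀))))
      (Phi ⇑(minusForm m F (j a₀) (j b₀)) t) htG (phiF (minusForm m F (j a₀) (j b₀)) σ hσQ')
    exact ⟨E1.trans (E2.symm.trans E₀)⟩
  · have h1 := splitClassCount_map c₀ ((simM a b θ hθ hnd).map (Phi ⇑(minusForm m F a b)))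
      (Cfsg.Inn (Cfsg.POmega F ⇑(minusForm m F a b))) x
    rw [hGmap, hImap, hcx', splitClassCount_conj_mem _ _ _ htG] at h1
    rw [← h1]
    exact hsplit₀

end main2

section final

variable {m : ℕ} {F : Type u} [Field F] [Fintype F]

/-- field automorphisms of prime order of `PΩ⁻`, given the automorphism theorem -/
theorem minus_field_main {p f : ℕ} [Fact p.Prime] (hF : Fintype.card F = p ^ f) (hm : 3 ≤ m)
    (a b : F)
    (hab : ∀ z₁ z₂ : F, z₁ ^ 2 + a * z₁ * z₂ + b * z₂ ^ 2 = 0 → z₁ = 0 ∧ z₂ = 0)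
    (hAut : ∀ a' b' : F,
      (∀ z₁ z₂ : F, z₁ ^ 2 + a' * z₁ * z₂ + b' * z₂ ^ 2 = 0 → z₁ = 0 ∧ z₂ = 0) →
      ∀ α : MulAut (Cfsg.POmega F (Cfsg.quadFormMinus m F a' b')),
      ∃ (g : GL ((Fin m ⊕ Fin m) ⊕ Fin 2) F) (σ : F ≃+* F),
        Cfsg.IsSemisimilarityPair (Cfsg.quadFormMinus m F a' b') g σ ∧
        Cfsg.IsInducedBySemilinearPOmega (Cfsg.quadFormMinus m F a' b') g σ α)
    (x : MulAut (Cfsg.POmega F (Cfsg.quadFormMinus m F a b)))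
    (hx : Cfsg.IsFieldAutClassPOmegaMinus m x) {r : ℕ} (hr : r.Prime) (hxr : orderOf x = r)
    (F₀ : Type v) [Field F₀] [Fintype F₀] (hF₀ : Fintype.card F₀ = p ^ (f / r)) :
    Odd r ∧ r ∣ f ∧
    (∃ a₀ b₀ : F₀, (∀ z₁ z₂ : F₀, z₁ ^ 2 + a₀ * z₁ * z₂ + b₀ * z₂ ^ 2 = 0 → z₁ = 0 ∧ z₂ = 0) ∧
      Nonempty (↥(Cfsg.inndiagPOmegaMinus m F a b ⊓ Subgroup.centralizer {x}) ≃*
        ↥(Cfsg.inndiagPOmegaMinus m F₀ a₀ b₀))) ∧
    Cfsg.splitClassCount (Cfsg.inndiagPOmegaMinus m F a b)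
      (Cfsg.Inn (Cfsg.POmega F (Cfsg.quadFormMinus m F a b))) x = 1 := by
  have hAut' : ∀ a' b' : F,
      (∀ z₁ z₂ : F, z₁ ^ 2 + a' * z₁ * z₂ + b' * z₂ ^ 2 = 0 → z₁ = 0 ∧ z₂ = 0) →
      AutSemi ⇑(minusForm m F a' b') := by
    intro a' b' hab'
    have := autSemi_of_raw _ (hAut a' b' hab')
    rw [minusForm_coe] at this
    exact this
  have key : ∀ (Qf : ((Fin m ⊕ Fin m) ⊕ Fin 2 → F) → F), Qf = ⇑(minusForm m F a b) →
      ∀ (x : MulAut (Cfsg.POmega F Qf)),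
        (∃ (a' b' : F) (ψ : Cfsg.POmega F Qf ≃* Cfsg.POmega F (Cfsg.quadFormMinus m F a' b'))
          (σ : F ≃+* F),
          (∀ z₁ z₂ : F, z₁ ^ 2 + a' * z₁ * z₂ + b' * z₂ ^ 2 = 0 → z₁ = 0 ∧ z₂ = 0) ∧
          σ ≠ RingEquiv.refl F ∧ σ a' = a' ∧ σ b' = b' ∧
          Cfsg.IsFieldAutPOmegaOf (Cfsg.quadFormMinus m F a' b') σ
            ((ψ.symm.trans x).trans ψ)) →
        orderOf x = r →
        (Odd r ∧ r ∣ f ∧
        (∃ a₀ b₀ : F₀,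
          (∀ z₁ z₂ : F₀, z₁ ^ 2 + a₀ * z₁ * z₂ + b₀ * z₂ ^ 2 = 0 → z₁ = 0 ∧ z₂ = 0) ∧
          Nonempty (↥(Cfsg.autSubgroupOf (fun β : Cfsg.POmega F Qf ≃* Cfsg.POmega F Qf =>
            ∃ g : GL ((Fin m ⊕ Fin m) ⊕ Fin 2) F,
              g ∈ Cfsg.Geo.quadSimilarityGroup (F := F) Qf ∧
              Cfsg.PreservesSingularClassesMinus m a b
                (g : Matrix ((Fin m ⊕ Fin m) ⊕ Fin 2) ((Fin m ⊕ Fin m) ⊕ Fin 2) F) ∧
              Cfsg.IsInducedBySemilinearPOmega Qf g (RingEquiv.refl F) β) ⊓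
              Subgroup.centralizer {x}) ≃* ↥(Cfsg.inndiagPOmegaMinus m F₀ a₀ b₀))) ∧
        Cfsg.splitClassCount (Cfsg.autSubgroupOf (fun β : Cfsg.POmega F Qf ≃* Cfsg.POmega F Qf =>
            ∃ g : GL ((Fin m ⊕ Fin m) ⊕ Fin 2) F,
              g ∈ Cfsg.Geo.quadSimilarityGroup (F := F) Qf ∧
              Cfsg.PreservesSingularClassesMinus m a b
                (g : Matrix ((Fin m ⊕ Fin m) ⊕ Fin 2) ((Fin m ⊕ Fin m) ⊕ Fin 2) F) ∧
              Cfsg.IsInducedBySemilinearPOmega Qf g (RingEquiv.refl F) β))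
          (Cfsg.Inn (Cfsg.POmega F Qf)) x = 1) := by
    intro Qf hQf
    subst hQf
    intro x hx hxr
    obtain ⟨a', b', ψ, σ, hab', hσne, hσa, hσb, hφ⟩ := hx
    exact minus_field_aux hF hm a b hab hAut' a' b' hab' σ hσne hσa hσb _
      (minusForm_coe m F a' b') ψ x hφ hr hxr F₀ hF₀
  exact key _ (minusForm_coe m F a b) x hx hxr

end final

end Cfsg.Agent.Lib.Helper37.OrthField
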