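import Cfsg.Agent.Lib.Helper37.GraphInvPlus
import Cfsg.Agent.Lib.Helper37.GraphInv4
import Cfsg.Agent.Lib.Helper37.OrthMinusFieldMain
import Cfsg.Agent.Lib.Helper37.MinusDiag
import Cfsg.Agent.Lib.Helper37.OrthGlue
import Cfsg.Agent.S0791

set_option autoImplicit false
set_option linter.unusedSectionVars false
set_option linter.unusedVariables false
set_option maxHeartbeats 800000

namespace Cfsg.Agent.Lib.Helper37.OrthField

open Matrix Module QuadraticMap
open Cfsg.Agent.Lib.Helper37 Cfsg.Agent.Lib.Helper43 Cfsg.Agent.Lib.Helper8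
open Cfsg.Agent.Lib.Helper37.ParGen Cfsg.Agent.Lib.Helper14 Cfsg.Agent.Lib.Helper37.GraphInv

universe u v

section disc

variable {κ : Type} [Fintype κ] [DecidableEq κ] {F : Type u} [Field F]
  {F₀ : Type v} [Field F₀]

theorem gram_entry {Q : (κ → F) → F} {G : Matrix κ κ F} (h : IsGram Q G) (i k : κ) :
    G i k = QuadraticMap.polar Q (Pi.single i 1) (Pi.single k 1) := by
  rw [h.polar_eq, Matrix.toBilin'_single]

/-- a form that descends (up to a similarity) to a subfield all of whose elements are squares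
has square discriminant -/
theorem desc_det_isSquare (j : F₀ →+* F) (hsq : ∀ x : F₀, IsSquare (j x))
    {Q : (κ → F) → F} {G : Matrix κ κ F} (h : IsGram Q G)
    {P₀ : (κ → F₀) → F₀} {G₀ : Matrix κ κ F₀} (h₀ : IsGram P₀ G₀)
    {N : ℕ} (hN : Fintype.card κ = 2 * N) (b : GL κ F) (μ : Fˣ)
    (hP : ∀ w, j (P₀ w) = μ * Q ((b : Matrix κ κ F) *ᵥ jv j w)) : IsSquare G.det := by
  have hmat : G₀.map j = (μ : F) • ((b : Matrix κ κ F)ᵀ * G * (b : Matrix κ κ F)) := by
    ext i k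
    rw [Matrix.map_apply, gram_entry h₀, Matrix.smul_apply, smul_eq_mul]
    unfold QuadraticMap.polar
    rw [map_sub, map_sub, hP, hP, hP, jv_add, jv_single, jv_single, Matrix.mulVec_add,
      h.Q_add, Matrix.toBilin'_apply']
    have : ((b : Matrix κ κ F)ᵀ * G * (b : Matrix κ κ F)) i k =
        ((b : Matrix κ κ F) *ᵥ Pi.single i 1) ⬝ᵥ (G *ᵥ ((b : Matrix κ κ F) *ᵥ Pi.single k 1)) := by
      rw [Matrix.mulVec_mulVec, Matrix.mulVec_single_one, Matrix.mulVec_single_one,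
        Matrix.mul_assoc, Matrix.mul_apply]
      unfold dotProduct
      apply Finset.sum_congr rfl
      intro x _
      rw [Matrix.transpose_apply]
      rfl
    rw [this]
    ring
  have hdet : j G₀.det = (μ : F) ^ (2 * N) * ((b : Matrix κ κ F).det) ^ 2 * G.det := by
    have h1 : j G₀.det = (G₀.map j).det := by
      rw [RingHom.map_det]
      rfl
    rw [h1, hmat, Matrix.det_smul, Matrix.det_mul, Matrix.det_mul, Matrix.det_transpose, hN]
    ring
  obtain ⟨s, hs⟩ := hsq G₀.det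
  have hb0 : (b : Matrix κ κ F).det ≠ 0 := by
    have := (Matrix.isUnit_iff_isUnit_det _).1 b.isUnit
    exact this.ne_zero
  have hμ0 : (μ : F) ^ N ≠ 0 := pow_ne_zero _ μ.ne_zero
  refine ⟨s / ((μ : F) ^ N * (b : Matrix κ κ F).det), ?_⟩
  rw [hdet] at hs
  rw [div_mul_div_comm, eq_div_iff (mul_ne_zero (mul_ne_zero hμ0 hb0) (mul_ne_zero hμ0 hb0))]
  linear_combination hs

end disc

section minus

variable {m : ℕ} {F : Type u} [Field F] [Fintype F]

/-- an involution in the image of the semisimilarity group of a minus-type form has trivial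
field component -/
theorem minus_right_eq_one (hodd : Odd (Fintype.card F)) (hm : 3 ≤ m) (a b : F)
    (hab : ∀ z₁ z₂ : F, z₁ ^ 2 + a * z₁ * z₂ + b * z₂ ^ 2 = 0 → z₁ = 0 ∧ z₂ = 0)
    (p : ↥(semiO ⇑(minusForm m F a b))) (hp2 : (Psi ⇑(minusForm m F a b) p) ^ 2 = 1) :
    p.1.right = 1 := by
  classical
  by_contra hσ
  have h2 : (2 : F) ≠ 0 := two_ne_zero_of_odd_card hodd
  haveI : Nonempty ((Fin m ⊕ Fin m) ⊕ Fin 2) := ⟨Sum.inr 0⟩
  have hn : finrank F ((Fin m ⊕ Fin m) ⊕ Fin 2 → F) = 2 * (m + 1) := minus_hV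
  have hcard : Fintype.card F ≠ 2 ∨ finrank F ((Fin m ⊕ Fin m) ⊕ Fin 2 → F) ≠ 4 :=
    Or.inr (by rw [hn]; omega)
  have hn5 : 5 ≤ finrank F ((Fin m ⊕ Fin m) ⊕ Fin 2 → F) := by rw [hn]; omega
  have hn2 : (2 : F) = 0 → 7 ≤ finrank F ((Fin m ⊕ Fin m) ⊕ Fin 2 → F) :=
    fun _ => by rw [hn]; omega
  have hnd : (polarBilin (minusForm m F a b)).Nondegenerate :=
    (minus_family m F a b).nondegenerate (minusForm_zero_nondegenerate F a b hab)
  obtain ⟨hord, c, hc⟩ := order_facts (minusForm m F a b) hnd (minus_hypFam37 m F a b) hm hcard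
    hn5 hn2 p 2 Nat.prime_two hp2 hσ
  obtain ⟨F₁, hmem, hrank⟩ := Cfsg.Agent.Lib.Helper5.AutPSLn.exists_fixed_subfield p.1.right
  rw [hord] at hrank
  letI : Fintype F₁ := Fintype.ofFinite F₁
  have hcardF : Fintype.card F = Fintype.card F₁ ^ 2 := by
    rw [← hrank]; exact Module.card_eq_pow_finrank
  have hj : ∀ a : F, p.1.right a = a ↔ a ∈ Set.range (F₁.subtype : F₁ →+* F) := by
    intro a
    rw [← hmem]
    constructor
    · intro h; exact ⟨⟨a, h⟩, rfl⟩
    · rintro ⟨y, rfl⟩; exact y.2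
  obtain ⟨z, bb, μ, P₀, -, hP₀⟩ := exists_lattice (F₁.subtype : F₁ →+* F) (minusForm m F a b)
    (minus_hne' a b) p.1.right hj 2 hord (by norm_num) p.1 p.2 rfl c hc
  have h2₁ : (2 : F₁) ≠ 0 := two_ne_zero_of_map (F₁.subtype : F₁ →+* F) h2
  have hG : IsGram ⇑(minusForm m F a b) (gramM m F a b) := by
    rw [← minusForm_coe]; exact minus_isGram h2 m a b
  have hsq := desc_det_isSquare (F₁.subtype : F₁ →+* F)
    (isSquare_of_card_sq (F₁.subtype : F₁ →+* F) h2 hcardF) hG (isGram_gramOf h2₁ P₀)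
    (minus_card_two_mul m) bb μ hP₀
  rw [gramM_det] at hsq
  have hneg : IsSquare (-1 : F) := by
    have := isSquare_of_card_sq (F₁.subtype : F₁ →+* F) h2 hcardF (-1)
    simpa using this
  obtain ⟨i, hi⟩ := hneg
  obtain ⟨s, hs⟩ := hsq
  have hi0 : i ≠ 0 := by
    rintro rfl
    simp at hi
  apply disc_nonsquare h2 a b hab
  refine ⟨s / i ^ (m + 1), ?_⟩
  rw [div_mul_div_comm, eq_div_iff (mul_ne_zero (pow_ne_zero _ hi0) (pow_ne_zero _ hi0))]
  rw [hi] at hs
  linear_combination hs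

theorem minus_right_eq_one' (hodd : Odd (Fintype.card F)) (hm : 3 ≤ m) (a b : F)
    (hab : ∀ z₁ z₂ : F, z₁ ^ 2 + a * z₁ * z₂ + b * z₂ ^ 2 = 0 → z₁ = 0 ∧ z₂ = 0)
    (p : ↥(semiO (Cfsg.quadFormMinus m F a b)))
    (hp2 : (Psi (Cfsg.quadFormMinus m F a b) p) ^ 2 = 1) :
    p.1.right = 1 := by
  have key : ∀ Qf : ((Fin m ⊕ Fin m) ⊕ Fin 2 → F) → F, Qf = ⇑(minusForm m F a b) →
      ∀ p : ↥(semiO Qf), (Psi Qf p) ^ 2 = 1 → p.1.right = 1 := by
    intro Qf hQf
    subst hQf
    exact minus_right_eq_one hodd hm a b hab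
  exact key _ (minusForm_coe m F a b) p hp2

/-- the count as an index, for forms given as functions -/
theorem splitCount_eq_index_sup' {ι : Type} [Fintype ι] [DecidableEq ι] (Q : (ι → F) → F)
    (D : Subgroup ↥(Cfsg.Geo.quadSimilarityGroup (F := F) Q)) (hle : innPre Q ≤ D)
    (x : MulAut (Cfsg.POmega F Q)) :
    Cfsg.splitClassCount (D.map (Phi Q)) (Cfsg.Inn (Cfsg.POmega F Q)) x =
      ((innPre Q).subgroupOf D ⊔
        (Subgroup.centralizer {x}).comap ((Phi Q).comp D.subtype)).index := by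
  classical
  have hcount := Cfsg.Agent.Lib.Helper45.AutPSL.splitClassCount_eq_index
    ((Phi Q).comp D.subtype) ((innPre Q).subgroupOf D) x
  have hrange : ((Phi Q).comp D.subtype).range = D.map (Phi Q) := by
    rw [MonoidHom.range_comp, Subgroup.range_subtype]
  have hNmap : ((innPre Q).subgroupOf D).map ((Phi Q).comp D.subtype) =
      Cfsg.Inn (Cfsg.POmega F Q) := by
    rw [← Subgroup.map_map, Subgroup.subgroupOf_map_subtype, inf_eq_left.2 hle,
      inn_eq_map_innPre]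
  rw [hrange, hNmap] at hcount
  exact hcount

theorem minus_neg_crit (hodd : Odd (Fintype.card F)) (h2 : (2 : F) ≠ 0) (a b : F)
    (hab : ∀ z₁ z₂ : F, z₁ ^ 2 + a * z₁ * z₂ + b * z₂ ^ 2 = 0 → z₁ = 0 ∧ z₂ = 0) :
    (minus_isGram h2 m a b).negO ∈ Cfsg.Omega F (Cfsg.quadFormMinus m F a b) ↔
      (Even m ∧ Fintype.card F % 4 = 3) := by
  classical
  have hcrit := Cfsg.Agent.S0791.result (F := F) rfl hodd (m + 1) (by omega) a b hab
  rw [Nat.add_sub_cancel] at hcrit
  rw [← negOne_iff (minus_isGram h2 m a b), hcrit]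
  rcases Nat.even_or_odd' m with ⟨r, hr | hr⟩
  · rw [hr, pow_mod_four_odd _ r hodd]
    constructor
    · intro h3
      exact ⟨⟨r, by ring⟩, h3⟩
    · exact fun h => h.2
  · have : 2 * r + 1 + 1 = 2 * (r + 1) := by ring
    rw [hr, this, pow_mod_four_even _ (r + 1) hodd]
    constructor
    · intro h; omega
    · rintro ⟨hme, -⟩
      rw [Nat.even_iff] at hme
      omega

theorem minus_graph_main (hodd : Odd (Fintype.card F)) (hm : 3 ≤ m) (a b : F)
    (hab : ∀ z₁ z₂ : F, z₁ ^ 2 + a * z₁ * z₂ + b * z₂ ^ 2 = 0 → z₁ = 0 ∧ z₂ = 0)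
    (γ : MulAut (Cfsg.POmega F (Cfsg.quadFormMinus m F a b)))
    (hγ : Cfsg.IsGraphAutClassPOmegaMinus m a b γ) (hγ2 : orderOf γ = 2) :
    (Cfsg.splitClassCount (Cfsg.inndiagPOmegaMinus m F a b)
        (Cfsg.Inn (Cfsg.POmega F (Cfsg.quadFormMinus m F a b))) γ = 1 ∨
      Cfsg.splitClassCount (Cfsg.inndiagPOmegaMinus m F a b)
        (Cfsg.Inn (Cfsg.POmega F (Cfsg.quadFormMinus m F a b))) γ = 2) ∧
    (¬ (Even m ∧ Fintype.card F % 4 = 1) →
      Cfsg.splitClassCount (Cfsg.inndiagPOmegaMinus m F a b)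
        (Cfsg.Inn (Cfsg.POmega F (Cfsg.quadFormMinus m F a b))) γ = 2) := by
  classical
  have h2 : (2 : F) ≠ 0 := two_ne_zero_of_odd_card hodd
  have h := minus_isGram h2 m a b
  have hdet := gramM_det_ne_zero h2 m a b hab
  have hN := minus_card_two_mul m
  have hn : 2 ≤ Fintype.card ((Fin m ⊕ Fin m) ⊕ Fin 2) := by rw [minus_card_two_mul]; omega
  have hker := minus_hker hm a b hab
  have hne := exists_Q_eq_one h hdet hn
  obtain ⟨hγ1, hγ3, -⟩ := hγ
  have hDeq := minus_inndiag_eq hodd hm a b hab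
  rw [hDeq] at hγ3 ⊢
  -- γ is induced by a similarity
  have hγsq : γ ^ 2 = 1 := by
    have := pow_orderOf_eq_one γ
    rwa [hγ2] at this
  obtain ⟨p, hp⟩ := gamma_le_range_Psi _ hγ1
  have hp2 : (Psi (Cfsg.quadFormMinus m F a b) p) ^ 2 = 1 := by
    rw [hp, hγsq]
  have hσ := minus_right_eq_one' hodd hm a b hab p hp2
  have hpe := eq_simToSemi_of_right_eq_one (Cfsg.quadFormMinus m F a b) p hσ
  set g : ↥(Cfsg.Geo.quadSimilarityGroup (F := F) (Cfsg.quadFormMinus m F a b)) :=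
    ⟨p.1.left, mem_sim_of_right_eq_one (Cfsg.quadFormMinus m F a b) p hσ⟩ with hgdef
  have hγeq : γ = Phi (Cfsg.quadFormMinus m F a b) g := by
    rw [← hp, hpe, Psi_simToSemi]
  have hgD : g ∉ simC h hdet hN hn := by
    intro hg
    apply hγ3
    rw [hγeq]
    exact ⟨g, hg, rfl⟩
  have hg2 : Phi (Cfsg.quadFormMinus m F a b) g * Phi (Cfsg.quadFormMinus m F a b) g = 1 := by
    rw [← hγeq, ← pow_two, hγsq]
  -- a similarity with non-square multiplier in `simC`
  obtain ⟨w1, w2, hc⟩ := exists_nonsquare_norm h2 a b hab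
  have hw0 : w1 ^ 2 + a * w1 * w2 + b * w2 ^ 2 ≠ 0 := by
    intro h0
    apply hc
    rw [h0]
    exact ⟨0, (mul_zero 0).symm⟩
  have hμ : simMult (Cfsg.quadFormMinus m F a b) (minusSim m a b w1 w2 hw0)
      = Units.mk0 _ hw0 := by
    apply simMult_unique hne
    intro v
    exact minusSimMat_Q m a b _ _ v
  have hd : ¬ IsSquare (simMult (Cfsg.quadFormMinus m F a b)
      (minusSim m a b w1 w2 hw0) : F) := by
    rw [hμ, Units.val_mk0]; exact hc
  have hdC : minusSim m a b w1 w2 hw0 ∈ simC h hdet hN hn := by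
    rw [mem_simC_iff h hdet hN hn hker, hμ, Units.val_mk0]
    show (minusSimMat m a b w1 w2).det = _
    rw [minusSimMat_det]
    ring
  have main := graph_main h hdet hN hn hker (by rw [hN]; omega)
    (minusSim m a b w1 w2 hw0) hd g hgD hg2
  rw [splitCount_eq_index_sup' (Cfsg.quadFormMinus m F a b) (simC h hdet hN hn)
    (innPre_le_simC h hdet hN hn hker) γ, hγeq]
  refine ⟨main.1, fun hcond => ?_⟩
  by_cases hneg : h.negO ∈ Cfsg.Omega F (Cfsg.quadFormMinus m F a b)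
  · exact main.2 hneg
  · have hmo : Odd m := by
      by_contra hme
      rw [Nat.not_odd_iff_even] at hme
      have hq := Nat.odd_iff.1 hodd
      rcases (by omega : Fintype.card F % 4 = 1 ∨ Fintype.card F % 4 = 3) with h1 | h3
      · exact hcond ⟨hme, h1⟩
      · exact hneg ((minus_neg_crit hodd h2 a b hab).2 ⟨hme, h3⟩)
    have hNe : Even (m + 1) := Odd.add_one hmo
    exact count_even h hdet hN hn hker hNe hneg (minusSim m a b w1 w2 hw0) hd hdC g hgD hg2

end minus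

end Cfsg.Agent.Lib.Helper37.OrthField
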