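import Mathlib
import Cfsg.Agent.Lib.Helper37.OrthPlusTwo
import Cfsg.Agent.Lib.Helper37.OrthMinusFieldMain
import Cfsg.Agent.Lib.Helper37.OrthGlue

set_option autoImplicit false
set_option linter.unusedSectionVars false
set_option linter.unusedVariables false
set_option maxHeartbeats 1600000

/-!
# Field automorphisms of prime order of `PΩ⁺`: the main theorem
-/

namespace Cfsg.Agent.Lib.Helper37.OrthField

open Matrix Module QuadraticMap
open Cfsg.Agent.Lib.Helper37 Cfsg.Agent.Lib.Helper43 Cfsg.Agent.Lib.Helper8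
open Cfsg.Agent.Lib.Helper37.ParGen Cfsg.Agent.Lib.Helper14

universe u v

section conj4

variable {F : Type u} [Field F] [Fintype F] {m : ℕ}

/-- the key conjugacy statement for the plus type -/
theorem plus_conj_aux4 (hm : 4 ≤ m)
    (px : ↥(semiO ⇑(plusForm m F)))
    (d : ↥(Cfsg.Geo.quadSimilarityGroup (F := F) ⇑(plusForm m F)))
    (hd : d ∈ simP (plusForm m F) (plusForm_nondegenerate m F) plus_hV (stdL m F) plus_lag)
    (r : ℕ) (hr : r.Prime) (hx : (Psi ⇑(plusForm m F) px) ^ r = 1)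
    (hy : (Phi ⇑(plusForm m F) d * Psi ⇑(plusForm m F) px) ^ r = 1) (hσ : px.1.right ≠ 1) :
    ∃ t ∈ simP (plusForm m F) (plusForm_nondegenerate m F) plus_hV (stdL m F) plus_lag,
      Phi ⇑(plusForm m F) d * Psi ⇑(plusForm m F) px =
        Phi ⇑(plusForm m F) t * Psi ⇑(plusForm m F) px * (Phi ⇑(plusForm m F) t)⁻¹ := by
  haveI : Nonempty (Fin m ⊕ Fin m) := ⟨Sum.inl ⟨0, by omega⟩⟩
  have hn : finrank F (Fin m ⊕ Fin m → F) = 2 * m := plus_hV
  have hQ := plusForm_nondegenerate m F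
  have hfam := plus_hypFam37 m F
  have hk : 3 ≤ m := by omega
  have hcard : Fintype.card F ≠ 2 ∨ finrank F (Fin m ⊕ Fin m → F) ≠ 4 :=
    Or.inr (by rw [hn]; omega)
  have hn5 : 5 ≤ finrank F (Fin m ⊕ Fin m → F) := by rw [hn]; omega
  have hn2 : (2 : F) = 0 → 7 ≤ finrank F (Fin m ⊕ Fin m → F) := fun _ => by rw [hn]; omega
  set py : ↥(semiO ⇑(plusForm m F)) := simToSemi ⇑(plusForm m F) d * px with hpy
  have hpy1 : Phi ⇑(plusForm m F) d * Psi ⇑(plusForm m F) px = Psi ⇑(plusForm m F) py := by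
    rw [hpy, map_mul, Psi_simToSemi]
  have hxy : py.1.right = px.1.right := by
    rw [hpy, Subgroup.coe_mul, SemidirectProduct.mul_right, simToSemi_right, one_mul]
  have hpyv : py.1 = SemidirectProduct.inl d.1 * px.1 := rfl
  rw [hpy1] at hy ⊢
  obtain ⟨hord, -, -⟩ := order_facts (plusForm m F) hQ hfam hk hcard hn5 hn2 px r hr hx hσ
  have hqs := qsys_of_form (plusForm m F) hQ
  apply conj_of_same_type (plusForm m F) hQ hfam hk hcard hn5 hn2 plus_hN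
    (simP (plusForm m F) hQ plus_hV (stdL m F) plus_lag)
    (simP_adj (plusForm m F) hQ plus_hV (stdL m F) plus_lag) px py r hr hx hy hσ hxy
  intro F₁ hF₁ z z' b b' μ μ' P₀ P₀' hL hL'
  haveI : Fintype F₁ := Fintype.ofFinite _
  have hj : ∀ a, px.1.right a = a ↔ a ∈ Set.range F₁.subtype := by
    intro a
    rw [← hF₁]
    constructor
    · intro h; exact ⟨⟨a, h⟩, rfl⟩
    · rintro ⟨b, rfl⟩; exact b.2
  rcases hr.eq_two_or_odd' with h2 | hodd
  · subst h2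
    apply count_eq_of_parS_eq F₁.subtype px.1.right hj (by omega) hord px.1 py.1 px.2 py.2 rfl hxy
      z z' b b' μ μ' P₀ P₀' hL hL'
    rw [hpyv, parS_mul hqs plus_hV _ plus_lag _ _ (inl_mem_semiO (plusForm m F) d) px.2,
      (mem_simP (plusForm m F) hQ plus_hV (stdL m F) plus_lag d).1 hd, zero_add]
    exact (Nat.mod_eq_of_lt (parS_lt _ _)).symm
  · have hσr : px.1.right ^ r = 1 := by rw [← hord]; exact pow_orderOf_eq_one _
    have hQc : Nat.card {v : Fin m ⊕ Fin m → F // plusForm m F v = 0} =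
        ZZ (Fintype.card F) 0 1 m := card_zeros_plusForm m
    rw [lattice_plus_of_odd F₁.subtype plus_hN (plusForm m F) hQ hQc px.1.right hj r hσr hodd
        b μ P₀ hL.2,
      lattice_plus_of_odd F₁.subtype plus_hN (plusForm m F) hQ hQc px.1.right hj r hσr hodd
        b' μ' P₀' hL'.2]


end conj4

section stdplus

variable {m : ℕ} {F : Type u} [Field F] [Fintype F] {F₀ : Type v} [Field F₀] [Fintype F₀]

theorem plus_std_main (hm : 4 ≤ m) (j : F₀ →+* F) (σ : F ≃+* F)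
    (hj : ∀ a, σ a = a ↔ a ∈ Set.range j) {r : ℕ} (hr : r.Prime) (hσr : orderOf σ = r)
    (hcard : Fintype.card F = Fintype.card F₀ ^ r) :
    Nonempty (↥((simPl m F).map (Phi ⇑(plusForm m F)) ⊓
        Subgroup.centralizer {phiF (plusForm m F) σ (plus_inv σ)}) ≃*
      ↥(Cfsg.inndiagPOmegaPlus m F₀)) ∧
    ((Odd r ∨ (2 : F) = 0) →
      Cfsg.splitClassCount ((simPl m F).map (Phi ⇑(plusForm m F)))
        (Cfsg.Inn (Cfsg.POmega F ⇑(plusForm m F)))
        (phiF (plusForm m F) σ (plus_inv σ)) = 1) ∧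
    ((r = 2 ∧ (2 : F) ≠ 0 ∧ Odd m ∧ Fintype.card F₀ % 4 = 1) →
      Cfsg.splitClassCount ((simPl m F).map (Phi ⇑(plusForm m F)))
        (Cfsg.Inn (Cfsg.POmega F ⇑(plusForm m F)))
        (phiF (plusForm m F) σ (plus_inv σ)) = 2) ∧
    ((r = 2 ∧ (2 : F) ≠ 0 ∧ ¬ (Odd m ∧ Fintype.card F₀ % 4 = 1)) →
      Cfsg.splitClassCount ((simPl m F).map (Phi ⇑(plusForm m F)))
        (Cfsg.Inn (Cfsg.POmega F ⇑(plusForm m F)))
        (phiF (plusForm m F) σ (plus_inv σ)) = 4) := by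
  classical
  haveI : Nonempty (Fin m ⊕ Fin m) := ⟨Sum.inl ⟨0, by omega⟩⟩
  have hn : finrank F (Fin m ⊕ Fin m → F) = 2 * m := plus_hV
  have hn₀ : finrank F₀ (Fin m ⊕ Fin m → F₀) = 2 * m := plus_hV
  have hnd := plusForm_nondegenerate m F
  have hnd₀ := plusForm_nondegenerate m F₀
  have hne : ∃ v, plusForm m F v ≠ 0 := plus_hne (by omega)
  have hne₀ : ∃ v, plusForm m F₀ v ≠ 0 := plus_hne (by omega)
  have hker := Phi_eq_one_iff (plusForm m F) hnd (plus_hypFam37 m F)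
    (by omega) (Or.inr (by rw [hn]; omega)) (by rw [hn]; omega) (fun _ => by rw [hn]; omega)
  have hker₀ := Phi_eq_one_iff (plusForm m F₀) hnd₀ (plus_hypFam37 m F₀)
    (by omega) (Or.inr (by rw [hn₀]; omega)) (by rw [hn₀]; omega) (fun _ => by rw [hn₀]; omega)
  have hσr' : σ ^ r = 1 := by rw [← hσr]; exact pow_orderOf_eq_one σ
  have hle := innPre_le_simP (plusForm m F) hnd plus_hV (stdL m F) plus_lag hker
  refine ⟨?_, ?_, ?_, ?_⟩
  · obtain ⟨E⟩ := cent_equiv j (plusForm m F) (plusForm m F₀) (plus_hQ₀' j) σ hj (plus_inv σ)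
      hker hker₀ (simPl m F) (simPl m F₀) (simP_scalar _ _ _ _ _)
      (fun g₀ => simPl_mapGO_iff j (by omega) g₀) hne₀ r hσr hr.pos
    obtain ⟨E'⟩ := inndiag_plus_equiv (m := m) (F := F₀)
    exact ⟨E.trans E'⟩
  · intro hcase
    have hdecomp : ∀ d ∈ simPl m F, ∃ n ∈ innPre ⇑(plusForm m F),
        ∃ c ∈ simPl m F, gm σ c.1 = c.1 ∧ d = n * c := by
      by_cases h2 : (2 : F) = 0
      · intro d hd
        refine ⟨d, ?_, 1, Subgroup.one_mem _, map_one _, (mul_one d).symm⟩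
        rw [← simP_eq_innPre_char_two (plusForm m F) hnd plus_hV (stdL m F) plus_lag hker
          (Or.inr (by rw [hn]; omega)) hne h2]
        exact hd
      · have hodd : Odd r := by
          rcases hcase with h | h
          · exact h
          · exact absurd h h2
        intro d hd
        exact plus_decomp_odd j hker σ hj (by omega) h2 hσr' hodd d hd
    rw [splitCount_eq_index_sup (plusForm m F) (simPl m F) hle, Subgroup.index_eq_one, eq_top_iff]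
    intro d _
    obtain ⟨n, hn', c, hcD, hcgm, hdnc⟩ := hdecomp d.1 d.2
    have hd : d = (⟨n, hle hn'⟩ : ↥(simPl m F)) * ⟨c, hcD⟩ := Subtype.ext hdnc
    rw [hd]
    refine Subgroup.mul_mem_sup ?_ ?_
    · exact hn'
    · rw [Subgroup.mem_comap]
      exact rat_mem_cent (plusForm m F) σ (plus_inv σ) hker c hcgm
  · rintro ⟨rfl, h2, hc⟩
    exact (plus_two_count hm j h2 σ hj hσr hcard).1 hc
  · rintro ⟨rfl, h2, hc⟩
    exact (plus_two_count hm j h2 σ hj hσr hcard).2 hc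

end stdplus

section mainplus

variable {m : ℕ} {F : Type u} [Field F] [Fintype F]

theorem plus_field_aux {p f : ℕ} [Fact p.Prime] (hF : Fintype.card F = p ^ f) (hm : 4 ≤ m)
    (x : MulAut (Cfsg.POmega F ⇑(plusForm m F)))
    (hcls : ∃ γ ∈ Cfsg.gammaPOmega F ⇑(plusForm m F),
      ∃ (φ : MulAut (Cfsg.POmega F ⇑(plusForm m F))) (σ : F ≃+* F),
        σ ≠ RingEquiv.refl F ∧ Cfsg.IsFieldAutPOmegaOf ⇑(plusForm m F) σ φ ∧ γ * x * γ⁻¹ = φ)
    {r : ℕ} (hr : r.Prime) (hxr : orderOf x = r)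
    (F₀ : Type v) [Field F₀] [Fintype F₀] (hF₀ : Fintype.card F₀ = p ^ (f / r)) :
    r ∣ f ∧
    Nonempty (↥((simPl m F).map (Phi ⇑(plusForm m F)) ⊓ Subgroup.centralizer {x}) ≃*
      ↥(Cfsg.inndiagPOmegaPlus m F₀)) ∧
    ((Odd r ∨ p = 2) →
      Cfsg.splitClassCount ((simPl m F).map (Phi ⇑(plusForm m F)))
        (Cfsg.Inn (Cfsg.POmega F ⇑(plusForm m F))) x = 1) ∧
    ((r = 2 ∧ p ≠ 2 ∧ Odd m ∧ p ^ (f / 2) % 4 = 1) →
      Cfsg.splitClassCount ((simPl m F).map (Phi ⇑(plusForm m F)))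
        (Cfsg.Inn (Cfsg.POmega F ⇑(plusForm m F))) x = 2) ∧
    ((r = 2 ∧ p ≠ 2 ∧ ¬ (Odd m ∧ p ^ (f / 2) % 4 = 1)) →
      Cfsg.splitClassCount ((simPl m F).map (Phi ⇑(plusForm m F)))
        (Cfsg.Inn (Cfsg.POmega F ⇑(plusForm m F))) x = 4) := by
  classical
  haveI : Nonempty (Fin m ⊕ Fin m) := ⟨Sum.inl ⟨0, by omega⟩⟩
  have hn : finrank F (Fin m ⊕ Fin m → F) = 2 * m := plus_hV
  have hnd := plusForm_nondegenerate m F
  have hfam := plus_hypFam37 m F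
  have hk : 3 ≤ m := by omega
  have hcardc : Fintype.card F ≠ 2 ∨ finrank F (Fin m ⊕ Fin m → F) ≠ 4 :=
    Or.inr (by rw [hn]; omega)
  have hn5 : 5 ≤ finrank F (Fin m ⊕ Fin m → F) := by rw [hn]; omega
  have hn2 : (2 : F) = 0 → 7 ≤ finrank F (Fin m ⊕ Fin m → F) := fun _ => by rw [hn]; omega
  have hqs := qsys_of_form (plusForm m F) hnd
  obtain ⟨γ, hγ, φ, σ, hσne, hφ, hconj⟩ := hcls
  obtain ⟨pγ, hpγ⟩ := gamma_le_range_Psi ⇑(plusForm m F) hγ
  have hσQ : ∀ v, plusForm m F (vm σ v) = σ (plusForm m F v) := plus_inv σ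
  rw [isFieldAutOf_iff ⇑(plusForm m F) σ hσQ] at hφ
  set pσ : ↥(semiO ⇑(plusForm m F)) :=
    ⟨SemidirectProduct.inr σ, inr_mem_semiO ⇑(plusForm m F) σ hσQ⟩ with hpσ
  -- x as a pair
  have hx : x = Psi ⇑(plusForm m F) (pγ⁻¹ * pσ * pγ) := by
    rw [map_mul, map_mul, map_inv, hpγ, ← hφ, ← hconj]
    group
  have hφr : (Psi ⇑(plusForm m F) pσ) ^ r = 1 := by
    rw [← hφ, ← hconj]
    have : γ * x * γ⁻¹ = MulAut.conj γ x := by rw [MulAut.conj_apply]
    rw [this, ← map_pow, ← hxr, pow_orderOf_eq_one, map_one]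
  have hpσne : pσ.1.right ≠ 1 := fun h => hσne h
  obtain ⟨hord, -⟩ := order_facts (plusForm m F) hnd hfam hk hcardc hn5 hn2 pσ r hr hφr hpσne
  have hord' : orderOf σ = r := hord
  -- descent data
  obtain ⟨hdvd, j, hj⟩ : r ∣ f ∧ ∃ j : F₀ →+* F, ∀ a : F, σ a = a ↔ a ∈ Set.range j := by
    obtain ⟨F₁, hmem, hrank⟩ := Cfsg.Agent.Lib.Helper5.AutPSLn.exists_fixed_subfield σ
    rw [hord'] at hrank
    obtain ⟨hdvd, hcardF₁⟩ :=
      Cfsg.Agent.Lib.Helper5.AutPSLn.card_fixed_subfield hF hr.pos F₁ hrank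
    let instF₁ : Fintype F₁ := Fintype.ofFinite F₁
    have hcc : Fintype.card F₀ = Fintype.card F₁ := by
      rw [hF₀, ← hcardF₁, Nat.card_eq_fintype_card]
    let e₁ : F₀ ≃+* F₁ := FiniteField.ringEquivOfCardEq (K := F₀) (K' := F₁) hcc
    refine ⟨hdvd, (F₁.subtype : F₁ →+* F).comp (e₁ : F₀ →+* F₁), ?_⟩
    intro a
    rw [← hmem]
    constructor
    · intro h
      exact ⟨e₁.symm ⟨a, h⟩, by simp⟩
    · rintro ⟨y, rfl⟩
      exact (e₁ y).2
  have hcard : Fintype.card F = Fintype.card F₀ ^ r := by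
    rw [hF, hF₀, ← pow_mul, Nat.div_mul_cancel hdvd]
  obtain ⟨⟨E₀⟩, hs1, hs2, hs4⟩ := plus_std_main hm j σ hj hr hord' hcard
  -- the conjugating element
  have hp'r : (pγ⁻¹ * pσ * pγ).1.right = σ := by
    simp only [Subgroup.coe_mul, Subgroup.coe_inv, SemidirectProduct.mul_right,
      SemidirectProduct.inv_right]
    have e : pσ.1.right = σ := rfl
    rw [e, mul_assoc, ringAut_comm hF σ pγ.1.right, ← mul_assoc, inv_mul_cancel, one_mul]
  have hd1 : ((pγ⁻¹ * pσ * pγ) * pσ⁻¹).1.right = 1 := by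
    rw [Subgroup.coe_mul, Subgroup.coe_inv, SemidirectProduct.mul_right,
      SemidirectProduct.inv_right, hp'r]
    exact mul_inv_cancel σ
  have hd2 := eq_simToSemi_of_right_eq_one ⇑(plusForm m F) ((pγ⁻¹ * pσ * pγ) * pσ⁻¹) hd1
  set d : ↥(Cfsg.Geo.quadSimilarityGroup (F := F) ⇑(plusForm m F)) :=
    ⟨((pγ⁻¹ * pσ * pγ) * pσ⁻¹).1.left,
      mem_sim_of_right_eq_one ⇑(plusForm m F) _ hd1⟩ with hd
  have hdD : d ∈ simPl m F := by
    rw [mem_simP]
    have e : (SemidirectProduct.inl d.1 : GamL (Fin m ⊕ Fin m) F) =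
        ((pγ⁻¹ * pσ * pγ) * pσ⁻¹).1 := by
      have := congrArg Subtype.val hd2
      exact this.symm
    rw [e]
    simp only [Subgroup.coe_mul, Subgroup.coe_inv]
    rw [parS_mul hqs plus_hV _ plus_lag _ _
        ((semiO _).mul_mem ((semiO _).mul_mem ((semiO _).inv_mem pγ.2) pσ.2) pγ.2)
        ((semiO _).inv_mem pσ.2),
      parS_mul hqs plus_hV _ plus_lag _ _
        ((semiO _).mul_mem ((semiO _).inv_mem pγ.2) pσ.2) pγ.2,
      parS_mul hqs plus_hV _ plus_lag _ _ ((semiO _).inv_mem pγ.2) pσ.2,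
      parS_inv hqs plus_hV _ plus_lag _ pγ.2, parS_inv hqs plus_hV _ plus_lag _ pσ.2]
    have h1 := parS_lt (N := m) (stdL m F) pγ.1
    have h2 := parS_lt (N := m) (stdL m F) pσ.1
    omega
  have hp'd : Psi ⇑(plusForm m F) (pγ⁻¹ * pσ * pγ) =
      Phi ⇑(plusForm m F) d * Psi ⇑(plusForm m F) pσ := by
    calc Psi ⇑(plusForm m F) (pγ⁻¹ * pσ * pγ)
        = Psi ⇑(plusForm m F) (((pγ⁻¹ * pσ * pγ) * pσ⁻¹) * pσ) := by
          rw [inv_mul_cancel_right]
      _ = Psi ⇑(plusForm m F) ((pγ⁻¹ * pσ * pγ) * pσ⁻¹) * Psi ⇑(plusForm m F) pσ :=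
          map_mul _ _ _
      _ = _ := by
          rw [← Psi_simToSemi]
          exact congrArg (fun z => Psi ⇑(plusForm m F) z * Psi ⇑(plusForm m F) pσ) hd2
  have hyr : (Phi ⇑(plusForm m F) d * Psi ⇑(plusForm m F) pσ) ^ r = 1 := by
    rw [← hp'd, ← hx, ← hxr, pow_orderOf_eq_one]
  obtain ⟨t, ht, hconj'⟩ := plus_conj_aux4 hm pσ d hdD r hr hφr hyr hpσne
  have hx' : x = Phi ⇑(plusForm m F) t * phiF (plusForm m F) σ (plus_inv σ) *
      (Phi ⇑(plusForm m F) t)⁻¹ := by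
    rw [hx, hp'd, hconj']
    rfl
  have htG : Phi ⇑(plusForm m F) t ∈ (simPl m F).map (Phi ⇑(plusForm m F)) := ⟨t, ht, rfl⟩
  have hcount : Cfsg.splitClassCount ((simPl m F).map (Phi ⇑(plusForm m F)))
      (Cfsg.Inn (Cfsg.POmega F ⇑(plusForm m F))) x =
      Cfsg.splitClassCount ((simPl m F).map (Phi ⇑(plusForm m F)))
      (Cfsg.Inn (Cfsg.POmega F ⇑(plusForm m F)))
      (phiF (plusForm m F) σ (plus_inv σ)) := by
    rw [hx', splitClassCount_conj_mem _ _ _ htG]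
  haveI : CharP F p := charP_of_card_eq_prime_pow hF
  have h2iff : (2 : F) = 0 ↔ p = 2 := by
    constructor
    · intro h
      have h1 : ((2 : ℕ) : F) = 0 := by exact_mod_cast h
      rw [CharP.cast_eq_zero_iff F p] at h1
      exact (Nat.prime_dvd_prime_iff_eq Fact.out Nat.prime_two).1 h1
    · rintro rfl
      have h1 : ((2 : ℕ) : F) = 0 := CharP.cast_eq_zero F 2
      exact_mod_cast h1
  refine ⟨hdvd, ?_, ?_, ?_, ?_⟩
  · obtain ⟨E2⟩ := centConjMem_nonempty ((simPl m F).map (Phi ⇑(plusForm m F)))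
      (Phi ⇑(plusForm m F) t) htG (phiF (plusForm m F) σ (plus_inv σ))
    rw [← hx'] at E2
    exact ⟨E2.symm.trans E₀⟩
  · intro hc
    rw [hcount]
    apply hs1
    rcases hc with h | h
    · exact Or.inl h
    · exact Or.inr (h2iff.2 h)
  · rintro ⟨hr2, hp2, hmo, hq⟩
    rw [hcount]
    apply hs2
    refine ⟨hr2, fun h => hp2 (h2iff.1 h), hmo, ?_⟩
    rw [hF₀, hr2]
    exact hq
  · rintro ⟨hr2, hp2, hc⟩
    rw [hcount]
    apply hs4
    refine ⟨hr2, fun h => hp2 (h2iff.1 h), ?_⟩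
    rw [hF₀, hr2]
    exact hc

end mainplus

section finalplus

variable {m : ℕ} {F : Type u} [Field F] [Fintype F]

/-- field automorphisms of prime order of `PΩ⁺`, given that the conjugating automorphism can be
taken in `PΓO⁺` -/
theorem plus_field_main {p f : ℕ} [Fact p.Prime] (hF : Fintype.card F = p ^ f) (hm : 4 ≤ m)
    (x : MulAut (Cfsg.POmega F (Cfsg.quadFormPlus m F)))
    (hcls : ∃ γ ∈ Cfsg.gammaPOmega F (Cfsg.quadFormPlus m F),
      ∃ (φ : MulAut (Cfsg.POmega F (Cfsg.quadFormPlus m F))) (σ : F ≃+* F),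
        σ ≠ RingEquiv.refl F ∧ Cfsg.IsFieldAutPOmegaOf (Cfsg.quadFormPlus m F) σ φ ∧
        γ * x * γ⁻¹ = φ)
    {r : ℕ} (hr : r.Prime) (hxr : orderOf x = r)
    (F₀ : Type v) [Field F₀] [Fintype F₀] (hF₀ : Fintype.card F₀ = p ^ (f / r)) :
    r ∣ f ∧
    Nonempty (↥(Cfsg.inndiagPOmegaPlus m F ⊓ Subgroup.centralizer {x}) ≃*
      ↥(Cfsg.inndiagPOmegaPlus m F₀)) ∧
    ((Odd r ∨ p = 2) →
      Cfsg.splitClassCount (Cfsg.inndiagPOmegaPlus m F)
        (Cfsg.Inn (Cfsg.POmega F (Cfsg.quadFormPlus m F))) x = 1) ∧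
    ((r = 2 ∧ p ≠ 2 ∧ Odd m ∧ p ^ (f / 2) % 4 = 1) →
      Cfsg.splitClassCount (Cfsg.inndiagPOmegaPlus m F)
        (Cfsg.Inn (Cfsg.POmega F (Cfsg.quadFormPlus m F))) x = 2) ∧
    ((r = 2 ∧ p ≠ 2 ∧ ¬ (Odd m ∧ p ^ (f / 2) % 4 = 1)) →
      Cfsg.splitClassCount (Cfsg.inndiagPOmegaPlus m F)
        (Cfsg.Inn (Cfsg.POmega F (Cfsg.quadFormPlus m F))) x = 4) := by
  have key : ∀ (Qf : (Fin m ⊕ Fin m → F) → F), Qf = ⇑(plusForm m F) →
      ∀ (x : MulAut (Cfsg.POmega F Qf)),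
        (∃ γ ∈ Cfsg.gammaPOmega F Qf,
          ∃ (φ : MulAut (Cfsg.POmega F Qf)) (σ : F ≃+* F),
            σ ≠ RingEquiv.refl F ∧ Cfsg.IsFieldAutPOmegaOf Qf σ φ ∧ γ * x * γ⁻¹ = φ) →
        orderOf x = r →
        (r ∣ f ∧
        Nonempty (↥(Cfsg.autSubgroupOf (fun β : Cfsg.POmega F Qf ≃* Cfsg.POmega F Qf =>
            ∃ g : GL (Fin m ⊕ Fin m) F, g ∈ Cfsg.Geo.quadSimilarityGroup (F := F) Qf ∧
              Cfsg.PreservesSingularClasses Qf (g : Matrix (Fin m ⊕ Fin m) (Fin m ⊕ Fin m) F) ∧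
              Cfsg.IsInducedBySemilinearPOmega Qf g (RingEquiv.refl F) β) ⊓
            Subgroup.centralizer {x}) ≃* ↥(Cfsg.inndiagPOmegaPlus m F₀)) ∧
        ((Odd r ∨ p = 2) →
          Cfsg.splitClassCount (Cfsg.autSubgroupOf
            (fun β : Cfsg.POmega F Qf ≃* Cfsg.POmega F Qf =>
            ∃ g : GL (Fin m ⊕ Fin m) F, g ∈ Cfsg.Geo.quadSimilarityGroup (F := F) Qf ∧
              Cfsg.PreservesSingularClasses Qf (g : Matrix (Fin m ⊕ Fin m) (Fin m ⊕ Fin m) F) ∧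
              Cfsg.IsInducedBySemilinearPOmega Qf g (RingEquiv.refl F) β))
            (Cfsg.Inn (Cfsg.POmega F Qf)) x = 1) ∧
        ((r = 2 ∧ p ≠ 2 ∧ Odd m ∧ p ^ (f / 2) % 4 = 1) →
          Cfsg.splitClassCount (Cfsg.autSubgroupOf
            (fun β : Cfsg.POmega F Qf ≃* Cfsg.POmega F Qf =>
            ∃ g : GL (Fin m ⊕ Fin m) F, g ∈ Cfsg.Geo.quadSimilarityGroup (F := F) Qf ∧
              Cfsg.PreservesSingularClasses Qf (g : Matrix (Fin m ⊕ Fin m) (Fin m ⊕ Fin m) F) ∧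
              Cfsg.IsInducedBySemilinearPOmega Qf g (RingEquiv.refl F) β))
            (Cfsg.Inn (Cfsg.POmega F Qf)) x = 2) ∧
        ((r = 2 ∧ p ≠ 2 ∧ ¬ (Odd m ∧ p ^ (f / 2) % 4 = 1)) →
          Cfsg.splitClassCount (Cfsg.autSubgroupOf
            (fun β : Cfsg.POmega F Qf ≃* Cfsg.POmega F Qf =>
            ∃ g : GL (Fin m ⊕ Fin m) F, g ∈ Cfsg.Geo.quadSimilarityGroup (F := F) Qf ∧
              Cfsg.PreservesSingularClasses Qf (g : Matrix (Fin m ⊕ Fin m) (Fin m ⊕ Fin m) F) ∧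
              Cfsg.IsInducedBySemilinearPOmega Qf g (RingEquiv.refl F) β))
            (Cfsg.Inn (Cfsg.POmega F Qf)) x = 4)) := by
    intro Qf hQf
    subst hQf
    intro x hcls hxr
    rw [inndiag_plus_eq_map]
    exact plus_field_aux hF hm x hcls hr hxr F₀ hF₀
  exact key _ (plusForm_coe m F) x hcls hxr

end finalplus

end Cfsg.Agent.Lib.Helper37.OrthField
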