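import Cfsg.Agent.Lib.Helper37.GraphInv3
import Cfsg.Agent.Lib.Helper37.OrthPlusFieldMain
import Cfsg.Agent.S0790

set_option autoImplicit false
set_option linter.unusedSectionVars false
set_option linter.unusedVariables false
set_option maxHeartbeats 800000

/-!
# Involutory graph automorphisms of `PΩ⁺`: the class splitting
-/

namespace Cfsg.Agent.Lib.Helper37.OrthField

open Matrix Module QuadraticMap
open Cfsg.Agent.Lib.Helper37 Cfsg.Agent.Lib.Helper43 Cfsg.Agent.Lib.Helper8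
open Cfsg.Agent.Lib.Helper37.ParGen Cfsg.Agent.Lib.Helper14 Cfsg.Agent.Lib.Helper37.GraphInv

universe u

section wrapper

variable {κ : Type} [Fintype κ] [DecidableEq κ] {F : Type u} [Field F] [Fintype F] [DecidableEq F]
  {Q : (κ → F) → F} {G : Matrix κ κ F}

/-- `graph_main` for a subgroup equal to `simC` -/
theorem graph_main' (h : IsGram Q G) (hdet : G.det ≠ 0) {N : ℕ} (hN : Fintype.card κ = 2 * N)
    (hn : 2 ≤ Fintype.card κ)
    (hker : ∀ g : ↥(Cfsg.Geo.quadSimilarityGroup (F := F) Q),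
      Phi Q g = 1 ↔ ∃ c : F, ((g.1 : GL κ F) : Matrix κ κ F) = c • (1 : Matrix κ κ F))
    (D : Subgroup ↥(Cfsg.Geo.quadSimilarityGroup (F := F) Q)) (hD : D = simC h hdet hN hn)
    (h4 : 4 ≤ Fintype.card κ)
    (d0 : ↥(Cfsg.Geo.quadSimilarityGroup (F := F) Q)) (hd0 : ¬ IsSquare (simMult Q d0 : F))
    (g : ↥(Cfsg.Geo.quadSimilarityGroup (F := F) Q)) (hg : g ∉ D)
    (hg2 : Phi Q g * Phi Q g = 1) :
    (((innPre Q).subgroupOf D ⊔
      (Subgroup.centralizer {Phi Q g}).comap ((Phi Q).comp D.subtype)).index = 1 ∨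
     ((innPre Q).subgroupOf D ⊔
      (Subgroup.centralizer {Phi Q g}).comap ((Phi Q).comp D.subtype)).index = 2) ∧
    (h.negO ∈ Cfsg.Omega F Q →
      ((innPre Q).subgroupOf D ⊔
      (Subgroup.centralizer {Phi Q g}).comap ((Phi Q).comp D.subtype)).index = 2) := by
  subst hD
  exact graph_main h hdet hN hn hker h4 d0 hd0 g hg hg2

end wrapper

section plus

variable {m : ℕ} {F : Type u} [Field F] [Fintype F]

theorem plus_neg_crit (hodd : Odd (Fintype.card F)) (hm : 1 ≤ m) (h2 : (2 : F) ≠ 0) :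
    (isGram_gramOf h2 (plusForm m F)).negO ∈ Cfsg.Omega F ⇑(plusForm m F) ↔
      ¬ (Odd m ∧ Fintype.card F % 4 = 3) := by
  classical
  have key : ∀ Qf : (Fin m ⊕ Fin m → F) → F, Qf = Cfsg.quadFormPlus m F →
      ((∃ g : ↥(Cfsg.isometryGroup F Qf), g ∈ Cfsg.Omega F Qf ∧
        ((g : Matrix.GeneralLinearGroup (Fin m ⊕ Fin m) F) :
          Matrix (Fin m ⊕ Fin m) (Fin m ⊕ Fin m) F) = -1) ↔ Fintype.card F ^ m % 4 = 1) := by
    intro Qf hQf
    subst hQf
    exact Cfsg.Agent.S0790.result rfl hodd m hm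
  rw [← negOne_iff (isGram_gramOf h2 (plusForm m F)), key _ (plusForm_coe m F).symm]
  rcases Nat.even_or_odd' m with ⟨r, hr | hr⟩
  · rw [hr, pow_mod_four_even _ r hodd]
    constructor
    · rintro - ⟨hmo, -⟩
      rw [Nat.odd_iff] at hmo
      omega
    · intro _; rfl
  · rw [hr, pow_mod_four_odd _ r hodd]
    have hq := Nat.odd_iff.1 hodd
    constructor
    · rintro h1 ⟨-, h3⟩
      omega
    · intro hc
      by_contra h1
      apply hc
      refine ⟨⟨r, rfl⟩, ?_⟩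
      omega

theorem plus_graph_main (hodd : Odd (Fintype.card F)) (hm : 4 ≤ m)
    (γ : MulAut (Cfsg.POmega F (Cfsg.quadFormPlus m F)))
    (hγ : Cfsg.IsSimilarityGraphAutPOmegaPlus m γ) (hγ2 : orderOf γ = 2) :
    (Cfsg.splitClassCount (Cfsg.inndiagPOmegaPlus m F)
        (Cfsg.Inn (Cfsg.POmega F (Cfsg.quadFormPlus m F))) γ = 1 ∨
      Cfsg.splitClassCount (Cfsg.inndiagPOmegaPlus m F)
        (Cfsg.Inn (Cfsg.POmega F (Cfsg.quadFormPlus m F))) γ = 2) ∧
    (¬ (Odd m ∧ Fintype.card F % 4 = 3) →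
      Cfsg.splitClassCount (Cfsg.inndiagPOmegaPlus m F)
        (Cfsg.Inn (Cfsg.POmega F (Cfsg.quadFormPlus m F))) γ = 2) := by
  classical
  have h2 : (2 : F) ≠ 0 := two_ne_zero_of_odd_card hodd
  have key : ∀ (Qf : (Fin m ⊕ Fin m → F) → F), Qf = ⇑(plusForm m F) →
      ∀ (γ : MulAut (Cfsg.POmega F Qf)),
        (∃ g : GL (Fin m ⊕ Fin m) F, g ∈ Cfsg.Geo.quadSimilarityGroup (F := F) Qf ∧
          ¬ Cfsg.PreservesSingularClasses Qf (g : Matrix (Fin m ⊕ Fin m) (Fin m ⊕ Fin m) F) ∧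
          Cfsg.IsInducedBySemilinearPOmega Qf g (RingEquiv.refl F) γ) →
        orderOf γ = 2 →
        ((Cfsg.splitClassCount (Cfsg.autSubgroupOf
            (fun β : Cfsg.POmega F Qf ≃* Cfsg.POmega F Qf =>
            ∃ g : GL (Fin m ⊕ Fin m) F, g ∈ Cfsg.Geo.quadSimilarityGroup (F := F) Qf ∧
              Cfsg.PreservesSingularClasses Qf (g : Matrix (Fin m ⊕ Fin m) (Fin m ⊕ Fin m) F) ∧
              Cfsg.IsInducedBySemilinearPOmega Qf g (RingEquiv.refl F) β))
            (Cfsg.Inn (Cfsg.POmega F Qf)) γ = 1 ∨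
          Cfsg.splitClassCount (Cfsg.autSubgroupOf
            (fun β : Cfsg.POmega F Qf ≃* Cfsg.POmega F Qf =>
            ∃ g : GL (Fin m ⊕ Fin m) F, g ∈ Cfsg.Geo.quadSimilarityGroup (F := F) Qf ∧
              Cfsg.PreservesSingularClasses Qf (g : Matrix (Fin m ⊕ Fin m) (Fin m ⊕ Fin m) F) ∧
              Cfsg.IsInducedBySemilinearPOmega Qf g (RingEquiv.refl F) β))
            (Cfsg.Inn (Cfsg.POmega F Qf)) γ = 2) ∧
        (¬ (Odd m ∧ Fintype.card F % 4 = 3) →
          Cfsg.splitClassCount (Cfsg.autSubgroupOf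
            (fun β : Cfsg.POmega F Qf ≃* Cfsg.POmega F Qf =>
            ∃ g : GL (Fin m ⊕ Fin m) F, g ∈ Cfsg.Geo.quadSimilarityGroup (F := F) Qf ∧
              Cfsg.PreservesSingularClasses Qf (g : Matrix (Fin m ⊕ Fin m) (Fin m ⊕ Fin m) F) ∧
              Cfsg.IsInducedBySemilinearPOmega Qf g (RingEquiv.refl F) β))
            (Cfsg.Inn (Cfsg.POmega F Qf)) γ = 2)) := by
    intro Qf hQf
    subst hQf
    intro γ hγ hγ2
    rw [inndiag_plus_eq_map]
    haveI : Nonempty (Fin m ⊕ Fin m) := ⟨Sum.inl ⟨0, by omega⟩⟩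
    have hn : finrank F (Fin m ⊕ Fin m → F) = 2 * m := plus_hV
    have hnd := plusForm_nondegenerate m F
    have hne : ∃ v, plusForm m F v ≠ 0 := plus_hne (by omega)
    have hker := Phi_eq_one_iff (plusForm m F) hnd (plus_hypFam37 m F)
      (by omega) (Or.inr (by rw [hn]; omega)) (by rw [hn]; omega) (fun _ => by rw [hn]; omega)
    have h := isGram_gramOf h2 (plusForm m F)
    have hdet := det_gramOf (plusForm m F) hnd
    have hN : Fintype.card (Fin m ⊕ Fin m) = 2 * m := plus_hN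
    have hnc : 2 ≤ Fintype.card (Fin m ⊕ Fin m) := by rw [hN]; omega
    have hle := innPre_le_simP (plusForm m F) hnd plus_hV (stdL m F) plus_lag hker
    have hDC : simPl m F = simC h hdet hN hnc := by
      ext g
      rw [mem_simC_iff _ _ _ _ hker, mem_simPl_iff_det h2 (by omega)]
    obtain ⟨g, hg, hnp, hind⟩ := hγ
    have hγeq : γ = Phi ⇑(plusForm m F) ⟨g, hg⟩ := (isInduced_iff _ g hg γ).1 hind
    have hgD : (⟨g, hg⟩ : ↥(Cfsg.Geo.quadSimilarityGroup (F := F) ⇑(plusForm m F))) ∉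
        simPl m F := by
      rw [mem_simP_iff_preserves]
      exact hnp
    have hg2 : Phi ⇑(plusForm m F) ⟨g, hg⟩ * Phi ⇑(plusForm m F) ⟨g, hg⟩ = 1 := by
      rw [← hγeq, ← pow_two, ← hγ2, pow_orderOf_eq_one]
    obtain ⟨α, hα⟩ := FiniteField.exists_nonsquare (ringChar_ne_two_of_two_ne_zero h2) (F := F)
    have hα0 : α ≠ 0 := by
      rintro rfl
      exact hα ⟨0, by simp⟩
    have main := graph_main' h hdet hN hnc hker (simPl m F) hDC (by rw [hN]; omega)
      (plusSim' m (Units.mk0 α hα0))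
      (by rw [simMult_plusSim' (by omega), Units.val_mk0]; exact hα) ⟨g, hg⟩ hgD hg2
    rw [splitCount_eq_index_sup (plusForm m F) (simPl m F) hle γ, hγeq]
    exact ⟨main.1, fun hc => main.2 ((plus_neg_crit hodd (by omega) h2).2 hc)⟩
  exact key _ (plusForm_coe m F) γ hγ hγ2

end plus

end Cfsg.Agent.Lib.Helper37.OrthField
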