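import Cfsg.Agent.Lib.Helper45.AutPSLStruct
import Cfsg.Agent.Lib.Helper37.EvenDim
import Cfsg.Agent.Lib.Helper37.MinusAut

set_option autoImplicit false
set_option linter.unusedSectionVars false
set_option linter.unusedVariables false
set_option linter.unusedSimpArgs false

/-!
# Graph automorphisms of `PSL_n(F)`: centralizers in `Inndiag` as projective conformal groups
-/

namespace Cfsg.Agent.Lib.Helper37.GraphPSL

open Matrix
open Cfsg.Agent.Lib.Helper5.AutPSLn (Gam Iota glInvT)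

section general

variable {n : ℕ} {F : Type*} [Field F]

theorem glInvT_inv_val (h : GL (Fin n) F) :
    (((glInvT h)⁻¹ : GL (Fin n) F) : Matrix (Fin n) (Fin n) F) = (h : Matrix (Fin n) (Fin n) F)ᵀ :=
  rfl

theorem Gam_conj_Iota (h : GL (Fin n) F) :
    (Gam h : MulAut (Matrix.ProjectiveSpecialLinearGroup (Fin n) F)) * Iota * (Gam h)⁻¹ =
      Gam (h * (glInvT h)⁻¹) * Iota := by
  rw [← map_inv, mul_assoc, Cfsg.Agent.Lib.Helper5.AutPSLn.Iota_mul_Gam, map_inv glInvT,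
    ← mul_assoc, ← map_mul]

theorem center_eq_scalars {κ : Type} [Fintype κ] [DecidableEq κ] :
    Subgroup.center (GL κ F) = Cfsg.Geo.scalars κ F :=
  Matrix.GeneralLinearGroup.center_eq_range_scalar

/-- `Gam h` commutes with the inverse-transpose automorphism iff `h hᵀ` is scalar -/
theorem comm_Iota_iff [Fintype F] (hn : 2 ≤ n) (h : GL (Fin n) F) :
    (Gam h : MulAut (Matrix.ProjectiveSpecialLinearGroup (Fin n) F)) * Iota = Iota * Gam h ↔
      ∃ c : Fˣ, (h : Matrix (Fin n) (Fin n) F) * (h : Matrix (Fin n) (Fin n) F)ᵀ =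
        (c : F) • (1 : Matrix (Fin n) (Fin n) F) := by
  have h1 : (Gam h : MulAut (Matrix.ProjectiveSpecialLinearGroup (Fin n) F)) * Iota = Iota * Gam h ↔
      Gam h * Iota * (Gam h)⁻¹ = Iota := by
    rw [mul_inv_eq_iff_eq_mul]
  rw [h1, Gam_conj_Iota, mul_eq_right, ← MonoidHom.mem_ker,
    Cfsg.Agent.Lib.Helper45.AutPSL.Gam_ker_eq hn, center_eq_scalars, Cfsg.Geo.mem_scalars_iff,
    Units.val_mul, glInvT_inv_val]

/-- reindexing the general linear group along an equivalence of index types -/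
noncomputable def reindexGL {ι κ : Type} [Fintype ι] [DecidableEq ι] [Fintype κ] [DecidableEq κ]
    (e : ι ≃ κ) : GL ι F ≃* GL κ F :=
  Units.mapEquiv (Matrix.reindexAlgEquiv F F e).toMulEquiv

theorem reindexGL_mulVec {ι κ : Type} [Fintype ι] [DecidableEq ι] [Fintype κ] [DecidableEq κ]
    (e : ι ≃ κ) (h : GL ι F) (w : κ → F) :
    ((reindexGL e h : GL κ F) : Matrix κ κ F) *ᵥ w =
      ((h : Matrix ι ι F) *ᵥ (w ∘ e)) ∘ e.symm := by
  show (Matrix.reindex e e (h : Matrix ι ι F)) *ᵥ w = _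
  rw [Matrix.reindex_apply, Matrix.submatrix_mulVec_equiv]
  rfl

/-- transporting a similarity group along a reindexing followed by a change of basis -/
theorem mem_GO_conj_iff {ι κ : Type} [Fintype ι] [DecidableEq ι] [Fintype κ] [DecidableEq κ]
    (e : ι ≃ κ) (P : GL κ F) (Q : (κ → F) → F) (Q₀ : (ι → F) → F) (c₀ : F) (hc₀ : c₀ ≠ 0)
    (hP : ∀ x : ι → F, Q ((P : Matrix κ κ F) *ᵥ (x ∘ e.symm)) = c₀ * Q₀ x) (h : GL ι F) :
    P * reindexGL e h * P⁻¹ ∈ Cfsg.Geo.quadSimilarityGroup (F := F) Q ↔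
      h ∈ Cfsg.Geo.quadSimilarityGroup (F := F) Q₀ := by
  have key : ∀ x : ι → F,
      ((P * reindexGL e h * P⁻¹ : GL κ F) : Matrix κ κ F) *ᵥ ((P : Matrix κ κ F) *ᵥ (x ∘ e.symm)) =
        (P : Matrix κ κ F) *ᵥ (((h : Matrix ι ι F) *ᵥ x) ∘ e.symm) := by
    intro x
    rw [Matrix.mulVec_mulVec, ← Units.val_mul, inv_mul_cancel_right, Units.val_mul,
      ← Matrix.mulVec_mulVec, reindexGL_mulVec]
    congr 3
    funext i
    simp
  constructor
  · rintro ⟨c, hc⟩
    refine ⟨c, fun x => ?_⟩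
    have h1 := hc ((P : Matrix κ κ F) *ᵥ (x ∘ e.symm))
    rw [key, hP, hP] at h1
    apply mul_left_cancel₀ hc₀
    rw [h1]
    ring
  · rintro ⟨c, hc⟩
    refine ⟨c, fun v => ?_⟩
    obtain ⟨x, rfl⟩ : ∃ x : ι → F, (P : Matrix κ κ F) *ᵥ (x ∘ e.symm) = v := by
      refine ⟨(((P⁻¹ : GL κ F) : Matrix κ κ F) *ᵥ v) ∘ e, ?_⟩
      have : ((((P⁻¹ : GL κ F) : Matrix κ κ F) *ᵥ v) ∘ e) ∘ e.symm =
          ((P⁻¹ : GL κ F) : Matrix κ κ F) *ᵥ v := by
        funext i
        simp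
      rw [this, Matrix.mulVec_mulVec, ← Units.val_mul, mul_inv_cancel, Units.val_one,
        Matrix.one_mulVec]
    rw [key, hP, hP, hc]
    ring


theorem stdQ_eq_dot {κ : Type} [Fintype κ] (x : κ → F) : stdQ κ F x = x ⬝ᵥ x := by
  unfold stdQ dotProduct
  apply Finset.sum_congr rfl
  intro k _
  rw [pow_two]

theorem stdQ_comp_equiv {ι κ : Type} [Fintype ι] [Fintype κ] (e : ι ≃ κ) (x : ι → F) :
    stdQ κ F (x ∘ e.symm) = stdQ ι F x := by
  unfold stdQ
  exact Equiv.sum_comp e.symm (fun k => x k ^ 2)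

/-- the similarity group of the sum of squares: matrices with `hᵀ h` scalar -/
theorem mem_GO_stdQ_iff {κ : Type} [Fintype κ] [DecidableEq κ] (h2 : (2 : F) ≠ 0) (h : GL κ F) :
    h ∈ Cfsg.Geo.quadSimilarityGroup (F := F) (stdQ κ F) ↔
      ∃ c : Fˣ, (h : Matrix κ κ F)ᵀ * (h : Matrix κ κ F) = (c : F) • (1 : Matrix κ κ F) := by
  have hdot : ∀ v : κ → F, stdQ κ F ((h : Matrix κ κ F) *ᵥ v) =
      v ⬝ᵥ (((h : Matrix κ κ F)ᵀ * (h : Matrix κ κ F)) *ᵥ v) := by
    intro v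
    rw [stdQ_eq_dot, ← Matrix.mulVec_mulVec, Matrix.dotProduct_mulVec v, Matrix.vecMul_transpose]
  constructor
  · rintro ⟨c, hc⟩
    refine ⟨c, ?_⟩
    -- two symmetric matrices with the same quadratic form agree
    have hsym : ((h : Matrix κ κ F)ᵀ * (h : Matrix κ κ F))ᵀ =
        (h : Matrix κ κ F)ᵀ * (h : Matrix κ κ F) := by
      rw [Matrix.transpose_mul, Matrix.transpose_transpose]
    set M := (h : Matrix κ κ F)ᵀ * (h : Matrix κ κ F) with hM
    have hq : ∀ v : κ → F, v ⬝ᵥ (M *ᵥ v) = (c : F) * (v ⬝ᵥ v) := by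
      intro v
      rw [← hdot, hc, stdQ_eq_dot]
    have hpol : ∀ u v : κ → F, u ⬝ᵥ (M *ᵥ v) = (c : F) * (u ⬝ᵥ v) := by
      intro u v
      have h1 := hq (u + v)
      have h2' := hq u
      have h3 := hq v
      have hs : v ⬝ᵥ (M *ᵥ u) = u ⬝ᵥ (M *ᵥ v) := by
        rw [Matrix.dotProduct_mulVec, ← Matrix.mulVec_transpose, hsym, dotProduct_comm]
      simp only [Matrix.mulVec_add, dotProduct_add, add_dotProduct] at h1
      rw [hs, h2', h3, dotProduct_comm v u] at h1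
      apply mul_left_cancel₀ h2
      linear_combination h1
    ext i j
    have := hpol (Pi.single i 1) (Pi.single j 1)
    rw [Matrix.mulVec_single_one, single_one_dotProduct, single_one_dotProduct] at this
    rw [Matrix.smul_apply, Matrix.one_apply, smul_eq_mul]
    convert this using 2
    · simp [Matrix.col_apply]
    · simp [Pi.single_apply, eq_comm]
  · rintro ⟨c, hc⟩
    refine ⟨c, fun v => ?_⟩
    rw [hdot, hc, Matrix.smul_mulVec, Matrix.one_mulVec, dotProduct_smul, smul_eq_mul,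
      stdQ_eq_dot]

theorem mul_transpose_scalar_iff {κ : Type} [Fintype κ] [DecidableEq κ] (h : GL κ F) (c : Fˣ) :
    (h : Matrix κ κ F) * (h : Matrix κ κ F)ᵀ = (c : F) • (1 : Matrix κ κ F) ↔
      (h : Matrix κ κ F)ᵀ * (h : Matrix κ κ F) = (c : F) • (1 : Matrix κ κ F) := by
  constructor
  · intro e
    have h1 : (h : Matrix κ κ F)ᵀ = ((h⁻¹ : GL κ F) : Matrix κ κ F) * ((c : F) • 1) := by
      rw [← e, ← Matrix.mul_assoc, ← Units.val_mul, inv_mul_cancel, Units.val_one,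
        Matrix.one_mul]
    rw [h1, Matrix.mul_smul, Matrix.mul_one, Matrix.smul_mul, ← Units.val_mul, inv_mul_cancel,
      Units.val_one]
  · intro e
    have h1 : (h : Matrix κ κ F)ᵀ = ((c : F) • 1) * ((h⁻¹ : GL κ F) : Matrix κ κ F) := by
      rw [← e, Matrix.mul_assoc, ← Units.val_mul, mul_inv_cancel, Units.val_one,
        Matrix.mul_one]
    rw [h1, Matrix.smul_mul, Matrix.one_mul, Matrix.mul_smul, ← Units.val_mul, mul_inv_cancel,
      Units.val_one]

theorem mulEquiv_mem_center_iff {G H : Type*} [Group G] [Group H] (ψ : G ≃* H) (x : G) :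
    ψ x ∈ Subgroup.center H ↔ x ∈ Subgroup.center G := by
  rw [Subgroup.mem_center_iff, Subgroup.mem_center_iff]
  constructor
  · intro hx g
    apply ψ.injective
    rw [map_mul, map_mul]
    exact hx (ψ g)
  · intro hx k
    obtain ⟨g, rfl⟩ := ψ.surjective k
    rw [← map_mul, ← map_mul, hx g]

/-- the centralizer of the inverse-transpose automorphism in `Inndiag(PSL_n(F))` is the projective
conformal orthogonal group of any form equivalent to a multiple of the sum of squares -/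
theorem centralizer_Iota_equiv [Fintype F] (hn : 2 ≤ n) (h2 : (2 : F) ≠ 0)
    {κ : Type} [Fintype κ] [DecidableEq κ] (e : Fin n ≃ κ) (P : GL κ F) (Q : (κ → F) → F)
    (c₀ : F) (hc₀ : c₀ ≠ 0)
    (hP : ∀ y : κ → F, Q ((P : Matrix κ κ F) *ᵥ y) = c₀ * stdQ κ F y) :
    Nonempty (↥(Cfsg.inndiagPSL n F ⊓ Subgroup.centralizer
      {(Iota : MulAut (Matrix.ProjectiveSpecialLinearGroup (Fin n) F))}) ≃* Cfsg.PGO F Q) := by
  let ψ : GL (Fin n) F ≃* GL κ F := (reindexGL e).trans (MulAut.conj P)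
  have hψ : ∀ h : GL (Fin n) F, ψ h = P * reindexGL e h * P⁻¹ := fun h => rfl
  have hmem : ∀ h : GL (Fin n) F, ψ h ∈ Cfsg.Geo.quadSimilarityGroup (F := F) Q ↔
      ∃ c : Fˣ, (h : Matrix (Fin n) (Fin n) F) * (h : Matrix (Fin n) (Fin n) F)ᵀ =
        (c : F) • (1 : Matrix (Fin n) (Fin n) F) := by
    intro h
    rw [hψ, mem_GO_conj_iff e P Q (stdQ (Fin n) F) c₀ hc₀
      (fun x => by rw [hP, stdQ_comp_equiv]) h, mem_GO_stdQ_iff h2]
    constructor
    · rintro ⟨c, hc⟩; exact ⟨c, (mul_transpose_scalar_iff h c).2 hc⟩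
    · rintro ⟨c, hc⟩; exact ⟨c, (mul_transpose_scalar_iff h c).1 hc⟩
  let Θ : ↥(Cfsg.Geo.quadSimilarityGroup (F := F) Q) →*
      MulAut (Matrix.ProjectiveSpecialLinearGroup (Fin n) F) :=
    (Gam.comp ψ.symm.toMonoidHom).comp (Subgroup.subtype _)
  have hΘ : ∀ k, Θ k = Gam (ψ.symm k.1) := fun k => rfl
  have hker : Θ.ker = (Cfsg.Geo.scalars κ F).subgroupOf
      (Cfsg.Geo.quadSimilarityGroup (F := F) Q) := by
    ext k
    rw [MonoidHom.mem_ker, hΘ, ← MonoidHom.mem_ker, Cfsg.Agent.Lib.Helper45.AutPSL.Gam_ker_eq hn,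
      Subgroup.mem_subgroupOf, ← center_eq_scalars, ← mulEquiv_mem_center_iff ψ,
      MulEquiv.apply_symm_apply]
  have hrange : Θ.range = Cfsg.inndiagPSL n F ⊓ Subgroup.centralizer
      {(Iota : MulAut (Matrix.ProjectiveSpecialLinearGroup (Fin n) F))} := by
    ext β
    rw [Subgroup.mem_inf, Cfsg.Agent.Lib.Helper45.AutPSL.mem_inndiag_iff,
      Subgroup.mem_centralizer_singleton_iff]
    constructor
    · rintro ⟨k, rfl⟩
      rw [hΘ]
      refine ⟨⟨_, rfl⟩, ?_⟩
      have := (hmem (ψ.symm k.1)).1 (by rw [MulEquiv.apply_symm_apply]; exact k.2)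
      exact ((comm_Iota_iff hn _).2 this)
    · rintro ⟨⟨h, rfl⟩, hcomm⟩
      have := (hmem h).2 ((comm_Iota_iff hn h).1 hcomm)
      refine ⟨⟨ψ h, this⟩, ?_⟩
      rw [hΘ]
      show Gam (ψ.symm (ψ h)) = Gam h
      rw [MulEquiv.symm_apply_apply]
  exact ⟨(((QuotientGroup.quotientMulEquivOfEq hker).symm.trans
    (QuotientGroup.quotientKerEquivRange Θ)).trans (MulEquiv.subgroupCongr hrange)).symm⟩


end general

section finite

variable {F : Type*} [Field F] [Fintype F]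

/-- a nondegenerate form whose Gram determinant is a square is equivalent to half the sum of
squares -/
theorem exists_P_of_isSquare_det {κ : Type} [Fintype κ] [DecidableEq κ] [Nonempty κ]
    {Q : (κ → F) → F} {G : Matrix κ κ F} (hG : IsGram Q G) (hdet : G.det ≠ 0)
    (hsq : IsSquare G.det) :
    ∃ P : GL κ F, ∀ y : κ → F, Q ((P : Matrix κ κ F) *ᵥ y) = 2⁻¹ * stdQ κ F y := by
  obtain ⟨N, hN⟩ : ∃ N, Fintype.card κ = N + 1 :=
    ⟨Fintype.card κ - 1, by have := Fintype.card_pos (α := κ); omega⟩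
  obtain ⟨α, b, hα, hb1, hb2, hb3⟩ := exists_basis_dichotomy hG.two_ne G hG.symm hdet N hN
  have hlast : Matrix.toBilin' G (b (Fin.last N)) (b (Fin.last N)) = 1 := by
    rcases hb3 with ⟨_, h⟩ | ⟨h, _⟩
    · exact h
    · exact absurd hsq h
  have hall : ∀ i, Matrix.toBilin' G (b i) (b i) = 1 := fun i => by
    by_cases hi : i = Fin.last N
    · rw [hi]; exact hlast
    · exact hb2 i hi
  let e' : Fin (N + 1) ≃ κ := Fintype.equivOfCardEq (by rw [Fintype.card_fin, hN])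
  obtain ⟨P, hP⟩ := exists_P_of_orthogonal_basis hG.two_ne Q (Matrix.toBilin' G) hG.self
    (b.reindex e')
    (by
      intro i j hij
      rw [Module.Basis.reindex_apply, Module.Basis.reindex_apply]
      exact hb1 _ _ (fun h => hij (e'.symm.injective h)))
    1
    (by
      intro i
      rw [Module.Basis.reindex_apply]
      exact hall _)
  exact ⟨P, fun y => by rw [hP, mul_one]⟩

theorem even_iff_pow_mod_four {q n m : ℕ} (hodd : Odd q) (hnm : n = 2 * m) :
    Even (n * (q - 1) / 4) ↔ q ^ m % 4 = 1 := by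
  obtain ⟨t, rfl⟩ := hodd
  subst hnm
  have h1 : 2 * m * (2 * t + 1 - 1) / 4 = m * t := by
    apply Nat.div_eq_of_eq_mul_left (by norm_num)
    rw [Nat.add_sub_cancel]
    ring
  rw [h1, Nat.even_mul]
  rcases Nat.even_or_odd' m with ⟨r, rfl | rfl⟩
  · rw [pow_mod_four_even _ r ⟨t, rfl⟩]
    simp
  · rw [pow_mod_four_odd _ r ⟨t, rfl⟩]
    have hm : ¬ Even (2 * r + 1) := by
      rw [Nat.not_even_iff_odd]; exact ⟨r, rfl⟩
    rcases Nat.even_or_odd' t with ⟨s, rfl | rfl⟩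
    · have : Even (2 * s) := ⟨s, by ring⟩
      simp only [hm, this, false_or, true_iff]
      omega
    · have : ¬ Even (2 * s + 1) := by
        rw [Nat.not_even_iff_odd]; exact ⟨s, rfl⟩
      simp only [hm, this, false_or, false_iff]
      omega

theorem exists_anisotropic (h2 : (2 : F) ≠ 0) :
    ∃ a b : F, ∀ z₁ z₂ : F, z₁ ^ 2 + a * z₁ * z₂ + b * z₂ ^ 2 = 0 → z₁ = 0 ∧ z₂ = 0 := by
  obtain ⟨c, hc⟩ := exists_nonsquare_unit h2 (F := F)
  refine ⟨0, -(c : F), ?_⟩
  intro z₁ z₂ h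
  have hz2 : z₂ = 0 := by
    by_contra hne
    apply hc
    refine ⟨z₁ / z₂, ?_⟩
    field_simp
    linear_combination -h
  subst hz2
  refine ⟨?_, rfl⟩
  have : z₁ ^ 2 = 0 := by linear_combination h
  exact pow_eq_zero_iff (by norm_num) |>.1 this

end finite

end Cfsg.Agent.Lib.Helper37.GraphPSL
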