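import Cfsg.Agent.Lib.Helper37.GraphPSL
import Cfsg.Agent.Lib.Helper40.Darboux

set_option autoImplicit false
set_option linter.unusedSectionVars false
set_option linter.unusedVariables false
set_option linter.unusedSimpArgs false

/-!
# Graph automorphisms `Gam A * Iota` of `PSL_n(F)` for a general invertible matrix `A`
-/

namespace Cfsg.Agent.Lib.Helper37.GraphPSL

open Matrix
open Cfsg.Agent.Lib.Helper5.AutPSLn (Gam Iota glInvT)

section general

variable {F : Type*} [Field F]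

/-- transpose on `GL` -/
def glT {ι : Type} [Fintype ι] [DecidableEq ι] (h : GL ι F) : GL ι F := (glInvT h)⁻¹

section T

variable {ι : Type} [Fintype ι] [DecidableEq ι]

theorem glT_val (h : GL ι F) : ((glT h : GL ι F) : Matrix ι ι F) = (h : Matrix ι ι F)ᵀ := rfl

theorem glT_mul (h k : GL ι F) : glT (h * k) = glT k * glT h := by
  apply Units.ext
  rw [glT_val, Units.val_mul, Units.val_mul, Matrix.transpose_mul]
  rfl

theorem glT_glT (h : GL ι F) : glT (glT h) = h := by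
  apply Units.ext
  rw [glT_val, glT_val, Matrix.transpose_transpose]

theorem glT_one : glT (1 : GL ι F) = 1 := by
  apply Units.ext
  rw [glT_val]
  simp

theorem glT_inv (h : GL ι F) : glT h⁻¹ = (glT h)⁻¹ := by
  apply eq_inv_of_mul_eq_one_left
  rw [← glT_mul, mul_inv_cancel, glT_one]

/-- scalar matrices in `GL` -/
noncomputable def sc (ι : Type) [Fintype ι] [DecidableEq ι] (c : Fˣ) : GL ι F :=
  Matrix.GeneralLinearGroup.scalar ι c

theorem sc_val (c : Fˣ) : ((sc ι c : GL ι F) : Matrix ι ι F) = (c : F) • (1 : Matrix ι ι F) := by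
  show Matrix.scalar ι (c : F) = _
  rw [Matrix.scalar_apply, ← Matrix.smul_one_eq_diagonal]

theorem sc_comm (c : Fˣ) (h : GL ι F) : sc ι c * h = h * sc ι c := by
  apply Units.ext
  rw [Units.val_mul, Units.val_mul, sc_val, Matrix.smul_mul, Matrix.one_mul, Matrix.mul_smul,
    Matrix.mul_one]

theorem glT_sc (c : Fˣ) : glT (sc ι c) = sc ι c := by
  apply Units.ext
  rw [glT_val, sc_val, Matrix.transpose_smul, Matrix.transpose_one]

theorem mem_center_iff_sc (x : GL ι F) : x ∈ Subgroup.center (GL ι F) ↔ ∃ c : Fˣ, x = sc ι c := by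
  rw [Matrix.GeneralLinearGroup.center_eq_range_scalar]
  constructor
  · rintro ⟨c, rfl⟩; exact ⟨c, rfl⟩
  · rintro ⟨c, rfl⟩; exact ⟨c, rfl⟩

/-- the inverse trick: `h A hᵀ = c A` iff `hᵀ A⁻¹ h = c A⁻¹` -/
theorem cong_inv_iff (h A : GL ι F) (c : Fˣ) :
    h * A * glT h = sc ι c * A ↔ glT h * A⁻¹ * h = sc ι c * A⁻¹ := by
  constructor
  · intro e
    have h1 : glT h = A⁻¹ * h⁻¹ * (sc ι c * A) := by
      rw [← e]; group
    rw [h1, sc_comm c A]
    calc A⁻¹ * h⁻¹ * (A * sc ι c) * A⁻¹ * h = A⁻¹ * h⁻¹ * (A * (sc ι c * A⁻¹)) * h := by group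
      _ = A⁻¹ * h⁻¹ * (A * (A⁻¹ * sc ι c)) * h := by rw [sc_comm c A⁻¹]
      _ = A⁻¹ * (h⁻¹ * (sc ι c * h)) := by group
      _ = A⁻¹ * (h⁻¹ * (h * sc ι c)) := by rw [sc_comm c h]
      _ = A⁻¹ * sc ι c := by group
      _ = sc ι c * A⁻¹ := (sc_comm c A⁻¹).symm
  · intro e
    have h1 : glT h = sc ι c * A⁻¹ * h⁻¹ * A := by
      rw [← e]; group
    rw [h1]
    calc h * A * (sc ι c * A⁻¹ * h⁻¹ * A) = h * (A * (sc ι c * A⁻¹)) * h⁻¹ * A := by group
      _ = h * (A * (A⁻¹ * sc ι c)) * h⁻¹ * A := by rw [sc_comm c A⁻¹]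
      _ = (h * sc ι c) * h⁻¹ * A := by group
      _ = (sc ι c * h) * h⁻¹ * A := by rw [sc_comm c h]
      _ = sc ι c * A := by group

end T

variable {n : ℕ}

/-- the graph automorphism `Gam A * Iota` -/
noncomputable def beta (A : GL (Fin n) F) : MulAut (Matrix.ProjectiveSpecialLinearGroup (Fin n) F) :=
  Gam A * Iota

theorem Gam_conj_beta (h A : GL (Fin n) F) :
    (Gam h : MulAut (Matrix.ProjectiveSpecialLinearGroup (Fin n) F)) * beta A * (Gam h)⁻¹ =
      beta (h * A * glT h) := by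
  unfold beta glT
  rw [← map_inv, mul_assoc, mul_assoc, Cfsg.Agent.Lib.Helper5.AutPSLn.Iota_mul_Gam,
    map_inv glInvT, ← mul_assoc, ← mul_assoc, ← map_mul, ← map_mul]

theorem beta_eq_iff [Fintype F] (hn : 2 ≤ n) (A B : GL (Fin n) F) :
    beta A = beta B ↔ ∃ c : Fˣ, B = sc (Fin n) c * A := by
  unfold beta
  rw [mul_left_inj, Cfsg.Agent.Lib.Helper45.AutPSL.Gam_eq_Gam_iff hn, mem_center_iff_sc]
  constructor
  · rintro ⟨c, hc⟩
    refine ⟨c, ?_⟩
    have : B = A * sc (Fin n) c := by rw [← hc]; group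
    rw [this, sc_comm]
  · rintro ⟨c, rfl⟩
    refine ⟨c, ?_⟩
    rw [sc_comm c A]; group

theorem beta_sq (A : GL (Fin n) F) : beta A * beta A = Gam (A * (glT A)⁻¹) := by
  unfold beta glT
  rw [mul_assoc, ← mul_assoc Iota, Cfsg.Agent.Lib.Helper5.AutPSLn.Iota_mul_Gam, mul_assoc,
    Cfsg.Agent.Lib.Helper5.AutPSLn.Iota_mul_self, mul_one, ← map_mul, inv_inv]

theorem beta_ne_one [Fintype F] (hn : 3 ≤ n) (A : GL (Fin n) F) : beta A ≠ 1 := by
  intro e
  unfold beta at e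
  have h1 : (Iota : MulAut (Matrix.ProjectiveSpecialLinearGroup (Fin n) F)) = Gam A⁻¹ := by
    rw [map_inv]
    exact (mul_eq_one_iff_inv_eq.1 e).symm
  apply Cfsg.Agent.Lib.Helper45.AutPSL.Iota_ne_Gam_Phi hn A⁻¹ 1
  rw [map_one, mul_one]
  exact h1

/-- `Gam A * Iota` has order two iff `A` is symmetric or alternating (skew-symmetric) -/
theorem orderOf_beta_eq_two_iff [Fintype F] (hn : 3 ≤ n) (A : GL (Fin n) F) :
    orderOf (beta A) = 2 ↔ (glT A = A ∨ glT A = sc (Fin n) (-1) * A) := by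
  rw [orderOf_eq_iff (by norm_num)]
  have hsq : beta A ^ 2 = 1 ↔ ∃ c : Fˣ, A = sc (Fin n) c * glT A := by
    rw [pow_two, beta_sq, ← MonoidHom.mem_ker,
      Cfsg.Agent.Lib.Helper45.AutPSL.Gam_ker_eq (by omega), mem_center_iff_sc]
    constructor
    · rintro ⟨c, hc⟩
      exact ⟨c, by rw [← hc]; group⟩
    · rintro ⟨c, hc⟩
      exact ⟨c, by nth_rewrite 1 [hc]; group⟩
  constructor
  · rintro ⟨h1, -⟩
    obtain ⟨c, hc⟩ := hsq.1 h1
    -- transpose: glT A = c * A, hence A = c^2 A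
    have h2 : glT A = sc (Fin n) c * A := by
      have := congrArg glT hc
      rw [glT_mul, glT_glT, glT_sc, ← sc_comm] at this
      exact this
    have h3 : A = sc (Fin n) c * (sc (Fin n) c * A) := by
      rw [← h2]; exact hc
    have h4 : ((c : F) * (c : F)) = 1 := by
      have h5 : sc (Fin n) c * sc (Fin n) c = 1 := by
        have : sc (Fin n) c * sc (Fin n) c * A = 1 * A := by
          rw [one_mul, mul_assoc]; exact h3.symm
        exact mul_right_cancel this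
      have h6 := congrArg (fun x : GL (Fin n) F => (x : Matrix (Fin n) (Fin n) F) ⟨0, by omega⟩ ⟨0, by omega⟩) h5
      simp only [Units.val_mul, sc_val, Matrix.smul_mul, Matrix.one_mul, Matrix.smul_apply,
        Matrix.one_apply_eq, smul_eq_mul, mul_one, Units.val_one] at h6
      exact h6
    have h5 : (c : F) = 1 ∨ (c : F) = -1 := by
      have : ((c : F) - 1) * ((c : F) + 1) = 0 := by linear_combination h4
      rcases mul_eq_zero.1 this with h | h
      · left; linear_combination h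
      · right; linear_combination h
    rcases h5 with h | h
    · left
      have : c = 1 := Units.ext h
      rw [h2, this]
      apply Units.ext
      rw [Units.val_mul, sc_val, Units.val_one, one_smul, Matrix.one_mul]
    · right
      have : c = -1 := Units.ext (by rw [h]; simp)
      rw [h2, this]
  · intro h
    constructor
    · rw [hsq]
      rcases h with h | h
      · refine ⟨1, ?_⟩
        rw [h]
        apply Units.ext
        rw [Units.val_mul, sc_val, Units.val_one, one_smul, Matrix.one_mul]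
      · refine ⟨-1, ?_⟩
        rw [h, ← mul_assoc]
        apply Units.ext
        simp only [Units.val_mul, sc_val, Units.val_neg, Units.val_one, Matrix.smul_mul,
          Matrix.one_mul, neg_smul, one_smul, neg_neg, Matrix.neg_mul]
    · intro k hk hk0
      have : k = 1 := by omega
      subst this
      rw [pow_one]
      exact beta_ne_one hn A

theorem isGraphAut_iff (β : MulAut (Matrix.ProjectiveSpecialLinearGroup (Fin n) F)) :
    Cfsg.IsGraphAutClassPSL β ↔ 3 ≤ n ∧ ∃ A : GL (Fin n) F, β = beta A := by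
  unfold Cfsg.IsGraphAutClassPSL
  constructor
  · rintro ⟨hn, δ, γ, hδ, hγ, rfl⟩
    obtain ⟨A, rfl⟩ := (Cfsg.Agent.Lib.Helper45.AutPSL.isInnerDiagonal_iff δ).1 hδ
    rw [(Cfsg.Agent.Lib.Helper45.AutPSL.isInvT_iff γ).1 hγ]
    exact ⟨hn, A, rfl⟩
  · rintro ⟨hn, A, rfl⟩
    exact ⟨hn, Gam A, Iota, (Cfsg.Agent.Lib.Helper45.AutPSL.isInnerDiagonal_iff _).2 ⟨A, rfl⟩,
      (Cfsg.Agent.Lib.Helper45.AutPSL.isInvT_iff _).2 rfl, rfl⟩

theorem isConjUnder_beta_iff [Fintype F] (hn : 2 ≤ n) (A B : GL (Fin n) F) :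
    Cfsg.IsConjUnder (Cfsg.inndiagPSL n F) (beta A) (beta B) ↔
      ∃ (h : GL (Fin n) F) (c : Fˣ), h * A * glT h = sc (Fin n) c * B := by
  unfold Cfsg.IsConjUnder
  constructor
  · rintro ⟨x, hx, e⟩
    obtain ⟨h, rfl⟩ := (Cfsg.Agent.Lib.Helper45.AutPSL.mem_inndiag_iff x).1 hx
    rw [Gam_conj_beta, beta_eq_iff hn] at e
    obtain ⟨c, hc⟩ := e
    exact ⟨h, c, hc⟩
  · rintro ⟨h, c, e⟩
    refine ⟨Gam h, (Cfsg.Agent.Lib.Helper45.AutPSL.mem_inndiag_iff _).2 ⟨h, rfl⟩, ?_⟩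
    rw [Gam_conj_beta, beta_eq_iff hn]
    exact ⟨c, e⟩


section reindex

variable {ι κ : Type} [Fintype ι] [DecidableEq ι] [Fintype κ] [DecidableEq κ]

theorem reindexGL_val (e : ι ≃ κ) (h : GL ι F) :
    ((reindexGL e h : GL κ F) : Matrix κ κ F) = Matrix.reindex e e (h : Matrix ι ι F) := rfl

theorem reindexGL_symm_val (e : ι ≃ κ) (k : GL κ F) :
    (((reindexGL e).symm k : GL ι F) : Matrix ι ι F) =
      Matrix.reindex e.symm e.symm (k : Matrix κ κ F) := rfl

theorem reindexGL_glT (e : ι ≃ κ) (h : GL ι F) : reindexGL e (glT h) = glT (reindexGL e h) := by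
  apply Units.ext
  rw [reindexGL_val, glT_val, glT_val, reindexGL_val]
  rfl

theorem reindexGL_sc (e : ι ≃ κ) (c : Fˣ) : reindexGL e (sc ι c) = sc κ c := by
  apply Units.ext
  rw [reindexGL_val, sc_val, sc_val]
  ext i j
  simp [Matrix.one_apply]

theorem reindexGL_det (e : ι ≃ κ) (h : GL ι F) :
    ((reindexGL e h : GL κ F) : Matrix κ κ F).det = (h : Matrix ι ι F).det := by
  rw [reindexGL_val, Matrix.det_reindex_self]

end reindex

theorem comm_beta_iff [Fintype F] (hn : 2 ≤ n) (h A : GL (Fin n) F) :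
    (Gam h : MulAut (Matrix.ProjectiveSpecialLinearGroup (Fin n) F)) * beta A = beta A * Gam h ↔
      ∃ c : Fˣ, h * A * glT h = sc (Fin n) c * A := by
  have h1 : (Gam h : MulAut (Matrix.ProjectiveSpecialLinearGroup (Fin n) F)) * beta A =
      beta A * Gam h ↔ beta A = Gam h * beta A * (Gam h)⁻¹ := by
    rw [eq_mul_inv_iff_mul_eq, eq_comm]
  rw [h1, Gam_conj_beta, beta_eq_iff hn]

/-- the centralizer of `Gam A * Iota` in `Inndiag(PSL_n(F))`, for `A` given on another index type -/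
theorem centralizer_beta_equiv [Fintype F] (hn : 2 ≤ n)
    {κ : Type} [Fintype κ] [DecidableEq κ] (e : Fin n ≃ κ) (A' : GL κ F) (S : Subgroup (GL κ F))
    (hS : ∀ k : GL κ F, k ∈ S ↔ ∃ c : Fˣ, k * A' * glT k = sc κ c * A') :
    Nonempty (↥(Cfsg.inndiagPSL n F ⊓ Subgroup.centralizer
      {beta ((reindexGL e).symm A')}) ≃* Cfsg.projQuot S) := by
  let ψ : GL (Fin n) F ≃* GL κ F := reindexGL e
  set A : GL (Fin n) F := ψ.symm A' with hA
  have hψA : ψ A = A' := MulEquiv.apply_symm_apply ψ A'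
  have hmem : ∀ h : GL (Fin n) F, ψ h ∈ S ↔ ∃ c : Fˣ, h * A * glT h = sc (Fin n) c * A := by
    intro h
    rw [hS]
    constructor
    · rintro ⟨c, hc⟩
      refine ⟨c, ψ.injective ?_⟩
      rw [map_mul, map_mul, map_mul, hψA]
      show ψ h * A' * reindexGL e (glT h) = reindexGL e (sc (Fin n) c) * A'
      rw [reindexGL_glT, reindexGL_sc]
      exact hc
    · rintro ⟨c, hc⟩
      refine ⟨c, ?_⟩
      have := congrArg ψ hc
      rw [map_mul, map_mul, map_mul, hψA] at this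
      have h1 : ψ (glT h) = glT (ψ h) := reindexGL_glT e h
      have h2 : ψ (sc (Fin n) c) = sc κ c := reindexGL_sc e c
      rw [h1, h2] at this
      exact this
  let Θ : ↥S →* MulAut (Matrix.ProjectiveSpecialLinearGroup (Fin n) F) :=
    (Gam.comp ψ.symm.toMonoidHom).comp (Subgroup.subtype _)
  have hΘ : ∀ k, Θ k = Gam (ψ.symm k.1) := fun k => rfl
  have hker : Θ.ker = (Cfsg.Geo.scalars κ F).subgroupOf S := by
    ext k
    rw [MonoidHom.mem_ker, hΘ, ← MonoidHom.mem_ker, Cfsg.Agent.Lib.Helper45.AutPSL.Gam_ker_eq hn,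
      Subgroup.mem_subgroupOf, ← center_eq_scalars, ← mulEquiv_mem_center_iff ψ,
      MulEquiv.apply_symm_apply]
  have hrange : Θ.range = Cfsg.inndiagPSL n F ⊓ Subgroup.centralizer {beta A} := by
    ext β
    rw [Subgroup.mem_inf, Cfsg.Agent.Lib.Helper45.AutPSL.mem_inndiag_iff,
      Subgroup.mem_centralizer_singleton_iff]
    constructor
    · rintro ⟨k, rfl⟩
      rw [hΘ]
      refine ⟨⟨_, rfl⟩, ?_⟩
      have := (hmem (ψ.symm k.1)).1 (by rw [MulEquiv.apply_symm_apply]; exact k.2)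
      exact ((comm_beta_iff hn _ A).2 this)
    · rintro ⟨⟨h, rfl⟩, hcomm⟩
      have := (hmem h).2 ((comm_beta_iff hn h A).1 hcomm)
      refine ⟨⟨ψ h, this⟩, ?_⟩
      rw [hΘ]
      show Gam (ψ.symm (ψ h)) = Gam h
      rw [MulEquiv.symm_apply_apply]
  exact ⟨(((QuotientGroup.quotientMulEquivOfEq hker).symm.trans
    (QuotientGroup.quotientKerEquivRange Θ)).trans (MulEquiv.subgroupCongr hrange)).symm⟩

/-- membership in the similarity group of a quadratic form, through its Gram matrix -/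
theorem mem_GO_iff_gram {κ : Type} [Fintype κ] [DecidableEq κ] {Q : (κ → F) → F}
    {G : Matrix κ κ F} (hG : IsGram Q G) (Gu : GL κ F) (hGu : (Gu : Matrix κ κ F) = G)
    (k : GL κ F) :
    k ∈ Cfsg.Geo.quadSimilarityGroup (F := F) Q ↔ ∃ c : Fˣ, glT k * Gu * k = sc κ c * Gu := by
  constructor
  · intro hk
    refine ⟨simMult Q ⟨k, hk⟩, ?_⟩
    apply Units.ext
    rw [Units.val_mul, Units.val_mul, Units.val_mul, glT_val, sc_val, hGu, Matrix.smul_mul,
      Matrix.one_mul]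
    exact sim_gram hG ⟨k, hk⟩
  · rintro ⟨c, hc⟩
    refine ⟨c, fun v => ?_⟩
    have key : (k : Matrix κ κ F)ᵀ * G * (k : Matrix κ κ F) = (c : F) • G := by
      have := congrArg (fun x : GL κ F => (x : Matrix κ κ F)) hc
      simp only [Units.val_mul, glT_val, sc_val, hGu, Matrix.smul_mul, Matrix.one_mul] at this
      exact this
    apply mul_left_cancel₀ hG.two_ne
    rw [← hG.self, Matrix.toBilin'_apply']
    have h1 : ((k : Matrix κ κ F) *ᵥ v) ⬝ᵥ (G *ᵥ ((k : Matrix κ κ F) *ᵥ v)) =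
        v ⬝ᵥ (((k : Matrix κ κ F)ᵀ * G * (k : Matrix κ κ F)) *ᵥ v) := by
      rw [← Matrix.mulVec_mulVec, ← Matrix.mulVec_mulVec, Matrix.dotProduct_mulVec v,
        Matrix.vecMul_transpose]
    rw [h1, key, Matrix.smul_mulVec, dotProduct_smul, smul_eq_mul, ← Matrix.toBilin'_apply',
      hG.self]
    ring

/-- the similarity group of a quadratic form as a congruence-similarity group of the inverse Gram
matrix -/
theorem mem_GO_iff_gram_inv {κ : Type} [Fintype κ] [DecidableEq κ] {Q : (κ → F) → F}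
    {G : Matrix κ κ F} (hG : IsGram Q G) (Gu : GL κ F) (hGu : (Gu : Matrix κ κ F) = G)
    (k : GL κ F) :
    k ∈ Cfsg.Geo.quadSimilarityGroup (F := F) Q ↔
      ∃ c : Fˣ, k * Gu⁻¹ * glT k = sc κ c * Gu⁻¹ := by
  rw [mem_GO_iff_gram hG Gu hGu]
  constructor
  · rintro ⟨c, hc⟩
    refine ⟨c, (cong_inv_iff k Gu⁻¹ c).2 ?_⟩
    rw [inv_inv]; exact hc
  · rintro ⟨c, hc⟩
    refine ⟨c, ?_⟩
    have := (cong_inv_iff k Gu⁻¹ c).1 hc
    rw [inv_inv] at this
    exact this


/-- the standard alternating matrix as an element of `GL` -/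
noncomputable def Ju (m : ℕ) (F : Type*) [Field F] : GL (Fin m ⊕ Fin m) F :=
  ⟨Matrix.J (Fin m) F, -Matrix.J (Fin m) F, by rw [Matrix.mul_neg, Matrix.J_squared, neg_neg],
    by rw [Matrix.neg_mul, Matrix.J_squared, neg_neg]⟩

theorem Ju_val (m : ℕ) : ((Ju m F : GL (Fin m ⊕ Fin m) F) : Matrix _ _ F) = Matrix.J (Fin m) F := rfl

theorem Ju_inv_val (m : ℕ) :
    (((Ju m F)⁻¹ : GL (Fin m ⊕ Fin m) F) : Matrix _ _ F) = -Matrix.J (Fin m) F := rfl

theorem mem_GSp_iff (m : ℕ) (k : GL (Fin m ⊕ Fin m) F) :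
    k ∈ Cfsg.GSp m F ↔ ∃ c : Fˣ, glT k * Ju m F * k = sc (Fin m ⊕ Fin m) c * Ju m F := by
  have hform : ∀ u v : Fin m ⊕ Fin m → F,
      Cfsg.sympForm m F ((k : Matrix _ _ F) *ᵥ u) ((k : Matrix _ _ F) *ᵥ v) =
        u ⬝ᵥ (((k : Matrix _ _ F)ᵀ * Matrix.J (Fin m) F * (k : Matrix _ _ F)) *ᵥ v) := by
    intro u v
    unfold Cfsg.sympForm
    rw [← Matrix.mulVec_mulVec, ← Matrix.mulVec_mulVec, Matrix.dotProduct_mulVec u,
      Matrix.vecMul_transpose]
  have hmat : ∀ c : Fˣ, glT k * Ju m F * k = sc (Fin m ⊕ Fin m) c * Ju m F ↔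
      (k : Matrix _ _ F)ᵀ * Matrix.J (Fin m) F * (k : Matrix _ _ F) =
        (c : F) • Matrix.J (Fin m) F := by
    intro c
    rw [Units.ext_iff]
    simp only [Units.val_mul, glT_val, sc_val, Ju_val, Matrix.smul_mul, Matrix.one_mul]
  constructor
  · rintro ⟨c, hc⟩
    refine ⟨c, (hmat c).2 ?_⟩
    apply Matrix.toBilin'.injective
    apply LinearMap.ext₂
    intro u v
    rw [Matrix.toBilin'_apply', ← hform, hc, Matrix.toBilin'_apply', Matrix.smul_mulVec,
      dotProduct_smul, smul_eq_mul]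
    rfl
  · rintro ⟨c, hc⟩
    refine ⟨c, fun u v => ?_⟩
    rw [hform, (hmat c).1 hc, Matrix.smul_mulVec, dotProduct_smul, smul_eq_mul]
    rfl

theorem mem_GSp_iff_inv (m : ℕ) (k : GL (Fin m ⊕ Fin m) F) :
    k ∈ Cfsg.GSp m F ↔
      ∃ c : Fˣ, k * (Ju m F)⁻¹ * glT k = sc (Fin m ⊕ Fin m) c * (Ju m F)⁻¹ := by
  rw [mem_GSp_iff]
  constructor
  · rintro ⟨c, hc⟩
    refine ⟨c, (cong_inv_iff k (Ju m F)⁻¹ c).2 ?_⟩
    rw [inv_inv]; exact hc
  · rintro ⟨c, hc⟩
    refine ⟨c, ?_⟩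
    have := (cong_inv_iff k (Ju m F)⁻¹ c).1 hc
    rw [inv_inv] at this
    exact this

/-- congruence by the matrix of a basis -/
theorem exists_P_toMatrix {ι : Type} [Fintype ι] [DecidableEq ι] (A : GL ι F)
    (b : Module.Basis ι F (ι → F)) :
    ∃ P : GL ι F, (P : Matrix ι ι F)ᵀ * (A : Matrix ι ι F) * (P : Matrix ι ι F) =
      LinearMap.BilinForm.toMatrix b (Matrix.toBilin' (A : Matrix ι ι F)) := by
  let M : Matrix ι ι F := (Pi.basisFun F ι).toMatrix b
  have : Invertible M := (Pi.basisFun F ι).invertibleToMatrix b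
  refine ⟨unitOfInvertible M, ?_⟩
  rw [val_unitOfInvertible]
  have := LinearMap.BilinForm.toMatrix_mul_basis_toMatrix (b := Pi.basisFun F ι) b
    (Matrix.toBilin' (A : Matrix ι ι F))
  rw [LinearMap.BilinForm.toMatrix_basisFun, LinearMap.BilinForm.toMatrix'_toBilin'] at this
  exact this

/-- two matrices with a common congruence normal form are congruent -/
theorem cong_of_common_nf {ι : Type} [Fintype ι] [DecidableEq ι] (A B P R : GL ι F)
    (D : Matrix ι ι F)
    (hA : (P : Matrix ι ι F)ᵀ * (A : Matrix ι ι F) * (P : Matrix ι ι F) = D)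
    (hB : (R : Matrix ι ι F)ᵀ * (B : Matrix ι ι F) * (R : Matrix ι ι F) = D) :
    ∃ h : GL ι F, h * B * glT h = A := by
  have e : glT P * A * P = glT R * B * R := by
    apply Units.ext
    simp only [Units.val_mul, glT_val]
    rw [hA, hB]
  refine ⟨glT (R * P⁻¹), ?_⟩
  rw [glT_glT, glT_mul, glT_inv]
  have : A = (glT P)⁻¹ * (glT R * B * R) * P⁻¹ := by
    rw [← e]; group
  rw [this]; group

end general

section finite

variable {F : Type*} [Field F] [Fintype F]

/-- congruence normal form of an invertible symmetric matrix over a finite field of odd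
characteristic -/
theorem symm_nf (h2 : (2 : F) ≠ 0) (α : F) (hα : ¬ IsSquare α) {N : ℕ}
    (A : GL (Fin (N + 1)) F) (hA : glT A = A) :
    ∃ P : GL (Fin (N + 1)) F,
      (P.1ᵀ * A.1 * P.1 = 1 ∧
        IsSquare (A : Matrix (Fin (N + 1)) (Fin (N + 1)) F).det) ∨
      (P.1ᵀ * A.1 * P.1 =
        Matrix.diagonal (fun i => if i = Fin.last N then α else 1) ∧
        ¬ IsSquare (A : Matrix (Fin (N + 1)) (Fin (N + 1)) F).det) := by
  have hα0 : α ≠ 0 := by
    rintro rfl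
    exact hα ⟨0, by simp⟩
  have hsymm : (A : Matrix (Fin (N + 1)) (Fin (N + 1)) F).IsSymm := by
    have := congrArg (fun x : GL (Fin (N + 1)) F => x.1) hA
    exact this
  have hdet : (A : Matrix (Fin (N + 1)) (Fin (N + 1)) F).det ≠ 0 := by
    have := (Matrix.isUnit_iff_isUnit_det _).1 A.isUnit
    exact this.ne_zero
  have hS : (Matrix.toBilin' (A : Matrix (Fin (N + 1)) (Fin (N + 1)) F)).IsSymm :=
    Matrix.isSymm_toBilin'_iff_isSymm.mpr hsymm
  have hB : (Matrix.toBilin' (A : Matrix (Fin (N + 1)) (Fin (N + 1)) F)).Nondegenerate :=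
    LinearMap.BilinForm.nondegenerate_toBilin'_of_det_ne_zero' _ hdet
  have hfin : Module.finrank F (Fin (N + 1) → F) = N + 1 := by
    rw [Module.finrank_fintype_fun_eq_card, Fintype.card_fin]
  obtain ⟨b, hb1, hb2, hb3⟩ := Cfsg.Agent.S0756.result h2 _ hS hB hfin α hα
  obtain ⟨P, hP⟩ := exists_P_toMatrix A b
  have hdetP : (P : Matrix (Fin (N + 1)) (Fin (N + 1)) F).det ≠ 0 := by
    have := (Matrix.isUnit_iff_isUnit_det _).1 P.isUnit
    exact this.ne_zero
  refine ⟨P, ?_⟩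
  rcases hb3 with h | h
  · left
    have hD : LinearMap.BilinForm.toMatrix b
        (Matrix.toBilin' (A : Matrix (Fin (N + 1)) (Fin (N + 1)) F)) = 1 := by
      ext i j
      rw [LinearMap.BilinForm.toMatrix_apply, Matrix.one_apply]
      split_ifs with hij
      · subst hij
        by_cases hi : i = Fin.last N
        · rw [hi]; exact h
        · exact hb2 i hi
      · exact hb1 i j hij
    rw [hD] at hP
    refine ⟨hP, ?_⟩
    have := congrArg Matrix.det hP
    rw [Matrix.det_mul, Matrix.det_mul, Matrix.det_transpose, Matrix.det_one] at this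
    refine ⟨((P : Matrix (Fin (N + 1)) (Fin (N + 1)) F).det)⁻¹, ?_⟩
    field_simp
    linear_combination this
  · right
    have hD : LinearMap.BilinForm.toMatrix b
        (Matrix.toBilin' (A : Matrix (Fin (N + 1)) (Fin (N + 1)) F)) =
        Matrix.diagonal (fun i => if i = Fin.last N then α else 1) := by
      ext i j
      rw [LinearMap.BilinForm.toMatrix_apply, Matrix.diagonal_apply]
      split_ifs with hij hi
      · subst hij; rw [hi]; exact h
      · subst hij; exact hb2 i hi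
      · exact hb1 i j hij
    rw [hD] at hP
    refine ⟨hP, ?_⟩
    have := congrArg Matrix.det hP
    rw [Matrix.det_mul, Matrix.det_mul, Matrix.det_transpose, Matrix.det_diagonal,
      Fin.prod_univ_castSucc] at this
    simp only [if_true] at this
    have e1 : ∏ i : Fin N, (if i.castSucc = Fin.last N then α else 1) = 1 := by
      apply Finset.prod_eq_one
      intro i _
      rw [if_neg (Fin.castSucc_lt_last i).ne]
    rw [e1, one_mul] at this
    rintro ⟨s, hs⟩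
    apply hα
    refine ⟨(P : Matrix (Fin (N + 1)) (Fin (N + 1)) F).det * s, ?_⟩
    rw [← this, hs]
    ring

/-- two invertible symmetric matrices whose determinants are in the same square class are
congruent -/
theorem symm_cong (h2 : (2 : F) ≠ 0) {N : ℕ} (A B : GL (Fin (N + 1)) F) (hA : glT A = A)
    (hB : glT B = B)
    (hdet : IsSquare (A : Matrix (Fin (N + 1)) (Fin (N + 1)) F).det ↔
      IsSquare (B : Matrix (Fin (N + 1)) (Fin (N + 1)) F).det) :
    ∃ h : GL (Fin (N + 1)) F, h * B * glT h = A := by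
  obtain ⟨c, hc⟩ := exists_nonsquare_unit h2 (F := F)
  obtain ⟨P, hP⟩ := symm_nf h2 (c : F) hc A hA
  obtain ⟨R, hR⟩ := symm_nf h2 (c : F) hc B hB
  rcases hP with ⟨hP1, hP2⟩ | ⟨hP1, hP2⟩
  · rcases hR with ⟨hR1, hR2⟩ | ⟨hR1, hR2⟩
    · exact cong_of_common_nf A B P R _ hP1 hR1
    · exact absurd (hdet.1 hP2) hR2
  · rcases hR with ⟨hR1, hR2⟩ | ⟨hR1, hR2⟩
    · exact absurd (hdet.2 hR2) hP2
    · exact cong_of_common_nf A B P R _ hP1 hR1


section more

variable {ι κ : Type} [Fintype ι] [DecidableEq ι] [Fintype κ] [DecidableEq κ]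

omit [Fintype F] in
theorem sc_one : sc ι (1 : Fˣ) = (1 : GL ι F) := by
  unfold sc
  rw [map_one]

omit [Fintype F] in
theorem sc_mul (c d : Fˣ) : sc ι (c * d) = (sc ι c * sc ι d : GL ι F) := by
  unfold sc
  rw [map_mul]

omit [Fintype F] in
theorem sc_injective [Nonempty ι] : Function.Injective (sc ι : Fˣ → GL ι F) := by
  intro c d h
  obtain ⟨i⟩ := ‹Nonempty ι›
  have := congrArg (fun x : GL ι F => x.1 i i) h
  simp only [sc_val, Matrix.smul_apply, Matrix.one_apply_eq, smul_eq_mul, mul_one] at this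
  exact Units.ext this

omit [Fintype F] in
theorem reindexGL_symm_glT (e : ι ≃ κ) (k : GL κ F) :
    (reindexGL e).symm (glT k) = glT ((reindexGL e).symm k) := by
  apply (reindexGL e).injective
  rw [MulEquiv.apply_symm_apply, reindexGL_glT, MulEquiv.apply_symm_apply]

omit [Fintype F] in
theorem reindexGL_symm_sc (e : ι ≃ κ) (c : Fˣ) :
    (reindexGL e).symm (sc κ c) = (sc ι c : GL ι F) := by
  apply (reindexGL e).injective
  rw [MulEquiv.apply_symm_apply, reindexGL_sc]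

omit [Fintype F] in
theorem reindexGL_symm_det (e : ι ≃ κ) (k : GL κ F) :
    (((reindexGL e).symm k : GL ι F) : Matrix ι ι F).det = (k : Matrix κ κ F).det := by
  rw [← reindexGL_det e ((reindexGL e).symm k), MulEquiv.apply_symm_apply]

omit [Fintype F] in
/-- congruent (up to scalars) matrices have the same symmetry type -/
theorem sym_type_of_cong [Nonempty ι] (A B h : GL ι F) (ε δ c : Fˣ) (hA : glT A = sc ι ε * A)
    (hB : glT B = sc ι δ * B) (e : h * A * glT h = sc ι c * B) : ε = δ := by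
  have h1 := congrArg glT e
  rw [glT_mul, glT_mul, glT_glT, hA, glT_mul, hB, glT_sc] at h1
  have h3 : sc ι ε * (h * A * glT h) = h * (sc ι ε * A * glT h) := by
    rw [← mul_assoc, ← mul_assoc, sc_comm ε h]; group
  have h2 : sc ι ε * (sc ι c * B) = sc ι δ * (sc ι c * B) := by
    rw [← e, h3, h1, e, mul_assoc, sc_comm c B]
  exact sc_injective (mul_right_cancel h2)

omit [Fintype F] in
/-- congruent (up to scalars) matrices in even dimension have determinants in the same square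
class -/
theorem det_class_of_cong {m : ℕ} (hcard : Fintype.card ι = 2 * m) (A B h : GL ι F) (c : Fˣ)
    (e : h * A * glT h = sc ι c * B) :
    IsSquare (A : Matrix ι ι F).det ↔ IsSquare (B : Matrix ι ι F).det := by
  have h1 := congrArg (fun x : GL ι F => x.1.det) e
  simp only [Units.val_mul, glT_val, sc_val, Matrix.det_mul, Matrix.det_transpose,
    Matrix.smul_mul, Matrix.one_mul, Matrix.det_smul, hcard] at h1
  have hh : h.1.det ≠ 0 := ((Matrix.isUnit_iff_isUnit_det _).1 h.isUnit).ne_zero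
  have hc : (c : F) ≠ 0 := c.ne_zero
  constructor
  · rintro ⟨s, hs⟩
    refine ⟨h.1.det * s / (c : F) ^ m, ?_⟩
    field_simp
    rw [hs] at h1
    linear_combination -h1
  · rintro ⟨s, hs⟩
    refine ⟨(c : F) ^ m * s / h.1.det, ?_⟩
    field_simp
    rw [hs] at h1
    linear_combination h1

end more

/-- an invertible alternating matrix is congruent to the standard one -/
theorem alt_cong (h2 : (2 : F) ≠ 0) {n m : ℕ} (hnm : n = 2 * m) (e₁ : Fin n ≃ Fin m ⊕ Fin m)
    (A : GL (Fin n) F) (hA : glT A = sc (Fin n) (-1) * A) :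
    ∃ h : GL (Fin n) F, h * (reindexGL e₁).symm (Ju m F)⁻¹ * glT h = A := by
  have hAT : A.1ᵀ = -A.1 := by
    have := congrArg (fun x : GL (Fin n) F => x.1) hA
    simp only [glT_val, Units.val_mul, sc_val, Units.val_neg, Units.val_one, neg_smul, one_smul,
      Matrix.neg_mul, Matrix.one_mul] at this
    exact this
  have hdet : A.1.det ≠ 0 := ((Matrix.isUnit_iff_isUnit_det _).1 A.isUnit).ne_zero
  have halt : (Matrix.toBilin' A.1).IsAlt := by
    intro v
    rw [Matrix.toBilin'_apply']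
    have h1 : v ⬝ᵥ (A.1 *ᵥ v) = -(v ⬝ᵥ (A.1 *ᵥ v)) := by
      nth_rewrite 1 [Matrix.dotProduct_mulVec, ← Matrix.mulVec_transpose, hAT, Matrix.neg_mulVec,
        neg_dotProduct, dotProduct_comm]
      rfl
    have h3 : (2 : F) * (v ⬝ᵥ (A.1 *ᵥ v)) = 0 := by linear_combination h1
    rcases mul_eq_zero.1 h3 with h | h
    · exact absurd h h2
    · exact h
  have hnd : (Matrix.toBilin' A.1).Nondegenerate :=
    LinearMap.BilinForm.nondegenerate_toBilin'_of_det_ne_zero' _ hdet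
  have hfr : Module.finrank F (Fin n → F) = 2 * m := by
    rw [Module.finrank_fintype_fun_eq_card, Fintype.card_fin, hnm]
  obtain ⟨b, hb⟩ := Cfsg.Agent.Lib.Helper40.Darboux.darboux_basis m (Fin n → F)
    (Matrix.toBilin' A.1) halt hnd hfr
  obtain ⟨P, hP⟩ := exists_P_toMatrix A (b.reindex e₁.symm)
  have hD : LinearMap.BilinForm.toMatrix (b.reindex e₁.symm) (Matrix.toBilin' A.1) =
      ((reindexGL e₁).symm (Ju m F)⁻¹ : GL (Fin n) F).1 := by
    ext i j
    rw [LinearMap.BilinForm.toMatrix_apply, Module.Basis.reindex_apply, Module.Basis.reindex_apply,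
      reindexGL_symm_val, Ju_inv_val, ← Cfsg.Agent.Lib.Helper40.Darboux.gramJ_eq, ← hb,
      Matrix.reindex_apply, Matrix.submatrix_apply, LinearMap.BilinForm.toMatrix_apply]
  rw [hD] at hP
  exact cong_of_common_nf A _ P 1 _ hP (by simp)


theorem glT_mkGram {κ : Type} [Fintype κ] [DecidableEq κ] (G : Matrix κ κ F) (hdet : G.det ≠ 0)
    (hsymm : G.IsSymm) :
    glT (Matrix.GeneralLinearGroup.mkOfDetNeZero G hdet)⁻¹ =
      (Matrix.GeneralLinearGroup.mkOfDetNeZero G hdet)⁻¹ := by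
  rw [glT_inv]
  congr 1
  apply Units.ext
  rw [glT_val]
  exact hsymm

theorem glT_Ju_inv (m : ℕ) : glT (Ju m F)⁻¹ = sc (Fin m ⊕ Fin m) (-1) * (Ju m F)⁻¹ := by
  apply Units.ext
  rw [glT_val, Units.val_mul, sc_val, Ju_inv_val, Matrix.transpose_neg, Matrix.J_transpose]
  simp

/-- the three classes of involutory graph automorphisms of `PSL_{2m}(F)`, `|F|` odd -/
theorem graph_classes (hodd : Odd (Fintype.card F)) {n m : ℕ} (hm : 2 ≤ m) (hnm : n = 2 * m) :
    ∃ (γ₁ γ₂ γ₃ : MulAut (Matrix.ProjectiveSpecialLinearGroup (Fin n) F)) (a b : F),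
      (∀ z₁ z₂ : F, z₁ ^ 2 + a * z₁ * z₂ + b * z₂ ^ 2 = 0 → z₁ = 0 ∧ z₂ = 0) ∧
      Cfsg.IsGraphAutClassPSL γ₁ ∧ orderOf γ₁ = 2 ∧ Cfsg.IsGraphAutClassPSL γ₂ ∧ orderOf γ₂ = 2 ∧
      Cfsg.IsGraphAutClassPSL γ₃ ∧ orderOf γ₃ = 2 ∧
      ¬ Cfsg.IsConjUnder (Cfsg.inndiagPSL n F) γ₁ γ₂ ∧
      ¬ Cfsg.IsConjUnder (Cfsg.inndiagPSL n F) γ₁ γ₃ ∧
      ¬ Cfsg.IsConjUnder (Cfsg.inndiagPSL n F) γ₂ γ₃ ∧
      (∀ γ : MulAut (Matrix.ProjectiveSpecialLinearGroup (Fin n) F),
        Cfsg.IsGraphAutClassPSL γ → orderOf γ = 2 →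
          Cfsg.IsConjUnder (Cfsg.inndiagPSL n F) γ₁ γ ∨
          Cfsg.IsConjUnder (Cfsg.inndiagPSL n F) γ₂ γ ∨
          Cfsg.IsConjUnder (Cfsg.inndiagPSL n F) γ₃ γ) ∧
      Nonempty (↥(Cfsg.inndiagPSL n F ⊓ Subgroup.centralizer {γ₁}) ≃* Cfsg.PGSp m F) ∧
      Nonempty (↥(Cfsg.inndiagPSL n F ⊓ Subgroup.centralizer {γ₂}) ≃*
        Cfsg.PGO F (Cfsg.quadFormPlus m F)) ∧
      Nonempty (↥(Cfsg.inndiagPSL n F ⊓ Subgroup.centralizer {γ₃}) ≃*
        Cfsg.PGO F (Cfsg.quadFormMinus (m - 1) F a b)) := by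
  classical
  have h2 : (2 : F) ≠ 0 := two_ne_zero_of_odd_card hodd
  obtain ⟨N, rfl⟩ : ∃ N, n = N + 1 := ⟨n - 1, by omega⟩
  have hn3 : 3 ≤ N + 1 := by omega
  have hn2 : 2 ≤ N + 1 := by omega
  obtain ⟨a, b, hab⟩ := exists_anisotropic h2 (F := F)
  let e₁ : Fin (N + 1) ≃ Fin m ⊕ Fin m := Fintype.equivOfCardEq (by simp; omega)
  let e₃ : Fin (N + 1) ≃ (Fin (m - 1) ⊕ Fin (m - 1)) ⊕ Fin 2 :=
    Fintype.equivOfCardEq (by simp; omega)
  let G₂ : GL (Fin m ⊕ Fin m) F :=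
    Matrix.GeneralLinearGroup.mkOfDetNeZero (gramP m F) (gramP_det_ne_zero m)
  let G₃ : GL ((Fin (m - 1) ⊕ Fin (m - 1)) ⊕ Fin 2) F :=
    Matrix.GeneralLinearGroup.mkOfDetNeZero (gramM (m - 1) F a b)
      (gramM_det_ne_zero h2 (m - 1) a b hab)
  obtain ⟨A₁, hA₁⟩ : ∃ A₁ : GL (Fin (N + 1)) F, A₁ = (reindexGL e₁).symm (Ju m F)⁻¹ := ⟨_, rfl⟩
  obtain ⟨A₂, hA₂⟩ : ∃ A₂ : GL (Fin (N + 1)) F, A₂ = (reindexGL e₁).symm G₂⁻¹ := ⟨_, rfl⟩
  obtain ⟨A₃, hA₃⟩ : ∃ A₃ : GL (Fin (N + 1)) F, A₃ = (reindexGL e₃).symm G₃⁻¹ := ⟨_, rfl⟩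
  -- symmetry types
  have hT₁ : glT A₁ = sc (Fin (N + 1)) (-1) * A₁ := by
    rw [hA₁, ← reindexGL_symm_glT, glT_Ju_inv, map_mul, reindexGL_symm_sc]
  have hT₂ : glT A₂ = A₂ := by
    rw [hA₂, ← reindexGL_symm_glT, glT_mkGram _ _ (gramP_isSymm m F)]
  have hT₃ : glT A₃ = A₃ := by
    rw [hA₃, ← reindexGL_symm_glT, glT_mkGram _ _ (gramM_isSymm (m - 1) F a b)]
  have hT₂' : glT A₂ = sc (Fin (N + 1)) 1 * A₂ := by rw [sc_one, one_mul]; exact hT₂
  have hT₃' : glT A₃ = sc (Fin (N + 1)) 1 * A₃ := by rw [sc_one, one_mul]; exact hT₃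
  have hne : (-1 : Fˣ) ≠ 1 := neg_one_units_ne_one h2
  -- determinants
  have hd₂ : IsSquare A₂.1.det ↔ Fintype.card F ^ m % 4 = 1 := by
    rw [hA₂, reindexGL_symm_det]
    show IsSquare (G₂⁻¹).1.det ↔ _
    rw [Matrix.coe_units_inv, Matrix.det_nonsing_inv, Ring.inverse_eq_inv', isSquare_inv]
    show IsSquare (gramP m F).det ↔ _
    rw [gramP_det, isSquare_neg_one_pow_iff hodd m]
  have hd₃ : IsSquare A₃.1.det ↔ Fintype.card F ^ m % 4 = 3 := by
    rw [hA₃, reindexGL_symm_det]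
    show IsSquare (G₃⁻¹).1.det ↔ _
    rw [Matrix.coe_units_inv, Matrix.det_nonsing_inv, Ring.inverse_eq_inv', isSquare_inv]
    show IsSquare (gramM (m - 1) F a b).det ↔ _
    rw [isSquare_gramM_det_iff hodd m (by omega) a b hab]
  have hcases := pow_mod_four_cases (Fintype.card F) m hodd
  have hcard : Fintype.card (Fin (N + 1)) = 2 * m := by rw [Fintype.card_fin, hnm]
  refine ⟨beta A₁, beta A₂, beta A₃, a, b, hab, (isGraphAut_iff _).2 ⟨hn3, A₁, rfl⟩,
    (orderOf_beta_eq_two_iff hn3 A₁).2 (Or.inr hT₁), (isGraphAut_iff _).2 ⟨hn3, A₂, rfl⟩,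
    (orderOf_beta_eq_two_iff hn3 A₂).2 (Or.inl hT₂), (isGraphAut_iff _).2 ⟨hn3, A₃, rfl⟩,
    (orderOf_beta_eq_two_iff hn3 A₃).2 (Or.inl hT₃), ?_, ?_, ?_, ?_, ?_, ?_, ?_⟩
  · rw [isConjUnder_beta_iff hn2]
    rintro ⟨h, c, e⟩
    exact hne (sym_type_of_cong A₁ A₂ h (-1) 1 c hT₁ hT₂' e)
  · rw [isConjUnder_beta_iff hn2]
    rintro ⟨h, c, e⟩
    exact hne (sym_type_of_cong A₁ A₃ h (-1) 1 c hT₁ hT₃' e)
  · rw [isConjUnder_beta_iff hn2]
    rintro ⟨h, c, e⟩
    have := det_class_of_cong hcard A₂ A₃ h c e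
    rw [hd₂, hd₃] at this
    omega
  · intro γ hγ hγ2
    obtain ⟨-, A, rfl⟩ := (isGraphAut_iff γ).1 hγ
    rcases (orderOf_beta_eq_two_iff hn3 A).1 hγ2 with hA | hA
    · right
      by_cases hsq : IsSquare A.1.det
      · rcases hcases with h1 | h3
        · left
          obtain ⟨h, hh⟩ := symm_cong h2 A A₂ hA hT₂ (by rw [hd₂]; exact ⟨fun _ => h1, fun _ => hsq⟩)
          exact (isConjUnder_beta_iff hn2 A₂ A).2 ⟨h, 1, by rw [sc_one, one_mul]; exact hh⟩
        · right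
          obtain ⟨h, hh⟩ := symm_cong h2 A A₃ hA hT₃ (by rw [hd₃]; exact ⟨fun _ => h3, fun _ => hsq⟩)
          exact (isConjUnder_beta_iff hn2 A₃ A).2 ⟨h, 1, by rw [sc_one, one_mul]; exact hh⟩
      · rcases hcases with h1 | h3
        · right
          obtain ⟨h, hh⟩ := symm_cong h2 A A₃ hA hT₃
            (by rw [hd₃]; exact ⟨fun h => absurd h hsq, fun h => by omega⟩)
          exact (isConjUnder_beta_iff hn2 A₃ A).2 ⟨h, 1, by rw [sc_one, one_mul]; exact hh⟩
        · left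
          obtain ⟨h, hh⟩ := symm_cong h2 A A₂ hA hT₂
            (by rw [hd₂]; exact ⟨fun h => absurd h hsq, fun h => by omega⟩)
          exact (isConjUnder_beta_iff hn2 A₂ A).2 ⟨h, 1, by rw [sc_one, one_mul]; exact hh⟩
    · left
      obtain ⟨h, hh⟩ := alt_cong h2 hnm e₁ A hA
      rw [← hA₁] at hh
      exact (isConjUnder_beta_iff hn2 A₁ A).2 ⟨h, 1, by rw [sc_one, one_mul]; exact hh⟩
  · rw [hA₁]
    exact centralizer_beta_equiv hn2 e₁ (Ju m F)⁻¹ (Cfsg.GSp m F) (mem_GSp_iff_inv m)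
  · rw [hA₂]
    exact centralizer_beta_equiv hn2 e₁ G₂⁻¹ _ (mem_GO_iff_gram_inv (plus_isGram h2 m) G₂ rfl)
  · rw [hA₃]
    exact centralizer_beta_equiv hn2 e₃ G₃⁻¹ _
      (mem_GO_iff_gram_inv (minus_isGram h2 (m - 1) a b) G₃ rfl)

end finite

end Cfsg.Agent.Lib.Helper37.GraphPSL
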