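import Cfsg.Agent.Lib.Helper37.GraphPSL2
import Cfsg.Agent.Lib.Helper5.AutPSLnSplit
import Cfsg.Agent.Lib.Helper8.SpPerfect
import Cfsg.Agent.Lib.Helper45.SplitCount

set_option autoImplicit false
set_option linter.unusedSectionVars false
set_option linter.unusedVariables false
set_option linter.unusedSimpArgs false

namespace Cfsg.Agent.Lib.Helper37.GraphPSL

open Matrix
open Cfsg.Agent.Lib.Helper5.AutPSLn (Gam Iota glInvT)

section simgrp

variable {F : Type*} [Field F] {ι : Type} [Fintype ι] [DecidableEq ι]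

theorem sc_inv (c : Fˣ) : sc ι c⁻¹ = (sc ι c : GL ι F)⁻¹ := by
  unfold sc
  rw [map_inv]

/-- `g` is a similitude of the matrix `A` with multiplier `c` -/
def IsSim (A g : GL ι F) (c : Fˣ) : Prop := g * A * glT g = sc ι c * A

theorem IsSim.one (A : GL ι F) : IsSim A 1 1 := by
  unfold IsSim
  rw [glT_one, sc_one, mul_one, one_mul]

theorem IsSim.mul {A a b : GL ι F} {c d : Fˣ} (ha : IsSim A a c) (hb : IsSim A b d) :
    IsSim A (a * b) (c * d) := by
  unfold IsSim at *
  have e1 : a * b * A * glT (a * b) = a * (b * A * glT b) * glT a := by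
    rw [glT_mul]; group
  rw [e1, hb]
  have e2 : a * (sc ι d * A) * glT a = sc ι d * (a * A * glT a) := by
    rw [← mul_assoc a, ← sc_comm d a]; group
  rw [e2, ha, sc_mul, ← mul_assoc, sc_comm d (sc ι c)]

theorem IsSim.inv {A a : GL ι F} {c : Fˣ} (ha : IsSim A a c) : IsSim A a⁻¹ c⁻¹ := by
  unfold IsSim at *
  rw [glT_inv, sc_inv]
  have h1 : A = a⁻¹ * (sc ι c * A) * (glT a)⁻¹ := by rw [← ha]; group
  have e2 : a⁻¹ * (sc ι c * A) * (glT a)⁻¹ = sc ι c * (a⁻¹ * A * (glT a)⁻¹) := by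
    rw [← mul_assoc a⁻¹, ← sc_comm c a⁻¹]; group
  rw [e2] at h1
  rw [eq_inv_mul_iff_mul_eq]
  exact h1.symm

theorem IsSim.sc (A : GL ι F) (s : Fˣ) : IsSim A (sc ι s) (s * s) := by
  unfold IsSim
  rw [glT_sc, sc_mul, mul_assoc, ← sc_comm s A, ← mul_assoc]

theorem IsSim.unique [Nonempty ι] {A g : GL ι F} {c d : Fˣ} (hc : IsSim A g c) (hd : IsSim A g d) :
    c = d := by
  unfold IsSim at *
  rw [hc] at hd
  exact sc_injective (mul_right_cancel hd)

theorem det_sc' (c : Fˣ) :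
    Matrix.GeneralLinearGroup.det (sc ι c : GL ι F) = c ^ Fintype.card ι := by
  apply Units.ext
  show (sc ι c : GL ι F).1.det = _
  rw [sc_val, Matrix.det_smul, Matrix.det_one, mul_one]
  simp

theorem det_glT' (h : GL ι F) :
    Matrix.GeneralLinearGroup.det (glT h) = Matrix.GeneralLinearGroup.det h := by
  apply Units.ext
  show (glT h).1.det = h.1.det
  rw [glT_val, Matrix.det_transpose]

theorem IsSim.det_sq {A g : GL ι F} {c : Fˣ} (h : IsSim A g c) :
    Matrix.GeneralLinearGroup.det g ^ 2 = c ^ Fintype.card ι := by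
  have h1 := congrArg Matrix.GeneralLinearGroup.det h
  rw [map_mul, map_mul, map_mul, det_glT', det_sc'] at h1
  have h2 : Matrix.GeneralLinearGroup.det g ^ 2 * Matrix.GeneralLinearGroup.det A =
      c ^ Fintype.card ι * Matrix.GeneralLinearGroup.det A := by
    rw [← h1, pow_two, mul_right_comm]
  exact mul_right_cancel h2

/-- conjugating a similitude -/
theorem isSim_conj_iff (h A c : GL ι F) (μ : Fˣ) :
    IsSim (h * A * glT h) (h * c * h⁻¹) μ ↔ IsSim A c μ := by
  unfold IsSim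
  have e1 : h * c * h⁻¹ * (h * A * glT h) * glT (h * c * h⁻¹) = h * (c * A * glT c) * glT h := by
    rw [glT_mul, glT_mul, glT_inv]; group
  have e2 : sc ι μ * (h * A * glT h) = h * (sc ι μ * A) * glT h := by
    rw [← mul_assoc h, ← sc_comm μ h]; group
  rw [e1, e2]
  constructor
  · intro e
    exact mul_left_cancel (mul_right_cancel e)
  · intro e
    rw [e]

theorem isSim_conj_iff' (h A c : GL ι F) (μ : Fˣ) :
    IsSim (h * A * glT h) c μ ↔ IsSim A (h⁻¹ * c * h) μ := by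
  rw [← isSim_conj_iff h A (h⁻¹ * c * h) μ]
  have : h * (h⁻¹ * c * h) * h⁻¹ = c := by group
  rw [this]

/-- similitudes of the matrix `A`: `g A gᵀ = c A` -/
def simGrp (A : GL ι F) : Subgroup (GL ι F) where
  carrier := {g | ∃ c : Fˣ, IsSim A g c}
  mul_mem' := by
    rintro a b ⟨c, hc⟩ ⟨d, hd⟩
    exact ⟨c * d, hc.mul hd⟩
  one_mem' := ⟨1, IsSim.one A⟩
  inv_mem' := by
    rintro a ⟨c, hc⟩
    exact ⟨c⁻¹, hc.inv⟩

theorem mem_simGrp (A g : GL ι F) : g ∈ simGrp A ↔ ∃ c : Fˣ, g * A * glT g = sc ι c * A := Iff.rfl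

section reidx
variable {κ : Type} [Fintype κ] [DecidableEq κ]

theorem isSim_reindex_symm_iff (e : ι ≃ κ) (A' k : GL κ F) (μ : Fˣ) :
    IsSim ((reindexGL e).symm A') ((reindexGL e).symm k) μ ↔ IsSim A' k μ := by
  unfold IsSim
  rw [← reindexGL_symm_glT, ← reindexGL_symm_sc e μ, ← map_mul, ← map_mul, ← map_mul]
  exact (reindexGL e).symm.injective.eq_iff

end reidx

end simgrp

section count

variable {F : Type*} [Field F] [Fintype F]

theorem units_pow_card_sub_one (b : Fˣ) : b ^ (Fintype.card F - 1) = 1 := by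
  classical
  rw [← Fintype.card_units]
  exact pow_card_eq_one

theorem units_pow_eq_one (b : Fˣ) {k e : ℕ} (he : e ∣ Fintype.card F - 1) (hk : e ∣ k) :
    (b ^ k) ^ ((Fintype.card F - 1) / e) = 1 := by
  obtain ⟨k', rfl⟩ := hk
  rw [← pow_mul, mul_comm e k', mul_assoc, Nat.mul_div_cancel' he, pow_mul',
    units_pow_card_sub_one, one_pow]

theorem card_units_eq : Nat.card Fˣ = Fintype.card F - 1 := by
  classical
  rw [Nat.card_eq_fintype_card, Fintype.card_units]

/-- wrapper around `split_count_Gam` for the automorphism `beta A` -/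
theorem count_beta {n : ℕ} (hn : 2 ≤ n) (A : GL (Fin n) F) (e : ℕ)
    (he : e ∣ Fintype.card F - 1)
    (ha : ∀ c ∈ simGrp A, (Matrix.GeneralLinearGroup.det c) ^ ((Fintype.card F - 1) / e) = 1)
    (hb : ∀ b : Fˣ, (b ^ n) ^ ((Fintype.card F - 1) / e) = 1)
    (hc : ∀ a : Fˣ, a ^ ((Fintype.card F - 1) / e) = 1 →
      ∃ c ∈ simGrp A, ∃ b : Fˣ, a = Matrix.GeneralLinearGroup.det c * b ^ n) :
    Cfsg.splitClassCount (Cfsg.inndiagPSL n F)
      (Cfsg.Inn (Matrix.ProjectiveSpecialLinearGroup (Fin n) F)) (beta A) = e := by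
  rw [Cfsg.Agent.Lib.Helper45.AutPSL.inndiag_eq,
    Cfsg.Agent.Lib.Helper5.AutPSLn.split_count_Gam hn (beta A) (simGrp A)
      (fun g => comm_beta_iff hn g A) _ ha hb hc]
  exact Cfsg.Agent.Lib.Helper5.AutPSLn.card_pow_range card_units_eq he

/-- if every similitude of `A` has determinant an `n`-th power, the count is `gcd n (q - 1)` -/
theorem count_beta_of_pow {n : ℕ} (hn : 2 ≤ n) (A : GL (Fin n) F)
    (hpow : ∀ c ∈ simGrp A, ∃ t : Fˣ, Matrix.GeneralLinearGroup.det c = t ^ n) :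
    Cfsg.splitClassCount (Cfsg.inndiagPSL n F)
      (Cfsg.Inn (Matrix.ProjectiveSpecialLinearGroup (Fin n) F)) (beta A) =
      Nat.gcd n (Fintype.card F - 1) := by
  apply count_beta hn A _ (Nat.gcd_dvd_right _ _)
  · intro c hc
    obtain ⟨t, ht⟩ := hpow c hc
    rw [ht]
    exact units_pow_eq_one t (Nat.gcd_dvd_right _ _) (Nat.gcd_dvd_left _ _)
  · intro b
    exact units_pow_eq_one b (Nat.gcd_dvd_right _ _) (Nat.gcd_dvd_left _ _)
  · intro a ha
    obtain ⟨a₁, b, h1, h2⟩ := Cfsg.Agent.Lib.Helper5.AutPSLn.cyc_decomp (G := Fˣ)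
      (N := Fintype.card F - 1) (N₁ := 1) (n := n) card_units_eq (one_dvd _) a
      (by rw [Nat.div_one]; exact ha)
    refine ⟨1, one_mem _, b, ?_⟩
    rw [pow_one] at h1
    rw [map_one, one_mul, h2, h1, one_mul]

/-- odd dimension: determinants of similitudes are `n`-th powers -/
theorem det_pow_of_odd {ι : Type} [Fintype ι] [DecidableEq ι] {k : ℕ}
    (hcard : Fintype.card ι = 2 * k + 1) {A g : GL ι F} {c : Fˣ} (h : IsSim A g c) :
    ∃ t : Fˣ, Matrix.GeneralLinearGroup.det g = t ^ (2 * k + 1) := by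
  have h1 := h.det_sq
  rw [hcard] at h1
  refine ⟨Matrix.GeneralLinearGroup.det g * (c ^ k)⁻¹, ?_⟩
  set d := Matrix.GeneralLinearGroup.det g
  rw [mul_pow, pow_succ, pow_mul, h1, inv_pow, ← pow_mul, ← pow_mul]
  have : c ^ ((2 * k + 1) * k) = c ^ (k * (2 * k + 1)) := by rw [mul_comm]
  rw [this, mul_right_comm, mul_inv_cancel, one_mul]

/-- characteristic two, even dimension: determinants of similitudes are `n`-th powers -/
theorem det_pow_of_char_two [CharP F 2] {ι : Type} [Fintype ι] [DecidableEq ι] {m : ℕ}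
    (hcard : Fintype.card ι = 2 * m) {A g : GL ι F} {c : Fˣ} (h : IsSim A g c) :
    ∃ t : Fˣ, Matrix.GeneralLinearGroup.det g = t ^ (2 * m) := by
  have h1 := h.det_sq
  rw [hcard] at h1
  -- c is a square
  obtain ⟨s, hs⟩ : ∃ s : F, s ^ 2 = (c : F) := by
    have := (frobenius_inj F 2).bijective_of_finite.2 (c : F)  -- placeholder
    obtain ⟨s, hs⟩ := this
    exact ⟨s, hs⟩
  have hs0 : s ≠ 0 := by
    rintro rfl
    have : (c : F) = 0 := by rw [← hs]; ring
    exact c.ne_zero this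
  refine ⟨Units.mk0 s hs0, ?_⟩
  apply Units.ext
  have h2 : ((Matrix.GeneralLinearGroup.det g : Fˣ) : F) ^ 2 = ((c : F) ^ m) ^ 2 := by
    have := congrArg Units.val h1
    rw [Units.val_pow_eq_pow_val, Units.val_pow_eq_pow_val] at this
    rw [this]; ring
  have h3 : ((Matrix.GeneralLinearGroup.det g : Fˣ) : F) = (c : F) ^ m := by
    have h4 : (((Matrix.GeneralLinearGroup.det g : Fˣ) : F) - (c : F) ^ m) ^ 2 = 0 := by
      rw [sub_sq, h2]
      have h2F : (2 : F) = 0 := CharTwo.two_eq_zero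
      linear_combination (((c : F) ^ m) ^ 2 - ((Matrix.GeneralLinearGroup.det g : Fˣ) : F) * (c : F) ^ m) * h2F
    exact sub_eq_zero.1 (pow_eq_zero_iff (by norm_num) |>.1 h4)
  rw [h3, Units.val_pow_eq_pow_val, Units.val_mk0, ← hs]
  ring

end count

end Cfsg.Agent.Lib.Helper37.GraphPSL
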