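import Cfsg.Agent.Lib.Helper37.GraphSplit

set_option autoImplicit false
set_option linter.unusedSectionVars false
set_option linter.unusedVariables false
set_option linter.unusedSimpArgs false

namespace Cfsg.Agent.Lib.Helper37.GraphPSL

open Matrix
open Cfsg.Agent.Lib.Helper5.AutPSLn (Gam Iota glInvT)

section stdalt

variable {F : Type*} [Field F]

/-- the standard similitude `diag(μ, 1)` of the symplectic form -/
noncomputable def dSp (m : ℕ) (μ : Fˣ) : GL (Fin m ⊕ Fin m) F :=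
  ⟨Matrix.fromBlocks ((μ : F) • (1 : Matrix (Fin m) (Fin m) F)) 0 0 1,
    Matrix.fromBlocks (((μ⁻¹ : Fˣ) : F) • (1 : Matrix (Fin m) (Fin m) F)) 0 0 1,
    by rw [Matrix.fromBlocks_multiply]; simp [Matrix.fromBlocks_one],
    by rw [Matrix.fromBlocks_multiply]; simp [Matrix.fromBlocks_one]⟩

theorem dSp_val (m : ℕ) (μ : Fˣ) : (dSp m μ : GL (Fin m ⊕ Fin m) F).1 =
    Matrix.fromBlocks ((μ : F) • (1 : Matrix (Fin m) (Fin m) F)) 0 0 1 := rfl

theorem dSp_det (m : ℕ) (μ : Fˣ) :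
    Matrix.GeneralLinearGroup.det (dSp m μ : GL (Fin m ⊕ Fin m) F) = μ ^ m := by
  apply Units.ext
  show (dSp m μ : GL (Fin m ⊕ Fin m) F).1.det = _
  rw [dSp_val, Matrix.det_fromBlocks_zero₂₁, Matrix.det_one, mul_one, Matrix.det_smul,
    Matrix.det_one, mul_one]
  simp

theorem dSp_isSim (m : ℕ) (μ : Fˣ) : IsSim (Ju m F)⁻¹ (dSp m μ) μ := by
  unfold IsSim
  apply Units.ext
  rw [Units.val_mul, Units.val_mul, Units.val_mul, glT_val, sc_val, Ju_inv_val, dSp_val,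
    Matrix.J, Matrix.fromBlocks_transpose, Matrix.fromBlocks_neg, Matrix.fromBlocks_multiply,
    Matrix.fromBlocks_multiply]
  simp [Matrix.smul_mul, Matrix.fromBlocks_smul]

theorem det_of_isSim_Ju (m : ℕ) (k : GL (Fin m ⊕ Fin m) F) (μ : Fˣ)
    (h : IsSim (Ju m F)⁻¹ k μ) : Matrix.GeneralLinearGroup.det k = μ ^ m := by
  have h1 : IsSim (Ju m F)⁻¹ ((dSp m μ)⁻¹ * k) 1 := by
    have := (dSp_isSim m μ).inv.mul h
    rw [inv_mul_cancel] at this
    exact this
  unfold IsSim at h1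
  rw [sc_one, one_mul] at h1
  have h2 := congrArg (fun x : GL (Fin m ⊕ Fin m) F => x.1) h1
  simp only [Units.val_mul, glT_val, Ju_inv_val, Matrix.mul_neg, Matrix.neg_mul, neg_inj] at h2
  have h3 : (((dSp m μ)⁻¹ * k : GL (Fin m ⊕ Fin m) F)).1 ∈ Matrix.symplecticGroup (Fin m) F := by
    rw [SymplecticGroup.mem_iff]
    rw [Units.val_mul]
    exact h2
  have h4 := SymplecticGroup.det_eq_one h3
  have h5 : Matrix.GeneralLinearGroup.det ((dSp m μ)⁻¹ * k) = 1 := by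
    apply Units.ext
    exact h4
  rw [map_mul, map_inv, dSp_det, inv_mul_eq_one] at h5
  exact h5.symm

end stdalt

section alt

variable {F : Type*} [Field F] [Fintype F]

/-- similitudes of an alternating matrix: the determinant is the `m`-th power of the multiplier,
and all multipliers occur -/
theorem alt_sim_facts (h2 : (2 : F) ≠ 0) {n m : ℕ} (hnm : n = 2 * m)
    (A : GL (Fin n) F) (hA : glT A = sc (Fin n) (-1) * A) :
    (∀ (c : GL (Fin n) F) (μ : Fˣ), IsSim A c μ → Matrix.GeneralLinearGroup.det c = μ ^ m) ∧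
    (∀ μ : Fˣ, ∃ c : GL (Fin n) F, IsSim A c μ) := by
  classical
  let e₁ : Fin n ≃ Fin m ⊕ Fin m := Fintype.equivOfCardEq (by simp; omega)
  obtain ⟨h, hh⟩ := alt_cong h2 hnm e₁ A hA
  constructor
  · intro c μ hc
    rw [← hh, isSim_conj_iff'] at hc
    have h1 : IsSim (Ju m F)⁻¹ (reindexGL e₁ (h⁻¹ * c * h)) μ := by
      rw [← isSim_reindex_symm_iff e₁, MulEquiv.symm_apply_apply]
      exact hc
    have h3 := det_of_isSim_Ju m _ μ h1
    have h4 : Matrix.GeneralLinearGroup.det (reindexGL e₁ (h⁻¹ * c * h)) =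
        Matrix.GeneralLinearGroup.det c := by
      apply Units.ext
      show (reindexGL e₁ (h⁻¹ * c * h)).1.det = c.1.det
      rw [reindexGL_det]
      have : Matrix.GeneralLinearGroup.det (h⁻¹ * c * h) = Matrix.GeneralLinearGroup.det c := by
        rw [map_mul, map_mul, map_inv, mul_right_comm, inv_mul_cancel, one_mul]
      exact congrArg Units.val this
    rw [← h4, h3]
  · intro μ
    refine ⟨h * (reindexGL e₁).symm (dSp m μ) * h⁻¹, ?_⟩
    rw [← hh, isSim_conj_iff, isSim_reindex_symm_iff]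
    exact dSp_isSim m μ

theorem count_beta_alt (h2 : (2 : F) ≠ 0) {n m : ℕ} (hm : 1 ≤ m) (hnm : n = 2 * m)
    (A : GL (Fin n) F) (hA : glT A = sc (Fin n) (-1) * A) :
    Cfsg.splitClassCount (Cfsg.inndiagPSL n F)
      (Cfsg.Inn (Matrix.ProjectiveSpecialLinearGroup (Fin n) F)) (beta A) =
      Nat.gcd m (Fintype.card F - 1) := by
  obtain ⟨hdet, hex⟩ := alt_sim_facts h2 hnm A hA
  apply count_beta (by omega) A _ (Nat.gcd_dvd_right _ _)
  · rintro c ⟨μ, hμ⟩
    rw [hdet c μ hμ]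
    exact units_pow_eq_one μ (Nat.gcd_dvd_right _ _) (Nat.gcd_dvd_left _ _)
  · intro b
    exact units_pow_eq_one b (Nat.gcd_dvd_right _ _)
      ((Nat.gcd_dvd_left _ _).trans ⟨2, by rw [hnm]; ring⟩)
  · intro a ha
    obtain ⟨a₁, b, h1, h3⟩ := Cfsg.Agent.Lib.Helper5.AutPSLn.cyc_decomp (G := Fˣ)
      (N := Fintype.card F - 1) (N₁ := 1) (n := m) card_units_eq (one_dvd _) a
      (by rw [Nat.div_one]; exact ha)
    obtain ⟨c, hc⟩ := hex b
    refine ⟨c, ⟨b, hc⟩, 1, ?_⟩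
    rw [pow_one] at h1
    rw [hdet c b hc, one_pow, mul_one, h3, h1, one_mul]

end alt

section symm

variable {F : Type*} [Field F] [Fintype F]

omit [Fintype F] in
theorem isSquare_sq_mul_iff {s x : F} (hs : s ≠ 0) : IsSquare (s ^ 2 * x) ↔ IsSquare x := by
  constructor
  · rintro ⟨r, hr⟩
    refine ⟨r / s, ?_⟩
    field_simp
    linear_combination hr
  · rintro ⟨r, hr⟩
    exact ⟨s * r, by rw [hr]; ring⟩

/-- a symmetric invertible matrix has a similitude with multiplier one and determinant `-1` -/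
theorem refl_exists (h2 : (2 : F) ≠ 0) {N : ℕ} (A : GL (Fin (N + 1)) F) (hA : glT A = A) :
    ∃ r : GL (Fin (N + 1)) F, IsSim A r 1 ∧ Matrix.GeneralLinearGroup.det r = -1 := by
  obtain ⟨α, hα⟩ := exists_nonsquare_unit h2 (F := F)
  obtain ⟨P, hP⟩ := symm_nf h2 (α : F) hα A hA
  obtain ⟨d, hd⟩ : ∃ d : Fin (N + 1) → F, P.1ᵀ * A.1 * P.1 = Matrix.diagonal d := by
    rcases hP with ⟨h1, -⟩ | ⟨h1, -⟩
    · exact ⟨fun _ => 1, by rw [h1, Matrix.diagonal_one]⟩
    · exact ⟨_, h1⟩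
  let s : GL (Fin (N + 1)) F := Cfsg.Agent.Lib.Helper5.AutPSLn.dgl (Pi.mulSingle 0 (-1))
  have hs : s.1 = Matrix.diagonal (fun i => (((Pi.mulSingle 0 (-1) : Fin (N + 1) → Fˣ) i : Fˣ) : F)) :=
    Cfsg.Agent.Lib.Helper5.AutPSLn.dgl_val _
  have hsT : glT s = s := by
    apply Units.ext
    rw [glT_val, hs, Matrix.diagonal_transpose]
  have hsq : ∀ i : Fin (N + 1), (((Pi.mulSingle 0 (-1) : Fin (N + 1) → Fˣ) i : Fˣ) : F) *
      (((Pi.mulSingle 0 (-1) : Fin (N + 1) → Fˣ) i : Fˣ) : F) = 1 := by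
    intro i
    by_cases hi : i = 0
    · subst hi; simp
    · rw [Pi.mulSingle_eq_of_ne hi]; simp
  -- the diagonal form
  set Dg : GL (Fin (N + 1)) F := glT P * A * P with hDg
  have hDgv : Dg.1 = Matrix.diagonal d := by
    rw [hDg, Units.val_mul, Units.val_mul, glT_val]; exact hd
  have hsD : IsSim Dg s 1 := by
    unfold IsSim
    rw [hsT, sc_one, one_mul]
    apply Units.ext
    rw [Units.val_mul, Units.val_mul, hDgv, hs, Matrix.diagonal_mul_diagonal,
      Matrix.diagonal_mul_diagonal]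
    congr 1
    funext i
    rw [mul_comm _ (d i), mul_assoc, hsq, mul_one]
  have hA' : A = (glT P)⁻¹ * Dg * glT ((glT P)⁻¹) := by
    rw [glT_inv, glT_glT, hDg]; group
  refine ⟨(glT P)⁻¹ * s * ((glT P)⁻¹)⁻¹, ?_, ?_⟩
  · rw [hA', isSim_conj_iff]
    exact hsD
  · rw [inv_inv, map_mul, map_mul, map_inv, mul_right_comm, inv_mul_cancel, one_mul]
    exact Cfsg.Agent.Lib.Helper5.AutPSLn.det_dgl_mulSingle' 0 (-1)

/-- similitudes of a symmetric matrix in even dimension, with prescribed multiplier and sign -/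
theorem sim_exists (h2 : (2 : F) ≠ 0) {N m : ℕ} (hnm : N + 1 = 2 * m)
    (A : GL (Fin (N + 1)) F) (hA : glT A = A) (μ ε : Fˣ) (hε : ε = 1 ∨ ε = -1) :
    ∃ c : GL (Fin (N + 1)) F, IsSim A c μ ∧ Matrix.GeneralLinearGroup.det c = ε * μ ^ m := by
  have hB : glT (sc (Fin (N + 1)) μ * A) = sc (Fin (N + 1)) μ * A := by
    rw [glT_mul, glT_sc, hA, sc_comm]
  have hdet : IsSquare (sc (Fin (N + 1)) μ * A : GL (Fin (N + 1)) F).1.det ↔ IsSquare A.1.det := by
    rw [Units.val_mul, sc_val, Matrix.smul_mul, Matrix.one_mul, Matrix.det_smul, Fintype.card_fin]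
    have e : (μ : F) ^ (N + 1) = ((μ : F) ^ m) ^ 2 := by rw [hnm, pow_mul']
    rw [e]
    exact isSquare_sq_mul_iff (pow_ne_zero _ μ.ne_zero)
  obtain ⟨h, hh⟩ := symm_cong h2 (sc (Fin (N + 1)) μ * A) A hB hA hdet
  have hsim : IsSim A h μ := hh
  have hd2 : Matrix.GeneralLinearGroup.det h ^ 2 = (μ ^ m) ^ 2 := by
    have e : μ ^ (N + 1) = (μ ^ m) ^ 2 := by rw [hnm, pow_mul']
    rw [hsim.det_sq, Fintype.card_fin, e]
  obtain ⟨r, hr, hrd⟩ := refl_exists h2 A hA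
  have hr' : IsSim A (h * r) μ := by
    have := hsim.mul hr
    rw [mul_one] at this
    exact this
  rcases Units.eq_or_eq_neg_of_sq_eq_sq _ _ hd2 with h1 | h1
  · rcases hε with rfl | rfl
    · exact ⟨h, hsim, by rw [h1, one_mul]⟩
    · refine ⟨h * r, hr', ?_⟩
      rw [map_mul, h1, hrd, mul_comm]
  · rcases hε with rfl | rfl
    · refine ⟨h * r, hr', ?_⟩
      rw [map_mul, h1, hrd, one_mul, neg_mul_neg, mul_one]
    · refine ⟨h, hsim, ?_⟩
      rw [h1, neg_one_mul]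

theorem count_beta_symm (hodd : Odd (Fintype.card F)) {N m : ℕ} (hm : 1 ≤ m)
    (hnm : N + 1 = 2 * m) (A : GL (Fin (N + 1)) F) (hA : glT A = A) :
    Cfsg.splitClassCount (Cfsg.inndiagPSL (N + 1) F)
      (Cfsg.Inn (Matrix.ProjectiveSpecialLinearGroup (Fin (N + 1)) F)) (beta A) =
      Nat.gcd m ((Fintype.card F - 1) / 2) := by
  have h2 : (2 : F) ≠ 0 := two_ne_zero_of_odd_card hodd
  obtain ⟨x, hx⟩ : ∃ x, Fintype.card F - 1 = 2 * x := by
    obtain ⟨k, hk⟩ := hodd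
    exact ⟨k, by omega⟩
  have hx2 : (Fintype.card F - 1) / 2 = x := by omega
  rw [hx2]
  have he1 : Nat.gcd m x ∣ x := Nat.gcd_dvd_right _ _
  have he : Nat.gcd m x ∣ Fintype.card F - 1 := he1.trans ⟨2, by rw [hx]; ring⟩
  have hdiv : (Fintype.card F - 1) / Nat.gcd m x = 2 * (x / Nat.gcd m x) := by
    rw [hx, Nat.mul_div_assoc 2 he1]
  apply count_beta (by omega) A _ he
  · rintro c ⟨μ, hμ⟩
    have h1 := hμ.det_sq
    have e : μ ^ (N + 1) = (μ ^ m) ^ 2 := by rw [hnm, pow_mul']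
    rw [Fintype.card_fin, e] at h1
    rw [hdiv, pow_mul, h1, ← pow_mul, ← hdiv]
    exact units_pow_eq_one μ he (Nat.gcd_dvd_left _ _)
  · intro b
    exact units_pow_eq_one b he ((Nat.gcd_dvd_left _ _).trans ⟨2, by rw [hnm]; ring⟩)
  · intro a ha
    obtain ⟨a₁, b, h1, h3⟩ := Cfsg.Agent.Lib.Helper5.AutPSLn.cyc_decomp (G := Fˣ)
      (N := Fintype.card F - 1) (N₁ := 2) (n := m) card_units_eq ⟨x, hx⟩ a
      (by rw [hx2]; exact ha)
    have ha₁ : a₁ = 1 ∨ a₁ = -1 := by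
      have := Units.eq_or_eq_neg_of_sq_eq_sq a₁ 1 (by rw [h1, one_pow])
      exact this
    obtain ⟨c, hc, hcd⟩ := sim_exists h2 hnm A hA b a₁ ha₁
    refine ⟨c, ⟨b, hc⟩, 1, ?_⟩
    rw [hcd, one_pow, mul_one, h3]

end symm

end Cfsg.Agent.Lib.Helper37.GraphPSL
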