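import Cfsg.Agent.Lib.Helper37.GraphSplit2

set_option autoImplicit false
set_option linter.unusedSectionVars false
set_option linter.unusedVariables false
set_option linter.unusedSimpArgs false

namespace Cfsg.Agent.Lib.Helper37.GraphPSL

open Matrix
open Cfsg.Agent.Lib.Helper5.AutPSLn (Gam Iota glInvT)

section pgsp

variable {F : Type*} [Field F] [Fintype F]

/-- the inclusion of the symplectic group in the conformal symplectic group -/
noncomputable def spToGSp (m : ℕ) :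
    ↥(Matrix.symplecticGroup (Fin m) F) →* ↥(Cfsg.GSp m F) :=
  MonoidHom.codRestrict (MonoidHom.toHomUnits (Matrix.symplecticGroup (Fin m) F).subtype)
    (Cfsg.GSp m F) (by
      intro s
      rw [mem_GSp_iff_inv]
      refine ⟨1, ?_⟩
      apply Units.ext
      rw [sc_one, one_mul, Units.val_mul, Units.val_mul, glT_val, Ju_inv_val,
        MonoidHom.coe_toHomUnits]
      have := (SymplecticGroup.mem_iff).1 s.2
      show (s : Matrix _ _ F) * -Matrix.J (Fin m) F * (s : Matrix _ _ F)ᵀ = -Matrix.J (Fin m) F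
      rw [Matrix.mul_neg, Matrix.neg_mul, this])

theorem spToGSp_val (m : ℕ) (s : ↥(Matrix.symplecticGroup (Fin m) F)) :
    ((spToGSp m s : ↥(Cfsg.GSp m F)).1 : GL (Fin m ⊕ Fin m) F).1 = s.1 := rfl

theorem card_ge_three (h2 : (2 : F) ≠ 0) : 3 ≤ Fintype.card F := by
  have h1 : 1 < Fintype.card F := Fintype.one_lt_card
  have h3 : Fintype.card F ≠ 2 := by
    intro h
    apply h2
    have := Nat.cast_card_eq_zero F
    rw [h] at this
    exact_mod_cast this
  omega

/-- a hom from `GSp` to a commutative group, trivial on scalars, kills the similitudes with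
square multiplier -/
theorem GSp_hom_sq (h2 : (2 : F) ≠ 0) {m : ℕ} (hm : 2 ≤ m) {B : Type*} [CommGroup B]
    (φ : ↥(Cfsg.GSp m F) →* B)
    (hsc : ∀ g : ↥(Cfsg.GSp m F), g.1 ∈ Cfsg.Geo.scalars (Fin m ⊕ Fin m) F → φ g = 1)
    (g : ↥(Cfsg.GSp m F)) (s : Fˣ) (hg : IsSim (Ju m F)⁻¹ g.1 (s * s)) : φ g = 1 := by
  have hperf : commutator ↥(Matrix.symplecticGroup (Fin m) F) = ⊤ := by
    apply Cfsg.Agent.Lib.Helper8.commutator_symplectic_eq_top
    have := card_ge_three h2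
    rcases Nat.lt_or_ge m 3 with h | h
    · right; left; exact ⟨by omega, this⟩
    · left; exact h
  have htriv : ∀ t : ↥(Matrix.symplecticGroup (Fin m) F), φ (spToGSp m t) = 1 := by
    intro t
    have h1 : commutator ↥(Matrix.symplecticGroup (Fin m) F) ≤ (φ.comp (spToGSp m)).ker :=
      Abelianization.commutator_subset_ker _
    rw [hperf] at h1
    exact h1 (Subgroup.mem_top t)
  have hz : sc (Fin m ⊕ Fin m) s ∈ Cfsg.GSp m F := by
    rw [mem_GSp_iff_inv]
    exact ⟨s * s, IsSim.sc _ s⟩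
  let z : ↥(Cfsg.GSp m F) := ⟨sc (Fin m ⊕ Fin m) s, hz⟩
  have hφz : φ z = 1 := by
    apply hsc
    rw [Cfsg.Geo.mem_scalars_iff]
    exact ⟨s, sc_val s⟩
  have hg' : IsSim (Ju m F)⁻¹ (z⁻¹ * g).1 1 := by
    have := (IsSim.sc (Ju m F)⁻¹ s).inv.mul hg
    rw [inv_mul_cancel] at this
    exact this
  have hmem : ((z⁻¹ * g).1 : GL (Fin m ⊕ Fin m) F).1 ∈ Matrix.symplecticGroup (Fin m) F := by
    rw [SymplecticGroup.mem_iff]
    unfold IsSim at hg'
    rw [sc_one, one_mul] at hg'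
    have h3 := congrArg (fun x : GL (Fin m ⊕ Fin m) F => x.1) hg'
    simp only [Units.val_mul, glT_val, Ju_inv_val, Matrix.mul_neg, Matrix.neg_mul, neg_inj] at h3
    exact h3
  have e : z⁻¹ * g = spToGSp m ⟨_, hmem⟩ := by
    apply Subtype.ext
    apply Units.ext
    rfl
  have h4 : φ (z⁻¹ * g) = 1 := by rw [e]; exact htriv _
  rw [map_mul, map_inv, hφz, inv_one, one_mul] at h4
  exact h4

/-- a homomorphism from `PGSp_{2m}(F)` to a commutative group takes at most two values -/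
theorem PGSp_hom_two (h2 : (2 : F) ≠ 0) {m : ℕ} (hm : 2 ≤ m) {B : Type*} [CommGroup B]
    (Φ : Cfsg.PGSp m F →* B) (x y : Cfsg.PGSp m F) : Φ x = 1 ∨ Φ y = 1 ∨ Φ x = Φ y := by
  classical
  let φ : ↥(Cfsg.GSp m F) →* B := Φ.comp (QuotientGroup.mk' _)
  have hsc : ∀ g : ↥(Cfsg.GSp m F), g.1 ∈ Cfsg.Geo.scalars (Fin m ⊕ Fin m) F → φ g = 1 := by
    intro g hg
    show Φ (QuotientGroup.mk g) = 1
    have : (QuotientGroup.mk g : Cfsg.PGSp m F) = 1 := by
      rw [QuotientGroup.eq_one_iff, Subgroup.mem_subgroupOf]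
      exact hg
    rw [this, map_one]
  obtain ⟨gx, rfl⟩ := QuotientGroup.mk_surjective x
  obtain ⟨gy, rfl⟩ := QuotientGroup.mk_surjective y
  obtain ⟨cx, hcx⟩ := (mem_GSp_iff_inv m gx.1).1 gx.2
  obtain ⟨cy, hcy⟩ := (mem_GSp_iff_inv m gy.1).1 gy.2
  by_cases hx : IsSquare (cx : F)
  · left
    obtain ⟨s, rfl⟩ := isSquare_units cx hx
    exact GSp_hom_sq h2 hm φ hsc gx s hcx
  by_cases hy : IsSquare (cy : F)
  · right; left
    obtain ⟨s, rfl⟩ := isSquare_units cy hy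
    exact GSp_hom_sq h2 hm φ hsc gy s hcy
  right; right
  have hsq : IsSquare (((cx⁻¹ * cy : Fˣ)) : F) := by
    rw [Units.val_mul, isSquare_mul_nonsquare_iff _ _ (cx⁻¹).ne_zero hy, Units.val_inv_eq_inv_val,
      isSquare_inv]
    exact hx
  obtain ⟨s, hs⟩ := isSquare_units _ hsq
  have h5 : IsSim (Ju m F)⁻¹ (gx⁻¹ * gy).1 (s * s) := by
    rw [← hs]
    exact (IsSim.inv hcx).mul hcy
  have h6 := GSp_hom_sq h2 hm φ hsc (gx⁻¹ * gy) s h5
  rw [map_mul, map_inv, inv_mul_eq_one] at h6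
  exact h6

end pgsp

section mult

variable {F : Type*} [Field F] {ι : Type} [Fintype ι] [DecidableEq ι] [Nonempty ι]

/-- the multiplier homomorphism -/
noncomputable def mult (A : GL ι F) : ↥(simGrp A) →* Fˣ :=
  MonoidHom.mk' (fun g => Classical.choose g.2) (by
    intro a b
    exact IsSim.unique (Classical.choose_spec (a * b).2)
      ((Classical.choose_spec a.2).mul (Classical.choose_spec b.2)))

theorem mult_spec (A : GL ι F) (g : ↥(simGrp A)) : IsSim A g.1 (mult A g) :=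
  Classical.choose_spec g.2

theorem mult_eq (A : GL ι F) (g : ↥(simGrp A)) {c : Fˣ} (h : IsSim A g.1 c) : mult A g = c :=
  IsSim.unique (mult_spec A g) h

/-- the character distinguishing `PGO` from `PGSp` -/
noncomputable def chiHom [Fintype F] (A : GL ι F) (m : ℕ) : ↥(simGrp A) →* Fˣ × Fˣ :=
  ((powMonoidHom (Fintype.card F / 2)).comp (mult A)).prod
    ((Matrix.GeneralLinearGroup.det.comp (simGrp A).subtype) *
      ((powMonoidHom m).comp (mult A))⁻¹)

theorem chiHom_apply [Fintype F] (A : GL ι F) (m : ℕ) (g : ↥(simGrp A)) :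
    chiHom A m g = ((mult A g) ^ (Fintype.card F / 2),
      Matrix.GeneralLinearGroup.det g.1 * ((mult A g) ^ m)⁻¹) := rfl

theorem chiHom_scalar [Fintype F] (h2 : (2 : F) ≠ 0) (A : GL ι F) (m : ℕ)
    (hcard : Fintype.card ι = 2 * m) (g : ↥(simGrp A))
    (hg : g.1 ∈ Cfsg.Geo.scalars ι F) : chiHom A m g = 1 := by
  rw [Cfsg.Geo.mem_scalars_iff] at hg
  obtain ⟨c, hc⟩ := hg
  have e : g.1 = sc ι c := by
    apply Units.ext
    rw [hc, sc_val]
  have hm : mult A g = c * c := mult_eq A g (by rw [e]; exact IsSim.sc A c)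
  rw [chiHom_apply, hm, e, det_sc', hcard]
  have h1 : (c * c) ^ (Fintype.card F / 2) = 1 :=
    (FiniteField.unit_isSquare_iff (ringChar_ne_two_of_two_ne_zero h2) (c * c)).1 ⟨c, rfl⟩
  rw [h1, ← pow_two, ← pow_mul, mul_inv_cancel]
  rfl

end mult

section noniso

variable {F : Type*} [Field F] [Fintype F]

theorem not_iso_PGSp (hodd : Odd (Fintype.card F)) {N m : ℕ} (hm : 2 ≤ m) (hnm : N + 1 = 2 * m)
    (A : GL (Fin (N + 1)) F) (hA : glT A = A) :
    ¬ Nonempty (Cfsg.projQuot (simGrp A) ≃* Cfsg.PGSp m F) := by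
  have h2 : (2 : F) ≠ 0 := two_ne_zero_of_odd_card hodd
  rintro ⟨ψ⟩
  have hcard : Fintype.card (Fin (N + 1)) = 2 * m := by rw [Fintype.card_fin, hnm]
  let L : Cfsg.projQuot (simGrp A) →* Fˣ × Fˣ :=
    QuotientGroup.lift _ (chiHom A m) (by
      intro g hg
      rw [Subgroup.mem_subgroupOf] at hg
      exact chiHom_scalar h2 A m hcard g hg)
  let Φ : Cfsg.PGSp m F →* Fˣ × Fˣ := L.comp ψ.symm.toMonoidHom
  have hΦ : ∀ g : ↥(simGrp A), Φ (ψ (QuotientGroup.mk g)) = chiHom A m g := by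
    intro g
    show L (ψ.symm (ψ (QuotientGroup.mk g))) = _
    rw [MulEquiv.symm_apply_apply]
    rfl
  obtain ⟨r, hr, hrd⟩ := refl_exists h2 A hA
  obtain ⟨ν, hν⟩ := exists_nonsquare_unit h2 (F := F)
  obtain ⟨c, hc, -⟩ := sim_exists h2 hnm A hA ν 1 (Or.inl rfl)
  let g₂ : ↥(simGrp A) := ⟨r, 1, hr⟩
  let g₃ : ↥(simGrp A) := ⟨c, ν, hc⟩
  have hm2 : mult A g₂ = 1 := mult_eq A g₂ hr
  have hm3 : mult A g₃ = ν := mult_eq A g₃ hc
  have hv2 : chiHom A m g₂ = (1, -1) := by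
    rw [chiHom_apply, hm2, one_pow, one_pow, inv_one, mul_one]
    show ((1 : Fˣ), Matrix.GeneralLinearGroup.det r) = _
    rw [hrd]
  have hν1 : ν ^ (Fintype.card F / 2) ≠ 1 := by
    intro h
    have := (FiniteField.unit_isSquare_iff (ringChar_ne_two_of_two_ne_zero h2) ν).2 h
    obtain ⟨s, hs⟩ := this
    exact hν ⟨(s : F), by rw [hs, Units.val_mul]⟩
  have hv3 : (chiHom A m g₃).1 = ν ^ (Fintype.card F / 2) := by
    rw [chiHom_apply, hm3]
  rcases PGSp_hom_two h2 hm Φ (ψ (QuotientGroup.mk g₂)) (ψ (QuotientGroup.mk g₃)) with h | h | h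
  · rw [hΦ, hv2] at h
    have := congrArg Prod.snd h
    exact neg_one_units_ne_one h2 this
  · rw [hΦ] at h
    have := congrArg Prod.fst h
    rw [hv3] at this
    exact hν1 this
  · rw [hΦ, hΦ, hv2] at h
    have := congrArg Prod.fst h
    rw [hv3] at this
    exact hν1 this.symm

end noniso

end Cfsg.Agent.Lib.Helper37.GraphPSL
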