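import Cfsg.Agent.Lib.Helper37.GraphSplit3

set_option autoImplicit false
set_option linter.unusedSectionVars false
set_option linter.unusedVariables false
set_option linter.unusedSimpArgs false

namespace Cfsg.Agent.Lib.Helper37.GraphPSL

open Matrix
open Cfsg.Agent.Lib.Helper5.AutPSLn (Gam Iota glInvT)

section final

variable {F : Type*} [Field F] [Fintype F]

theorem reindexGL_refl_symm {ι : Type} [Fintype ι] [DecidableEq ι] (A : GL ι F) :
    (reindexGL (Equiv.refl ι)).symm A = A := by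
  apply Units.ext
  rw [reindexGL_symm_val]
  ext i j
  simp

/-- the centralizer of a symmetric-type graph automorphism is not `PGSp` -/
theorem cent_symm_not_iso_PGSp (hodd : Odd (Fintype.card F)) {N m : ℕ} (hm : 2 ≤ m)
    (hnm : N + 1 = 2 * m) (A : GL (Fin (N + 1)) F) (hA : glT A = A) :
    ¬ Nonempty (↥(Cfsg.inndiagPSL (N + 1) F ⊓ Subgroup.centralizer {beta A}) ≃*
      Cfsg.PGSp m F) := by
  rintro ⟨ψ⟩
  obtain ⟨θ⟩ := centralizer_beta_equiv (F := F) (n := N + 1) (by omega) (Equiv.refl (Fin (N + 1))) A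
    (simGrp A) (fun k => Iff.rfl)
  rw [reindexGL_refl_symm] at θ
  exact not_iso_PGSp hodd hm hnm A hA ⟨θ.symm.trans ψ⟩

/-- the centralizer of an alternating-type graph automorphism is `PGSp` -/
theorem cent_alt_iso_PGSp (h2 : (2 : F) ≠ 0) (p : ℕ) [Fact p.Prime] [CharP F p] {n m : ℕ}
    (hn : 2 ≤ n) (hnm : n = 2 * m) (A : GL (Fin n) F) (hA : glT A = sc (Fin n) (-1) * A) :
    Nonempty (↥(Cfsg.inndiagPSL n F ⊓ Subgroup.centralizer {beta A}) ≃* Cfsg.PGSp m F) := by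
  classical
  let e₁ : Fin n ≃ Fin m ⊕ Fin m := Fintype.equivOfCardEq (by simp; omega)
  obtain ⟨h, hh⟩ := alt_cong h2 hnm e₁ A hA
  obtain ⟨θ⟩ := centralizer_beta_equiv (F := F) hn e₁ (Ju m F)⁻¹ (Cfsg.GSp m F) (mem_GSp_iff_inv m)
  haveI : (Cfsg.inndiagPSL n F).Normal := Cfsg.Agent.Lib.Helper45.AutPSL.inndiag_normal hn p
  have e := Cfsg.Agent.Lib.Helper45.AutPSL.centralizerConjEquiv (Cfsg.inndiagPSL n F) (Gam h)
    (beta ((reindexGL e₁).symm (Ju m F)⁻¹))
  rw [Gam_conj_beta, hh] at e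
  exact ⟨e.symm.trans θ⟩

end final

end Cfsg.Agent.Lib.Helper37.GraphPSL
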