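import Cfsg.Agent.Lib.Helper37.D4O8Defs

/-! # S2734 hive "Gt" (helper37): `C_{D₄(F)}(triality) ≅ G₂(F)` — definitions (GENERATED by tools/helper37/gtgen.py)

The root elements of `G₂` inside the `O₈⁺(F)`-model of the Do hive (`Cfsg.Agent.Lib.Helper37.D4O8`):
for a long root `s` of `G₂` (index of `Cfsg.Lie.chevG2`) `Y s t = X r (± t)` with `r` the triality-fixed root of `D₄`
folding to `s`; for a short root `Y s t = X r (± t) * X (ρ r) (± t) * X (ρ² r) (± t)` over the triality orbit folding to `s`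
(signs: those of `Helper36.graphD4`, times a global sign `η_s` found by computer so that the Steinberg relations hold with
EXACTLY the structure constants of `chevG2`). -/

set_option autoImplicit false
set_option linter.unusedSectionVars false
set_option linter.unusedVariables false

namespace Cfsg.Agent.Lib.Helper37.Gt

open Matrix Module QuadraticMap
open Cfsg.Agent.Lib.Helper8 Cfsg.Agent.Lib.Helper13 Cfsg.Agent.Lib.Helper37 Cfsg.Agent.Lib.Helper37.D4O8

variable {F : Type*} [Field F]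

/-- the root element of the `G₂`-root `0` = (-3, -2) -/
noncomputable def Y0 (t : F) : OG F := X 0 (-t)
/-- the root element of the `G₂`-root `1` = (-3, -1) -/
noncomputable def Y1 (t : F) : OG F := X 1 (-t)
/-- the root element of the `G₂`-root `2` = (-2, -1) -/
noncomputable def Y2 (t : F) : OG F := X 2 (-t) * X 6 t * X 3 (-t)
/-- the root element of the `G₂`-root `3` = (-1, -1) -/
noncomputable def Y3 (t : F) : OG F := X 4 t * X 7 (-t) * X 8 (-t)
/-- the root element of the `G₂`-root `4` = (-1, 0) -/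
noncomputable def Y4 (t : F) : OG F := X 5 t * X 10 t * X 11 t
/-- the root element of the `G₂`-root `5` = (0, -1) -/
noncomputable def Y5 (t : F) : OG F := X 9 t
/-- the root element of the `G₂`-root `6` = (0, 1) -/
noncomputable def Y6 (t : F) : OG F := X 14 t
/-- the root element of the `G₂`-root `7` = (1, 0) -/
noncomputable def Y7 (t : F) : OG F := X 12 t * X 18 t * X 13 t
/-- the root element of the `G₂`-root `8` = (1, 1) -/
noncomputable def Y8 (t : F) : OG F := X 15 (-t) * X 19 t * X 16 (-t)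
/-- the root element of the `G₂`-root `9` = (2, 1) -/
noncomputable def Y9 (t : F) : OG F := X 17 t * X 20 (-t) * X 21 (-t)
/-- the root element of the `G₂`-root `10` = (3, 1) -/
noncomputable def Y10 (t : F) : OG F := X 22 (-t)
/-- the root element of the `G₂`-root `11` = (3, 2) -/
noncomputable def Y11 (t : F) : OG F := X 23 (-t)

/-- the root element `x_s(t)` of `G₂` inside `O₈⁺(F)` -/
noncomputable def Y (s : Fin 12) (t : F) : OG F :=
  ![Y0 t, Y1 t, Y2 t, Y3 t, Y4 t, Y5 t, Y6 t, Y7 t, Y8 t, Y9 t, Y10 t, Y11 t] s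

/-- total version on `ℕ` -/
noncomputable def Yn (s : ℕ) (t : F) : OG F := if h : s < 12 then Y ⟨s, h⟩ t else 1

theorem Yn_of_lt {s : ℕ} (h : s < 12) (t : F) : Yn s t = Y ⟨s, h⟩ t := by
  unfold Yn; rw [dif_pos h]

theorem Yn_of_ge {s : ℕ} (h : 12 ≤ s) (t : F) : Yn s t = 1 := by
  unfold Yn; rw [dif_neg (by omega)]

theorem Yn_0 (t : F) : Yn 0 t = X 0 (-t) := by
  rw [Yn_of_lt (by norm_num : 0 < 12)]; rfl
theorem Yn_1 (t : F) : Yn 1 t = X 1 (-t) := by
  rw [Yn_of_lt (by norm_num : 1 < 12)]; rfl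
theorem Yn_2 (t : F) : Yn 2 t = X 2 (-t) * X 6 t * X 3 (-t) := by
  rw [Yn_of_lt (by norm_num : 2 < 12)]; rfl
theorem Yn_3 (t : F) : Yn 3 t = X 4 t * X 7 (-t) * X 8 (-t) := by
  rw [Yn_of_lt (by norm_num : 3 < 12)]; rfl
theorem Yn_4 (t : F) : Yn 4 t = X 5 t * X 10 t * X 11 t := by
  rw [Yn_of_lt (by norm_num : 4 < 12)]; rfl
theorem Yn_5 (t : F) : Yn 5 t = X 9 t := by
  rw [Yn_of_lt (by norm_num : 5 < 12)]; rfl
theorem Yn_6 (t : F) : Yn 6 t = X 14 t := by
  rw [Yn_of_lt (by norm_num : 6 < 12)]; rfl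
theorem Yn_7 (t : F) : Yn 7 t = X 12 t * X 18 t * X 13 t := by
  rw [Yn_of_lt (by norm_num : 7 < 12)]; rfl
theorem Yn_8 (t : F) : Yn 8 t = X 15 (-t) * X 19 t * X 16 (-t) := by
  rw [Yn_of_lt (by norm_num : 8 < 12)]; rfl
theorem Yn_9 (t : F) : Yn 9 t = X 17 t * X 20 (-t) * X 21 (-t) := by
  rw [Yn_of_lt (by norm_num : 9 < 12)]; rfl
theorem Yn_10 (t : F) : Yn 10 t = X 22 (-t) := by
  rw [Yn_of_lt (by norm_num : 10 < 12)]; rfl
theorem Yn_11 (t : F) : Yn 11 t = X 23 (-t) := by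
  rw [Yn_of_lt (by norm_num : 11 < 12)]; rfl

/-- product of a word of root elements (image of `stWord`) -/
noncomputable def wprodY (w : List (ℕ × F)) : OG F := (w.map fun p => Yn p.1 p.2).prod

theorem wprodY_nil : wprodY ([] : List (ℕ × F)) = 1 := rfl

theorem wprodY_cons (p : ℕ × F) (w : List (ℕ × F)) : wprodY (p :: w) = Yn p.1 p.2 * wprodY w := by
  unfold wprodY; rw [List.map_cons, List.prod_cons]

theorem wprodY_append (w₁ w₂ : List (ℕ × F)) : wprodY (w₁ ++ w₂) = wprodY w₁ * wprodY w₂ := by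
  unfold wprodY; rw [List.map_append, List.prod_append]

theorem Yn_mem_EE (s : ℕ) (t : F) : Yn s t ∈ EE F := by
  by_cases h : s < 12
  · interval_cases s
    · rw [Yn_0]; exact X_mem_EE _ _
    · rw [Yn_1]; exact X_mem_EE _ _
    · rw [Yn_2]; exact mul_mem (mul_mem (X_mem_EE _ _) (X_mem_EE _ _)) (X_mem_EE _ _)
    · rw [Yn_3]; exact mul_mem (mul_mem (X_mem_EE _ _) (X_mem_EE _ _)) (X_mem_EE _ _)
    · rw [Yn_4]; exact mul_mem (mul_mem (X_mem_EE _ _) (X_mem_EE _ _)) (X_mem_EE _ _)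
    · rw [Yn_5]; exact X_mem_EE _ _
    · rw [Yn_6]; exact X_mem_EE _ _
    · rw [Yn_7]; exact mul_mem (mul_mem (X_mem_EE _ _) (X_mem_EE _ _)) (X_mem_EE _ _)
    · rw [Yn_8]; exact mul_mem (mul_mem (X_mem_EE _ _) (X_mem_EE _ _)) (X_mem_EE _ _)
    · rw [Yn_9]; exact mul_mem (mul_mem (X_mem_EE _ _) (X_mem_EE _ _)) (X_mem_EE _ _)
    · rw [Yn_10]; exact X_mem_EE _ _
    · rw [Yn_11]; exact X_mem_EE _ _
  · rw [Yn_of_ge (by omega)]; exact one_mem _

theorem wprodY_mem_EE (w : List (ℕ × F)) : wprodY w ∈ EE F := by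
  unfold wprodY
  apply Subgroup.list_prod_mem
  intro g hg
  obtain ⟨p, -, rfl⟩ := List.mem_map.1 hg
  exact Yn_mem_EE _ _

/-- diagonal data of `h_s(t)` (`s` a root of `G₂`): the scalar on `e_1` (the scalar on `e_4` is `1`) -/
def hb1 (s : Fin 12) (t : F) : F := ![t⁻¹, t⁻¹, t⁻¹ * t⁻¹, t⁻¹, t⁻¹, 1, 1, t, t, t * t, t, t] s
/-- diagonal data of `h_s(t)` (`s` a root of `G₂`): the scalar on `e_2` (the scalar on `e_4` is `1`) -/
def hb2 (s : Fin 12) (t : F) : F := ![t⁻¹, 1, t⁻¹, t⁻¹ * t⁻¹, t, t⁻¹, t, t⁻¹, t * t, t, 1, t] s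
/-- diagonal data of `h_s(t)` (`s` a root of `G₂`): the scalar on `e_3` (the scalar on `e_4` is `1`) -/
def hb3 (s : Fin 12) (t : F) : F := ![1, t⁻¹, t⁻¹, t, t⁻¹ * t⁻¹, t, t⁻¹, t * t, t⁻¹, t, t, 1] s

/-- `g` stabilises the line `⟨e₁⟩` -/
def P1 (g : OG F) : Prop := ∃ c : F, c ≠ 0 ∧ act (Q8 F) g ve1 = c • ve1

end Cfsg.Agent.Lib.Helper37.Gt
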