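import Cfsg.Agent.Lib.Helper36.ChevTwD4
import Cfsg.Prelude.Def_Steinberg

/-! # S2734 hive "Gt" (helper37): definitions on the Chevalley-group side (`D₄(F) ≤ GL₂₈(F)`)

`yGL s t` (`s < 12` a root index of `chevG2`): the product of root elements of `chevD4.group F` over the triality orbit
folding to `s` — the image of `Gt.Yn s t` (file `GtDefs`) under `X r t ↦ x_r(t)`. -/

set_option autoImplicit false

namespace Cfsg.Agent.Lib.Helper37.Gt

open Cfsg Cfsg.Lie Cfsg.Agent.Lib.Helper36

/-- for each root `s` of `G₂`: the `D₄`-roots of the orbit folding to `s`, with the signs of `Gt.Y s` -/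
def gtTab : List (List (ℕ × ℤ)) :=
  [[(0, -1)], [(1, -1)], [(2, -1), (6, 1), (3, -1)], [(4, 1), (7, -1), (8, -1)], [(5, 1), (10, 1), (11, 1)], [(9, 1)],
    [(14, 1)], [(12, 1), (18, 1), (13, 1)], [(15, -1), (19, 1), (16, -1)], [(17, 1), (20, -1), (21, -1)], [(22, -1)],
    [(23, -1)]]

variable (F : Type*) [Field F]

/-- the word of `D₄`-root elements representing `x_s(t)`, `s` a root of `G₂` -/
def yWord (s : ℕ) (t : F) : List (ℕ × F) := (gtTab.getD s []).map fun p => (p.1, ((p.2 : ℤ) : F) * t)

/-- the root element `x_s(t)` of `G₂` inside `D₄(F)` -/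
def yGL (s : ℕ) (t : F) : GL chevD4.Idx F := wordGL chevD4 hD4 F (yWord F s t)

/-- the triality automorphism `σ` (graph automorphism, trivial field part) of `GL₂₈(F)` -/
noncomputable abbrev sig : GL chevD4.Idx F →* GL chevD4.Idx F :=
  sigma chevD4 graphD4 graphOK_D4 F (RingHom.id F)

/-- the group generated by the `σ`-fixed points of the fundamental orbit root subgroups -/
abbrev twG : Subgroup (GL chevD4.Idx F) := twGroup chevD4 hD4 graphD4 F (RingHom.id F) fundD4

/-- the subgroup of the presented group generated by the positive root elements and the `ĥ_s(t)` -/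
def Bhat (F : Type*) [Field F] : Subgroup (chevG2.SteinbergGroup F) :=
  Subgroup.closure ({x | ∃ s, 6 ≤ s ∧ s < 12 ∧ ∃ t : F, x = chevG2.stGen F s t} ∪
    {x | ∃ s < 12, ∃ t : F, t ≠ 0 ∧ x = PresentedGroup.mk (chevG2.steinbergRels F) (chevG2.stH s t)})

end Cfsg.Agent.Lib.Helper37.Gt
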