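import Cfsg.Agent.Lib.Helper37.GtDefs
import Cfsg.Agent.Lib.Helper37.GtDefs2
import Cfsg.Agent.Lib.Helper27.Gt_STABGRP
import Cfsg.Agent.Lib.Helper9.Gt_STABPOS
import Cfsg.Agent.Lib.Helper48.Gt_STABNEG
import Cfsg.Agent.Lib.Helper48.Gt_STABZ
import Cfsg.Agent.Lib.Helper55.Gt_TITS
import Cfsg.Agent.Lib.Helper99.Gt_BHAT
import Cfsg.Agent.S1077
import Cfsg.Agent.S1078

/-! # S2734 hive "Gt" (helper37), leaf GT-INJ: `Θ = e ∘ ψ` is injective -/

set_option autoImplicit false
set_option linter.unusedSectionVars false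
set_option linter.unusedVariables false

namespace Cfsg.Agent.Lib.Helper37.Gt

open Matrix Module QuadraticMap
open Cfsg Cfsg.Lie Cfsg.Agent.Lib.Helper36
open Cfsg.Agent.Lib.Helper8 Cfsg.Agent.Lib.Helper13 Cfsg.Agent.Lib.Helper37 Cfsg.Agent.Lib.Helper37.D4O8

variable {F : Type*} [Field F]

theorem inj_psi_stWord (ψ : chevG2.SteinbergGroup F →* ↥(EE F))
    (hψ : ∀ (s : ℕ) (t : F), ((ψ (chevG2.stGen F s t) : ↥(EE F)) : OG F) = Yn s t) (w : List (ℕ × F)) :
    ((ψ (PresentedGroup.mk (chevG2.steinbergRels F) (chevG2.stWord w)) : ↥(EE F)) : OG F) = wprodY w := by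
  induction w with
  | nil =>
    have : chevG2.stWord ([] : List (ℕ × F)) = 1 := rfl
    rw [this, map_one, map_one]; rfl
  | cons p w ih =>
    have : chevG2.stWord (p :: w) = chevG2.stX p.1 p.2 * chevG2.stWord w := by
      unfold ChevalleyDatum.stWord; rw [List.map_cons, List.prod_cons]
    rw [this, map_mul, map_mul, Subgroup.coe_mul, ih, wprodY_cons]
    congr 1
    exact hψ p.1 p.2

theorem Theta_injective (ψ : chevG2.SteinbergGroup F →* ↥(EE F))
    (hψ : ∀ (s : ℕ) (t : F), ((ψ (chevG2.stGen F s t) : ↥(EE F)) : OG F) = Yn s t)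
    (e : ↥(EE F) →* ↥(chevD4.group F)) (he : ∀ z, e z = 1 → z ∈ Subgroup.center ↥(EE F)) :
    Function.Injective (e.comp ψ) := by
  classical
  obtain ⟨θ, hθs, hθk, hθx⟩ := Cfsg.Agent.S1077.result (K := F) Cfsg.Lie.chevG2 (by simp)
  have hθi : Function.Injective θ := by
    rw [← MonoidHom.ker_eq_bot_iff, hθk]
    exact Cfsg.Agent.S1078.result (K := F) Cfsg.Lie.chevG2 (by simp)
  rw [← MonoidHom.ker_eq_bot_iff]
  set Θ := e.comp ψ with hΘ
  have hN : (Θ.ker.map θ).Normal := Subgroup.Normal.map inferInstance θ hθs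
  rcases g2_normal_dichotomy (Θ.ker.map θ) with h | h
  · rw [eq_bot_iff]
    intro k hk
    have h1 : θ k ∈ Θ.ker.map θ := Subgroup.mem_map_of_mem θ hk
    rw [h, Subgroup.mem_bot] at h1
    exact Subgroup.mem_bot.2 (hθi (h1.trans (map_one θ).symm))
  · exfalso
    set x := chevG2.stGen F 4 1 with hx
    have hmem : θ x ∈ ((Θ.ker.map θ ⊔ (chevG2.borelSubgroup F).subgroupOf (chevG2.group F) :
        Subgroup ↥(chevG2.group F)) : Set ↥(chevG2.group F)) := by rw [h]; trivial
    rw [Subgroup.normal_mul] at hmem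
    obtain ⟨n, hn, b, hb, hnb⟩ := Set.mem_mul.1 hmem
    obtain ⟨k, hk, rfl⟩ := hn
    set y := k⁻¹ * x with hy
    have hθy : θ y = b := by rw [hy, map_mul, map_inv, ← hnb]; group
    have hyB : y ∈ Bhat F := by
      apply mem_Bhat θ hθi (fun r t hr => hθx r t hr) y
      rw [hθy]
      exact Subgroup.mem_subgroupOf.1 hb
    have key : ∀ g ∈ Bhat F, P1 ((ψ g : ↥(EE F)) : OG F) := by
      intro g hg
      unfold Bhat at hg
      induction hg using Subgroup.closure_induction with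
      | mem g hg =>
        rcases hg with ⟨s, hs6, -, t, rfl⟩ | ⟨s, hs, t, ht, rfl⟩
        · rw [hψ]; exact P1_Yn_pos s hs6 t
        · have : chevG2.stH s t = chevG2.stWord (chevG2.hWord s t) := rfl
          rw [this, inj_psi_stWord ψ hψ]
          exact P1_hY s hs t ht
      | one => rw [map_one]; exact P1_one
      | mul g g' _ _ hg hg' => rw [map_mul]; exact P1_mul _ _ hg hg'
      | inv g _ hg => rw [map_inv]; exact P1_inv _ hg
    have hP : P1 ((ψ y : ↥(EE F)) : OG F) := key y hyB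
    have hΘxy : Θ x = Θ y := by
      have : x = k * y := by rw [hy]; group
      rw [this, map_mul, MonoidHom.mem_ker.1 hk, one_mul]
    have hz : ψ x * (ψ y)⁻¹ ∈ Subgroup.center ↥(EE F) := by
      apply he
      rw [map_mul, map_inv, mul_inv_eq_one]
      exact hΘxy
    have hPz := P1_center _ hz
    have hPx : P1 ((ψ x : ↥(EE F)) : OG F) := by
      have : ψ x = (ψ x * (ψ y)⁻¹) * ψ y := by group
      rw [this]
      exact P1_mul _ _ hPz hP
    rw [hx, hψ] at hPx
    exact not_P1_Yn4 hPx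

end Cfsg.Agent.Lib.Helper37.Gt
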