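import Cfsg.Agent.Lib.Helper25.Gt_REL2_0
import Cfsg.Agent.Lib.Helper25.Gt_REL2_1
import Cfsg.Agent.Lib.Helper25.Gt_REL2_2
import Cfsg.Agent.Lib.Helper25.Gt_REL2_3
import Cfsg.Agent.Lib.Helper25.Gt_REL2_4
import Cfsg.Agent.Lib.Helper25.Gt_REL2_5
import Cfsg.Agent.Lib.Helper25.Gt_REL2_6
import Cfsg.Agent.Lib.Helper25.Gt_REL2_7
import Cfsg.Agent.Lib.Helper25.Gt_REL2_8
import Cfsg.Agent.Lib.Helper25.Gt_REL2_9
import Cfsg.Agent.Lib.Helper25.Gt_REL2_10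
import Cfsg.Agent.Lib.Helper25.Gt_REL2_11

/-! # S2734 hive "Gt" (helper37): glue of the twelve GT-REL2 leaves -/

set_option autoImplicit false
set_option linter.unusedSectionVars false
set_option linter.unusedVariables false

namespace Cfsg.Agent.Lib.Helper37.Gt

open Matrix Module QuadraticMap
open Cfsg.Agent.Lib.Helper8 Cfsg.Agent.Lib.Helper13 Cfsg.Agent.Lib.Helper37 Cfsg.Agent.Lib.Helper37.D4O8

variable {F : Type*} [Field F]

theorem rel2 (r s : ℕ) (hr : r < 12) (hs : s < 12) (h1 : s ≠ r) (h2 : s ≠ 11 - r) (t u : F) :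
    (Yn s u)⁻¹ * (Yn r t)⁻¹ * Yn s u * Yn r t = wprodY (Cfsg.Lie.chevG2.commWord F r s t u) := by
  interval_cases r
  · exact rel2_0 s hs h1 h2 t u
  · exact rel2_1 s hs h1 h2 t u
  · exact rel2_2 s hs h1 h2 t u
  · exact rel2_3 s hs h1 h2 t u
  · exact rel2_4 s hs h1 h2 t u
  · exact rel2_5 s hs h1 h2 t u
  · exact rel2_6 s hs h1 h2 t u
  · exact rel2_7 s hs h1 h2 t u
  · exact rel2_8 s hs h1 h2 t u
  · exact rel2_9 s hs h1 h2 t u
  · exact rel2_10 s hs h1 h2 t u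
  · exact rel2_11 s hs h1 h2 t u

end Cfsg.Agent.Lib.Helper37.Gt
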