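import Cfsg.Agent.Lib.Helper37.GtDefs
import Cfsg.Agent.Lib.Helper37.Gt_REL2
import Cfsg.Agent.Lib.Helper97.Gt_R1
import Cfsg.Agent.Lib.Helper69.Gt_REL3

/-! # Gt hive (S2734): leaf GT-PSI (helper37; clone of Do_PSIb) -/

set_option autoImplicit false
set_option linter.unusedSectionVars false
set_option linter.unusedVariables false

namespace Cfsg.Agent.Lib.Helper37.Gt

open Matrix Module QuadraticMap Cfsg.Lie
open Cfsg.Agent.Lib.Helper8 Cfsg.Agent.Lib.Helper13 Cfsg.Agent.Lib.Helper37 Cfsg.Agent.Lib.Helper37.D4O8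

variable {F : Type*} [Field F]

/-- the images of the free generators -/
noncomputable def psib_gen (p : Fin chevG2.nroots × F) : OG F := Yn (p.1 : ℕ) p.2

theorem psib_lift_stX (r : ℕ) (t : F) :
    FreeGroup.lift (psib_gen (F := F)) (chevG2.stX r t) = Yn r t := by
  unfold ChevalleyDatum.stX
  split_ifs with h
  · rw [FreeGroup.lift_apply_of]; rfl
  · rw [map_one]
    unfold Yn
    rw [dif_neg]
    exact h

theorem psib_lift_stWord (w : List (ℕ × F)) :
    FreeGroup.lift (psib_gen (F := F)) (chevG2.stWord w) = wprodY w := by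
  unfold ChevalleyDatum.stWord wprodY
  induction w with
  | nil => simp
  | cons p w ih =>
    rw [List.map_cons, List.prod_cons, map_mul, ih, psib_lift_stX, List.map_cons, List.prod_cons]

theorem psib_neg (r : ℕ) (hr : r < 12) : chevG2.neg r = 11 - r := by
  interval_cases r <;> decide

/-- GT-PSI -/
theorem exists_psi : ∃ ψ : Cfsg.Lie.chevG2.SteinbergGroup F →* OG F,
    ∀ (r : ℕ) (t : F), ψ (Cfsg.Lie.chevG2.stGen F r t) = Yn r t := by
  have hrel : ∀ r ∈ chevG2.steinbergRels F, FreeGroup.lift (psib_gen (F := F)) r = 1 := by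
    rintro _ ((⟨r, t₁, t₂, -, rfl⟩ | ⟨r, s, t, u, hr, hs, hsr, hsn, rfl⟩) | ⟨r, t₁, t₂, hr, h1, h2, rfl⟩)
    · rw [map_mul, map_mul, map_inv, psib_lift_stX, psib_lift_stX, psib_lift_stX, mul_inv_eq_one]
      exact Yn_add r t₁ t₂
    · simp only [map_mul, map_inv, psib_lift_stX, psib_lift_stWord]
      rw [mul_inv_eq_one]
      have hr' : r < 12 := hr
      exact rel2 r s hr' hs hsr (by rw [← psib_neg r hr']; exact hsn) t u
    · unfold ChevalleyDatum.stH
      simp only [map_mul, map_inv, psib_lift_stWord]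
      rw [mul_inv_eq_one]
      exact rel3 r hr t₁ t₂ h1 h2
  refine ⟨PresentedGroup.toGroup hrel, ?_⟩
  intro r t
  show (PresentedGroup.toGroup hrel) (PresentedGroup.mk _ (chevG2.stX r t)) = Yn r t
  rw [← psib_lift_stX r t]
  rfl

end Cfsg.Agent.Lib.Helper37.Gt
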