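import Cfsg.Agent.Lib.Helper37.GtDefs
import Cfsg.Agent.Lib.Helper37.GtDefs2
import Cfsg.Agent.Lib.Helper37.D4O8Main
import Cfsg.Agent.Lib.Helper37.Gt_INJ
import Cfsg.Agent.Lib.Helper24.Gt_EFAC
import Cfsg.Agent.Lib.Helper99.Gt_GEN
import Cfsg.Agent.Lib.Helper65.Gt_SIG
import Cfsg.Agent.Lib.Helper65.Gt_TWG
import Cfsg.Agent.Lib.Helper36.ChevTwFixD4
import Cfsg.Agent.Lib.Helper37.Gt_PSIb
import Cfsg.Agent.Lib.Helper88.Gt_YGL
import Cfsg.Agent.Lib.Helper36.Gt_TAU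
import Cfsg.Agent.S1077
import Cfsg.Agent.S1078
import Cfsg.Agent.S1054

/-! # S2734 hive "Gt" (helper37): `C_{D₄(F)}(triality) ≅ G₂(F)`, `F` finite — assembly

Leaves: helper24 (EFAC), helper25 (REL2 ×12), helper27 (STAB-GRP), helper32 (HDIAG-c), helper36 (FIX, TAU), helper48 (STAB-NEG,
STAB-Z), helper55 (TITS), helper65 (SIG, TWG), helper69 (REL3), helper84 (PSI), helper88 (YGL), helper9 (HDIAG-b, STAB-POS),
helper97 (R1, HDIAG-a), helper99 (GEN, BHAT). -/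

set_option autoImplicit false
set_option linter.unusedSectionVars false
set_option linter.unusedVariables false

namespace Cfsg.Agent.Lib.Helper37.Gt

open Matrix Module QuadraticMap
open Cfsg Cfsg.Lie Cfsg.Agent.Lib.Helper36
open Cfsg.Agent.Lib.Helper8 Cfsg.Agent.Lib.Helper13 Cfsg.Agent.Lib.Helper37 Cfsg.Agent.Lib.Helper37.D4O8

variable {F : Type*} [Field F]

/-- GT-FIX (helper36: `fixed_mem_twGroup_D4`, general in `φ`) -/
theorem fix_le_twG [Fintype F] (g : GL chevD4.Idx F) (hg : g ∈ chevD4.group F) (hσ : sig F g = g) : g ∈ twG F :=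
  fixed_mem_twGroup_D4 F (RingHom.id F) g hg hσ

/-- assembly (helper37) -/
theorem exists_e : ∃ e : ↥(EE F) →* ↥(chevD4.group F),
    (∀ (r : Fin 24) (t : F), ((e ⟨X r t, X_mem_EE r t⟩ : ↥(chevD4.group F)) : GL chevD4.Idx F) = xGL chevD4 hD4 F r t) ∧
      ∀ z, e z = 1 → z ∈ Subgroup.center ↥(EE F) := by
  obtain ⟨θ, hθ, hker, hθx⟩ := Cfsg.Agent.S1077.result (K := F) Cfsg.Lie.chevD4 (by simp)
  obtain ⟨ψ, hψ⟩ := D4O8.exists_psi (F := F)
  have hr : ψ.range = EE F := D4O8.psi_range ψ hψ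
  let ψ' : Cfsg.Lie.chevD4.SteinbergGroup F →* ↥(EE F) :=
    ψ.codRestrict _ (fun x => by rw [← hr]; exact ⟨x, rfl⟩)
  have hψ' : Function.Surjective ψ' := by
    rintro ⟨y, hy⟩
    rw [← hr] at hy
    obtain ⟨x, rfl⟩ := hy
    exact ⟨x, rfl⟩
  obtain ⟨a, ha, b, hb, hab⟩ := D4O8.EE_noncomm (F := F)
  obtain ⟨e, he1, he2⟩ := exists_factor θ hθ hker
    (Cfsg.Agent.S1054.result (F := F) Cfsg.Lie.chevD4 (by simp)).1 ψ' hψ'
    ⟨⟨a, ha⟩, ⟨b, hb⟩, fun h => hab (congrArg Subtype.val h)⟩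
  refine ⟨e, ?_, he2⟩
  intro r t
  have h1 : (⟨X r t, X_mem_EE r t⟩ : ↥(EE F)) = ψ' (Cfsg.Lie.chevD4.stGen F r t) := by
    apply Subtype.ext
    show X r t = ψ (Cfsg.Lie.chevD4.stGen F r t)
    rw [hψ, Xn_of_lt r.isLt]
  rw [h1, he1]
  apply Units.ext
  rw [hθx r t r.isLt, xGL_coe]


theorem main [Fintype F] (τ : MulAut ↥(chevD4.group F)) (hτ : chevD4.IsGraphAut τ) (hτ3 : orderOf τ = 3) :
    Nonempty (↥(MonoidHom.eqLocus τ.toMonoidHom (MonoidHom.id ↥(chevD4.group F))) ≃* ↥(chevG2.group F)) := by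
  classical
  -- the isomorphism `St(G₂) ≅ G₂(F)`
  obtain ⟨θ, hθs, hθk, hθx⟩ := Cfsg.Agent.S1077.result (K := F) Cfsg.Lie.chevG2 (by simp)
  have hθi : Function.Injective θ := by
    rw [← MonoidHom.ker_eq_bot_iff, hθk]
    exact Cfsg.Agent.S1078.result (K := F) Cfsg.Lie.chevG2 (by simp)
  -- `ψ` and `e`
  obtain ⟨ψ₀, hψ₀⟩ := exists_psi (F := F)
  have hrange : ∀ x, ψ₀ x ∈ EE F := by
    intro x
    have hx : x ∈ Subgroup.closure {x : Cfsg.Lie.chevG2.SteinbergGroup F |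
        ∃ s < 12, ∃ t : F, x = Cfsg.Lie.chevG2.stGen F s t} := by rw [st_closure]; trivial
    induction hx using Subgroup.closure_induction with
    | mem x hx =>
      obtain ⟨s, -, t, rfl⟩ := hx
      rw [hψ₀]; exact Yn_mem_EE s t
    | one => rw [map_one]; exact one_mem _
    | mul x y _ _ hx hy => rw [map_mul]; exact mul_mem hx hy
    | inv x _ hx => rw [map_inv]; exact inv_mem hx
  let ψ : Cfsg.Lie.chevG2.SteinbergGroup F →* ↥(EE F) := ψ₀.codRestrict _ hrange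
  have hψ : ∀ (s : ℕ) (t : F), ((ψ (chevG2.stGen F s t) : ↥(EE F)) : OG F) = Yn s t := fun s t => hψ₀ s t
  obtain ⟨e, he1, he2⟩ := exists_e (F := F)
  set Θ : Cfsg.Lie.chevG2.SteinbergGroup F →* ↥(chevD4.group F) := e.comp ψ with hΘ
  have hΘi : Function.Injective Θ := Theta_injective ψ hψ e he2
  have hΘx : ∀ s < 12, ∀ t : F, ((Θ (chevG2.stGen F s t) : ↥(chevD4.group F)) : GL chevD4.Idx F) = yGL F s t := by
    intro s hs t
    have h1 : ψ (chevG2.stGen F s t) = ⟨Yn s t, Yn_mem_EE s t⟩ := Subtype.ext (hψ s t)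
    rw [hΘ, MonoidHom.comp_apply, h1]
    exact e_Yn e he1 s hs t
  -- the range of `Θ` is the fixed-point group
  have hfix : ∀ g : ↥(chevD4.group F), g ∈ Θ.range ↔ sig F (g : GL chevD4.Idx F) = g := by
    intro g
    constructor
    · rintro ⟨x, rfl⟩
      have hx : x ∈ Subgroup.closure {x : Cfsg.Lie.chevG2.SteinbergGroup F |
          ∃ s < 12, ∃ t : F, x = Cfsg.Lie.chevG2.stGen F s t} := by rw [st_closure]; trivial
      induction hx using Subgroup.closure_induction with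
      | mem x hx =>
        obtain ⟨s, hs, t, rfl⟩ := hx
        rw [hΘx s hs t]; exact sig_yGL s hs t
      | one => rw [map_one]; exact map_one _
      | mul x y _ _ hx hy =>
        rw [map_mul, Subgroup.coe_mul, map_mul, hx, hy]
      | inv x _ hx =>
        rw [map_inv, Subgroup.coe_inv, map_inv, hx]
    · intro hg
      have h1 : (g : GL chevD4.Idx F) ∈ twG F := fix_le_twG _ g.2 hg
      have h2 : twG F ≤ Θ.range.map (chevD4.group F).subtype := by
        apply twG_le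
        intro s hs t
        exact ⟨Θ (chevG2.stGen F s t), ⟨_, rfl⟩, hΘx s hs t⟩
      obtain ⟨g', hg', e'⟩ := h2 h1
      have : g' = g := Subtype.ext e'
      rwa [this] at hg'
  have heq : MonoidHom.eqLocus τ.toMonoidHom (MonoidHom.id ↥(chevD4.group F)) = Θ.range := by
    ext g
    rw [hfix g, ← tau_fix_iff τ hτ hτ3 g]
    rfl
  -- compose
  have e1 : ↥(MonoidHom.eqLocus τ.toMonoidHom (MonoidHom.id ↥(chevD4.group F))) ≃* ↥Θ.range :=
    MulEquiv.subgroupCongr heq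
  have e2 : Cfsg.Lie.chevG2.SteinbergGroup F ≃* ↥Θ.range := MonoidHom.ofInjective hΘi
  have e3 : Cfsg.Lie.chevG2.SteinbergGroup F ≃* ↥(chevG2.group F) := MulEquiv.ofBijective θ ⟨hθi, hθs⟩
  exact ⟨e1.trans (e2.symm.trans e3)⟩


end Cfsg.Agent.Lib.Helper37.Gt
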