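import Cfsg.Agent.Lib.Helper97.Gt_HDIAG_a
import Cfsg.Agent.Lib.Helper9.Gt_HDIAG_b
import Cfsg.Agent.Lib.Helper32.Gt_HDIAG_c

/-! # S2734 hive "Gt" (helper37): glue of the three GT-HDIAG leaves -/

set_option autoImplicit false
set_option linter.unusedSectionVars false
set_option linter.unusedVariables false

namespace Cfsg.Agent.Lib.Helper37.Gt

open Matrix Module QuadraticMap
open Cfsg.Agent.Lib.Helper8 Cfsg.Agent.Lib.Helper13 Cfsg.Agent.Lib.Helper37 Cfsg.Agent.Lib.Helper37.D4O8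

variable {F : Type*} [Field F]

theorem act_HY (s : Fin 12) (t : F) (ht : t ≠ 0) (x : I8 → F) :
    act (Q8 F) (wprodY (Cfsg.Lie.chevG2.hWord (s : ℕ) t)) x =
      mk8 (hb1 s t * ca1 x) (hb2 s t * ca2 x) (hb3 s t * ca3 x) (ca4 x)
        ((hb1 s t)⁻¹ * cb1 x) ((hb2 s t)⁻¹ * cb2 x) ((hb3 s t)⁻¹ * cb3 x) (cb4 x) := by
  by_cases h1 : s.val < 4
  · exact act_HY_a s h1 t ht x
  · by_cases h2 : s.val < 8
    · exact act_HY_b s (by omega) h2 t ht x
    · exact act_HY_c s (by omega) t ht x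

end Cfsg.Agent.Lib.Helper37.Gt
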