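import Mathlib

set_option autoImplicit false

namespace Cfsg.Agent.Lib.Helper37

/-- a subgroup of index two contains the commutator subgroup -/
theorem commutator_le_of_index_two {G : Type*} [Group G] (H : Subgroup G) (hH : H.index = 2) :
    commutator G ≤ H := by
  haveI := Subgroup.normal_of_index_eq_two hH
  have hcard : Nat.card (G ⧸ H) = 2 := hH
  haveI : Fact (Nat.Prime 2) := ⟨Nat.prime_two⟩
  haveI : IsCyclic (G ⧸ H) := isCyclic_of_prime_card hcard
  letI : CommGroup (G ⧸ H) := IsCyclic.commGroup
  have := Abelianization.commutator_subset_ker (QuotientGroup.mk' H)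
  rwa [QuotientGroup.ker_mk'] at this

theorem klein_mul_self (x : ℤˣ × ℤˣ) : x * x = 1 := by
  revert x; decide

theorem klein_zpow (x : ℤˣ × ℤˣ) (k : ℤ) : x ^ k = 1 ∨ x ^ k = x := by
  have h2 : x ^ (2 : ℤ) = 1 := by
    rw [zpow_ofNat, pow_two]; exact klein_mul_self x
  rcases Int.even_or_odd' k with ⟨j, rfl | rfl⟩
  · left
    rw [zpow_mul, h2, one_zpow]
  · right
    rw [zpow_add, zpow_mul, h2, one_zpow, one_mul, zpow_one]

theorem klein_card_zpowers (x : ℤˣ × ℤˣ) (hx : x ≠ 1) : Nat.card (Subgroup.zpowers x) = 2 := by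
  rw [Nat.card_zpowers]
  exact orderOf_eq_prime (by rw [pow_two]; exact klein_mul_self x) hx

theorem klein_card : Nat.card (ℤˣ × ℤˣ) = 4 := by
  rw [Nat.card_eq_fintype_card, Fintype.card_prod, Fintype.card_units_int]

/-- the Klein four group has exactly three subgroups of index two -/
theorem card_index_two_klein :
    Nat.card {K : Subgroup (ℤˣ × ℤˣ) // K.index = 2} = 3 := by
  have hidx : ∀ K : Subgroup (ℤˣ × ℤˣ), K.index = 2 ↔ Nat.card K = 2 := by
    intro K
    have := Subgroup.card_mul_index K
    rw [klein_card] at this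
    constructor
    · intro h; rw [h] at this; omega
    · intro h; rw [h] at this; omega
  let f : {x : ℤˣ × ℤˣ // x ≠ 1} → {K : Subgroup (ℤˣ × ℤˣ) // K.index = 2} := fun x =>
    ⟨Subgroup.zpowers x.1, (hidx _).mpr (klein_card_zpowers x.1 x.2)⟩
  have hinj : Function.Injective f := by
    intro x y hxy
    have h1 : Subgroup.zpowers x.1 = Subgroup.zpowers y.1 := congrArg Subtype.val hxy
    have h2 : y.1 ∈ Subgroup.zpowers x.1 := by
      rw [h1]; exact Subgroup.mem_zpowers _
    obtain ⟨k, hk⟩ := Subgroup.mem_zpowers_iff.mp h2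
    apply Subtype.ext
    rcases klein_zpow x.1 k with h3 | h3
    · rw [h3] at hk
      exact absurd hk.symm y.2
    · rw [h3] at hk
      exact hk
  have hsurj : Function.Surjective f := by
    rintro ⟨K, hK⟩
    have hcard := (hidx K).mp hK
    have hne : K ≠ ⊥ := by
      rintro rfl
      rw [Subgroup.card_bot] at hcard
      omega
    obtain ⟨a, ha⟩ := (Subgroup.ne_bot_iff_exists_ne_one).mp hne
    have ha' : (a : ℤˣ × ℤˣ) ≠ 1 := fun h => ha (Subtype.ext h)
    refine ⟨⟨a.1, ha'⟩, ?_⟩
    apply Subtype.ext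
    show Subgroup.zpowers a.1 = K
    apply Subgroup.eq_of_le_of_card_ge
    · rw [Subgroup.zpowers_le]; exact a.2
    · rw [hcard, klein_card_zpowers a.1 ha']
  rw [← Nat.card_congr (Equiv.ofBijective f ⟨hinj, hsurj⟩)]
  rw [Nat.card_eq_fintype_card]
  decide

/-- a group with a surjection onto the Klein four group whose kernel is the commutator subgroup
has exactly three subgroups of index two -/
theorem card_index_two_of_surjective {G : Type*} [Group G] (Φ : G →* ℤˣ × ℤˣ)
    (hsurj : Function.Surjective Φ) (hker : Φ.ker = commutator G) :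
    Nat.card {H : Subgroup G // H.index = 2} = 3 := by
  rw [← card_index_two_klein]
  apply Nat.card_congr
  exact {
    toFun := fun H => ⟨H.1.map Φ, by
      rw [Subgroup.index_map_eq H.1 hsurj (hker ▸ commutator_le_of_index_two H.1 H.2)]
      exact H.2⟩
    invFun := fun K => ⟨K.1.comap Φ, by
      rw [Subgroup.index_comap_of_surjective K.1 hsurj]; exact K.2⟩
    left_inv := fun H => Subtype.ext
      (Subgroup.comap_map_eq_self (hker ▸ commutator_le_of_index_two H.1 H.2))
    right_inv := fun K => Subtype.ext (Subgroup.map_comap_eq_self_of_surjective hsurj K.1) }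

end Cfsg.Agent.Lib.Helper37
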