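import Mathlib

set_option autoImplicit false

namespace Cfsg.Agent.Lib.Helper37

open scoped Pointwise

/-- Iwasawa's criterion in subgroup form: `H` maximal, `A ≤ H` commutative and normalised by
`H`, the conjugates of `A` generate `G`, `G` perfect; then every normal subgroup lies in `H`
or is everything. -/
theorem iwasawa_subgroup {G : Type*} [Group G] (H A : Subgroup G) (hmax : IsCoatom H)
    (hAcomm : IsMulCommutative A) (hnorm : ∀ h ∈ H, ∀ a ∈ A, h * a * h⁻¹ ∈ A)
    (hgen : Subgroup.normalClosure (A : Set G) = ⊤) (hperf : commutator G = ⊤)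
    (N : Subgroup G) [hN : N.Normal] : N ≤ H ∨ N = ⊤ := by
  by_cases hNH : N ≤ H
  · exact Or.inl hNH
  right
  have hsup : N ⊔ H = ⊤ := by
    apply hmax.2
    rw [lt_iff_le_and_ne]
    refine ⟨le_sup_right, fun h => hNH ?_⟩
    rw [h]
    exact le_sup_left
  have hNA : N ⊔ A = ⊤ := by
    rw [eq_top_iff, ← hgen, Subgroup.normalClosure]
    rw [Subgroup.closure_le]
    intro x hx
    rw [Group.mem_conjugatesOfSet_iff] at hx
    obtain ⟨a, haA, hconj⟩ := hx
    rw [isConj_iff] at hconj
    obtain ⟨g, rfl⟩ := hconj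
    have hg : g ∈ (↑(N ⊔ H) : Set G) := by rw [hsup]; trivial
    rw [Subgroup.normal_mul] at hg
    obtain ⟨n, hn, h, hh, rfl⟩ := hg
    have h1 : h * a * h⁻¹ ∈ A := hnorm h hh a haA
    have h2 : n * h * a * (n * h)⁻¹ = n * (h * a * h⁻¹) * n⁻¹ := by group
    rw [SetLike.mem_coe, h2]
    exact Subgroup.mul_mem _ (Subgroup.mul_mem _ (Subgroup.mem_sup_left hn)
      (Subgroup.mem_sup_right h1)) (Subgroup.inv_mem _ (Subgroup.mem_sup_left hn))
  have := hN.commutator_le_of_self_sup_commutative_eq_top hNA hAcomm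
  rw [hperf] at this
  exact top_le_iff.mp this

/-- a normal subgroup contained in `H` is contained in every conjugate of `H` -/
theorem normal_le_conj {G : Type*} [Group G] (H N : Subgroup G) [hN : N.Normal] (hNH : N ≤ H)
    (g : G) (n : G) (hn : n ∈ N) : g⁻¹ * n * g ∈ H := by
  apply hNH
  have := hN.conj_mem n hn g⁻¹
  rwa [inv_inv] at this

end Cfsg.Agent.Lib.Helper37
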