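import Cfsg.Agent.Lib.Helper37.GraphInvMinus
import Cfsg.Agent.Lib.Helper37.MBalDefs
import Cfsg.Agent.Lib.Helper5.BalE

set_option autoImplicit false
set_option linter.unusedSectionVars false
set_option linter.unusedVariables false

/-!
# S2733: glue for the graph involutions, part 1 (definitions, `fix`, `norm`, trivial centre)
-/

namespace Cfsg.Agent.Lib.Helper37.MBal

open Matrix Module QuadraticMap
open Cfsg.Agent.Lib.Helper37 Cfsg.Agent.Lib.Helper37.OrthField Cfsg.Agent.Lib.Helper8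
open Cfsg.Agent.Lib.Helper37.IsGram

universe u

variable {κ : Type} [Fintype κ] [DecidableEq κ] {F : Type u} [Field F]

/-- matrices as linear equivalences -/
noncomputable def toLE : GL κ F ≃* ((κ → F) ≃ₗ[F] (κ → F)) :=
  Matrix.GeneralLinearGroup.toLin.trans (LinearMap.GeneralLinearGroup.generalLinearEquiv F (κ → F))

theorem toLE_apply (A : GL κ F) (v : κ → F) : toLE A v = (A : Matrix κ κ F) *ᵥ v := rfl

theorem finite_linearEquiv [Finite F] : Finite ((κ → F) ≃ₗ[F] (κ → F)) :=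
  Finite.of_injective (fun e => (e : (κ → F) → (κ → F))) DFunLike.coe_injective

/-- the embedding of `Ω` in the linear equivalences -/
noncomputable def embO (Q : (κ → F) → F) : ↥(Cfsg.Omega F Q) →* ((κ → F) ≃ₗ[F] (κ → F)) :=
  (toLE (κ := κ) (F := F)).toMonoidHom.comp
    ((Cfsg.isometryGroup F Q).subtype.comp (Cfsg.Omega F Q).subtype)

theorem embO_apply (Q : (κ → F) → F) (s : ↥(Cfsg.Omega F Q)) (v : κ → F) :
    embO Q s v = ((s.1.1 : GL κ F) : Matrix κ κ F) *ᵥ v := rfl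

theorem embO_injective (Q : (κ → F) → F) : Function.Injective (embO Q) := by
  intro a b hab
  have h1 : (a.1.1 : GL κ F) = b.1.1 := toLE.injective hab
  exact Subtype.ext (Subtype.ext h1)

/-- the centralizer in `Ω` of a similarity -/
def cOm (Q : (κ → F) → F) (g : ↥(Cfsg.Geo.quadSimilarityGroup (F := F) Q)) :
    Subgroup ↥(Cfsg.Omega F Q) where
  carrier := {s | g.1 * s.1.1 * g.1⁻¹ = s.1.1}
  one_mem' := by
    show g.1 * (1 : GL κ F) * g.1⁻¹ = 1
    group
  mul_mem' := by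
    intro a b ha hb
    show g.1 * (a.1.1 * b.1.1) * g.1⁻¹ = a.1.1 * b.1.1
    have ha' : g.1 * a.1.1 * g.1⁻¹ = a.1.1 := ha
    have hb' : g.1 * b.1.1 * g.1⁻¹ = b.1.1 := hb
    calc g.1 * (a.1.1 * b.1.1) * g.1⁻¹ = (g.1 * a.1.1 * g.1⁻¹) * (g.1 * b.1.1 * g.1⁻¹) := by group
      _ = a.1.1 * b.1.1 := by rw [ha', hb']
  inv_mem' := by
    intro a ha
    show g.1 * (a.1.1)⁻¹ * g.1⁻¹ = (a.1.1)⁻¹
    have ha' : g.1 * a.1.1 * g.1⁻¹ = a.1.1 := ha
    calc g.1 * (a.1.1)⁻¹ * g.1⁻¹ = (g.1 * a.1.1 * g.1⁻¹)⁻¹ := by group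
      _ = (a.1.1)⁻¹ := by rw [ha']

theorem mem_cOm (Q : (κ → F) → F) (g : ↥(Cfsg.Geo.quadSimilarityGroup (F := F) Q))
    (s : ↥(Cfsg.Omega F Q)) : s ∈ cOm Q g ↔ g.1 * s.1.1 * g.1⁻¹ = s.1.1 := Iff.rfl

/-- the image in `PΩ` of the centralizer in `Ω` of a similarity -/
def lC (Q : (κ → F) → F) (g : ↥(Cfsg.Geo.quadSimilarityGroup (F := F) Q)) :
    Subgroup (Cfsg.POmega F Q) :=
  (cOm Q g).map (QuotientGroup.mk' (Subgroup.center ↥(Cfsg.Omega F Q)))

theorem conj_aux {G : Type*} [Group G] (a k s z : G) (hz : ∀ y, z * y = y * z)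
    (h1 : a * k * a⁻¹ = z * k) (h2 : a * s * a⁻¹ = s) :
    a * (k * s * k⁻¹) * a⁻¹ = k * s * k⁻¹ := by
  calc a * (k * s * k⁻¹) * a⁻¹ = (a * k * a⁻¹) * (a * s * a⁻¹) * (a * k * a⁻¹)⁻¹ := by group
    _ = (z * k) * s * (z * k)⁻¹ := by rw [h1, h2]
    _ = z * (k * s * k⁻¹) * z⁻¹ := by group
    _ = (k * s * k⁻¹) * z * z⁻¹ := by rw [hz]
    _ = k * s * k⁻¹ := by group

theorem lC_fix (Q : (κ → F) → F) (g : ↥(Cfsg.Geo.quadSimilarityGroup (F := F) Q)) :
    ∀ l ∈ lC Q g, Phi Q g l = l := by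
  rintro _ ⟨s, hs, rfl⟩
  show Phi Q g (QuotientGroup.mk s) = QuotientGroup.mk s
  rw [Phi_mk]
  congr 1
  apply Subtype.ext
  apply Subtype.ext
  rw [Phi_mk_val]
  exact hs

theorem comm_top_of_surj {G H : Type*} [Group G] [Group H] (f : G →* H)
    (hf : Function.Surjective f) (hperf : commutator G = ⊤) : commutator H = ⊤ := by
  rw [commutator_def] at hperf ⊢
  have := Subgroup.map_commutator (⊤ : Subgroup G) ⊤ f
  rw [hperf, Subgroup.map_top_of_surjective f hf] at this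
  exact this.symm

theorem conj_injective_of_simple {G : Type*} [Group G] [IsSimpleGroup G]
    (hperf : commutator G = ⊤) : Function.Injective (MulAut.conj : G →* MulAut G) := by
  rw [← MonoidHom.ker_eq_bot_iff]
  rcases IsSimpleGroup.eq_bot_or_eq_top_of_normal (MulAut.conj : G →* MulAut G).ker
    inferInstance with h | h
  · exact h
  · exfalso
    have hcomm : ∀ a b : G, a * b = b * a := by
      intro a b
      have ha : a ∈ (MulAut.conj : G →* MulAut G).ker := by rw [h]; exact Subgroup.mem_top a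
      rw [MonoidHom.mem_ker] at ha
      have := congrArg (fun f : MulAut G => f b) ha
      simp only [MulAut.conj_apply, MulAut.one_apply] at this
      calc a * b = a * b * a⁻¹ * a := by group
        _ = b * a := by rw [this]
    have hbot : commutator G = ⊥ := by
      rw [commutator_def, Subgroup.commutator_eq_bot_iff_le_centralizer]
      intro a _
      rw [Subgroup.mem_centralizer_iff]
      intro b _
      exact hcomm b a
    rw [hbot] at hperf
    exact bot_ne_top hperf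

theorem pomega_conj_injective (Q : (κ → F) → F) [IsSimpleGroup (Cfsg.POmega F Q)]
    (hperf : commutator ↥(Cfsg.Omega F Q) = ⊤) :
    Function.Injective (MulAut.conj : Cfsg.POmega F Q →* MulAut (Cfsg.POmega F Q)) :=
  conj_injective_of_simple (comm_top_of_surj
    (QuotientGroup.mk' (Subgroup.center ↥(Cfsg.Omega F Q))) (QuotientGroup.mk'_surjective _) hperf)

theorem central_of_pm (z : GL κ F) (hz : (z : Matrix κ κ F) = 1 ∨ (z : Matrix κ κ F) = -1) :
    ∀ y : GL κ F, z * y = y * z := by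
  intro y
  apply Units.ext
  rw [Units.val_mul, Units.val_mul]
  rcases hz with hz | hz <;> rw [hz] <;> simp

theorem lC_norm (Q : (κ → F) → F)
    (hcen : ∀ z ∈ Subgroup.center ↥(Cfsg.Omega F Q),
      ((z.1.1 : GL κ F) : Matrix κ κ F) = 1 ∨ ((z.1.1 : GL κ F) : Matrix κ κ F) = -1)
    (g : ↥(Cfsg.Geo.quadSimilarityGroup (F := F) Q)) :
    ∀ k : Cfsg.POmega F Q, Phi Q g k = k → ∀ l ∈ lC Q g, k * l * k⁻¹ ∈ lC Q g := by
  intro k hk
  induction k using QuotientGroup.induction_on with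
  | H k₀ =>
    rintro _ ⟨s, hs, rfl⟩
    rw [Phi_mk] at hk
    have hc := QuotientGroup.eq.1 hk
    set c := (MulAut.characteristic (Cfsg.Omega F Q) (simConjHom Q g) k₀)⁻¹ * k₀ with hcdef
    have hc' : c⁻¹ ∈ Subgroup.center ↥(Cfsg.Omega F Q) := Subgroup.inv_mem _ hc
    have hzc : ∀ y : GL κ F, (c⁻¹.1.1 : GL κ F) * y = y * (c⁻¹.1.1 : GL κ F) :=
      central_of_pm _ (hcen _ hc')
    have h1 : g.1 * k₀.1.1 * g.1⁻¹ = (c⁻¹.1.1 : GL κ F) * k₀.1.1 := by
      have e : (MulAut.characteristic (Cfsg.Omega F Q) (simConjHom Q g) k₀) = c⁻¹ * k₀ := by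
        rw [← Subgroup.mem_center_iff.1 hc' k₀, hcdef]; group
      have e2 := congrArg (fun x : ↥(Cfsg.Omega F Q) => (x.1.1 : GL κ F)) e
      rw [Phi_mk_val] at e2
      exact e2
    refine ⟨k₀ * s * k₀⁻¹, ?_, rfl⟩
    exact conj_aux g.1 k₀.1.1 s.1.1 _ hzc h1 hs

end Cfsg.Agent.Lib.Helper37.MBal
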