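import Cfsg.Agent.Lib.Helper37.MBalGlue1
import Cfsg.Agent.Lib.Helper56.MBalSZ

set_option autoImplicit false
set_option linter.unusedSectionVars false
set_option linter.unusedVariables false

/-!
# S2733: glue for the graph involutions, part 2 (the condition `simple`)
-/

namespace Cfsg.Agent.Lib.Helper37.MBal

open Matrix Module QuadraticMap
open Cfsg.Agent.Lib.Helper37 Cfsg.Agent.Lib.Helper37.OrthField Cfsg.Agent.Lib.Helper8
open Cfsg.Agent.Lib.Helper37.IsGram

universe u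

variable {κ : Type} [Fintype κ] [DecidableEq κ] {F : Type u} [Field F] [Fintype F]
  {Q : (κ → F) → F} {G : Matrix κ κ F}

theorem embO_isometry (h : IsGram Q G) (s : ↥(Cfsg.Omega F Q)) (u w : κ → F) :
    Matrix.toBilin' G (embO Q s u) (embO Q s w) = Matrix.toBilin' G u w := by
  rw [embO_apply, embO_apply]
  apply h.isometry_bilin
  exact (mem_isometryGroup_iff' Q _).1 s.1.2

theorem embO_eq_one_or_neg (Q : (κ → F) → F) (s : ↥(Cfsg.Omega F Q))
    (hs : ((s.1.1 : GL κ F) : Matrix κ κ F) = 1 ∨ ((s.1.1 : GL κ F) : Matrix κ κ F) = -1) :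
    embO Q s = 1 ∨ embO Q s = LinearEquiv.neg F := by
  rcases hs with hs | hs
  · left
    ext v i
    rw [embO_apply, hs]
    simp
  · right
    ext v i
    rw [embO_apply, hs, Matrix.neg_mulVec, Matrix.one_mulVec]
    simp

theorem central_of_embO (Q : (κ → F) → F) (s : ↥(Cfsg.Omega F Q))
    (hs : embO Q s = 1 ∨ embO Q s = LinearEquiv.neg F) :
    s ∈ Subgroup.center ↥(Cfsg.Omega F Q) := by
  have hm : ((s.1.1 : GL κ F) : Matrix κ κ F) = 1 ∨ ((s.1.1 : GL κ F) : Matrix κ κ F) = -1 := by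
    rcases hs with hs | hs
    · left
      apply Matrix.mulVec_injective
      funext v
      have := congrArg (fun f : (κ → F) ≃ₗ[F] (κ → F) => f v) hs
      simp only [embO_apply] at this
      rw [this]
      simp
    · right
      apply Matrix.mulVec_injective
      funext v
      have := congrArg (fun f : (κ → F) ≃ₗ[F] (κ → F) => f v) hs
      simp only [embO_apply] at this
      rw [this, Matrix.neg_mulVec, Matrix.one_mulVec]
      simp
  rw [Subgroup.mem_center_iff]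
  intro y
  apply Subtype.ext
  apply Subtype.ext
  exact (central_of_pm s.1.1 hm y.1.1).symm

theorem lC_simple (h : IsGram Q G)
    (hcen : ∀ z ∈ Subgroup.center ↥(Cfsg.Omega F Q),
      ((z.1.1 : GL κ F) : Matrix κ κ F) = 1 ∨ ((z.1.1 : GL κ F) : Matrix κ κ F) = -1)
    (g : ↥(Cfsg.Geo.quadSimilarityGroup (F := F) Q))
    (hkey : ∀ X : Subgroup ((κ → F) ≃ₗ[F] (κ → F)), X ≤ (embO Q).range →
      (∀ f ∈ X, ∀ u w, Matrix.toBilin' G (f u) (f w) = Matrix.toBilin' G u w) →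
      (∀ f ∈ X, f * toLE g.1 = toLE g.1 * f) →
      (∀ y ∈ (embO Q).range, y * toLE g.1 = toLE g.1 * y → ∀ f ∈ X, y * f * y⁻¹ ∈ X) →
      (∀ f ∈ X, ∃ k : ℕ, Odd k ∧ f ^ k = 1) → X = ⊥) :
    ∀ M : Subgroup (Cfsg.POmega F Q), M ≤ lC Q g → (∀ l ∈ lC Q g, ∀ m ∈ M, l * m * l⁻¹ ∈ M) →
      (Nat.card ↥M).Coprime 2 → M = ⊥ := by
  intro M hML hMinv hMc
  haveI : Finite ((κ → F) ≃ₗ[F] (κ → F)) := finite_linearEquiv
  have hn : Odd (Nat.card ↥M) := Nat.Coprime.odd_of_right hMc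
  set n := Nat.card ↥M with hndef
  set Mt : Subgroup ↥(Cfsg.Omega F Q) :=
    (M.comap (QuotientGroup.mk' (Subgroup.center ↥(Cfsg.Omega F Q)))) ⊓ cOm Q g with hMt
  have hmemMt : ∀ s : ↥(Cfsg.Omega F Q), s ∈ Mt ↔
      (QuotientGroup.mk s : Cfsg.POmega F Q) ∈ M ∧ s ∈ cOm Q g := by
    intro s
    rw [hMt, Subgroup.mem_inf, Subgroup.mem_comap]
    rfl
  have hcomm_iff : ∀ s : ↥(Cfsg.Omega F Q), embO Q s * toLE g.1 = toLE g.1 * embO Q s ↔
      s ∈ cOm Q g := by
    intro s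
    have e1 : embO Q s = toLE s.1.1 := rfl
    rw [e1, ← map_mul, ← map_mul, toLE.injective.eq_iff, mem_cOm]
    constructor
    · intro hh
      calc g.1 * s.1.1 * g.1⁻¹ = (s.1.1 * g.1) * g.1⁻¹ := by rw [hh]
        _ = s.1.1 := by group
    · intro hh
      calc (s.1.1 : GL κ F) * g.1 = (g.1 * s.1.1 * g.1⁻¹) * g.1 := by rw [hh]
        _ = g.1 * s.1.1 := by group
  have hpowM : ∀ m ∈ M, m ^ n = 1 := by
    intro m hm
    have := pow_card_eq_one' (G := ↥M) (x := ⟨m, hm⟩)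
    exact congrArg Subtype.val this
  have hpow : ∀ f ∈ Mt.map (embO Q), f ^ n = 1 ∨ f ^ n = LinearEquiv.neg F := by
    rintro _ ⟨s, hs, rfl⟩
    have h1 := hpowM _ ((hmemMt s).1 hs).1
    rw [← QuotientGroup.mk_pow, QuotientGroup.eq_one_iff] at h1
    rw [← map_pow]
    exact embO_eq_one_or_neg Q _ (hcen _ h1)
  obtain ⟨X, hXM, hXcov, hXpow, hXmem⟩ := odd_part (Mt.map (embO Q)) (LinearEquiv.neg F)
    (by ext v i; simp) (by intro k; ext v i; simp) n hn hpow
  have hXbot : X = ⊥ := by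
    apply hkey X
    · exact hXM.trans (Subgroup.map_le_range _ _)
    · intro f hf
      obtain ⟨s, -, rfl⟩ := hXM hf
      exact embO_isometry h s
    · intro f hf
      obtain ⟨s, hs, rfl⟩ := hXM hf
      exact (hcomm_iff s).2 ((hmemMt s).1 hs).2
    · rintro _ ⟨c, rfl⟩ hc f hf
      have hcC : c ∈ cOm Q g := (hcomm_iff c).1 hc
      obtain ⟨s, hs, rfl⟩ := hXM hf
      apply hXmem
      · refine ⟨c * s * c⁻¹, ?_, by rw [map_mul, map_mul, map_inv]⟩
        apply (hmemMt _).2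
        constructor
        · have := hMinv (QuotientGroup.mk c) ⟨c, hcC, rfl⟩ _ ((hmemMt s).1 hs).1
          exact this
        · exact (cOm Q g).mul_mem ((cOm Q g).mul_mem hcC ((hmemMt s).1 hs).2)
            ((cOm Q g).inv_mem hcC)
      · have := hXpow _ hf
        rw [conj_pow, this]
        group
    · intro f hf
      exact ⟨n, hn, hXpow f hf⟩
  rw [eq_bot_iff]
  intro m hm
  obtain ⟨s, hsC, rfl⟩ := hML hm
  have hsMt : s ∈ Mt := (hmemMt s).2 ⟨hm, hsC⟩
  have hsV : embO Q s ∈ Mt.map (embO Q) := ⟨s, hsMt, rfl⟩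
  have h1 : embO Q s = 1 ∨ embO Q s = LinearEquiv.neg F := by
    rcases hXcov _ hsV with h1 | h1
    · left
      rw [hXbot, Subgroup.mem_bot] at h1
      exact h1
    · right
      rw [hXbot, Subgroup.mem_bot] at h1
      have h2 : LinearEquiv.neg F * (LinearEquiv.neg F * embO Q s) = LinearEquiv.neg F * 1 := by
        rw [h1]
      rw [← mul_assoc] at h2
      have h3 : (LinearEquiv.neg F : (κ → F) ≃ₗ[F] (κ → F)) * LinearEquiv.neg F = 1 := by
        ext v i; simp
      rw [h3, one_mul, mul_one] at h2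
      exact h2
  rw [Subgroup.mem_bot]
  exact (QuotientGroup.eq_one_iff s).2 (central_of_embO Q s h1)

end Cfsg.Agent.Lib.Helper37.MBal
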