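import Cfsg.Agent.Lib.Helper37.MBalGlue2

set_option autoImplicit false
set_option linter.unusedSectionVars false
set_option linter.unusedVariables false

/-!
# S2733: glue for the graph involutions, part 3 (the condition `cent`)
-/

namespace Cfsg.Agent.Lib.Helper37.MBal

open Matrix Module QuadraticMap
open Cfsg.Agent.Lib.Helper37 Cfsg.Agent.Lib.Helper37.OrthField Cfsg.Agent.Lib.Helper8
open Cfsg.Agent.Lib.Helper37.IsGram

universe u

variable {κ : Type} [Fintype κ] [DecidableEq κ] {F : Type u} [Field F] [Fintype F]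
  [DecidableEq F] {Q : (κ → F) → F} {G : Matrix κ κ F}

theorem embO_comm_iff (Q : (κ → F) → F) (g : ↥(Cfsg.Geo.quadSimilarityGroup (F := F) Q))
    (s : ↥(Cfsg.Omega F Q)) :
    embO Q s * toLE g.1 = toLE g.1 * embO Q s ↔ s ∈ cOm Q g := by
  have e1 : embO Q s = toLE s.1.1 := rfl
  rw [e1, ← map_mul, ← map_mul, toLE.injective.eq_iff, mem_cOm]
  constructor
  · intro hh
    calc g.1 * s.1.1 * g.1⁻¹ = (s.1.1 * g.1) * g.1⁻¹ := by rw [hh]
      _ = s.1.1 := by group
  · intro hh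
    calc (s.1.1 : GL κ F) * g.1 = (g.1 * s.1.1 * g.1⁻¹) * g.1 := by rw [hh]
      _ = g.1 * s.1.1 := by group

theorem toLE_reflG (h : IsGram Q G) (u : κ → F) (hu : Q u ≠ 0) :
    toLE (h.reflG u hu).1 = reflE (Matrix.toBilin' G) u := by
  ext v i
  rw [toLE_apply, reflE_apply]
  have e : (((h.reflG u hu).1 : GL κ F) : Matrix κ κ F) = Cfsg.reflectionMatrix Q u := rfl
  rw [e, h.refl_mulVec, h.self u, h.symmB v u]
  have h2 := h.two_ne
  simp only [Pi.sub_apply, Pi.smul_apply, smul_eq_mul]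
  field_simp

theorem toLE_reflG' (h : IsGram Q G) (u : κ → F) (hu : Q u ≠ 0) :
    toLE (h.reflG' u).1 = reflE (Matrix.toBilin' G) u := by
  rw [h.reflG'_of_ne u hu, toLE_reflG h u hu]

theorem toLE_list (h : IsGram Q G) (l : List (κ → F)) (hl : ∀ u ∈ l, Q u ≠ 0) :
    toLE ((l.map h.reflG').prod).1 = (l.map (fun u => reflE (Matrix.toBilin' G) u)).prod := by
  induction l with
  | nil => simp
  | cons a l ih =>
    rw [List.map_cons, List.prod_cons, List.map_cons, List.prod_cons, Subgroup.coe_mul, map_mul,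
      ih (fun u hu => hl u (List.mem_cons_of_mem _ hu)),
      toLE_reflG' h a (hl a List.mem_cons_self)]

theorem isSquare_prod_Q (h : IsGram Q G) (l : List (κ → F)) (hev : Even l.length)
    (hsq : IsSquare (l.map (fun u => Matrix.toBilin' G u u)).prod) :
    IsSquare (l.map (fun u => Q u)).prod := by
  have e : (l.map (fun u => Matrix.toBilin' G u u)).prod =
      2 ^ l.length * (l.map (fun u => Q u)).prod := by
    clear hev hsq
    induction l with
    | nil => simp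
    | cons a l ih =>
      rw [List.map_cons, List.prod_cons, List.map_cons, List.prod_cons, List.length_cons, ih,
        h.self a]
      ring
  obtain ⟨r, hr⟩ := hev
  obtain ⟨t, ht⟩ := hsq
  have h2 := h.two_ne
  refine ⟨t / 2 ^ r, ?_⟩
  rw [e, hr] at ht
  have h3 : (2 : F) ^ r ≠ 0 := pow_ne_zero _ h2
  field_simp
  linear_combination ht

/-- the element of `Ω` attached to a list of non-singular vectors -/
theorem list_mem_omega (h : IsGram Q G) (l : List (κ → F))
    (hl : ∀ u ∈ l, Matrix.toBilin' G u u ≠ 0) (hev : Even l.length)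
    (hsq : IsSquare (l.map (fun u => Matrix.toBilin' G u u)).prod) :
    ∃ s : ↥(Cfsg.Omega F Q),
      embO Q s = (l.map (fun u => reflE (Matrix.toBilin' G) u)).prod := by
  have hl' : ∀ u ∈ l, Q u ≠ 0 := by
    intro u hu h0
    apply hl u hu
    rw [h.self, h0, mul_zero]
  have hmem : (l.map h.reflG').prod ∈ Cfsg.Omega F Q := by
    rw [mem_omega_iff h _ l hl' (h.toMat_list l hl')]
    exact ⟨hev, isSquare_prod_Q h l hev hsq⟩
  exact ⟨⟨_, hmem⟩, toLE_list h l hl'⟩

theorem sm_neg' (p : GamL κ F) (v : κ → F) : sm p (-v) = - sm p v := by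
  have := sm_sub p 0 v
  rw [zero_sub, sm_zero, zero_sub] at this
  exact this

theorem smul_one_of_sm (p : GamL κ F) (hr : p.right = 1) (c : F) (hc : ∀ v, sm p v = c • v) :
    ((p.left : GL κ F) : Matrix κ κ F) = c • (1 : Matrix κ κ F) := by
  apply Matrix.mulVec_injective
  funext v
  have := hc v
  unfold sm at this
  rw [hr, vm_one] at this
  rw [this, Matrix.smul_mulVec, Matrix.one_mulVec]

theorem lC_cent (h : IsGram Q G)
    (hcen : ∀ z ∈ Subgroup.center ↥(Cfsg.Omega F Q),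
      ((z.1.1 : GL κ F) : Matrix κ κ F) = 1 ∨ ((z.1.1 : GL κ F) : Matrix κ κ F) = -1)
    (hAut : AutSemi Q)
    (hΨ : ∀ p : ↥(semiO Q), Psi Q p = 1 ↔ p.1.right = 1 ∧
      ∃ c : F, ((p.1.left : GL κ F) : Matrix κ κ F) = c • (1 : Matrix κ κ F))
    (g : ↥(Cfsg.Geo.quadSimilarityGroup (F := F) Q)) (hx1 : Phi Q g ≠ 1)
    (hx2 : Phi Q g * Phi Q g = 1)
    (hkey : ∀ (τ : F ≃+* F) (s : (κ → F) → (κ → F)), (∀ u w, s (u + w) = s u + s w) →
      (∀ (c : F) v, s (c • v) = τ c • s v) → Function.Injective s →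
      ∀ ν : F, (∀ u w, Matrix.toBilin' G (s u) (s w) = ν * τ (Matrix.toBilin' G u w)) →
      (∀ l : List (κ → F), (∀ u ∈ l, Matrix.toBilin' G u u ≠ 0) → Even l.length →
        IsSquare (l.map (fun u => Matrix.toBilin' G u u)).prod →
        (l.map (fun u => reflE (Matrix.toBilin' G) u)).prod * toLE g.1 =
          toLE g.1 * (l.map (fun u => reflE (Matrix.toBilin' G) u)).prod →
        ∀ v, s ((l.map (fun u => reflE (Matrix.toBilin' G) u)).prod v) =
          (l.map (fun u => reflE (Matrix.toBilin' G) u)).prod (s v)) →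
      τ = 1 ∧ ∃ c : F, c ≠ 0 ∧
        ((∀ v, s v = c • v) ∨ (∀ v, s v = c • ((g.1 : Matrix κ κ F) *ᵥ v)))) :
    ∀ n : MulAut (Cfsg.POmega F Q), (∃ k : ℕ, k.Coprime 2 ∧ n ^ k = 1) →
      (∀ l ∈ lC Q g, n l = l) → n = 1 := by
  rintro n ⟨k₀, hk₀, hnk⟩ hfix
  obtain ⟨pn, rfl⟩ := hAut n
  have hodd : Odd k₀ := Nat.Coprime.odd_of_right hk₀
  obtain ⟨j, hj⟩ := hodd
  set q : ↥(semiO Q) := (pn * pn) ^ (j + 1) with hqdef
  have hq : Psi Q q = Psi Q pn := by
    rw [hqdef, map_pow, map_mul, ← pow_two, ← pow_mul]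
    have : 2 * (j + 1) = k₀ + 1 := by omega
    rw [this, pow_succ, hnk, one_mul]
  -- the sign
  have hsign : ∀ s ∈ cOm Q g,
      (∀ v, sm pn.1 (((s.1.1 : GL κ F) : Matrix κ κ F) *ᵥ v) =
        ((s.1.1 : GL κ F) : Matrix κ κ F) *ᵥ sm pn.1 v) ∨
      (∀ v, sm pn.1 (((s.1.1 : GL κ F) : Matrix κ κ F) *ᵥ v) =
        -(((s.1.1 : GL κ F) : Matrix κ κ F) *ᵥ sm pn.1 v)) := by
    intro s hs
    have h1 : Psi Q pn (QuotientGroup.mk s) = QuotientGroup.mk s := hfix _ ⟨s, hs, rfl⟩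
    rw [Psi_mk] at h1
    have hc := QuotientGroup.eq.1 h1
    set c := (MulAut.characteristic (Cfsg.Omega F Q) (actIso Q pn) s)⁻¹ * s with hcdef
    have hc' : c⁻¹ ∈ Subgroup.center ↥(Cfsg.Omega F Q) := Subgroup.inv_mem _ hc
    have e : (MulAut.characteristic (Cfsg.Omega F Q) (actIso Q pn) s) = c⁻¹ * s := by
      rw [← Subgroup.mem_center_iff.1 hc' s, hcdef]; group
    have e2 := congrArg (fun x : ↥(Cfsg.Omega F Q) => (x.1.1 : GL κ F)) e
    rw [Psi_mk_val, ← actGL_apply] at e2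
    have e3 : ∀ v, sm pn.1 (((s.1.1 : GL κ F) : Matrix κ κ F) *ᵥ v) =
        ((c⁻¹.1.1 : GL κ F) : Matrix κ κ F) *ᵥ
          (((s.1.1 : GL κ F) : Matrix κ κ F) *ᵥ sm pn.1 v) := by
      intro v
      rw [← actGL_mulVec, e2]
      show (((c⁻¹.1.1 : GL κ F) * (s.1.1 : GL κ F) : GL κ F) : Matrix κ κ F) *ᵥ _ = _
      rw [Units.val_mul, Matrix.mulVec_mulVec]
    rcases hcen _ hc' with h1 | h1
    · left
      intro v
      rw [e3, h1, Matrix.one_mulVec]
    · right
      intro v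
      rw [e3, h1, Matrix.neg_mulVec, Matrix.one_mulVec]
  have hcomm2 : ∀ s ∈ cOm Q g, ∀ v,
      sm (pn.1 * pn.1) (((s.1.1 : GL κ F) : Matrix κ κ F) *ᵥ v) =
        ((s.1.1 : GL κ F) : Matrix κ κ F) *ᵥ sm (pn.1 * pn.1) v := by
    intro s hs v
    rcases hsign s hs with h1 | h1
    · rw [sm_mul, sm_mul, h1, h1]
    · rw [sm_mul, sm_mul, h1, sm_neg', h1, neg_neg]
  have hcommq : ∀ s ∈ cOm Q g, ∀ v,
      sm q.1 (((s.1.1 : GL κ F) : Matrix κ κ F) *ᵥ v) =
        ((s.1.1 : GL κ F) : Matrix κ κ F) *ᵥ sm q.1 v := by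
    intro s hs
    have e : q.1 = (pn.1 * pn.1) ^ (j + 1) := rfl
    have hit : ∀ (k : ℕ) v, (sm (pn.1 * pn.1))^[k] (((s.1.1 : GL κ F) : Matrix κ κ F) *ᵥ v) =
        ((s.1.1 : GL κ F) : Matrix κ κ F) *ᵥ (sm (pn.1 * pn.1))^[k] v := by
      intro k
      induction k with
      | zero => intro v; rfl
      | succ k ih =>
        intro v
        rw [Function.iterate_succ_apply', Function.iterate_succ_apply', ih, hcomm2 s hs]
    intro v
    rw [e, sm_pow, sm_pow, hit]
  obtain ⟨c, hc⟩ := (mem_semiO Q q.1).1 q.2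
  have hB : ∀ u w, Matrix.toBilin' G u w = Q (u + w) - Q u - Q w := by
    intro u w
    rw [h.Q_add]
    ring
  obtain ⟨hτ, c', hc'0, hcase⟩ := hkey q.1.right (sm q.1) (sm_add q.1) (sm_smul q.1)
    (by
      intro a b hab
      have := congrArg (sm q.1⁻¹) hab
      rwa [sm_inv_sm, sm_inv_sm] at this)
    (c : F)
    (by
      intro u w
      rw [hB, ← sm_add, hc, hc, hc, hB, map_sub, map_sub]
      ring)
    (by
      intro l hl hev hsq hcm v
      obtain ⟨s, hs⟩ := list_mem_omega h l hl hev hsq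
      rw [← hs] at hcm ⊢
      have hsC := (embO_comm_iff Q g s).1 hcm
      rw [embO_apply, embO_apply]
      exact hcommq s hsC v)
  rcases hcase with h1 | h1
  · have : Psi Q q = 1 := (hΨ q).2 ⟨hτ, c', smul_one_of_sm q.1 hτ c' h1⟩
    rw [← hq, this]
  · exfalso
    set q' : ↥(semiO Q) := (simToSemi Q g)⁻¹ * q with hq'def
    have hr : q'.1.right = 1 := by
      rw [hq'def, Subgroup.coe_mul, Subgroup.coe_inv, SemidirectProduct.mul_right,
        SemidirectProduct.inv_right, simToSemi_right, hτ]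
      simp
    have hgv : ∀ v, ((g.1 : GL κ F) : Matrix κ κ F) *ᵥ v = sm (simToSemi Q g).1 v := by
      intro v; rfl
    have hsm : ∀ v, sm q'.1 v = c' • v := by
      intro v
      have hri : ((simToSemi Q g).1)⁻¹.right = 1 := by
        rw [SemidirectProduct.inv_right, simToSemi_right]
        simp
      rw [hq'def, Subgroup.coe_mul, Subgroup.coe_inv, sm_mul, h1, sm_smul, hri, hgv, sm_inv_sm]
      rfl
    have h3 : Psi Q q' = 1 := (hΨ q').2 ⟨hr, c', smul_one_of_sm q'.1 hr c' hsm⟩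
    rw [hq'def, map_mul, map_inv, Psi_simToSemi, inv_mul_eq_one] at h3
    apply hx1
    have hxk : (Phi Q g) ^ k₀ = 1 := by
      rw [h3, hq]
      exact hnk
    rw [hj, pow_succ, pow_mul, pow_two, hx2, one_pow, one_mul] at hxk
    exact hxk

end Cfsg.Agent.Lib.Helper37.MBal
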