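import Cfsg.Agent.Lib.Helper37.MBalGlue3
import Cfsg.Agent.Lib.Helper85.MBalG1S
import Cfsg.Agent.Lib.Helper25.MBalG2S
import Cfsg.Agent.Lib.Helper61.BalORTH10
import Cfsg.Agent.Lib.Helper61.MBalG1C
import Cfsg.Agent.Lib.Helper94.MBalG2C

set_option autoImplicit false
set_option linter.unusedSectionVars false
set_option linter.unusedVariables false

/-!
# S2733: glue for the graph involutions, part 4 (the two types of involutions)
-/

namespace Cfsg.Agent.Lib.Helper37.MBal

open Matrix Module QuadraticMap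
open Cfsg.Agent.Lib.Helper37 Cfsg.Agent.Lib.Helper37.OrthField Cfsg.Agent.Lib.Helper8
open Cfsg.Agent.Lib.Helper37.IsGram Cfsg.Agent.Lib.Helper37.GraphInv

universe u v

/-- BAL-ORTH in the form `OrthQ` -/
theorem orthQ_all {K : Type u} [Field K] [Finite K] (h2 : (2 : K) ≠ 0) {V : Type v}
    [AddCommGroup V] [Module K V] [FiniteDimensional K V] (B : LinearMap.BilinForm K V)
    (hs : B.IsSymm) (hnd : B.Nondegenerate) (hdim : 3 ≤ Module.finrank K V) : OrthQ K V B := by
  intro N hN hnorm hodd f hf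
  have key := Cfsg.Agent.Lib.Helper61.Orth.pall.{v} h2 (Module.finrank K V) hdim V B hs hnd rfl N
    ⟨hN, hnorm, ?_⟩ f hf
  · rcases key with h1 | h1
    · left
      ext v
      exact h1 v
    · right
      ext v
      rw [h1 v]
      simp
  · intro f hf
    obtain ⟨k, hk, h1⟩ := hodd f hf
    refine ⟨k, hk, ?_⟩
    rcases h1 with h1 | h1
    · left
      intro v
      rw [h1]
      rfl
    · right
      intro v
      rw [h1]
      simp

variable {κ : Type} [Fintype κ] [DecidableEq κ] {F : Type u} [Field F] [Fintype F]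
  [DecidableEq F] {Q : (κ → F) → F} {G : Matrix κ κ F}

theorem nondeg_of_det (hdet : G.det ≠ 0) : (Matrix.toBilin' G).Nondegenerate :=
  LinearMap.BilinForm.nondegenerate_toBilin'_of_det_ne_zero' G hdet

/-- the image of `Ω` is normalized by all isometries -/
theorem embO_range_normal (h : IsGram Q G) :
    ∀ y : (κ → F) ≃ₗ[F] (κ → F),
      (∀ u w, Matrix.toBilin' G (y u) (y w) = Matrix.toBilin' G u w) →
      ∀ f ∈ (embO Q).range, y * f * y⁻¹ ∈ (embO Q).range := by
  rintro y hy _ ⟨s, rfl⟩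
  obtain ⟨A, rfl⟩ := toLE.surjective y
  have hA : A ∈ Cfsg.isometryGroup F Q := by
    rw [mem_isometryGroup_iff']
    intro v
    have h1 := hy v v
    rw [toLE_apply, h.self, h.self] at h1
    exact mul_left_cancel₀ h.two_ne h1
  have hnorm : (Cfsg.Omega F Q).Normal := inferInstance
  have hmem := hnorm.conj_mem s.1 s.2 ⟨A, hA⟩
  refine ⟨⟨_, hmem⟩, ?_⟩
  show toLE (A * s.1.1 * A⁻¹) = toLE A * embO Q s * (toLE A)⁻¹
  rw [map_mul, map_mul, map_inv]
  rfl

theorem restrict_isSymm {K : Type*} [Field K] {V : Type*} [AddCommGroup V] [Module K V]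
    (B : LinearMap.BilinForm K V) (hs : B.IsSymm) (W : Submodule K V) :
    (B.restrict W).IsSymm :=
  ⟨fun x y => hs.eq x.1 y.1⟩

section types

variable (h : IsGram Q G) (hdet : G.det ≠ 0)
  (hcen : ∀ z ∈ Subgroup.center ↥(Cfsg.Omega F Q),
    ((z.1.1 : GL κ F) : Matrix κ κ F) = 1 ∨ ((z.1.1 : GL κ F) : Matrix κ κ F) = -1)
  (hAut : AutSemi Q)
  (hΨ : ∀ p : ↥(semiO Q), Psi Q p = 1 ↔ p.1.right = 1 ∧
    ∃ c : F, ((p.1.left : GL κ F) : Matrix κ κ F) = c • (1 : Matrix κ κ F))
  (g : ↥(Cfsg.Geo.quadSimilarityGroup (F := F) Q)) (hx1 : Phi Q g ≠ 1)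
  (hx2 : Phi Q g * Phi Q g = 1) (hdim : 6 ≤ Fintype.card κ)

include h hdet hcen hAut hΨ hx1 hx2 hdim

/-- type (a): `g` is a scalar multiple of an isometry involution of determinant `-1` -/
theorem goodE_invol {N : ℕ} (hN : Fintype.card κ = 2 * N) (s : F) (hs : s ≠ 0)
    (hM : (g.1 : Matrix κ κ F) * (g.1 : Matrix κ κ F) = (s * s) • (1 : Matrix κ κ F))
    (hμ : (simMult Q g : F) = s * s)
    (hdetg : (g.1 : Matrix κ κ F).det ≠ (s * s) ^ N) :
    Cfsg.Agent.Lib.Helper5.BalE.GoodE 2 (Phi Q g) (lC Q g) := by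
  have h2 := h.two_ne
  have hsB := gram_isSymm h
  have hnd := nondeg_of_det (G := G) hdet
  have hdim' : 6 ≤ Module.finrank F (κ → F) := by
    rw [Module.finrank_fintype_fun_eq_card]; exact hdim
  set tL : Module.End F (κ → F) := s⁻¹ • Matrix.toLin' (g.1 : Matrix κ κ F) with htLdef
  have htL : ∀ v, tL v = s⁻¹ • ((g.1 : Matrix κ κ F) *ᵥ v) := by
    intro v
    rw [htLdef, LinearMap.smul_apply, Matrix.toLin'_apply]
  have hinv : ∀ v, tL (tL v) = v := by
    intro v
    rw [htL, htL, Matrix.mulVec_smul, Matrix.mulVec_mulVec, hM, Matrix.smul_mulVec,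
      Matrix.one_mulVec, smul_smul, smul_smul]
    have : s⁻¹ * s⁻¹ * (s * s) = 1 := by field_simp
    rw [this, one_smul]
  set t : (κ → F) ≃ₗ[F] (κ → F) := LinearEquiv.ofInvolutive tL hinv with htdef
  have ht_apply : ∀ v, t v = s⁻¹ • ((g.1 : Matrix κ κ F) *ᵥ v) := fun v => htL v
  have hcoe : (t : (κ → F) →ₗ[F] (κ → F)) = tL := by
    ext v
    rfl
  have ht : ∀ u w, Matrix.toBilin' G (t u) (t w) = Matrix.toBilin' G u w := by
    intro u w
    rw [ht_apply, ht_apply]
    simp only [map_smul, LinearMap.smul_apply, smul_eq_mul]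
    rw [sim_bilin h g, hμ]
    field_simp
  have htt : t * t = 1 := by
    ext v
    exact congrFun (hinv v) _
  have htLsq : tL * tL = 1 := by
    apply LinearMap.ext
    intro v
    exact hinv v
  have hcompl := isCompl_ker_of_involution h2 tL htLsq
  have hdetL := det_of_involution_eigen tL _ _ hcompl
    (fun x hx => by
      rw [LinearMap.mem_ker, LinearMap.sub_apply, Module.End.one_apply, sub_eq_zero] at hx
      exact hx)
    (fun x hx => by
      rw [LinearMap.mem_ker, LinearMap.add_apply, Module.End.one_apply,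
        add_eq_zero_iff_eq_neg] at hx
      exact hx)
  have hdetval : LinearMap.det tL = (s⁻¹) ^ (2 * N) * (g.1 : Matrix κ κ F).det := by
    rw [htLdef, LinearMap.det_smul, LinearMap.det_toLin', Module.finrank_fintype_fun_eq_card, hN]
  have hfin := Submodule.finrank_add_eq_of_isCompl hcompl
  rw [Module.finrank_fintype_fun_eq_card, hN] at hfin
  have hm_odd : Odd (Module.finrank F (LinearMap.ker (tL + 1))) := by
    by_contra hne
    rw [Nat.not_odd_iff_even] at hne
    rw [hne.neg_one_pow, hdetval] at hdetL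
    apply hdetg
    have hsN : (s⁻¹ ^ (2 * N)) ≠ 0 := pow_ne_zero _ (inv_ne_zero hs)
    have e : (g.1 : Matrix κ κ F).det =
        (s ^ (2 * N)) * (s⁻¹ ^ (2 * N) * (g.1 : Matrix κ κ F).det) := by
      rw [← mul_assoc, ← mul_pow, mul_inv_cancel₀ hs, one_pow, one_mul]
    rw [e, hdetL, mul_one, pow_mul, pow_two]
  have hp_odd : Odd (Module.finrank F (LinearMap.ker (tL - 1))) := by
    obtain ⟨a, ha⟩ := hm_odd
    by_contra hne
    rw [Nat.not_odd_iff_even] at hne
    obtain ⟨b, hb⟩ := hne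
    omega
  have comm_iff : ∀ y : (κ → F) ≃ₗ[F] (κ → F),
      y * t = t * y ↔ y * toLE g.1 = toLE g.1 * y := by
    intro y
    constructor
    · intro hh
      ext v
      have h1 := LinearEquiv.congr_fun hh v
      simp only [LinearEquiv.mul_apply, ht_apply, map_smul] at h1
      have h3 := smul_right_injective (κ → F) (inv_ne_zero hs) h1
      simp only [LinearEquiv.mul_apply, toLE_apply]
      exact congrFun h3 _
    · intro hh
      ext v
      have h1 := LinearEquiv.congr_fun hh v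
      simp only [LinearEquiv.mul_apply, toLE_apply] at h1
      simp only [LinearEquiv.mul_apply, ht_apply, map_smul]
      rw [h1]
  refine ⟨lC_fix Q g, lC_norm Q hcen g, lC_simple h hcen g ?_, lC_cent h hcen hAut hΨ g hx1 hx2 ?_⟩
  · intro X hXO hXi hXg hXn hodd
    refine odd_normal_invol h2 (Matrix.toBilin' G) hsB hnd
      (fun W hW hWnd => orthQ_all h2 _ (restrict_isSymm _ hsB W) hWnd hW) t ht htt ?_ ?_
      (embO Q).range (embO_range_normal h) X hXO hXi (fun f hf => (comm_iff f).2 (hXg f hf))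
      (fun y hy _ hyt => hXn y hy ((comm_iff y).1 hyt)) hodd
    · rw [hcoe]
      intro h3
      rw [h3] at hp_odd
      exact absurd hp_odd (by decide)
    · rw [hcoe]
      intro h3
      rw [h3] at hm_odd
      exact absurd hm_odd (by decide)
  · intro τ s' hadd hsmul hinj ν hν hcomm
    obtain ⟨hτ, c, hc0, hcase⟩ := cent_invol h2 (Matrix.toBilin' G) hsB hnd t ht htt
      (by rw [hcoe]; exact hp_odd) (by rw [hcoe]; exact hm_odd) hdim' τ s' hadd hsmul hinj ν hν
      (fun l hl hev hsq hcm => hcomm l hl hev hsq ((comm_iff _).1 hcm))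
    refine ⟨hτ, ?_⟩
    rcases hcase with h1 | h1
    · exact ⟨c, hc0, Or.inl h1⟩
    · refine ⟨c * s⁻¹, mul_ne_zero hc0 (inv_ne_zero hs), Or.inr (fun v => ?_)⟩
      rw [h1, ht_apply, smul_smul]

/-- type (b): the square of `g` is a non-square scalar equal to the multiplier -/
theorem goodE_sqrt (lam : F) (hlam : ¬ IsSquare lam)
    (hM : (g.1 : Matrix κ κ F) * (g.1 : Matrix κ κ F) = lam • (1 : Matrix κ κ F))
    (hμ : (simMult Q g : F) = lam) :
    Cfsg.Agent.Lib.Helper5.BalE.GoodE 2 (Phi Q g) (lC Q g) := by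
  have h2 := h.two_ne
  have hsB := gram_isSymm h
  have hnd := nondeg_of_det (G := G) hdet
  have hdim' : 6 ≤ Module.finrank F (κ → F) := by
    rw [Module.finrank_fintype_fun_eq_card]; exact hdim
  have hlam0 : lam ≠ 0 := by
    rintro rfl
    exact hlam ⟨0, by simp⟩
  have hMM : ∀ v, (g.1 : Matrix κ κ F) *ᵥ ((g.1 : Matrix κ κ F) *ᵥ v) = lam • v := by
    intro v
    rw [Matrix.mulVec_mulVec, hM, Matrix.smul_mulVec, Matrix.one_mulVec]
  have hadj : ∀ u v, Matrix.toBilin' G ((g.1 : Matrix κ κ F) *ᵥ u) v =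
      Matrix.toBilin' G u ((g.1 : Matrix κ κ F) *ᵥ v) := by
    intro u v
    have h1 := sim_bilin h g u ((g.1 : Matrix κ κ F) *ᵥ v)
    rw [hMM, hμ, map_smul, smul_eq_mul] at h1
    exact mul_left_cancel₀ hlam0 h1
  have comm_iff : ∀ y : (κ → F) ≃ₗ[F] (κ → F),
      (∀ v, y (Matrix.toLin' (g.1 : Matrix κ κ F) v) = Matrix.toLin' (g.1 : Matrix κ κ F) (y v)) ↔
        y * toLE g.1 = toLE g.1 * y := by
    intro y
    constructor
    · intro hh
      ext v
      have h1 := hh v
      simp only [Matrix.toLin'_apply] at h1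
      simp only [LinearEquiv.mul_apply, toLE_apply]
      exact congrFun h1 _
    · intro hh v
      have h1 := LinearEquiv.congr_fun hh v
      simp only [LinearEquiv.mul_apply, toLE_apply] at h1
      simp only [Matrix.toLin'_apply]
      exact h1
  refine ⟨lC_fix Q g, lC_norm Q hcen g, lC_simple h hcen g ?_, lC_cent h hcen hAut hΨ g hx1 hx2 ?_⟩
  · intro X hXO hXi hXg hXn hodd
    exact odd_normal_sqrt h2 (Matrix.toBilin' G) hsB hnd
      (fun K' _ _ _ _ B' h2' hs' hnd' hd' => orthQ_all h2' B' hs' hnd' hd')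
      (Matrix.toLin' (g.1 : Matrix κ κ F)) lam hlam
      (fun v => by rw [Matrix.toLin'_apply, Matrix.toLin'_apply, hMM])
      (fun u v => by rw [Matrix.toLin'_apply, Matrix.toLin'_apply, hadj]) hdim'
      (embO Q).range (embO_range_normal h) X hXO hXi (fun f hf => (comm_iff f).2 (hXg f hf))
      (fun y hy _ hyt => hXn y hy ((comm_iff y).1 hyt)) hodd
  · intro τ s' hadd hsmul hinj ν hν hcomm
    obtain ⟨hτ, c, hc0, hcase⟩ := cent_sqrt h2 (Matrix.toBilin' G) hsB hnd
      (Matrix.toLin' (g.1 : Matrix κ κ F)) lam hlam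
      (fun v => by rw [Matrix.toLin'_apply, Matrix.toLin'_apply, hMM])
      (fun u v => by rw [Matrix.toLin'_apply, Matrix.toLin'_apply, hadj]) hdim'
      τ s' hadd hsmul hinj ν hν
      (fun l hl hev hsq hcm => hcomm l hl hev hsq ((comm_iff _).1 hcm))
    refine ⟨hτ, c, hc0, ?_⟩
    rcases hcase with h1 | h1
    · exact Or.inl h1
    · exact Or.inr (fun v => by rw [h1, Matrix.toLin'_apply])

end types

end Cfsg.Agent.Lib.Helper37.MBal
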