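import Cfsg.Agent.Lib.Helper37.MBalGlue4

set_option autoImplicit false
set_option linter.unusedSectionVars false
set_option linter.unusedVariables false

/-!
# S2733: glue for the graph involutions, part 5 (`GoodE` for every graph involution)
-/

namespace Cfsg.Agent.Lib.Helper37.MBal

open Matrix Module QuadraticMap
open Cfsg.Agent.Lib.Helper37 Cfsg.Agent.Lib.Helper37.OrthField Cfsg.Agent.Lib.Helper8
open Cfsg.Agent.Lib.Helper37.IsGram Cfsg.Agent.Lib.Helper37.GraphInv

universe u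

variable {κ : Type} [Fintype κ] [DecidableEq κ] {F : Type u} [Field F] [Fintype F]
  [DecidableEq F] {Q : (κ → F) → F} {G : Matrix κ κ F}

theorem goodE_graph (h : IsGram Q G) (hdet : G.det ≠ 0) {N : ℕ} (hN : Fintype.card κ = 2 * N)
    (hn : 2 ≤ Fintype.card κ)
    (hker : ∀ g : ↥(Cfsg.Geo.quadSimilarityGroup (F := F) Q),
      Phi Q g = 1 ↔ ∃ c : F, ((g.1 : GL κ F) : Matrix κ κ F) = c • (1 : Matrix κ κ F))
    (hcen : ∀ z ∈ Subgroup.center ↥(Cfsg.Omega F Q),
      ((z.1.1 : GL κ F) : Matrix κ κ F) = 1 ∨ ((z.1.1 : GL κ F) : Matrix κ κ F) = -1)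
    (hAut : AutSemi Q)
    (hΨ : ∀ p : ↥(semiO Q), Psi Q p = 1 ↔ p.1.right = 1 ∧
      ∃ c : F, ((p.1.left : GL κ F) : Matrix κ κ F) = c • (1 : Matrix κ κ F))
    (hdim : 6 ≤ Fintype.card κ)
    (g : ↥(Cfsg.Geo.quadSimilarityGroup (F := F) Q)) (hg : g ∉ simC h hdet hN hn)
    (hx1 : Phi Q g ≠ 1) (hx2 : Phi Q g * Phi Q g = 1) :
    Cfsg.Agent.Lib.Helper5.BalE.GoodE 2 (Phi Q g) (lC Q g) := by
  have hne := exists_Q_eq_one h hdet hn
  have h2 := h.two_ne
  have hx2' := hx2
  rw [← map_mul] at hx2'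
  obtain ⟨c, hc⟩ := (hker _).1 hx2'
  obtain ⟨c', hc'c, hgg⟩ := eq_scalarGO_of_val h hne _ c hc
  have hM : (g.1 : Matrix κ κ F) * (g.1 : Matrix κ κ F) = c • (1 : Matrix κ κ F) := by
    rw [← hc]
    rfl
  have hμ2 : (simMult Q g : F) * (simMult Q g : F) = c * c := by
    have h1 := congrArg (simMult Q) hgg
    rw [simMult_scalarGO h hne, ← simMultHom_apply hne, map_mul, simMultHom_apply] at h1
    have h3 := congrArg Units.val h1
    rw [Units.val_mul, Units.val_mul, hc'c] at h3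
    exact h3
  have hμ : (simMult Q g : F) = c ∨ (simMult Q g : F) = -c := mul_self_eq_mul_self_iff.1 hμ2
  have hc0 : c ≠ 0 := by
    rw [← hc'c]
    exact c'.ne_zero
  by_cases hsq : IsSquare c
  · obtain ⟨s, hs⟩ := hsq
    have hs0 : s ≠ 0 := by
      rintro rfl
      rw [mul_zero] at hs
      exact hc0 hs
    rw [hs] at hM hμ
    rcases hμ with hμ | hμ
    · refine goodE_invol h hdet hcen hAut hΨ g hx1 hx2 hdim hN s hs0 hM hμ ?_
      intro hd
      apply hg
      rw [mem_simC_iff h hdet hN hn hker, hμ]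
      exact hd
    · exfalso
      apply hg
      rw [mem_simC_iff h hdet hN hn hker]
      exact caseA1 h hdet hN g s hs0 hM hμ
  · rcases hμ with hμ | hμ
    · exact goodE_sqrt h hdet hcen hAut hΨ g hx1 hx2 hdim c hsq hM hμ
    · exfalso
      apply hg
      rw [mem_simC_iff h hdet hN hn hker, hμ]
      exact det_of_sq_eq_nonsquare _ c hsq hM hN

end Cfsg.Agent.Lib.Helper37.MBal
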