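import Cfsg.Agent.Lib.Helper37.OmegaCenter2

set_option autoImplicit false
set_option linter.unusedSectionVars false
set_option linter.unusedVariables false

namespace Cfsg.Agent.Lib.Helper37

open Matrix Module QuadraticMap
open Cfsg.Agent.Lib.Helper8 Cfsg.Agent.Lib.Helper13
open scoped commutatorElement

variable {ι : Type} [Fintype ι] [DecidableEq ι] {F : Type*} [Field F]

/-- elements of the centre of `Ω` are `±1` -/
theorem center_omega_matrix (Q : QuadraticForm F (ι → F))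
    (hQ : (QuadraticMap.polarBilin Q).Nondegenerate) {k : ℕ} {e f : Fin k → ι → F}
    (hfam : HypFam Q k e f) (hk : 3 ≤ k)
    (z : ↥(Cfsg.Omega F ⇑Q)) (hz : z ∈ Subgroup.center ↥(Cfsg.Omega F ⇑Q)) :
    (((z : ↥(Cfsg.isometryGroup F ⇑Q)) : GL ι F) : Matrix ι ι F) = 1 ∨
      (((z : ↥(Cfsg.isometryGroup F ⇑Q)) : GL ι F) : Matrix ι ι F) = -1 := by
  apply eq_one_or_neg_one Q hQ z.1 ?_ (hfam.exists_not_mem_span hk) (hfam.span_eq_top (by omega))
  intro a b ha hb hab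
  have hmem := refl_mul_refl_mem_omega Q hQ a b ha hb hab
  have h1 := Subgroup.mem_center_iff.mp hz ⟨_, hmem⟩
  have h2 := congrArg Subtype.val h1
  exact h2.symm

theorem omega_elt_ext (Q : (ι → F) → F) (x y : ↥(Cfsg.Omega F Q))
    (h : (((x : ↥(Cfsg.isometryGroup F Q)) : GL ι F) : Matrix ι ι F) =
      (((y : ↥(Cfsg.isometryGroup F Q)) : GL ι F) : Matrix ι ι F)) : x = y :=
  Subtype.ext (Subtype.ext (Units.ext h))

/-- the centre of `Ω` has order two when `-1 ∈ Ω` and the characteristic is odd -/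
theorem card_center_omega_two (Q : QuadraticForm F (ι → F))
    (hQ : (QuadraticMap.polarBilin Q).Nondegenerate) {k : ℕ} {e f : Fin k → ι → F}
    (hfam : HypFam Q k e f) (hk : 3 ≤ k) (h2 : (2 : F) ≠ 0)
    (hneg : ∃ g : ↥(Cfsg.isometryGroup F ⇑Q), g ∈ Cfsg.Omega F ⇑Q ∧
      ((g : GL ι F) : Matrix ι ι F) = -1) :
    Nat.card (Subgroup.center ↥(Cfsg.Omega F ⇑Q)) = 2 := by
  obtain ⟨g0, hg0, hg0m⟩ := hneg
  set z0 : ↥(Cfsg.Omega F ⇑Q) := ⟨g0, hg0⟩ with hz0
  have hz0c : z0 ∈ Subgroup.center ↥(Cfsg.Omega F ⇑Q) := by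
    rw [Subgroup.mem_center_iff]
    intro w
    apply omega_elt_ext
    show ((((w * z0 : ↥(Cfsg.Omega F ⇑Q)) : ↥(Cfsg.isometryGroup F ⇑Q)) : GL ι F) :
      Matrix ι ι F) = _
    rw [Subgroup.coe_mul, Subgroup.coe_mul, Subgroup.coe_mul, Subgroup.coe_mul, Units.val_mul,
      Units.val_mul]
    show _ * ((g0 : GL ι F) : Matrix ι ι F) = ((g0 : GL ι F) : Matrix ι ι F) * _
    rw [hg0m]
    simp
  have hne : (1 : ↥(Subgroup.center ↥(Cfsg.Omega F ⇑Q))) ≠ ⟨z0, hz0c⟩ := by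
    intro h
    have h1 : (1 : ↥(Cfsg.Omega F ⇑Q)) = z0 := congrArg Subtype.val h
    have h3 : ((g0 : GL ι F) : Matrix ι ι F) = 1 := by
      have := congrArg (fun x : ↥(Cfsg.Omega F ⇑Q) =>
        (((x : ↥(Cfsg.isometryGroup F ⇑Q)) : GL ι F) : Matrix ι ι F)) h1
      simp only [hz0] at this
      rw [← this]
      simp
    rw [hg0m] at h3
    have hk0 : 0 < k := by omega
    have h4 : (-1 : Matrix ι ι F) *ᵥ (e ⟨0, hk0⟩) = (1 : Matrix ι ι F) *ᵥ (e ⟨0, hk0⟩) := by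
      rw [h3]
    rw [Matrix.neg_mulVec, Matrix.one_mulVec] at h4
    have h5 : (2 : F) • e ⟨0, hk0⟩ = 0 := by
      rw [two_smul]
      nth_rewrite 1 [← h4]
      simp
    have h6 : e ⟨0, hk0⟩ = 0 := (smul_eq_zero.mp h5).resolve_left h2
    have h7 := hfam.ef ⟨0, hk0⟩ ⟨0, hk0⟩
    rw [h6, if_pos rfl] at h7
    simp [QuadraticMap.polar] at h7
  rw [Nat.card_eq_two_iff]
  refine ⟨1, ⟨z0, hz0c⟩, hne, ?_⟩
  rw [Set.eq_univ_iff_forall]
  intro c
  rcases center_omega_matrix Q hQ hfam hk c.1 c.2 with h | h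
  · left
    apply Subtype.ext
    apply omega_elt_ext
    rw [h]
    simp
  · right
    show c = ⟨z0, hz0c⟩
    apply Subtype.ext
    apply omega_elt_ext
    rw [h]
    exact hg0m.symm

/-- the centre of `Ω` is trivial when `-1 ∉ Ω` or the characteristic is two -/
theorem card_center_omega_one (Q : QuadraticForm F (ι → F))
    (hQ : (QuadraticMap.polarBilin Q).Nondegenerate) {k : ℕ} {e f : Fin k → ι → F}
    (hfam : HypFam Q k e f) (hk : 3 ≤ k)
    (hneg : (2 : F) = 0 ∨ ¬ ∃ g : ↥(Cfsg.isometryGroup F ⇑Q), g ∈ Cfsg.Omega F ⇑Q ∧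
      ((g : GL ι F) : Matrix ι ι F) = -1) :
    Nat.card (Subgroup.center ↥(Cfsg.Omega F ⇑Q)) = 1 := by
  rw [Nat.card_eq_one_iff_unique]
  refine ⟨⟨fun c d => ?_⟩, ⟨1⟩⟩
  have key : ∀ c : ↥(Subgroup.center ↥(Cfsg.Omega F ⇑Q)),
      ((((c : ↥(Cfsg.Omega F ⇑Q)) : ↥(Cfsg.isometryGroup F ⇑Q)) : GL ι F) : Matrix ι ι F) = 1 := by
    intro c
    rcases center_omega_matrix Q hQ hfam hk c.1 c.2 with h | h
    · exact h
    · rcases hneg with h2 | hno
      · rw [h]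
        have : (2 : Matrix ι ι F) = 0 := by
          have h3 : (2 : Matrix ι ι F) = ((2 : F)) • (1 : Matrix ι ι F) := by
            rw [two_smul]; norm_num
          rw [h3, h2, zero_smul]
        rw [neg_eq_iff_add_eq_zero, one_add_one_eq_two]
        exact this
      · exact absurd ⟨c.1.1, c.1.2, h⟩ hno
  apply Subtype.ext
  apply omega_elt_ext
  rw [key c, key d]

theorem card_pomega_mul (Q : (ι → F) → F) :
    Nat.card (Cfsg.POmega F Q) * Nat.card (Subgroup.center ↥(Cfsg.Omega F Q))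
      * (Cfsg.Omega F Q).index = Nat.card ↥(Cfsg.isometryGroup F Q) := by
  rw [← Subgroup.card_eq_card_quotient_mul_card_subgroup, Subgroup.card_mul_index]

end Cfsg.Agent.Lib.Helper37
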