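import Cfsg.Agent.Lib.Helper37.OmegaWitt

set_option autoImplicit false
set_option linter.unusedSectionVars false
set_option linter.unusedVariables false

namespace Cfsg.Agent.Lib.Helper37

open Matrix Module QuadraticMap
open Cfsg.Agent.Lib.Helper8 Cfsg.Agent.Lib.Helper13

variable {ι : Type} [Fintype ι] [DecidableEq ι] {F : Type*} [Field F]

theorem polar_act (Q : QuadraticForm F (ι → F)) (g : ↥(Cfsg.isometryGroup F ⇑Q)) (x y : ι → F) :
    polar ⇑Q (act Q g x) (act Q g y) = polar ⇑Q x y := by
  unfold polar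
  rw [← act_add, Q_act, Q_act, Q_act]

theorem act_inv_eq (Q : QuadraticForm F (ι → F)) (g : ↥(Cfsg.isometryGroup F ⇑Q)) (x y : ι → F)
    (h : act Q g x = y) : act Q g⁻¹ y = x := by
  rw [← h, ← act_mul, inv_mul_cancel, act_one]

theorem act_zero (Q : QuadraticForm F (ι → F)) (g : ↥(Cfsg.isometryGroup F ⇑Q)) :
    act Q g 0 = 0 := Matrix.mulVec_zero _

theorem act_eq_zero (Q : QuadraticForm F (ι → F)) (g : ↥(Cfsg.isometryGroup F ⇑Q)) (x : ι → F)
    (h : act Q g x = 0) : x = 0 := by
  have := act_inv_eq Q g x 0 h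
  rw [act_zero] at this
  exact this.symm

namespace HypFam

variable {Q : QuadraticForm F (ι → F)} {k : ℕ} {e f : Fin k → ι → F}

theorem e_ne_zero (h : HypFam Q k e f) (i : Fin k) : e i ≠ 0 := by
  intro h0
  have := h.ef i i
  rw [h0, if_pos rfl] at this
  simp [polar] at this

theorem f_ne_zero (h : HypFam Q k e f) (i : Fin k) : f i ≠ 0 := by
  intro h0
  have := h.ef i i
  rw [h0, if_pos rfl] at this
  simp [polar] at this

theorem fe (h : HypFam Q k e f) (i j : Fin k) :
    polar ⇑Q (f i) (e j) = if i = j then 1 else 0 := by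
  rw [polar_comm, h.ef]
  by_cases hij : i = j
  · rw [if_pos hij, if_pos hij.symm]
  · rw [if_neg hij, if_neg (Ne.symm hij)]

/-- a vector of norm `c` orthogonal to the other hyperbolic pairs -/
theorem compl_vec (h : HypFam Q k e f) (j : Fin k) (c : F) :
    Q (e j + c • f j) = c ∧ (∀ i, i ≠ j → polar ⇑Q (e j + c • f j) (e i) = 0) ∧
      (∀ i, i ≠ j → polar ⇑Q (e j + c • f j) (f i) = 0) := by
  refine ⟨?_, ?_, ?_⟩
  · have := h.Q_comb j 1 c
    rw [one_smul, one_mul] at this
    exact this
  · intro i hij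
    rw [polar_add_left, polar_smul_left, h.ee, h.fe, if_neg (Ne.symm hij)]
    simp
  · intro i hij
    rw [polar_add_left, polar_smul_left, h.ef, h.ff, if_neg (Ne.symm hij)]
    simp

end HypFam

section frames

variable [Fintype F] (Q : QuadraticForm F (ι → F))
  (hQ : (QuadraticMap.polarBilin Q).Nondegenerate) {k : ℕ} {e f : Fin k → ι → F}
  (hfam : HypFam Q k e f) (hk : 3 ≤ k)
  (hcard : Fintype.card F ≠ 2 ∨ finrank F (ι → F) ≠ 4)

include hQ hfam hk hcard

/-- `Ω` is transitive on nonzero singular vectors -/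
theorem omega_to_e0 (u : ι → F) (hu0 : u ≠ 0) (hu : Q u = 0) :
    ∃ g : ↥(Cfsg.isometryGroup F ⇑Q), g ∈ Cfsg.Omega F ⇑Q ∧ act Q g u = e ⟨0, by omega⟩ := by
  obtain ⟨g, hg, hgx⟩ := omega_witt_frame Q hQ hcard 1 ![u] ![e ⟨0, by omega⟩]
    (linearIndependent_unique_iff.mpr hu0)
    (linearIndependent_unique_iff.mpr (hfam.e_ne_zero _))
    (by intro i; fin_cases i; simp [hu, hfam.qe])
    (by
      intro i j; fin_cases i; fin_cases j
      simp only [Fin.zero_eta, Fin.isValue, Matrix.cons_val_zero]
      rw [polar_self, polar_self, hu, hfam.qe])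
    (by
      intro c hc
      obtain ⟨h1, h2, h3⟩ := hfam.compl_vec ⟨1, by omega⟩ c
      refine ⟨_, h1, ?_⟩
      intro i; fin_cases i
      exact h2 _ (by intro hh; have := congrArg Fin.val hh; simp at this))
  exact ⟨g, hg, hgx 0⟩

/-- moving an orthogonal singular pair to the standard one -/
theorem omega_to_e0e1 (u v : ι → F) (hu0 : u ≠ 0) (hu : Q u = 0) (hv : Q v = 0)
    (huv : polar ⇑Q u v = 0) (hind : ∀ c : F, v ≠ c • u) :
    ∃ g : ↥(Cfsg.isometryGroup F ⇑Q), g ∈ Cfsg.Omega F ⇑Q ∧ act Q g u = e ⟨0, by omega⟩ ∧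
      act Q g v = e ⟨1, by omega⟩ := by
  have h01 : (⟨0, by omega⟩ : Fin k) ≠ ⟨1, by omega⟩ := by
    intro hh; have := congrArg Fin.val hh; simp at this
  obtain ⟨g, hg, hgx⟩ := omega_witt_frame Q hQ hcard 2 ![u, v]
    ![e ⟨0, by omega⟩, e ⟨1, by omega⟩]
    ((LinearIndependent.pair_iff' hu0).mpr (fun a ha => hind a ha.symm))
    ((LinearIndependent.pair_iff' (hfam.e_ne_zero _)).mpr (by
      intro a ha
      have := congrArg (fun x => polar ⇑Q x (f ⟨1, by omega⟩)) ha
      simp only [polar_smul_left, hfam.ef, if_neg h01] at this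
      simp at this))
    (by
      intro i; fin_cases i
      · simp [hu, hfam.qe]
      · simp [hv, hfam.qe])
    (by
      intro i j; fin_cases i <;> fin_cases j
      · simp only [Fin.zero_eta, Fin.isValue, Matrix.cons_val_zero]
        rw [polar_self, polar_self, hu, hfam.qe]
      · simp only [Fin.zero_eta, Fin.isValue, Matrix.cons_val_zero, Fin.mk_one,
          Matrix.cons_val_one, Matrix.cons_val_fin_one]
        rw [hfam.ee, huv]
      · simp only [Fin.zero_eta, Fin.isValue, Matrix.cons_val_zero, Fin.mk_one,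
          Matrix.cons_val_one, Matrix.cons_val_fin_one]
        rw [hfam.ee, polar_comm, huv]
      · simp only [Fin.isValue, Fin.mk_one, Matrix.cons_val_one, Matrix.cons_val_fin_one]
        rw [polar_self, polar_self, hv, hfam.qe])
    (by
      intro c hc
      obtain ⟨h1, h2, h3⟩ := hfam.compl_vec ⟨2, by omega⟩ c
      refine ⟨_, h1, ?_⟩
      intro i; fin_cases i
      · exact h2 _ (by intro hh; have := congrArg Fin.val hh; simp at this)
      · exact h2 _ (by intro hh; have := congrArg Fin.val hh; simp at this))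
  exact ⟨g, hg, hgx 0, hgx 1⟩

/-- moving a hyperbolic pair to the standard one -/
theorem omega_to_e0f0 (u v : ι → F) (hu : Q u = 0) (hv : Q v = 0)
    (huv : polar ⇑Q u v = 1) :
    ∃ g : ↥(Cfsg.isometryGroup F ⇑Q), g ∈ Cfsg.Omega F ⇑Q ∧ act Q g u = e ⟨0, by omega⟩ ∧
      act Q g v = f ⟨0, by omega⟩ := by
  have hu0 : u ≠ 0 := by
    rintro rfl
    simp [polar] at huv
  obtain ⟨g, hg, hgx⟩ := omega_witt_frame Q hQ hcard 2 ![u, v]
    ![e ⟨0, by omega⟩, f ⟨0, by omega⟩]
    ((LinearIndependent.pair_iff' hu0).mpr (by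
      intro a ha
      have := congrArg (fun x => polar ⇑Q u x) ha
      simp only [polar_smul_right, huv] at this
      rw [polar_self, hu] at this
      simp at this))
    ((LinearIndependent.pair_iff' (hfam.e_ne_zero _)).mpr (by
      intro a ha
      have := congrArg (fun x => polar ⇑Q (e ⟨0, by omega⟩) x) ha
      simp only [polar_smul_right, hfam.ef, hfam.ee] at this
      simp at this))
    (by
      intro i; fin_cases i
      · simp [hu, hfam.qe]
      · simp [hv, hfam.qf])
    (by
      intro i j; fin_cases i <;> fin_cases j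
      · simp only [Fin.zero_eta, Fin.isValue, Matrix.cons_val_zero]
        rw [polar_self, polar_self, hu, hfam.qe]
      · simp only [Fin.zero_eta, Fin.isValue, Matrix.cons_val_zero, Fin.mk_one,
          Matrix.cons_val_one, Matrix.cons_val_fin_one]
        rw [hfam.ef, huv, if_pos rfl]
      · simp only [Fin.zero_eta, Fin.isValue, Matrix.cons_val_zero, Fin.mk_one,
          Matrix.cons_val_one, Matrix.cons_val_fin_one]
        rw [hfam.fe, polar_comm, huv, if_pos rfl]
      · simp only [Fin.isValue, Fin.mk_one, Matrix.cons_val_one, Matrix.cons_val_fin_one]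
        rw [polar_self, polar_self, hv, hfam.qf])
    (by
      intro c hc
      obtain ⟨h1, h2, h3⟩ := hfam.compl_vec ⟨1, by omega⟩ c
      refine ⟨_, h1, ?_⟩
      intro i; fin_cases i
      · exact h2 _ (by intro hh; have := congrArg Fin.val hh; simp at this)
      · exact h3 _ (by intro hh; have := congrArg Fin.val hh; simp at this))
  exact ⟨g, hg, hgx 0, hgx 1⟩

end frames

end Cfsg.Agent.Lib.Helper37
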