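import Cfsg.Agent.Lib.Helper37.OmegaCenter3
import Cfsg.Agent.Lib.Helper8.OmegaTransitive

set_option autoImplicit false
set_option linter.unusedSectionVars false
set_option linter.unusedVariables false

namespace Cfsg.Agent.Lib.Helper37

open Matrix Module QuadraticMap
open Cfsg.Agent.Lib.Helper8 Cfsg.Agent.Lib.Helper13

variable {ι : Type} [Fintype ι] [DecidableEq ι] {F : Type*} [Field F]

/-- the isometries fixing every member of a family of vectors -/
def fixFam (Q : QuadraticForm F (ι → F)) {n : ℕ} (y : Fin n → ι → F) :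
    Subgroup ↥(Cfsg.isometryGroup F ⇑Q) where
  carrier := {h | ∀ i, act Q h (y i) = y i}
  one_mem' := fun i => act_one Q _
  mul_mem' := by
    intro a b ha hb i
    show act Q (a * b) (y i) = y i
    rw [act_mul, hb i, ha i]
  inv_mem' := by
    intro a ha i
    show act Q a⁻¹ (y i) = y i
    have h1 : act Q a (y i) = y i := ha i
    calc act Q a⁻¹ (y i) = act Q a⁻¹ (act Q a (y i)) := by rw [h1]
      _ = y i := by rw [← act_mul, inv_mul_cancel, act_one]

theorem reflElt_mem_fixFam (Q : QuadraticForm F (ι → F)) {n : ℕ} (y : Fin n → ι → F)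
    (a : ι → F) (ha : Q a ≠ 0) (hay : ∀ i, polar ⇑Q a (y i) = 0) :
    reflElt Q a ha ∈ fixFam Q y := by
  intro i
  rw [act_refl, hay i, mul_zero, zero_smul, sub_zero]

/-- Witt's theorem inside `Ω` for families of vectors, when the target family has
orthogonal vectors of every norm -/
theorem omega_witt_frame [Fintype F] (Q : QuadraticForm F (ι → F))
    (hQ : (QuadraticMap.polarBilin Q).Nondegenerate)
    (hcard : Fintype.card F ≠ 2 ∨ finrank F (ι → F) ≠ 4)
    (n : ℕ) (x y : Fin n → ι → F) (hx : LinearIndependent F x) (hy : LinearIndependent F y)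
    (hq : ∀ i, Q (y i) = Q (x i)) (hp : ∀ i j, polar ⇑Q (y i) (y j) = polar ⇑Q (x i) (x j))
    (hab : ∀ c : F, c ≠ 0 → ∃ a, Q a = c ∧ ∀ i, polar ⇑Q a (y i) = 0) :
    ∃ g : ↥(Cfsg.isometryGroup F ⇑Q), g ∈ Cfsg.Omega F ⇑Q ∧ ∀ i, act Q g (x i) = y i := by
  classical
  obtain ⟨g₀, hg₀, hg₀x⟩ := witt_family_quad Q hQ n x y hx hy hq hp
  set G₀ := isoOfEquiv Q g₀ hg₀ with hG₀
  have hG₀x : ∀ i, act Q G₀ (x i) = y i := by
    intro i
    unfold act
    rw [hG₀, isoOfEquiv_mulVec, hg₀x]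
  have hfin : ∃ h ∈ fixFam Q y, h * G₀ ∈ commutator ↥(Cfsg.isometryGroup F ⇑Q) := by
    by_cases h2 : (2 : F) = 0
    · obtain ⟨a, ha, hay⟩ := hab 1 one_ne_zero
      have ha0 : Q a ≠ 0 := by rw [ha]; exact one_ne_zero
      exact exists_adjust_char2 h2 Q hQ hcard (fixFam Q y) a ha0
        (reflElt_mem_fixFam Q y a ha0 hay) G₀
    · obtain ⟨α, hα⟩ := FiniteField.exists_nonsquare
        (Cfsg.Agent.Lib.Helper37.ringChar_ne_two_of_two_ne_zero h2) (F := F)
      have hα0 : α ≠ 0 := by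
        rintro rfl
        exact hα ⟨0, by simp⟩
      obtain ⟨a, ha, hay⟩ := hab 1 one_ne_zero
      obtain ⟨b, hb, hby⟩ := hab α hα0
      have ha0 : Q a ≠ 0 := by rw [ha]; exact one_ne_zero
      have hb0 : Q b ≠ 0 := by rw [hb]; exact hα0
      have hG := isGram_of_quadraticForm h2 Q
      have hker := hG.ker_signPair (det_ne_zero_of_nondegenerate Q hQ) α hα
      have hpa := signPair_reflElt_sq h2 Q α hα a ha0 (by rw [ha]; exact ⟨1, by simp⟩)
      have hpb := signPair_reflElt_nonsq h2 Q α hα b hb0 (by rw [hb]; exact hα)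
      obtain ⟨h, hS, hmem⟩ := exists_adjust_klein
        (IsGram.signPair (⇑Q) α) (fixFam Q y) _ _
        (reflElt_mem_fixFam Q y a ha0 hay) (reflElt_mem_fixFam Q y b hb0 hby)
        (by rw [hpa]; decide) (by rw [hpb]; decide) (by rw [hpa, hpb]; decide) G₀
      rw [hker] at hmem
      exact ⟨h, hS, hmem⟩
  obtain ⟨h, hS, hmem⟩ := hfin
  refine ⟨h * G₀, hmem, fun i => ?_⟩
  rw [act_mul, hG₀x i]
  exact hS i

end Cfsg.Agent.Lib.Helper37
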