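import Cfsg.Agent.Lib.Helper37.MBalGlue5
import Cfsg.Agent.Lib.Helper99.MBalField

set_option autoImplicit false
set_option linter.unusedSectionVars false
set_option linter.unusedVariables false

/-!
# S2733: local balance for `PΩ⁻`: dispatch and assembly
-/

namespace Cfsg.Agent.Lib.Helper37.MBal

open Matrix Module QuadraticMap
open Cfsg.Agent.Lib.Helper37 Cfsg.Agent.Lib.Helper37.OrthField Cfsg.Agent.Lib.Helper8
open Cfsg.Agent.Lib.Helper37.IsGram Cfsg.Agent.Lib.Helper37.GraphInv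
open Cfsg.Agent.Lib.Helper45.Balance Cfsg.Agent.Lib.Helper43

universe u

section simMpow

variable {m : ℕ} {F : Type u} [Field F] [Fintype F] (a b : F)
  {K : Type u} [Field K] [Fintype K] [Algebra F K]
  (θ : K) (hθ : θ ^ 2 + algebraMap F K a * θ + algebraMap F K b = 0)
  (hnd : (polarBilin (minusForm m F a b)).Nondegenerate)

theorem simM_conj_mem (n g : ↥(Cfsg.Geo.quadSimilarityGroup (F := F) ⇑(minusForm m F a b)))
    (hn : n ∈ simM a b θ hθ hnd) : g * n * g⁻¹ ∈ simM a b θ hθ hnd := by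
  have h1 := simM_comm a b θ hθ hnd g n
  have h2 := (simM a b θ hθ hnd).mul_mem h1 hn
  have e : g * n * g⁻¹ * n⁻¹ * n = g * n * g⁻¹ := by group
  rwa [e] at h2

theorem simM_sq_mem (g : ↥(Cfsg.Geo.quadSimilarityGroup (F := F) ⇑(minusForm m F a b))) :
    g * g ∈ simM a b θ hθ hnd := by
  by_cases hg : g ∈ simM a b θ hθ hnd
  · exact (simM a b θ hθ hnd).mul_mem hg hg
  · obtain ⟨u, hu⟩ := minus_hne' (m := m) a b
    set r : ↥(Cfsg.Geo.quadSimilarityGroup (F := F) ⇑(minusForm m F a b)) :=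
      ⟨(reflElt (minusForm m F a b) u hu).1, isom_le_sim _ (reflElt (minusForm m F a b) u hu).2⟩
      with hr
    have h1 : g * r ∈ simM a b θ hθ hnd := (simM_mul_refl_iff a b θ hθ hnd u hu g).2 hg
    have hrr : r * r = 1 := by
      apply Subtype.ext
      have := reflElt_mul_self (minusForm m F a b) u hu
      exact congrArg (fun z : ↥(Cfsg.isometryGroup F ⇑(minusForm m F a b)) => z.1) this
    have h2 : r * (g * r) * r⁻¹ ∈ simM a b θ hθ hnd := simM_conj_mem a b θ hθ hnd _ r h1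
    have h3 := (simM a b θ hθ hnd).mul_mem h1 h2
    have e : g * r * (r * (g * r) * r⁻¹) = g * (r * r) * g * (r * r⁻¹) := by group
    rw [e, hrr, mul_inv_cancel, mul_one, mul_one] at h3
    exact h3

theorem simM_pow_odd (g : ↥(Cfsg.Geo.quadSimilarityGroup (F := F) ⇑(minusForm m F a b)))
    (hg : g ∉ simM a b θ hθ hnd) (k : ℕ) (hk : Odd k) : g ^ k ∉ simM a b θ hθ hnd := by
  obtain ⟨j, rfl⟩ := hk
  intro h
  apply hg
  have h1 : (g * g) ^ j ∈ simM a b θ hθ hnd :=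
    (simM a b θ hθ hnd).pow_mem (simM_sq_mem a b θ hθ hnd g) j
  have e : g = ((g * g) ^ j)⁻¹ * g ^ (2 * j + 1) := by
    rw [← pow_two, ← pow_mul, pow_succ, ← mul_assoc, inv_mul_cancel, one_mul]
  rw [e]
  exact (simM a b θ hθ hnd).mul_mem ((simM a b θ hθ hnd).inv_mem h1) h

end simMpow

section main

variable {m : ℕ} {F : Type u} [Field F] [Fintype F]

/-- the graph case: the core is trivial -/
theorem minus_graph_case (hm : 3 ≤ m) (a b : F)
    (hab : ∀ z₁ z₂ : F, z₁ ^ 2 + a * z₁ * z₂ + b * z₂ ^ 2 = 0 → z₁ = 0 ∧ z₂ = 0)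
    (hAut : AutSemi ⇑(minusForm m F a b))
    [hK : IsSimpleGroup (Cfsg.POmega F ⇑(minusForm m F a b))]
    (A : Subgroup (MulAut (Cfsg.POmega F ⇑(minusForm m F a b))))
    (hinn : ∀ k : Cfsg.POmega F ⇑(minusForm m F a b), MulAut.conj k ∈ A)
    (hoddF : Odd (Fintype.card F))
    (g : ↥(Cfsg.Geo.quadSimilarityGroup (F := F) ⇑(minusForm m F a b)))
    (hgdet : (g.1 : Matrix ((Fin m ⊕ Fin m) ⊕ Fin 2) ((Fin m ⊕ Fin m) ⊕ Fin 2) F).det ≠
        (simMult ⇑(minusForm m F a b) g : F) ^ (m + 1))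
    (hx1 : Phi ⇑(minusForm m F a b) g ≠ 1)
    (hx2 : Phi ⇑(minusForm m F a b) g * Phi ⇑(minusForm m F a b) g = 1) :
    Cfsg.pPrimeCore 2 ↥(A ⊓ Subgroup.centralizer {Phi ⇑(minusForm m F a b) g}) = ⊥ := by
  classical
  haveI : Nonempty ((Fin m ⊕ Fin m) ⊕ Fin 2) := ⟨Sum.inr 0⟩
  have hn : finrank F ((Fin m ⊕ Fin m) ⊕ Fin 2 → F) = 2 * (m + 1) := minus_hV
  have hcard : Fintype.card F ≠ 2 ∨ finrank F ((Fin m ⊕ Fin m) ⊕ Fin 2 → F) ≠ 4 :=
    Or.inr (by rw [hn]; omega)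
  have hn5 : 5 ≤ finrank F ((Fin m ⊕ Fin m) ⊕ Fin 2 → F) := by rw [hn]; omega
  have hn2 : (2 : F) = 0 → 7 ≤ finrank F ((Fin m ⊕ Fin m) ⊕ Fin 2 → F) :=
    fun _ => by rw [hn]; omega
  have hnd : (polarBilin (minusForm m F a b)).Nondegenerate :=
    (minus_family m F a b).nondegenerate (minusForm_zero_nondegenerate F a b hab)
  have hperf := commutator_omega_eq_top (minusForm m F a b) hnd hn5 hn2
  have hZ := pomega_conj_injective ⇑(minusForm m F a b) hperf
  have hΨ := Psi_eq_one_iff (minusForm m F a b) hnd (minus_hypFam37 m F a b) hm hcard hn5 hn2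
  have hker := Phi_eq_one_iff (minusForm m F a b) hnd (minus_hypFam37 m F a b) hm hcard hn5 hn2
  have hcen := center_omega_matrix (minusForm m F a b) hnd (minus_hypFam37 m F a b) hm
  have h2 : (2 : F) ≠ 0 := two_ne_zero_of_odd_card hoddF
  have hG : IsGram ⇑(minusForm m F a b) (gramM m F a b) := by
    rw [← minusForm_coe]; exact minus_isGram h2 m a b
  have hdet := gramM_det_ne_zero h2 m a b hab
  have hN := minus_card_two_mul m
  have hn2' : 2 ≤ Fintype.card ((Fin m ⊕ Fin m) ⊕ Fin 2) := by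
    rw [minus_card_two_mul]; omega
  have hdim : 6 ≤ Fintype.card ((Fin m ⊕ Fin m) ⊕ Fin 2) := by
    rw [minus_card_two_mul]; omega
  have hgC : g ∉ simC hG hdet hN hn2' := by
    rw [mem_simC_iff hG hdet hN hn2' hker]
    exact hgdet
  have hgood := goodE_graph hG hdet hN hn2' hker hcen hAut hΨ hdim g hgC hx1 hx2
  exact hgood.core_eq_bot hZ A hinn

end main

end Cfsg.Agent.Lib.Helper37.MBal
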