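import Cfsg.Agent.Lib.Helper37.MBalMain1

set_option autoImplicit false
set_option linter.unusedSectionVars false
set_option linter.unusedVariables false
set_option maxHeartbeats 800000

/-!
# S2733: local balance for `PΩ⁻`: the main theorem
-/

namespace Cfsg.Agent.Lib.Helper37.MBal

open Matrix Module QuadraticMap
open Cfsg.Agent.Lib.Helper37 Cfsg.Agent.Lib.Helper37.OrthField Cfsg.Agent.Lib.Helper8
open Cfsg.Agent.Lib.Helper37.IsGram Cfsg.Agent.Lib.Helper37.GraphInv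
open Cfsg.Agent.Lib.Helper45.Balance Cfsg.Agent.Lib.Helper43

universe u

variable {m : ℕ} {F : Type u} [Field F] [Fintype F]

theorem minus_balance_bundled (hm : 3 ≤ m) (a b : F)
    (hab : ∀ z₁ z₂ : F, z₁ ^ 2 + a * z₁ * z₂ + b * z₂ ^ 2 = 0 → z₁ = 0 ∧ z₂ = 0)
    (hAutAll : ∀ a' b' : F,
      (∀ z₁ z₂ : F, z₁ ^ 2 + a' * z₁ * z₂ + b' * z₂ ^ 2 = 0 → z₁ = 0 ∧ z₂ = 0) →
      AutSemi ⇑(minusForm m F a' b'))
    [hK : IsSimpleGroup (Cfsg.POmega F ⇑(minusForm m F a b))]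
    (A : Subgroup (MulAut (Cfsg.POmega F ⇑(minusForm m F a b))))
    (hinn : ∀ k : Cfsg.POmega F ⇑(minusForm m F a b), MulAut.conj k ∈ A)
    {p : ℕ} [hpF : Fact p.Prime] (hp2 : p = 2 → Odd (Fintype.card F))
    (x : MulAut (Cfsg.POmega F ⇑(minusForm m F a b))) (hord : orderOf x = p)
    (hnot : ¬ ∃ g : GL ((Fin m ⊕ Fin m) ⊕ Fin 2) F,
      g ∈ Cfsg.Geo.quadSimilarityGroup (F := F) ⇑(minusForm m F a b) ∧
      Cfsg.PreservesSingularClassesMinus m a b
        (g : Matrix ((Fin m ⊕ Fin m) ⊕ Fin 2) ((Fin m ⊕ Fin m) ⊕ Fin 2) F) ∧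
      Cfsg.IsInducedBySemilinearPOmega ⇑(minusForm m F a b) g (RingEquiv.refl F) x) :
    Cfsg.pPrimeCore p ↥(A ⊓ Subgroup.centralizer {x}) ≠ ⊥ ↔
      ((∃ (a' b' : F) (ψ : Cfsg.POmega F ⇑(minusForm m F a b) ≃*
          Cfsg.POmega F (Cfsg.quadFormMinus m F a' b')) (σ : F ≃+* F),
        (∀ z₁ z₂ : F, z₁ ^ 2 + a' * z₁ * z₂ + b' * z₂ ^ 2 = 0 → z₁ = 0 ∧ z₂ = 0) ∧
        σ ≠ RingEquiv.refl F ∧ σ a' = a' ∧ σ b' = b' ∧
        Cfsg.IsFieldAutPOmegaOf (Cfsg.quadFormMinus m F a' b') σ ((ψ.symm.trans x).trans ψ)) ∧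
      Nat.Coprime p (Nat.card ↥(MonoidHom.eqLocus x.toMonoidHom
        (MonoidHom.id (Cfsg.POmega F ⇑(minusForm m F a b)))))) := by
  classical
  haveI : Nonempty ((Fin m ⊕ Fin m) ⊕ Fin 2) := ⟨Sum.inr 0⟩
  have hn : finrank F ((Fin m ⊕ Fin m) ⊕ Fin 2 → F) = 2 * (m + 1) := minus_hV
  have hcard : Fintype.card F ≠ 2 ∨ finrank F ((Fin m ⊕ Fin m) ⊕ Fin 2 → F) ≠ 4 :=
    Or.inr (by rw [hn]; omega)
  have hn5 : 5 ≤ finrank F ((Fin m ⊕ Fin m) ⊕ Fin 2 → F) := by rw [hn]; omega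
  have hn2 : (2 : F) = 0 → 7 ≤ finrank F ((Fin m ⊕ Fin m) ⊕ Fin 2 → F) :=
    fun _ => by rw [hn]; omega
  have hnd : (polarBilin (minusForm m F a b)).Nondegenerate :=
    (minus_family m F a b).nondegenerate (minusForm_zero_nondegenerate F a b hab)
  have hAut := hAutAll a b hab
  have hperf := commutator_omega_eq_top (minusForm m F a b) hnd hn5 hn2
  have hZ := pomega_conj_injective ⇑(minusForm m F a b) hperf
  have hker := Phi_eq_one_iff (minusForm m F a b) hnd (minus_hypFam37 m F a b) hm hcard hn5 hn2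
  have hpp : p.Prime := hpF.out
  have hxp : x ^ p = 1 := by rw [← hord]; exact pow_orderOf_eq_one x
  have hx1 : x ≠ 1 := by
    intro h
    rw [h, orderOf_one] at hord
    exact hpp.one_lt.ne hord
  obtain ⟨px, hpx⟩ := hAut x
  by_cases hσ : px.1.right = 1
  · -- the graph case
    have hpe := eq_simToSemi_of_right_eq_one ⇑(minusForm m F a b) px hσ
    obtain ⟨g, hgdef⟩ : ∃ g : ↥(Cfsg.Geo.quadSimilarityGroup (F := F) ⇑(minusForm m F a b)),
        g = ⟨px.1.left, mem_sim_of_right_eq_one ⇑(minusForm m F a b) px hσ⟩ := ⟨_, rfl⟩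
    have hxg : x = Phi ⇑(minusForm m F a b) g := by
      rw [hpx, hpe, Psi_simToSemi, hgdef]
    clear hpe hgdef hpx
    subst hxg
    obtain ⟨K, _, _, θ, hK2, hθ⟩ := exists_quad_ext_root a b hab
    haveI : Module.Finite F K := Module.finite_of_finrank_pos (by rw [hK2]; norm_num)
    haveI : Finite K := Module.finite_of_finite F
    haveI : Fintype K := Fintype.ofFinite K
    have hgM : g ∉ simM a b θ hθ hnd := by
      intro hg
      apply hnot
      refine ⟨g.1, g.2, ⟨K, _, _, hK2, ?_⟩, (isInduced_iff _ g.1 g.2 _).2 rfl⟩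
      exact (mem_simM_iff_preserves a b θ hθ hnd g).1 hg
    have hp : p = 2 := by
      by_contra hne
      have hodd : Odd p := hpp.odd_of_ne_two hne
      have h1 : Phi ⇑(minusForm m F a b) (g ^ p) = 1 := by rw [map_pow, hxp]
      obtain ⟨c, hc⟩ := (hker _).1 h1
      obtain ⟨c', hc'⟩ := exists_scalar_of_smul _ c hc
      have e : g ^ p = scO (minusForm m F a b) c' := Subtype.ext hc'
      apply simM_pow_odd a b θ hθ hnd g hgM p hodd
      rw [e]
      exact simM_scalar a b θ hθ hnd c'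
    subst hp
    have hoddF := hp2 rfl
    have hgdet : (g.1 : Matrix ((Fin m ⊕ Fin m) ⊕ Fin 2) ((Fin m ⊕ Fin m) ⊕ Fin 2) F).det ≠
        (simMult ⇑(minusForm m F a b) g : F) ^ (m + 1) := by
      intro hd
      exact hgM ((mem_simM_iff_det a b θ hθ hnd hoddF hK2 hab g).2 hd)
    have hx2 : Phi ⇑(minusForm m F a b) g * Phi ⇑(minusForm m F a b) g = 1 := by
      rw [← pow_two]; exact hxp
    have hL := minus_graph_case hm a b hab hAut A hinn hoddF g hgdet hx1 hx2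
    constructor
    · intro h
      exact absurd hL h
    · rintro ⟨hfc, -⟩
      exfalso
      obtain ⟨p', hp', hσ'⟩ := minus_class_pair hm a b hab hAutAll _ hfc
      have : p'.1.right = 1 := minus_right_eq_one hoddF hm a b hab p' (by
        rw [← hp']; exact hxp)
      exact hσ' this
  · -- the field case
    subst hpx
    have hpodd : Odd p := by
      by_contra hne
      have hp : p = 2 := by
        rcases hpp.eq_two_or_odd' with h | h
        · exact h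
        · exact absurd h hne
      subst hp
      have := minus_right_eq_one (hp2 rfl) hm a b hab px hxp
      exact hσ this
    obtain ⟨hfc, L, hgood⟩ := minus_field_good hpodd hm a b hab hAutAll px hσ hxp
    have hxInn : Psi ⇑(minusForm m F a b) px ∉ Cfsg.Inn (Cfsg.POmega F ⇑(minusForm m F a b)) := by
      intro hin
      obtain ⟨s, hs, hxs⟩ := (mem_inn_iff _).1 hin
      have h1 : Psi ⇑(minusForm m F a b) px =
          Psi ⇑(minusForm m F a b) (simToSemi ⇑(minusForm m F a b)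
            (isoGO ⇑(minusForm m F a b) s)) := by
        rw [hxs, Psi_simToSemi]
      have := right_eq_of_Psi_eq (minusForm m F a b) hnd (minus_hypFam37 m F a b) hm hcard hn5
        hn2 px _ h1
      rw [simToSemi_right] at this
      exact hσ this
    have key := Good.core_ne_bot_iff hZ A hinn hord hxInn hgood
    rw [key]
    constructor
    · intro h
      exact ⟨hfc, h⟩
    · exact fun h => h.2

/-- local balance for `PΩ⁻`, given the automorphism theorem -/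
theorem minus_balance_main {r : ℕ} [Fact r.Prime] [CharP F r] (hm : 3 ≤ m) (a b : F)
    (hab : ∀ z₁ z₂ : F, z₁ ^ 2 + a * z₁ * z₂ + b * z₂ ^ 2 = 0 → z₁ = 0 ∧ z₂ = 0)
    (hAut : ∀ a' b' : F,
      (∀ z₁ z₂ : F, z₁ ^ 2 + a' * z₁ * z₂ + b' * z₂ ^ 2 = 0 → z₁ = 0 ∧ z₂ = 0) →
      ∀ α : MulAut (Cfsg.POmega F (Cfsg.quadFormMinus m F a' b')),
      ∃ (g : GL ((Fin m ⊕ Fin m) ⊕ Fin 2) F) (σ : F ≃+* F),
        Cfsg.IsSemisimilarityPair (Cfsg.quadFormMinus m F a' b') g σ ∧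
        Cfsg.IsInducedBySemilinearPOmega (Cfsg.quadFormMinus m F a' b') g σ α)
    (hK : IsSimpleGroup (Cfsg.POmega F (Cfsg.quadFormMinus m F a b)))
    (A : Subgroup (MulAut (Cfsg.POmega F (Cfsg.quadFormMinus m F a b))))
    (hinn : ∀ k : Cfsg.POmega F (Cfsg.quadFormMinus m F a b), MulAut.conj k ∈ A)
    {p : ℕ} [Fact p.Prime] (hpr : p ≠ r)
    (x : MulAut (Cfsg.POmega F (Cfsg.quadFormMinus m F a b))) (hord : orderOf x = p)
    (hnot : ¬ Cfsg.IsInnerDiagonalAutPOmegaMinus m a b x) :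
    Cfsg.pPrimeCore p ↥(A ⊓ Subgroup.centralizer {x}) ≠ ⊥ ↔
      (Cfsg.IsFieldAutClassPOmegaMinus m x ∧
        Nat.Coprime p (Nat.card ↥(MonoidHom.eqLocus x.toMonoidHom
          (MonoidHom.id (Cfsg.POmega F (Cfsg.quadFormMinus m F a b)))))) := by
  have hAut' : ∀ a' b' : F,
      (∀ z₁ z₂ : F, z₁ ^ 2 + a' * z₁ * z₂ + b' * z₂ ^ 2 = 0 → z₁ = 0 ∧ z₂ = 0) →
      AutSemi ⇑(minusForm m F a' b') := by
    intro a' b' hab'
    have := autSemi_of_raw _ (hAut a' b' hab')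
    rw [minusForm_coe] at this
    exact this
  have hp2 : p = 2 → Odd (Fintype.card F) := by
    intro hp
    have hr2 : r ≠ 2 := fun h => hpr (hp.trans h.symm)
    have h2 : (2 : F) ≠ 0 := by
      intro h
      have h3 : ((2 : ℕ) : F) = 0 := by exact_mod_cast h
      rw [CharP.cast_eq_zero_iff F r] at h3
      exact hr2 ((Nat.prime_dvd_prime_iff_eq (Fact.out : r.Prime) Nat.prime_two).1 h3)
    rw [Nat.odd_iff]
    exact FiniteField.odd_card_of_char_ne_two (ringChar_ne_two_of_two_ne_zero h2)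
  have key : ∀ (Qf : ((Fin m ⊕ Fin m) ⊕ Fin 2 → F) → F), Qf = ⇑(minusForm m F a b) →
      ∀ (hK : IsSimpleGroup (Cfsg.POmega F Qf)) (A : Subgroup (MulAut (Cfsg.POmega F Qf)))
        (hinn : ∀ k : Cfsg.POmega F Qf, MulAut.conj k ∈ A)
        (x : MulAut (Cfsg.POmega F Qf)) (hord : orderOf x = p)
        (hnot : ¬ ∃ g : GL ((Fin m ⊕ Fin m) ⊕ Fin 2) F,
          g ∈ Cfsg.Geo.quadSimilarityGroup (F := F) Qf ∧
          Cfsg.PreservesSingularClassesMinus m a b
            (g : Matrix ((Fin m ⊕ Fin m) ⊕ Fin 2) ((Fin m ⊕ Fin m) ⊕ Fin 2) F) ∧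
          Cfsg.IsInducedBySemilinearPOmega Qf g (RingEquiv.refl F) x),
      Cfsg.pPrimeCore p ↥(A ⊓ Subgroup.centralizer {x}) ≠ ⊥ ↔
        ((∃ (a' b' : F) (ψ : Cfsg.POmega F Qf ≃*
            Cfsg.POmega F (Cfsg.quadFormMinus m F a' b')) (σ : F ≃+* F),
          (∀ z₁ z₂ : F, z₁ ^ 2 + a' * z₁ * z₂ + b' * z₂ ^ 2 = 0 → z₁ = 0 ∧ z₂ = 0) ∧
          σ ≠ RingEquiv.refl F ∧ σ a' = a' ∧ σ b' = b' ∧
          Cfsg.IsFieldAutPOmegaOf (Cfsg.quadFormMinus m F a' b') σ
            ((ψ.symm.trans x).trans ψ)) ∧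
        Nat.Coprime p (Nat.card ↥(MonoidHom.eqLocus x.toMonoidHom
          (MonoidHom.id (Cfsg.POmega F Qf))))) := by
    intro Qf hQf
    subst hQf
    intro hK A hinn x hord hnot
    haveI := hK
    exact minus_balance_bundled hm a b hab hAut' A hinn hp2 x hord hnot
  exact key _ (minusForm_coe m F a b) hK A hinn x hord hnot

end Cfsg.Agent.Lib.Helper37.MBal
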