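import Mathlib
import Cfsg.Agent.Lib.Helper37.ParabolicBridge
import Cfsg.Agent.Lib.Helper43.Witt

set_option autoImplicit false
set_option linter.unusedSectionVars false

namespace Cfsg.Agent.Lib.Helper37

open Matrix Module QuadraticMap
open Cfsg.Agent.Lib.Helper8 Cfsg.Agent.Lib.Helper13

variable {ι : Type} [Fintype ι] [DecidableEq ι] {F : Type*} [Field F]

/-- in characteristic two, a hyperbolic pair orthogonal to (and outside) a small subspace -/
theorem exists_hyp_pair_orth_char2 [Fintype F] (h2 : (2 : F) = 0) (Q : QuadraticForm F (ι → F))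
    (hQ : (QuadraticMap.polarBilin Q).Nondegenerate) (T : Submodule F (ι → F))
    (hT : 2 * finrank F ↥T + 3 ≤ finrank F (ι → F)) :
    ∃ u u' : ι → F, Q u = 0 ∧ Q u' = 0 ∧ polar ⇑Q u u' = 1 ∧ (∀ t ∈ T, polar ⇑Q u t = 0) ∧
      (∀ t ∈ T, polar ⇑Q u' t = 0) ∧ u ∉ T ∧ u' ∉ T := by
  obtain ⟨C, hC⟩ := Submodule.exists_isCompl T
  set O := LinearMap.BilinForm.orthogonal (QuadraticMap.polarBilin Q) T with hO
  have h1 := LinearMap.BilinForm.finrank_orthogonal hQ T
  have h3 := Submodule.finrank_add_eq_of_isCompl hC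
  have h4 := Submodule.finrank_sup_add_finrank_inf_eq O C
  have h5 := Submodule.finrank_le (O ⊔ C)
  have h6 := Submodule.finrank_le T
  have hY : 3 ≤ finrank F ↥(O ⊓ C) := by
    rw [← hO] at h1
    omega
  obtain ⟨w, hw0, hw⟩ := Cfsg.Agent.Lib.Helper43.exists_singular_even h2
    (Q.comp (O ⊓ C).subtype) hY
  have hwO : (w : ι → F) ∈ O := (Submodule.mem_inf.1 w.2).1
  have hwC : (w : ι → F) ∈ C := (Submodule.mem_inf.1 w.2).2
  have hu0 : (w : ι → F) ≠ 0 := fun h => hw0 (Subtype.ext h)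
  have hQu : Q (w : ι → F) = 0 := hw
  have huT : (w : ι → F) ∉ T := by
    intro h
    have : (w : ι → F) ∈ T ⊓ C := ⟨h, hwC⟩
    rw [hC.inf_eq_bot] at this
    exact hu0 ((Submodule.mem_bot F).1 this)
  have huT' : ∀ t ∈ T, polar ⇑Q (w : ι → F) t = 0 := by
    intro t ht
    rw [polar_comm]
    exact (LinearMap.BilinForm.mem_orthogonal_iff.1 hwO) t ht
  obtain ⟨z, hzT, hzu⟩ := exists_orth_of_notMem Q hQ T (w : ι → F) huT
  obtain ⟨z', hz'u, hz'T⟩ : ∃ z' : ι → F, polar ⇑Q z' (w : ι → F) = 1 ∧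
      ∀ t ∈ T, polar ⇑Q z' t = 0 := by
    refine ⟨(polar ⇑Q z (w : ι → F))⁻¹ • z, ?_, ?_⟩
    · rw [polar_smul_left, smul_eq_mul, inv_mul_cancel₀ hzu]
    · intro t ht
      rw [polar_smul_left, hzT t ht, smul_zero]
  have hu'u : polar ⇑Q (z' - Q z' • (w : ι → F)) (w : ι → F) = 1 := by
    rw [polar_sub_left, polar_smul_left, polar_self, hQu, hz'u]
    simp
  refine ⟨(w : ι → F), z' - Q z' • (w : ι → F), hQu, ?_, ?_, huT', ?_, huT, ?_⟩
  · rw [sub_eq_add_neg, ← neg_smul, QuadraticMap.map_add Q, QuadraticMap.map_smul, hQu,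
      smul_zero, add_zero, polar_smul_right, hz'u, smul_eq_mul, mul_one, add_neg_cancel]
  · rw [polar_comm]; exact hu'u
  · intro t ht
    rw [polar_sub_left, polar_smul_left, hz'T t ht, huT' t ht]
    simp
  · intro h
    have := huT' _ h
    rw [polar_comm, hu'u] at this
    exact one_ne_zero this


theorem nonsing_rootFull [Fintype F] (Q : QuadraticForm F (ι → F))
    (hQ : (QuadraticMap.polarBilin Q).Nondegenerate) (hn : 5 ≤ finrank F (ι → F))
    (hn2 : (2 : F) = 0 → 7 ≤ finrank F (ι → F)) (v : ι → F)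
    (M : Subgroup ↥(Cfsg.isometryGroup F ⇑Q))
    (hPM : stabSub Q (Submodule.span F {v}) ⊓ commutator ↥(Cfsg.isometryGroup F ⇑Q) ≤ M)
    (g : ↥(Cfsg.isometryGroup F ⇑Q)) (hgM : g ∈ M)
    (hx : act Q g v ∉ Submodule.span F {v})
    (u : ι → F) (huv : polar ⇑Q u v = 0) (hux : polar ⇑Q u (act Q g v) = 0)
    (huT : u ∉ Submodule.span F {v, act Q g v}) : rootFull Q hQ M u := by
  intro w hu huw
  set x := act Q g v with hxdef
  have hv0 : v ≠ 0 := by
    rintro rfl
    apply hx
    rw [hxdef, act_zero]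
    exact Submodule.zero_mem _
  -- elements fixing `v` belong to `M`
  have hfix : ∀ (a b : ι → F) (ha : Q a = 0) (hab : polar ⇑Q a b = 0),
      polar ⇑Q a v = 0 → polar ⇑Q b v = 0 → eichlerElt Q hQ a b ha hab ∈ M := by
    intro a b ha hab hav hbv
    apply hPM
    refine ⟨?_, eichlerElt_mem_omega Q hQ hn hn2 a b ha hab⟩
    apply mem_stabSub_of_le
    intro y hy
    obtain ⟨c, rfl⟩ := Submodule.mem_span_singleton.1 hy
    rw [eichlerElt_mulVec_of_orth Q hQ a b (c • v) ha hab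
      (by rw [polar_smul_right, hav, smul_zero]) (by rw [polar_smul_right, hbv, smul_zero])]
    exact hy
  have hvux : v ∉ Submodule.span F {u, x} := by
    intro h
    obtain ⟨α, β, hαβ⟩ := Submodule.mem_span_pair.1 h
    by_cases hα : α = 0
    · rw [hα, zero_smul, zero_add] at hαβ
      have hβ : β ≠ 0 := by
        rintro rfl
        rw [zero_smul] at hαβ
        exact hv0 hαβ.symm
      apply hx
      have : x = β⁻¹ • v := by rw [← hαβ, smul_smul, inv_mul_cancel₀ hβ, one_smul]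
      rw [this]
      exact Submodule.smul_mem _ _ (Submodule.mem_span_singleton_self v)
    · apply huT
      have : u = α⁻¹ • v + (-(α⁻¹ * β)) • x := by
        rw [← hαβ, smul_add, smul_smul, smul_smul, inv_mul_cancel₀ hα, one_smul, neg_smul]
        abel
      rw [this]
      exact Submodule.add_mem _
        (Submodule.smul_mem _ _ (Submodule.subset_span (by simp)))
        (Submodule.smul_mem _ _ (Submodule.subset_span (by simp)))
  obtain ⟨z1, hz1, hz1v⟩ := exists_orth_of_notMem Q hQ (Submodule.span F {u, x}) v hvux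
  obtain ⟨z, hzv, hzu, hzx⟩ : ∃ z : ι → F, polar ⇑Q z v = 1 ∧ polar ⇑Q z u = 0 ∧
      polar ⇑Q z x = 0 := by
    refine ⟨(polar ⇑Q z1 v)⁻¹ • z1, ?_, ?_, ?_⟩
    · rw [polar_smul_left, smul_eq_mul, inv_mul_cancel₀ hz1v]
    · rw [polar_smul_left, hz1 u (Submodule.subset_span (by simp)), smul_zero]
    · rw [polar_smul_left, hz1 x (Submodule.subset_span (by simp)), smul_zero]
  set w2 : ι → F := polar ⇑Q w v • z with hw2
  set w1 : ι → F := w - w2 with hw1
  have huw2 : polar ⇑Q u w2 = 0 := by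
    rw [hw2, polar_smul_right, polar_comm ⇑Q u z, hzu, smul_zero]
  have huw1 : polar ⇑Q u w1 = 0 := by
    rw [hw1, polar_sub_right, huw, huw2, sub_zero]
  have hw1v : polar ⇑Q w1 v = 0 := by
    rw [hw1, polar_sub_left, hw2, polar_smul_left, hzv]
    simp
  have hw2x : polar ⇑Q w2 x = 0 := by
    rw [hw2, polar_smul_left, hzx, smul_zero]
  have hsplit : eichlerElt Q hQ u w hu huw
      = eichlerElt Q hQ u w1 hu huw1 * eichlerElt Q hQ u w2 hu huw2 := by
    rw [eichlerElt_mul]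
    exact eichlerElt_congr Q hQ _ _ _ _ _ _ _ _ rfl (by rw [hw1]; abel)
  rw [hsplit]
  refine M.mul_mem (hfix u w1 hu huw1 huv hw1v) ?_
  -- the second factor is a conjugate
  have hgu : act Q g (act Q g⁻¹ u) = u := by rw [← act_mul, mul_inv_cancel, act_one]
  have hgw : act Q g (act Q g⁻¹ w2) = w2 := by rw [← act_mul, mul_inv_cancel, act_one]
  have hu0 : Q (act Q g⁻¹ u) = 0 := by rw [Q_act]; exact hu
  have huw0 : polar ⇑Q (act Q g⁻¹ u) (act Q g⁻¹ w2) = 0 := by rw [polar_act]; exact huw2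
  have hu0v : polar ⇑Q (act Q g⁻¹ u) v = 0 := by
    rw [← polar_act Q g, hgu]; exact hux
  have hw0v : polar ⇑Q (act Q g⁻¹ w2) v = 0 := by
    rw [← polar_act Q g, hgw]; exact hw2x
  have hmem := hfix _ _ hu0 huw0 hu0v hw0v
  have hconj := conj_eichlerElt Q hQ g _ _ hu0 huw0
  have : eichlerElt Q hQ u w2 hu huw2
      = g * eichlerElt Q hQ (act Q g⁻¹ u) (act Q g⁻¹ w2) hu0 huw0 * g⁻¹ := by
    rw [hconj]
    exact eichlerElt_congr Q hQ _ _ _ _ _ _ _ _ hgu.symm hgw.symm
  rw [this]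
  exact M.mul_mem (M.mul_mem hgM hmem) (M.inv_mem hgM)

theorem nonsing_max [Fintype F] (h2 : (2 : F) = 0) (Q : QuadraticForm F (ι → F))
    (hQ : (QuadraticMap.polarBilin Q).Nondegenerate) (hn : 7 ≤ finrank F (ι → F))
    (v : ι → F) (M : Subgroup ↥(Cfsg.isometryGroup F ⇑Q))
    (hPM : stabSub Q (Submodule.span F {v}) ⊓ commutator ↥(Cfsg.isometryGroup F ⇑Q) ≤ M)
    (g : ↥(Cfsg.isometryGroup F ⇑Q)) (hgM : g ∈ M)
    (hg : g ∉ stabSub Q (Submodule.span F {v})) :
    commutator ↥(Cfsg.isometryGroup F ⇑Q) ≤ M := by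
  have hn5 : 5 ≤ finrank F (ι → F) := by omega
  have hn2 : (2 : F) = 0 → 7 ≤ finrank F (ι → F) := fun _ => hn
  have hx : act Q g v ∉ Submodule.span F {v} := by
    intro h
    apply hg
    apply mem_stabSub_of_le
    intro y hy
    obtain ⟨c, rfl⟩ := Submodule.mem_span_singleton.1 hy
    show act Q g (c • v) ∈ _
    rw [act_smul]
    exact Submodule.smul_mem _ _ h
  have hT : 2 * finrank F ↥(Submodule.span F {v, act Q g v}) + 3 ≤ finrank F (ι → F) := by
    have h1 : finrank F ↥(Submodule.span F {v, act Q g v}) ≤ 2 := by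
      classical
      have := finrank_span_finset_le_card (R := F) ({v, act Q g v} : Finset (ι → F))
      have h3 : ({v, act Q g v} : Finset (ι → F)).card ≤ 2 := Finset.card_le_two
      have h4 : ((({v, act Q g v} : Finset (ι → F)) : Set (ι → F))) = {v, act Q g v} := by
        push_cast; rfl
      rw [Set.finrank, h4] at this
      omega
    omega
  obtain ⟨u, u', hu, hu', huu', huT, hu'T, huN, hu'N⟩ :=
    exists_hyp_pair_orth_char2 h2 Q hQ _ hT
  have hfu : rootFull Q hQ M u :=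
    nonsing_rootFull Q hQ hn5 hn2 v M hPM g hgM hx u
      (huT v (Submodule.subset_span (by simp))) (huT _ (Submodule.subset_span (by simp))) huN
  have hfu' : rootFull Q hQ M u' :=
    nonsing_rootFull Q hQ hn5 hn2 v M hPM g hgM hx u'
      (hu'T v (Submodule.subset_span (by simp))) (hu'T _ (Submodule.subset_span (by simp))) hu'N
  apply omega_le_of_rootFull Q hQ hn5 hn2 M
  intro y hy
  exact rootFull_all Q hQ M u u' hu hu' hfu hfu' (by rw [huu']; exact one_ne_zero) y hy

theorem exists_not_mem_stabSub_nonsing [Fintype F] (h2 : (2 : F) = 0)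
    (Q : QuadraticForm F (ι → F))
    (hQ : (QuadraticMap.polarBilin Q).Nondegenerate) (hn : 7 ≤ finrank F (ι → F))
    (v : ι → F) (hv : Q v ≠ 0) :
    ∃ g ∈ commutator ↥(Cfsg.isometryGroup F ⇑Q), g ∉ stabSub Q (Submodule.span F {v}) := by
  have hn5 : 5 ≤ finrank F (ι → F) := by omega
  have hn2 : (2 : F) = 0 → 7 ≤ finrank F (ι → F) := fun _ => hn
  have hv0 : v ≠ 0 := by
    rintro rfl
    exact hv (QuadraticMap.map_zero Q)
  have hT : 2 * finrank F ↥(Submodule.span F {v}) + 3 ≤ finrank F (ι → F) := by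
    rw [finrank_span_singleton hv0]; omega
  obtain ⟨u, u', hu, -, -, huT, -, huN, -⟩ := exists_hyp_pair_orth_char2 h2 Q hQ _ hT
  have huv : polar ⇑Q u v = 0 := huT v (Submodule.mem_span_singleton_self v)
  have hvu : v ∉ Submodule.span F {u} := by
    intro h
    obtain ⟨a, rfl⟩ := Submodule.mem_span_singleton.1 h
    apply hv
    rw [QuadraticMap.map_smul, hu, smul_zero]
  obtain ⟨w, hwu, hwv⟩ := exists_orth_of_notMem Q hQ (Submodule.span F {u}) v hvu
  have huw : polar ⇑Q u w = 0 := by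
    rw [polar_comm]; exact hwu u (Submodule.mem_span_singleton_self u)
  refine ⟨eichlerElt Q hQ u w hu huw, eichlerElt_mem_omega Q hQ hn5 hn2 u w hu huw, ?_⟩
  intro hmem
  have h1 : act Q (eichlerElt Q hQ u w hu huw) v ∈ Submodule.span F {v} := by
    rw [mem_stabSub] at hmem
    rw [← hmem]
    exact (mem_mapSub Q _ _ _).2 ⟨v, Submodule.mem_span_singleton_self v, rfl⟩
  rw [act_eichlerElt, huv, zero_smul, add_zero, mul_zero, zero_smul, sub_zero] at h1
  obtain ⟨a, ha⟩ := Submodule.mem_span_singleton.1 h1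
  apply huN
  have : u = ((polar ⇑Q w v)⁻¹ * (1 - a)) • v := by
    have h3 : polar ⇑Q w v • u = (1 - a) • v := by
      rw [sub_smul, one_smul, ha]; abel
    rw [mul_smul, ← h3, smul_smul, inv_mul_cancel₀ hwv, one_smul]
  rw [this]
  exact Submodule.smul_mem _ _ (Submodule.mem_span_singleton_self v)

end Cfsg.Agent.Lib.Helper37
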