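import Cfsg.Agent.Lib.Helper37.CharTwoGraph3
import Cfsg.Agent.Lib.Helper37.GraphSplit4
import Cfsg.Agent.Lib.Helper5.OddOrthSymp
import Cfsg.Agent.Lib.Helper5.Omega5

set_option autoImplicit false
set_option linter.unusedSectionVars false
set_option linter.unusedVariables false
set_option linter.unusedSimpArgs false

namespace Cfsg.Agent.Lib.Helper37.GraphPSL

open Matrix
open Cfsg.Agent.Lib.Helper5.AutPSLn (Gam Iota glInvT)

section oddp

variable {F : Type*} [Field F] [Fintype F]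

/-- in odd dimension and odd characteristic there is no invertible skew-symmetric matrix -/
theorem not_skew_of_odd (h2 : (2 : F) ≠ 0) {n : ℕ} (hn : Odd n) (A : GL (Fin n) F)
    (hA : glT A = sc (Fin n) (-1) * A) : False := by
  have h1 := congrArg Matrix.GeneralLinearGroup.det hA
  rw [det_glT', map_mul, det_sc', Fintype.card_fin, hn.neg_one_pow] at h1
  have h3 := congrArg Units.val h1
  rw [Units.val_mul, Units.val_neg, Units.val_one] at h3
  have h4 : (2 : F) * ((Matrix.GeneralLinearGroup.det A : Fˣ) : F) = 0 := by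
    linear_combination h3
  rcases mul_eq_zero.1 h4 with h | h
  · exact h2 h
  · exact (Units.ne_zero _) h

/-- in odd dimension all invertible symmetric matrices are congruent up to scalars -/
theorem symm_conj_odd (h2 : (2 : F) ≠ 0) {N : ℕ} (hodd : Odd (N + 1))
    (A B : GL (Fin (N + 1)) F) (hA : glT A = A) (hB : glT B = B) :
    ∃ (h : GL (Fin (N + 1)) F) (c : Fˣ), h * A * glT h = sc _ c * B := by
  by_cases hdet : IsSquare B.1.det ↔ IsSquare A.1.det
  · obtain ⟨h, hh⟩ := symm_cong h2 B A hB hA hdet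
    exact ⟨h, 1, by rw [sc_one, one_mul]; exact hh⟩
  · obtain ⟨ν, hν⟩ := exists_nonsquare_unit h2 (F := F)
    have hB' : glT (sc (Fin (N + 1)) ν * B) = sc (Fin (N + 1)) ν * B := by
      rw [glT_mul, glT_sc, hB, sc_comm]
    have hBdet : B.1.det ≠ 0 := ((Matrix.isUnit_iff_isUnit_det _).1 B.isUnit).ne_zero
    have hdet' : IsSquare (sc (Fin (N + 1)) ν * B : GL (Fin (N + 1)) F).1.det ↔
        IsSquare A.1.det := by
      rw [Units.val_mul, sc_val, Matrix.smul_mul, Matrix.one_mul, Matrix.det_smul,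
        Fintype.card_fin]
      obtain ⟨k, hk⟩ := hodd
      have e0 : (ν : F) ^ (N + 1) = ((ν : F) ^ k) ^ 2 * ν := by
        rw [hk]; ring
      have e : (ν : F) ^ (N + 1) * B.1.det = ((ν : F) ^ k) ^ 2 * B.1.det * ν := by
        rw [e0]; ring
      rw [e, isSquare_mul_nonsquare_iff _ _
        (mul_ne_zero (pow_ne_zero _ (pow_ne_zero _ ν.ne_zero)) hBdet) hν,
        isSquare_sq_mul_iff (pow_ne_zero _ ν.ne_zero)]
      tauto
    obtain ⟨h, hh⟩ := symm_cong h2 (sc (Fin (N + 1)) ν * B) A hB' hA hdet'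
    exact ⟨h, ν, hh⟩

theorem gramOdd_isSymm (m : ℕ) : (Cfsg.Agent.Lib.Helper5.Om5.gramOdd m F).IsSymm := by
  unfold Cfsg.Agent.Lib.Helper5.Om5.gramOdd Matrix.IsSymm
  rw [Matrix.fromBlocks_transpose, Matrix.fromBlocks_transpose]
  simp

theorem gramOdd_det_ne_zero (h2 : (2 : F) ≠ 0) (m : ℕ) :
    (Cfsg.Agent.Lib.Helper5.Om5.gramOdd m F).det ≠ 0 := by
  rw [Cfsg.Agent.Lib.Helper5.Om5.gramOdd_det]
  exact mul_ne_zero h2 (pow_ne_zero _ (neg_ne_zero.2 one_ne_zero))

/-- nondegenerate alternating forms do not exist in odd dimension -/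
theorem nonalt_of_odd {N : ℕ} (hodd : Odd (N + 1)) (A : GL (Fin (N + 1)) F) :
    ¬ (Matrix.toBilin' A.1).IsAlt := by
  intro halt
  have hdet : A.1.det ≠ 0 := ((Matrix.isUnit_iff_isUnit_det _).1 A.isUnit).ne_zero
  have hnd : (Matrix.toBilin' A.1).Nondegenerate :=
    LinearMap.BilinForm.nondegenerate_toBilin'_of_det_ne_zero' _ hdet
  have hfin : Module.finrank F (Fin (N + 1) → F) = N + 1 := by
    rw [Module.finrank_fintype_fun_eq_card, Fintype.card_fin]
  obtain ⟨K, hK⟩ := Cfsg.Agent.Lib.Helper44.alt_finrank_even (N + 1) (Fin (N + 1) → F)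
    (Matrix.toBilin' A.1) halt hnd hfin
  obtain ⟨k, hk⟩ := hodd
  omega

end oddp

section chartwo

variable {F : Type*} [Field F] {m : ℕ}

/-- the normal form `[1] ⊕ J` in odd dimension -/
def Nodd (F : Type*) [Field F] (m : ℕ) : GL (Unit ⊕ (Fin m ⊕ Fin m)) F :=
  ⟨Matrix.fromBlocks 1 0 0 (Matrix.J (Fin m) F), Matrix.fromBlocks 1 0 0 (-Matrix.J (Fin m) F),
    by rw [Matrix.fromBlocks_multiply]; simp [Matrix.fromBlocks_one, Matrix.J_squared],
    by rw [Matrix.fromBlocks_multiply]; simp [Matrix.fromBlocks_one, Matrix.J_squared]⟩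

theorem Nodd_val : (Nodd F m).1 = Matrix.fromBlocks 1 0 0 (Matrix.J (Fin m) F) := rfl

theorem glT_Nodd [CharP F 2] : glT (Nodd F m) = Nodd F m := by
  apply Units.ext
  rw [glT_val, Nodd_val, Matrix.fromBlocks_transpose, J_transpose_char_two]
  simp

theorem rect_J_diag {κ : Type} [Fintype κ] (r : Matrix κ (Fin m ⊕ Fin m) F) (i : κ) :
    (r * Matrix.J (Fin m) F * rᵀ) i i = 0 := by
  have h1 : (r * Matrix.J (Fin m) F * rᵀ) i i =
      (fun j => r i j) ⬝ᵥ (Matrix.J (Fin m) F *ᵥ (fun j => r i j)) := by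
    rw [Matrix.mul_apply]
    simp only [Matrix.transpose_apply, Matrix.mul_apply, dotProduct, Matrix.mulVec]
    simp only [Finset.mul_sum, Finset.sum_mul]
    rw [Finset.sum_comm]
    apply Finset.sum_congr rfl
    intro a _
    apply Finset.sum_congr rfl
    intro b _
    ring
  rw [h1, J_alt]

/-- isometries of the normal form in odd dimension, characteristic two -/
theorem isSim_Nodd_one_iff [CharP F 2] (k : GL (Unit ⊕ (Fin m ⊕ Fin m)) F) :
    IsSim (Nodd F m) k 1 ↔
      ∃ S ∈ Matrix.symplecticGroup (Fin m) F, k.1 = Matrix.fromBlocks 1 0 0 S := by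
  unfold IsSim
  rw [sc_one, one_mul]
  constructor
  · intro h
    have h0 := congrArg (fun x : GL (Unit ⊕ (Fin m ⊕ Fin m)) F => x.1) h
    simp only [Units.val_mul, glT_val, Nodd_val] at h0
    set a := k.1.toBlocks₁₁ with ha
    set r := k.1.toBlocks₁₂ with hr
    set c := k.1.toBlocks₂₁ with hc
    set S := k.1.toBlocks₂₂ with hS
    have hk : k.1 = Matrix.fromBlocks a r c S := (Matrix.fromBlocks_toBlocks k.1).symm
    rw [hk, Matrix.fromBlocks_transpose, Matrix.fromBlocks_multiply, Matrix.fromBlocks_multiply,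
      Matrix.fromBlocks_inj] at h0
    simp only [Matrix.mul_one, Matrix.mul_zero, add_zero, zero_add] at h0
    obtain ⟨e1, e2, e3, e4⟩ := h0
    -- c = 0
    have hc0 : c = 0 := by
      ext i j
      have := congrFun (congrFun e4 i) i
      rw [Matrix.add_apply, rect_J_diag, add_zero, Matrix.mul_apply] at this
      have hJ : Matrix.J (Fin m) F i i = 0 := by
        have := rect_J_diag (F := F) (1 : Matrix (Fin m ⊕ Fin m) (Fin m ⊕ Fin m) F) i
        rw [Matrix.one_mul, Matrix.transpose_one, Matrix.mul_one] at this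
        exact this
      rw [hJ] at this
      simp only [Finset.univ_unique, Finset.sum_singleton, Matrix.transpose_apply] at this
      have hj : j = default := Subsingleton.elim _ _
      rw [hj]
      exact mul_self_eq_zero.1 this
    have hSp : S ∈ Matrix.symplecticGroup (Fin m) F := by
      rw [SymplecticGroup.mem_iff]
      rw [hc0] at e4
      simpa using e4
    -- a = 1
    have ha1 : a = 1 := by
      ext i j
      have := congrFun (congrFun e1 i) i
      rw [Matrix.add_apply, rect_J_diag, add_zero, Matrix.mul_apply] at this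
      simp only [Finset.univ_unique, Finset.sum_singleton, Matrix.transpose_apply,
        Matrix.one_apply_eq] at this
      have hi : i = default := Subsingleton.elim _ _
      have hj : j = default := Subsingleton.elim _ _
      rw [hi, hj, Matrix.one_apply_eq]
      rw [hi] at this
      exact eq_one_of_sq_eq_one_char_two (by rw [pow_two]; exact this)
    -- r = 0
    have hr0 : r = 0 := by
      rw [hc0] at e2
      simp only [Matrix.transpose_zero, Matrix.mul_zero, zero_add] at e2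
      have h5 := congrArg (fun X => X * (Matrix.J (Fin m) F * S)) e2
      beta_reduce at h5
      have h6 : r * Matrix.J (Fin m) F * Sᵀ * (Matrix.J (Fin m) F * S) =
          r * Matrix.J (Fin m) F * (Sᵀ * Matrix.J (Fin m) F * S) := by
        simp only [Matrix.mul_assoc]
      rw [h6, (SymplecticGroup.mem_iff').1 hSp, Matrix.mul_assoc, Matrix.J_squared,
        Matrix.zero_mul] at h5
      simpa using h5
    exact ⟨S, hSp, by rw [hk, ha1, hr0, hc0]⟩
  · rintro ⟨S, hS, hk⟩
    apply Units.ext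
    rw [Units.val_mul, Units.val_mul, glT_val, hk, Nodd_val, Matrix.fromBlocks_transpose,
      Matrix.fromBlocks_multiply, Matrix.fromBlocks_multiply]
    simp only [Matrix.mul_one, Matrix.mul_zero, add_zero, zero_add, Matrix.transpose_one,
      Matrix.transpose_zero, Matrix.one_mul, Matrix.zero_mul]
    rw [(SymplecticGroup.mem_iff).1 hS]

/-- the block embedding `S ↦ [1] ⊕ S` -/
def blockHom (F : Type*) [Field F] (m : ℕ) :
    ↥(Matrix.symplecticGroup (Fin m) F) →*
      Matrix (Unit ⊕ (Fin m ⊕ Fin m)) (Unit ⊕ (Fin m ⊕ Fin m)) F where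
  toFun S := Matrix.fromBlocks 1 0 0 S.1
  map_one' := by
    show Matrix.fromBlocks 1 0 0 (1 : Matrix (Fin m ⊕ Fin m) (Fin m ⊕ Fin m) F) = 1
    exact Matrix.fromBlocks_one
  map_mul' S T := by
    show Matrix.fromBlocks 1 0 0 (S.1 * T.1) = _
    rw [Matrix.fromBlocks_multiply]
    simp

/-- `Sp_{2m}(F)` is the group of the odd normal form modulo scalars (characteristic two) -/
theorem sp_equiv_Nodd [Fintype F] [CharP F 2] :
    Nonempty (↥(Matrix.symplecticGroup (Fin m) F) ≃* Cfsg.projQuot (simGrp (Nodd F m))) := by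
  let bGL : ↥(Matrix.symplecticGroup (Fin m) F) →* GL (Unit ⊕ (Fin m ⊕ Fin m)) F :=
    (blockHom F m).toHomUnits
  have hb : ∀ S, (bGL S).1 = Matrix.fromBlocks 1 0 0 S.1 := fun S => rfl
  let ψ : ↥(Matrix.symplecticGroup (Fin m) F) →* ↥(simGrp (Nodd F m)) :=
    bGL.codRestrict _ (fun S => ⟨1, (isSim_Nodd_one_iff _).2 ⟨S.1, S.2, hb S⟩⟩)
  have hψ : ∀ S, ((ψ S).1 : GL (Unit ⊕ (Fin m ⊕ Fin m)) F).1 = Matrix.fromBlocks 1 0 0 S.1 :=
    fun S => rfl
  apply projQuot_equiv_of (simGrp (Nodd F m)) ψ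
  · intro S hS
    rw [Cfsg.Geo.mem_scalars_iff] at hS
    obtain ⟨c, hc⟩ := hS
    rw [hψ] at hc
    have h1 := congrFun (congrFun hc (Sum.inl ())) (Sum.inl ())
    simp only [Matrix.fromBlocks_apply₁₁, Matrix.one_apply_eq, Matrix.smul_apply, smul_eq_mul,
      mul_one] at h1
    have h2 := congrArg Matrix.toBlocks₂₂ hc
    rw [Matrix.toBlocks_fromBlocks₂₂, ← h1, one_smul] at h2
    apply Subtype.ext
    rw [h2]
    ext i j
    simp [Matrix.toBlocks₂₂, Matrix.one_apply]
  · intro g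
    obtain ⟨c, hc⟩ := g.2
    obtain ⟨s, rfl⟩ := exists_unit_sq c
    have h1 : IsSim (Nodd F m) (sc _ s⁻¹ * g.1) 1 := isSim_div_sqrt hc
    obtain ⟨S, hS, hk⟩ := (isSim_Nodd_one_iff _).1 h1
    refine ⟨⟨S, hS⟩, ?_⟩
    have e : ((ψ ⟨S, hS⟩)⁻¹ * g : ↥(simGrp (Nodd F m))).1 = sc _ s := by
      have e1 : (ψ ⟨S, hS⟩ : ↥(simGrp (Nodd F m))).1 = sc _ s⁻¹ * g.1 := by
        apply Units.ext
        rw [hψ, hk]
      show ((ψ ⟨S, hS⟩ : ↥(simGrp (Nodd F m))).1)⁻¹ * g.1 = _
      rw [e1, sc_inv, _root_.mul_inv_rev, inv_inv, mul_assoc, sc_comm s g.1, ← mul_assoc,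
        inv_mul_cancel, one_mul]
    rw [e]
    exact sc_mem_scalars s

theorem quadFormOdd_smul (a : F) (v : Unit ⊕ (Fin m ⊕ Fin m) → F) :
    Cfsg.quadFormOdd m F (a • v) = a ^ 2 * Cfsg.quadFormOdd m F v := by
  unfold Cfsg.quadFormOdd
  simp only [Pi.smul_apply, smul_eq_mul]
  rw [mul_add, Finset.mul_sum]
  congr 1
  · ring
  · apply Finset.sum_congr rfl
    intro i _
    ring

/-- in characteristic two `PGO` of the odd-dimensional form is its isometry group -/
theorem isometry_equiv_PGO_odd [Fintype F] [CharP F 2] :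
    Nonempty (↥(Cfsg.isometryGroup F (Cfsg.quadFormOdd m F)) ≃*
      Cfsg.PGO F (Cfsg.quadFormOdd m F)) := by
  have hle : Cfsg.isometryGroup F (Cfsg.quadFormOdd m F) ≤
      Cfsg.Geo.quadSimilarityGroup (F := F) (Cfsg.quadFormOdd m F) := by
    intro g hg
    refine ⟨1, fun v => ?_⟩
    rw [Units.val_one, one_mul]
    exact (Cfsg.Agent.Lib.Helper5.mem_isometryGroup_iff g).1 hg v
  apply projQuot_equiv_of _ (Subgroup.inclusion hle)
  · intro g hg
    rw [Cfsg.Geo.mem_scalars_iff] at hg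
    obtain ⟨c, hc⟩ := hg
    have hc' : (g.1 : GL (Unit ⊕ (Fin m ⊕ Fin m)) F).1 =
        (c : F) • (1 : Matrix (Unit ⊕ (Fin m ⊕ Fin m)) (Unit ⊕ (Fin m ⊕ Fin m)) F) := hc
    have h1 := (Cfsg.Agent.Lib.Helper5.mem_isometryGroup_iff g.1).1 g.2 (Pi.single (Sum.inl ()) 1)
    rw [hc', Matrix.smul_mulVec, Matrix.one_mulVec, quadFormOdd_smul] at h1
    have h2 : Cfsg.quadFormOdd m F (Pi.single (Sum.inl ()) 1) = 1 := by
      unfold Cfsg.quadFormOdd
      simp
    rw [h2, mul_one] at h1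
    have h3 : (c : F) = 1 := eq_one_of_sq_eq_one_char_two h1
    apply Subtype.ext
    apply Units.ext
    rw [hc', h3, one_smul]
    rfl
  · intro g
    obtain ⟨c, hc⟩ := g.2
    obtain ⟨s, rfl⟩ := exists_unit_sq c
    have hmem : sc _ s⁻¹ * g.1 ∈ Cfsg.isometryGroup F (Cfsg.quadFormOdd m F) := by
      rw [Cfsg.Agent.Lib.Helper5.mem_isometryGroup_iff]
      intro u
      rw [Units.val_mul, sc_val, Matrix.smul_mul, Matrix.one_mul, Matrix.smul_mulVec,
        quadFormOdd_smul, hc u, Units.val_mul, Units.val_inv_eq_inv_val]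
      field_simp
    refine ⟨⟨_, hmem⟩, ?_⟩
    show ((sc _ s⁻¹ * g.1)⁻¹ * g.1 : GL (Unit ⊕ (Fin m ⊕ Fin m)) F) ∈ _
    rw [sc_inv, _root_.mul_inv_rev, inv_inv, mul_assoc, sc_comm s g.1, ← mul_assoc,
      inv_mul_cancel, one_mul]
    exact sc_mem_scalars s

end chartwo

end Cfsg.Agent.Lib.Helper37.GraphPSL
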