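import Cfsg.Agent.Lib.Helper37.OddGraph

set_option autoImplicit false
set_option linter.unusedSectionVars false
set_option linter.unusedVariables false
set_option linter.unusedSimpArgs false

namespace Cfsg.Agent.Lib.Helper37.GraphPSL

open Matrix
open Cfsg.Agent.Lib.Helper5.AutPSLn (Gam Iota glInvT)

section main

variable {F : Type*} [Field F] [Fintype F]

/-- the standard involutory graph automorphism in odd dimension: its centralizer, and the fact
that every symmetric or skew-symmetric invertible matrix is congruent to the standard one up to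
scalars -/
theorem odd_graph_std {p f : ℕ} [Fact p.Prime] (hF : Fintype.card F = p ^ f) {n m : ℕ}
    (hn : 3 ≤ n) (hnm : n = 2 * m + 1) :
    ∃ A₀ : GL (Fin n) F,
      Nonempty (↥(Cfsg.inndiagPSL n F ⊓ Subgroup.centralizer {beta A₀}) ≃*
        Cfsg.PGO F (Cfsg.quadFormOdd m F)) ∧
      ∀ A : GL (Fin n) F, (glT A = A ∨ glT A = sc (Fin n) (-1) * A) →
        ∃ (h : GL (Fin n) F) (c : Fˣ), h * A₀ * glT h = sc (Fin n) c * A := by
  classical
  have hchar : CharP F p := charP_of_card_eq_prime_pow hF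
  obtain ⟨N, rfl⟩ : ∃ N, n = N + 1 := ⟨n - 1, by omega⟩
  have hodd : Odd (N + 1) := ⟨m, by omega⟩
  have hn2 : 2 ≤ N + 1 := by omega
  let e : Fin (N + 1) ≃ Unit ⊕ (Fin m ⊕ Fin m) := Fintype.equivOfCardEq (by simp; omega)
  rcases (Fact.out : p.Prime).eq_two_or_odd' with hp | hp
  · -- characteristic two
    subst hp
    refine ⟨(reindexGL e).symm (Nodd F m), ?_, ?_⟩
    · obtain ⟨θ₁⟩ := centralizer_beta_equiv (F := F) hn2 e (Nodd F m) (simGrp (Nodd F m))
        (fun k => Iff.rfl)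
      obtain ⟨θ₂⟩ := sp_equiv_Nodd (F := F) (m := m)
      obtain ⟨θ₃⟩ := Cfsg.Agent.Lib.Helper5.oddOrth_equiv_symp F m
      obtain ⟨θ₄⟩ := isometry_equiv_PGO_odd (F := F) (m := m)
      exact ⟨θ₁.trans (θ₂.symm.trans (θ₃.symm.trans θ₄))⟩
    · intro A hA
      have hA' : glT A = A := by
        rcases hA with hA | hA
        · exact hA
        · rw [hA, neg_one_unit_eq_one, sc_one, one_mul]
      have hT₀ : glT ((reindexGL e).symm (Nodd F m)) = (reindexGL e).symm (Nodd F m) := by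
        rw [← reindexGL_symm_glT, glT_Nodd]
      obtain ⟨h₁, hh₁⟩ := nonalt_cong_one A hA' (nonalt_of_odd hodd A)
      obtain ⟨h₀, hh₀⟩ := nonalt_cong_one _ hT₀ (nonalt_of_odd hodd _)
      refine ⟨h₁ * h₀⁻¹, 1, ?_⟩
      rw [sc_one, one_mul, ← hh₁]
      nth_rewrite 1 [← hh₀]
      rw [glT_mul, glT_inv]
      group
  · -- odd characteristic
    have hoddF : Odd (Fintype.card F) := by rw [hF]; exact hp.pow
    have h2 : (2 : F) ≠ 0 := two_ne_zero_of_odd_card hoddF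
    let Gu : GL (Unit ⊕ (Fin m ⊕ Fin m)) F :=
      Matrix.GeneralLinearGroup.mkOfDetNeZero (Cfsg.Agent.Lib.Helper5.Om5.gramOdd m F)
        (gramOdd_det_ne_zero h2 m)
    have hT₀ : glT ((reindexGL e).symm Gu⁻¹) = (reindexGL e).symm Gu⁻¹ := by
      rw [← reindexGL_symm_glT, glT_mkGram _ _ (gramOdd_isSymm m)]
    refine ⟨(reindexGL e).symm Gu⁻¹, ?_, ?_⟩
    · exact centralizer_beta_equiv hn2 e Gu⁻¹ _
        (mem_GO_iff_gram_inv (Cfsg.Agent.Lib.Helper5.Om5.gramOdd_isGram m h2) Gu rfl)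
    · intro A hA
      rcases hA with hA | hA
      · exact symm_conj_odd h2 hodd _ A hT₀ hA
      · exact absurd hA (fun h => not_skew_of_odd h2 hodd A h)

/-- involutory graph automorphisms of `PSL_n(F)`, `n` odd: one class, centralizer `PGO_n(F)` -/
theorem odd_graph_main {p f : ℕ} [Fact p.Prime] (hF : Fintype.card F = p ^ f) {n m : ℕ}
    (hn : 3 ≤ n) (hnm : n = 2 * m + 1)
    (γ γ' : MulAut (Matrix.ProjectiveSpecialLinearGroup (Fin n) F))
    (hγ : Cfsg.IsGraphAutClassPSL γ) (hγ2 : orderOf γ = 2)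
    (hγ' : Cfsg.IsGraphAutClassPSL γ') (hγ'2 : orderOf γ' = 2) :
    Nonempty (↥(Cfsg.inndiagPSL n F ⊓ Subgroup.centralizer {γ}) ≃*
      Cfsg.PGO F (Cfsg.quadFormOdd m F)) ∧ Cfsg.IsConjUnder (Cfsg.inndiagPSL n F) γ γ' := by
  have hchar : CharP F p := charP_of_card_eq_prime_pow hF
  have hn2 : 2 ≤ n := by omega
  obtain ⟨A₀, ⟨θ⟩, hall⟩ := odd_graph_std hF hn hnm
  obtain ⟨-, A, rfl⟩ := (isGraphAut_iff γ).1 hγ
  obtain ⟨-, A', rfl⟩ := (isGraphAut_iff γ').1 hγ'
  have hc : Cfsg.IsConjUnder (Cfsg.inndiagPSL n F) (beta A₀) (beta A) :=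
    (isConjUnder_beta_iff hn2 A₀ A).2 (hall A ((orderOf_beta_eq_two_iff hn A).1 hγ2))
  have hc' : Cfsg.IsConjUnder (Cfsg.inndiagPSL n F) (beta A₀) (beta A') :=
    (isConjUnder_beta_iff hn2 A₀ A').2 (hall A' ((orderOf_beta_eq_two_iff hn A').1 hγ'2))
  constructor
  · obtain ⟨g, hg, e⟩ := hc
    have : (Cfsg.inndiagPSL n F).Normal := Cfsg.Agent.Lib.Helper45.AutPSL.inndiag_normal hn2 p
    have e2 := Cfsg.Agent.Lib.Helper45.AutPSL.centralizerConjEquiv (Cfsg.inndiagPSL n F) g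
      (beta A₀)
    rw [← e] at e2
    exact ⟨e2.symm.trans θ⟩
  · exact Cfsg.Agent.Lib.Helper5.SplitClass.isConjUnder_trans
      (Cfsg.Agent.Lib.Helper5.SplitClass.isConjUnder_symm hc) hc'

end main

end Cfsg.Agent.Lib.Helper37.GraphPSL
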