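import Mathlib
import Cfsg.Prelude.Def_ClassicalGeometry
import Cfsg.Prelude.Def_GeometricClasses
import Cfsg.Agent.Lib.Helper46.OmDefs
import Cfsg.Agent.Lib.Helper37.TqTWODERx

/-! # Om hive (helper46, S5991): LEAF OM-R2A (wrapper of helper37's `twoder_exists_sq_neg_one_minus`) -/

set_option autoImplicit false

namespace Cfsg.Agent.Lib.Helper46.Om

open Module

section concrete

variable {F : Type*} [Field F] [Fintype F]

/-- OM-R2A -/
theorem exists_sq_neg_one_mem (h2 : (2 : F) ≠ 0) (k : ℕ) (hk : Even k)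
    (hq : Fintype.card F % 8 = 7) (a b : F)
    (hab : ∀ x y : F, x ^ 2 + a * x * y + b * y ^ 2 = 0 → x = 0 ∧ y = 0) :
    ∃ x : Matrix.GeneralLinearGroup ((Fin k ⊕ Fin k) ⊕ Fin 2) F,
      x ∈ Cfsg.Geo.omegaGL (Cfsg.quadFormMinus k F a b) ∧
      (x : Matrix ((Fin k ⊕ Fin k) ⊕ Fin 2) ((Fin k ⊕ Fin k) ⊕ Fin 2) F) *
        (x : Matrix ((Fin k ⊕ Fin k) ⊕ Fin 2) ((Fin k ⊕ Fin k) ⊕ Fin 2) F) = -1 := by
  have hS := Cfsg.Agent.Lib.Helper59.Tq.std_minus (F := F) (k + 1) (by omega) a b hab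
  have hE := Cfsg.Agent.Lib.Helper59.Tq.typeE_minus (F := F) (k + 1) (by omega) a b hab
  rw [show k + 1 - 1 = k by omega] at hS hE
  obtain ⟨x, hx, hxx, -, -⟩ := Cfsg.Agent.Lib.Helper59.Tq.twoder_exists_sq_neg_one_minus h2
    (Cfsg.quadFormMinus k F a b) (k + 1) hS hE hk.add_one hq
  exact ⟨x, hx, hxx⟩

end concrete

end Cfsg.Agent.Lib.Helper46.Om
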