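import Cfsg.Agent.Lib.Helper37.OmegaCenter
import Cfsg.Agent.S2631

set_option autoImplicit false
set_option linter.unusedSectionVars false
set_option linter.unusedVariables false

namespace Cfsg.Agent.Lib.Helper37

open Matrix Module QuadraticMap
open Cfsg.Agent.Lib.Helper8 Cfsg.Agent.Lib.Helper13
open scoped commutatorElement

variable {ι : Type} [Fintype ι] [DecidableEq ι] {F : Type*} [Field F]

/-- a hyperbolic family of vectors -/
structure HypFam (Q : QuadraticForm F (ι → F)) (k : ℕ) (e f : Fin k → ι → F) : Prop where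
  qe : ∀ i, Q (e i) = 0
  qf : ∀ i, Q (f i) = 0
  ee : ∀ i i', polar ⇑Q (e i) (e i') = 0
  ff : ∀ i i', polar ⇑Q (f i) (f i') = 0
  ef : ∀ i i', polar ⇑Q (e i) (f i') = if i = i' then 1 else 0

namespace HypFam

variable {Q : QuadraticForm F (ι → F)} {k : ℕ} {e f : Fin k → ι → F}

theorem Q_comb (h : HypFam Q k e f) (i : Fin k) (s t : F) : Q (s • e i + t • f i) = s * t := by
  rw [QuadraticMap.map_add Q, QuadraticMap.map_smul, QuadraticMap.map_smul, h.qe, h.qf,
    polar_smul_left, polar_smul_right, h.ef, if_pos rfl]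
  simp

theorem Q_add_comb (h : HypFam Q k e f) (i : Fin k) (s t : F) (x : ι → F)
    (hxe : polar ⇑Q (e i) x = 0) (hxf : polar ⇑Q (f i) x = 0) :
    Q (x + (s • e i + t • f i)) = Q x + s * t := by
  rw [QuadraticMap.map_add Q, h.Q_comb, polar_add_right, polar_smul_right, polar_smul_right,
    polar_comm ⇑Q x (e i), polar_comm ⇑Q x (f i), hxe, hxf]
  simp

/-- no norm class lies in a plane -/
theorem exists_not_mem_span (h : HypFam Q k e f) (hk : 3 ≤ k) (c : F) (hc : c ≠ 0)
    (u v : ι → F) : ∃ b, Q b = c ∧ b ∉ Submodule.span F {u, v} := by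
  classical
  by_contra hcon
  push Not at hcon
  set idx : Fin 3 → Fin k := Fin.castLE hk with hidx
  have hinj : Function.Injective idx := Fin.castLE_injective hk
  set b : Fin 3 → ι → F := fun j => (1 : F) • e (idx j) + c • f (idx j) with hb
  have hQb : ∀ j, Q (b j) = c := fun j => by rw [hb]; simp only; rw [h.Q_comb, one_mul]
  have hmem : ∀ j, b j ∈ Submodule.span F {u, v} := fun j => hcon (b j) (hQb j)
  have hli : LinearIndependent F b := by
    rw [Fintype.linearIndependent_iff]
    intro g hg i
    have h1 := congrArg (fun x => QuadraticMap.polarBilin Q x (f (idx i))) hg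
    simp only [map_sum, LinearMap.sum_apply, map_smul, LinearMap.smul_apply, map_zero,
      LinearMap.zero_apply, QuadraticMap.polarBilin_apply_apply, smul_eq_mul] at h1
    rw [Finset.sum_eq_single i] at h1
    · rw [hb] at h1
      simp only at h1
      rw [polar_add_left, polar_smul_left, polar_smul_left, h.ef, h.ff, if_pos rfl] at h1
      simpa using h1
    · intro j _ hji
      rw [hb]
      simp only
      rw [polar_add_left, polar_smul_left, polar_smul_left, h.ef, h.ff,
        if_neg (fun hh => hji (hinj hh))]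
      simp
    · intro hi
      exact absurd (Finset.mem_univ i) hi
  have hli' : LinearIndependent F (fun j => (⟨b j, hmem j⟩ : ↥(Submodule.span F {u, v}))) := by
    apply LinearIndependent.of_comp (Submodule.span F {u, v}).subtype
    exact hli
  have h1 := hli'.fintype_card_le_finrank
  have h2 : finrank F ↥(Submodule.span F ({u, v} : Set (ι → F))) ≤ 2 := by
    have h3 : ({u, v} : Set (ι → F)) = ↑({u, v} : Finset (ι → F)) := by simp
    rw [h3]
    exact le_trans (finrank_span_finset_le_card _) Finset.card_le_two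
  rw [Fintype.card_fin] at h1
  omega

theorem mem_span_ef (h : HypFam Q k e f) (hk : 2 ≤ k) (i : Fin k) :
    e i ∈ Submodule.span F {a : ι → F | Q a = 1} ∧
      f i ∈ Submodule.span F {a : ι → F | Q a = 1} := by
  obtain ⟨j, hj⟩ : ∃ j : Fin k, j ≠ i := by
    by_cases hi : i.val = 0
    · refine ⟨⟨1, by omega⟩, fun hh => ?_⟩
      have := congrArg Fin.val hh
      simp at this
      omega
    · refine ⟨⟨0, by omega⟩, fun hh => ?_⟩
      have := congrArg Fin.val hh
      simp at this
      omega
  have h1 : Q ((1 : F) • e j + (1 : F) • f j) = 1 := by rw [h.Q_comb, one_mul]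
  have hm1 : (1 : F) • e j + (1 : F) • f j ∈ Submodule.span F {a : ι → F | Q a = 1} :=
    Submodule.subset_span h1
  constructor
  · have h2 : Q (e i + ((1 : F) • e j + (1 : F) • f j)) = 1 := by
      rw [h.Q_add_comb j 1 1 (e i) (h.ee j i)
        (by rw [polar_comm, h.ef, if_neg (Ne.symm hj)]), h.qe, zero_add, one_mul]
    have hm2 : e i + ((1 : F) • e j + (1 : F) • f j) ∈
        Submodule.span F {a : ι → F | Q a = 1} := Submodule.subset_span h2
    have : e i = (e i + ((1 : F) • e j + (1 : F) • f j)) - ((1 : F) • e j + (1 : F) • f j) := by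
      abel
    rw [this]
    exact Submodule.sub_mem _ hm2 hm1
  · have h2 : Q (f i + ((1 : F) • e j + (1 : F) • f j)) = 1 := by
      rw [h.Q_add_comb j 1 1 (f i) (by rw [h.ef, if_neg hj]) (h.ff j i), h.qf, zero_add, one_mul]
    have hm2 : f i + ((1 : F) • e j + (1 : F) • f j) ∈
        Submodule.span F {a : ι → F | Q a = 1} := Submodule.subset_span h2
    have : f i = (f i + ((1 : F) • e j + (1 : F) • f j)) - ((1 : F) • e j + (1 : F) • f j) := by
      abel
    rw [this]
    exact Submodule.sub_mem _ hm2 hm1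

/-- the vectors of norm one span the space -/
theorem span_eq_top (h : HypFam Q k e f) (hk : 2 ≤ k) :
    Submodule.span F {a : ι → F | Q a = 1} = ⊤ := by
  rw [eq_top_iff]
  intro x _
  set i0 : Fin k := ⟨0, by omega⟩ with hi0
  obtain ⟨he0, hf0⟩ := h.mem_span_ef hk i0
  set x' := x - (polar ⇑Q (f i0) x • e i0 + polar ⇑Q (e i0) x • f i0) with hx'
  have hxe : polar ⇑Q (e i0) x' = 0 := by
    rw [hx', polar_sub_right, polar_add_right, polar_smul_right, polar_smul_right, h.ee, h.ef,
      if_pos rfl]
    simp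
  have hxf : polar ⇑Q (f i0) x' = 0 := by
    rw [hx', polar_sub_right, polar_add_right, polar_smul_right, polar_smul_right, h.ff,
      polar_comm ⇑Q (f i0) (e i0), h.ef, if_pos rfl]
    simp
  have h1 : Q (x' + ((1 : F) • e i0 + (1 - Q x') • f i0)) = 1 := by
    rw [h.Q_add_comb i0 _ _ x' hxe hxf]
    ring
  have hm : x' + ((1 : F) • e i0 + (1 - Q x') • f i0) ∈
      Submodule.span F {a : ι → F | Q a = 1} := Submodule.subset_span h1
  have hx'm : x' ∈ Submodule.span F {a : ι → F | Q a = 1} := by
    have : x' = (x' + ((1 : F) • e i0 + (1 - Q x') • f i0))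
        - ((1 : F) • e i0 + (1 - Q x') • f i0) := by abel
    rw [this]
    exact Submodule.sub_mem _ hm
      (Submodule.add_mem _ (Submodule.smul_mem _ _ he0) (Submodule.smul_mem _ _ hf0))
  have : x = x' + (polar ⇑Q (f i0) x • e i0 + polar ⇑Q (e i0) x • f i0) := by
    rw [hx']; abel
  rw [this]
  exact Submodule.add_mem _ hx'm
    (Submodule.add_mem _ (Submodule.smul_mem _ _ he0) (Submodule.smul_mem _ _ hf0))

end HypFam

/-- the product of two reflections in vectors of equal norm is a commutator -/
theorem refl_mul_refl_mem_omega (Q : QuadraticForm F (ι → F))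
    (hQ : (QuadraticMap.polarBilin Q).Nondegenerate)
    (a b : ι → F) (ha : Q a ≠ 0) (hb : Q b ≠ 0) (hab : Q b = Q a) :
    reflElt Q a ha * reflElt Q b hb ∈ Cfsg.Omega F ⇑Q := by
  have ha0 : a ≠ 0 := by
    rintro rfl
    exact ha (map_zero Q)
  have hb0 : b ≠ 0 := by
    rintro rfl
    exact hb (map_zero Q)
  obtain ⟨g, hg1, hg2⟩ := witt_family_quad Q hQ 1 (fun _ => a) (fun _ => b)
    (linearIndependent_unique_iff.mpr ha0) (linearIndependent_unique_iff.mpr hb0)
    (fun _ => hab) (fun _ _ => by rw [polar_self, polar_self, hab])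
  have hg2' : g a = b := hg2 0
  set gg : ↥(Cfsg.isometryGroup F ⇑Q) := ⟨Cfsg.Agent.S2631.glOfEquiv g, by
    rw [mem_isometryGroup_iff']
    intro v
    rw [Cfsg.Agent.S2631.glOfEquiv_mulVec]
    exact hg1 v⟩ with hgg
  have hact : act Q gg a = b := by
    unfold act
    rw [hgg]
    show ((Cfsg.Agent.S2631.glOfEquiv g : GL ι F) : Matrix ι ι F) *ᵥ a = b
    rw [Cfsg.Agent.S2631.glOfEquiv_mulVec, hg2']
  have hconj := conj_reflElt Q gg a ha
  have hb' : reflElt Q b hb = gg * reflElt Q a ha * gg⁻¹ := by
    rw [hconj]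
    congr 1
    exact hact.symm
  have hinv : (reflElt Q a ha)⁻¹ = reflElt Q a ha :=
    inv_mem_reflSet Q _ (reflElt_mem_reflSet Q a ha)
  have : reflElt Q a ha * reflElt Q b hb = ⁅reflElt Q a ha, gg⁆ := by
    rw [commutatorElement_def, hinv, hb']
    group
  rw [this]
  show _ ∈ commutator _
  rw [commutator_def]
  exact Subgroup.commutator_mem_commutator (Subgroup.mem_top _) (Subgroup.mem_top _)

end Cfsg.Agent.Lib.Helper37
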