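import Cfsg.Agent.Lib.Helper37.OmegaFrames

set_option autoImplicit false
set_option linter.unusedSectionVars false
set_option linter.unusedVariables false

namespace Cfsg.Agent.Lib.Helper37

open Matrix Module QuadraticMap
open Cfsg.Agent.Lib.Helper8 Cfsg.Agent.Lib.Helper13

variable {ι : Type} [Fintype ι] [DecidableEq ι] {F : Type*} [Field F]

section geom

variable [Fintype F] (Q : QuadraticForm F (ι → F))
  (hQ : (QuadraticMap.polarBilin Q).Nondegenerate) {k : ℕ} {e f : Fin k → ι → F}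
  (hfam : HypFam Q k e f) (hk : 3 ≤ k)
  (hcard : Fintype.card F ≠ 2 ∨ finrank F (ι → F) ≠ 4)

include hQ hfam hk hcard

/-- G2: the stabiliser of a singular vector in `Ω` is transitive on the singular vectors
orthogonal to it and independent of it -/
theorem stab_trans_orth (u v w : ι → F) (hu0 : u ≠ 0) (hu : Q u = 0) (hv : Q v = 0)
    (hw : Q w = 0) (huv : polar ⇑Q u v = 0) (huw : polar ⇑Q u w = 0)
    (hindv : ∀ c : F, v ≠ c • u) (hindw : ∀ c : F, w ≠ c • u) :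
    ∃ g : ↥(Cfsg.isometryGroup F ⇑Q), g ∈ Cfsg.Omega F ⇑Q ∧ act Q g u = u ∧ act Q g v = w := by
  obtain ⟨g₁, hg₁, h1u, h1v⟩ := omega_to_e0e1 Q hQ hfam hk hcard u v hu0 hu hv huv hindv
  obtain ⟨g₂, hg₂, h2u, h2w⟩ := omega_to_e0e1 Q hQ hfam hk hcard u w hu0 hu hw huw hindw
  refine ⟨g₂⁻¹ * g₁, Subgroup.mul_mem _ (Subgroup.inv_mem _ hg₂) hg₁, ?_, ?_⟩
  · rw [act_mul, h1u]
    exact act_inv_eq Q g₂ _ _ h2u
  · rw [act_mul, h1v]
    exact act_inv_eq Q g₂ _ _ h2w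

/-- G1: the stabiliser of a singular vector in `Ω` is transitive on the singular points
not orthogonal to it -/
theorem stab_trans_nonorth (u v w : ι → F) (hu : Q u = 0) (hv : Q v = 0)
    (hw : Q w = 0) (huv : polar ⇑Q u v ≠ 0) (huw : polar ⇑Q u w ≠ 0) :
    ∃ g : ↥(Cfsg.isometryGroup F ⇑Q), g ∈ Cfsg.Omega F ⇑Q ∧ act Q g u = u ∧
      ∃ c : F, act Q g v = c • w := by
  have hv' : Q ((polar ⇑Q u v)⁻¹ • v) = 0 := by rw [QuadraticMap.map_smul, hv, smul_zero]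
  have hw' : Q ((polar ⇑Q u w)⁻¹ • w) = 0 := by rw [QuadraticMap.map_smul, hw, smul_zero]
  have huv' : polar ⇑Q u ((polar ⇑Q u v)⁻¹ • v) = 1 := by
    rw [polar_smul_right, smul_eq_mul, inv_mul_cancel₀ huv]
  have huw' : polar ⇑Q u ((polar ⇑Q u w)⁻¹ • w) = 1 := by
    rw [polar_smul_right, smul_eq_mul, inv_mul_cancel₀ huw]
  obtain ⟨g₁, hg₁, h1u, h1v⟩ := omega_to_e0f0 Q hQ hfam hk hcard u _ hu hv' huv'
  obtain ⟨g₂, hg₂, h2u, h2w⟩ := omega_to_e0f0 Q hQ hfam hk hcard u _ hu hw' huw'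
  refine ⟨g₂⁻¹ * g₁, Subgroup.mul_mem _ (Subgroup.inv_mem _ hg₂) hg₁, ?_, ?_⟩
  · rw [act_mul, h1u]
    exact act_inv_eq Q g₂ _ _ h2u
  · refine ⟨polar ⇑Q u v * (polar ⇑Q u w)⁻¹, ?_⟩
    have h3 : act Q (g₂⁻¹ * g₁) ((polar ⇑Q u v)⁻¹ • v) = (polar ⇑Q u w)⁻¹ • w := by
      rw [act_mul, h1v]
      exact act_inv_eq Q g₂ _ _ h2w
    rw [act_smul] at h3
    have h4 := congrArg (fun x => (polar ⇑Q u v) • x) h3
    simp only [smul_smul, mul_inv_cancel₀ huv, one_smul] at h4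
    exact h4

/-- G3: two non-orthogonal singular vectors have a common orthogonal singular vector -/
theorem exists_singular_orth_both (u r : ι → F) (hu : Q u = 0) (hr : Q r = 0)
    (hur : polar ⇑Q u r ≠ 0) :
    ∃ s : ι → F, s ≠ 0 ∧ Q s = 0 ∧ polar ⇑Q s u = 0 ∧ polar ⇑Q s r = 0 := by
  have hr' : Q ((polar ⇑Q u r)⁻¹ • r) = 0 := by rw [QuadraticMap.map_smul, hr, smul_zero]
  have hur' : polar ⇑Q u ((polar ⇑Q u r)⁻¹ • r) = 1 := by
    rw [polar_smul_right, smul_eq_mul, inv_mul_cancel₀ hur]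
  obtain ⟨g, hg, h1u, h1r⟩ := omega_to_e0f0 Q hQ hfam hk hcard u _ hu hr' hur'
  have h01 : (⟨1, by omega⟩ : Fin k) ≠ ⟨0, by omega⟩ := by
    intro hh; have := congrArg Fin.val hh; simp at this
  refine ⟨act Q g⁻¹ (e ⟨1, by omega⟩), ?_, ?_, ?_, ?_⟩
  · intro h0
    exact hfam.e_ne_zero _ (act_eq_zero Q _ _ h0)
  · rw [Q_act, hfam.qe]
  · have : u = act Q g⁻¹ (e ⟨0, by omega⟩) := (act_inv_eq Q g _ _ h1u).symm
    rw [this, polar_act, hfam.ee]
  · have h2 : (polar ⇑Q u r)⁻¹ • r = act Q g⁻¹ (f ⟨0, by omega⟩) :=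
      (act_inv_eq Q g _ _ h1r).symm
    have h3 : polar ⇑Q (act Q g⁻¹ (e ⟨1, by omega⟩)) ((polar ⇑Q u r)⁻¹ • r) = 0 := by
      rw [h2, polar_act, hfam.ef, if_neg h01]
    rw [polar_smul_right, smul_eq_mul] at h3
    exact (mul_eq_zero.mp h3).resolve_left (inv_ne_zero hur)

/-- G4: two orthogonal independent singular vectors have a common non-orthogonal singular
vector -/
theorem exists_singular_nonorth_both (u r : ι → F) (hu0 : u ≠ 0) (hu : Q u = 0) (hr : Q r = 0)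
    (hur : polar ⇑Q u r = 0) (hind : ∀ c : F, r ≠ c • u) :
    ∃ t : ι → F, Q t = 0 ∧ polar ⇑Q t u ≠ 0 ∧ polar ⇑Q t r ≠ 0 := by
  obtain ⟨g, hg, h1u, h1r⟩ := omega_to_e0e1 Q hQ hfam hk hcard u r hu0 hu hr hur hind
  have h01 : (⟨0, by omega⟩ : Fin k) ≠ ⟨1, by omega⟩ := by
    intro hh; have := congrArg Fin.val hh; simp at this
  refine ⟨act Q g⁻¹ (f ⟨0, by omega⟩ + f ⟨1, by omega⟩), ?_, ?_, ?_⟩
  · rw [Q_act, QuadraticMap.map_add Q, hfam.qf, hfam.qf, hfam.ff]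
    simp
  · have : u = act Q g⁻¹ (e ⟨0, by omega⟩) := (act_inv_eq Q g _ _ h1u).symm
    rw [this, polar_act, polar_add_left, hfam.fe, hfam.fe, if_pos rfl, if_neg (Ne.symm h01)]
    simp
  · have : r = act Q g⁻¹ (e ⟨1, by omega⟩) := (act_inv_eq Q g _ _ h1r).symm
    rw [this, polar_act, polar_add_left, hfam.fe, hfam.fe, if_pos rfl, if_neg h01]
    simp

end geom

end Cfsg.Agent.Lib.Helper37
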