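import Cfsg.Agent.Lib.Helper37.OmegaMaximal
import Cfsg.Agent.Lib.Helper37.IwasawaSub

set_option autoImplicit false
set_option linter.unusedSectionVars false
set_option linter.unusedVariables false

namespace Cfsg.Agent.Lib.Helper37

open Matrix Module QuadraticMap
open Cfsg.Agent.Lib.Helper8 Cfsg.Agent.Lib.Helper13

variable {ι : Type} [Fintype ι] [DecidableEq ι] {F : Type*} [Field F]

/-- eigenvalues on two orthogonal independent singular vectors agree when all singular
points are fixed -/
theorem eig_eq_of_orth (Q : QuadraticForm F (ι → F)) (n : ↥(Cfsg.isometryGroup F ⇑Q))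
    (hn : ∀ v, Q v = 0 → ∃ c : F, act Q n v = c • v) (s s' : ι → F) (hs0 : s ≠ 0)
    (hs : Q s = 0) (hs' : Q s' = 0) (hss' : polar ⇑Q s s' = 0) (hind : ∀ t : F, s' ≠ t • s)
    (c c' : F) (hc : act Q n s = c • s) (hc' : act Q n s' = c' • s') : c = c' := by
  have hsum : Q (s + s') = 0 := by
    rw [QuadraticMap.map_add Q, hs, hs', hss']; simp
  obtain ⟨d, hd⟩ := hn _ hsum
  rw [act_add, hc, hc', smul_add] at hd
  have h1 : (c - d) • s = (d - c') • s' := by
    rw [sub_smul, sub_smul]
    have : c • s + c' • s' - (d • s + d • s') = 0 := sub_eq_zero.mpr hd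
    linear_combination (exp := 1) this
  have h2 : d = c' := by
    by_contra hne
    have hne' : d - c' ≠ 0 := sub_ne_zero.mpr hne
    apply hind ((d - c')⁻¹ * (c - d))
    rw [← smul_smul, h1, smul_smul, inv_mul_cancel₀ hne', one_smul]
  rw [h2, sub_self, zero_smul] at h1
  have h3 : c - c' = 0 := (smul_eq_zero.mp h1).resolve_right hs0
  exact sub_eq_zero.mp h3

section kernel

variable [Fintype F] (Q : QuadraticForm F (ι → F))
  (hQ : (QuadraticMap.polarBilin Q).Nondegenerate) {k : ℕ} {e f : Fin k → ι → F}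
  (hfam : HypFam Q k e f) (hk : 3 ≤ k)
  (hcard : Fintype.card F ≠ 2 ∨ finrank F (ι → F) ≠ 4)

include hQ hfam hk hcard

/-- eigenvalues on two independent singular vectors agree when all singular points are fixed -/
theorem eig_eq (n : ↥(Cfsg.isometryGroup F ⇑Q))
    (hn : ∀ v, Q v = 0 → ∃ c : F, act Q n v = c • v) (s s' : ι → F) (hs0 : s ≠ 0)
    (hs : Q s = 0) (hs' : Q s' = 0) (hind : ∀ t : F, s' ≠ t • s)
    (c c' : F) (hc : act Q n s = c • s) (hc' : act Q n s' = c' • s') : c = c' := by
  by_cases hss' : polar ⇑Q s s' = 0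
  · exact eig_eq_of_orth Q n hn s s' hs0 hs hs' hss' hind c c' hc hc'
  · obtain ⟨s'', h0, hQ'', h1, h2⟩ :=
      exists_singular_orth_both Q hQ hfam hk hcard s s' hs hs' hss'
    obtain ⟨c'', hc''⟩ := hn s'' hQ''
    have hs'0 : s' ≠ 0 := by
      rintro rfl
      simp [polar] at hss'
    have e1 : c = c'' := by
      apply eig_eq_of_orth Q n hn s s'' hs0 hs hQ'' (by rw [polar_comm]; exact h1) ?_ c c'' hc hc''
      intro t ht
      rw [ht, polar_smul_left, smul_eq_mul] at h2
      rcases mul_eq_zero.mp h2 with h | h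
      · rw [h, zero_smul] at ht
        exact h0 ht
      · exact hss' h
    have e2 : c' = c'' := by
      apply eig_eq_of_orth Q n hn s' s'' hs'0 hs' hQ'' (by rw [polar_comm]; exact h2) ?_ c' c''
        hc' hc''
      intro t ht
      rw [ht, polar_smul_left, smul_eq_mul, polar_comm] at h1
      rcases mul_eq_zero.mp h1 with h | h
      · rw [h, zero_smul] at ht
        exact h0 ht
      · exact hss' h
    rw [e1, e2]

/-- an isometry fixing every singular point is `±1` -/
theorem fix_singular_pm_one (n : ↥(Cfsg.isometryGroup F ⇑Q))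
    (hn : ∀ v, Q v = 0 → ∃ c : F, act Q n v = c • v) :
    ((n : GL ι F) : Matrix ι ι F) = 1 ∨ ((n : GL ι F) : Matrix ι ι F) = -1 := by
  set i0 : Fin k := ⟨0, by omega⟩ with hi0
  obtain ⟨lam, hlam⟩ := hn (e i0) (hfam.qe i0)
  -- all singular vectors have eigenvalue lam
  have hsing : ∀ s, Q s = 0 → act Q n s = lam • s := by
    intro s hs
    by_cases hdep : ∃ t : F, s = t • e i0
    · obtain ⟨t, rfl⟩ := hdep
      rw [act_smul, hlam, smul_comm]
    · push Not at hdep
      obtain ⟨c, hc⟩ := hn s hs
      have := eig_eq Q hQ hfam hk hcard n hn (e i0) s (hfam.e_ne_zero i0) (hfam.qe i0) hs hdep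
        lam c hlam hc
      rw [this]
      exact hc
  -- all vectors
  have hall : ∀ x, act Q n x = lam • x := by
    intro x
    set x' := x - (polar ⇑Q (f i0) x • e i0 + polar ⇑Q (e i0) x • f i0) with hx'
    have hxe : polar ⇑Q (e i0) x' = 0 := by
      rw [hx', polar_sub_right, polar_add_right, polar_smul_right, polar_smul_right, hfam.ee,
        hfam.ef, if_pos rfl]
      simp
    have hxf : polar ⇑Q (f i0) x' = 0 := by
      rw [hx', polar_sub_right, polar_add_right, polar_smul_right, polar_smul_right, hfam.ff,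
        hfam.fe, if_pos rfl]
      simp
    have h1 : Q (x' + ((1 : F) • e i0 + (- Q x') • f i0)) = 0 := by
      rw [hfam.Q_add_comb i0 _ _ x' hxe hxf]
      ring
    have h2 := hsing _ h1
    rw [act_add, act_add, act_smul, act_smul, hsing _ (hfam.qe i0), hsing _ (hfam.qf i0)] at h2
    have h3 : act Q n x' = lam • x' := by
      have : act Q n x' + ((1 : F) • lam • e i0 + -Q x' • lam • f i0)
          - lam • (x' + ((1 : F) • e i0 + -Q x' • f i0)) = 0 := sub_eq_zero.mpr h2
      rw [smul_add, smul_add, smul_comm lam (1 : F), smul_comm lam (-Q x')] at this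
      linear_combination (exp := 1) this
    have h4 : x = x' + (polar ⇑Q (f i0) x • e i0 + polar ⇑Q (e i0) x • f i0) := by
      rw [hx']; abel
    rw [h4, act_add, act_add, act_smul, act_smul, h3, hsing _ (hfam.qe i0),
      hsing _ (hfam.qf i0), smul_add, smul_add, smul_comm lam, smul_comm lam]
  have hmat : ((n : GL ι F) : Matrix ι ι F) = lam • (1 : Matrix ι ι F) := by
    apply Matrix.mulVec_injective
    funext x
    rw [Matrix.smul_mulVec, Matrix.one_mulVec]
    exact hall x
  have hlam2 : lam * lam = 1 := by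
    have h1 : Q ((1 : F) • e i0 + (1 : F) • f i0) = 1 := by rw [hfam.Q_comb, one_mul]
    have h2 := Q_act Q n ((1 : F) • e i0 + (1 : F) • f i0)
    rw [hall, QuadraticMap.map_smul, h1, smul_eq_mul, mul_one] at h2
    exact h2
  have hl : lam = 1 ∨ lam = -1 := by
    have : (lam - 1) * (lam + 1) = 0 := by linear_combination hlam2
    rcases mul_eq_zero.mp this with h | h
    · left; exact sub_eq_zero.mp h
    · right; exact eq_neg_of_add_eq_zero_left h
  rcases hl with rfl | rfl
  · left; rw [hmat, one_smul]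
  · right; rw [hmat, neg_one_smul]

end kernel

end Cfsg.Agent.Lib.Helper37
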