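import Cfsg.Agent.Lib.Helper37.OmegaIndex
import Cfsg.Prelude.Def_GeometricClasses

/-!
# Elements of odd order of the isometry group lie in `Ω` (odd characteristic)

`O / Ω` embeds into `ℤˣ × ℤˣ` (`IsGram.ker_signPair`), a group of exponent two.
-/

set_option autoImplicit false

namespace Cfsg.Agent.Lib.Helper37

variable {κ : Type} [Fintype κ] [DecidableEq κ] {F : Type*} [Field F] [Fintype F]
  {Q : (κ → F) → F} {G : Matrix κ κ F}

/-- an isometry `g` with `g ^ r = 1`, `r` odd, lies in `Ω = [O, O]` -/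
theorem IsGram.mem_omega_of_pow_odd (h : IsGram Q G) (hdet : G.det ≠ 0)
    (g : ↥(Cfsg.isometryGroup F Q)) (r : ℕ) (hr : Odd r) (hg : g ^ r = 1) :
    g ∈ Cfsg.Omega F Q := by
  classical
  obtain ⟨α, hα⟩ := FiniteField.exists_nonsquare (ringChar_ne_two_of_two_ne_zero h.two_ne) (F := F)
  rw [← h.ker_signPair hdet α hα, MonoidHom.mem_ker]
  have h1 : (signPair Q α g) ^ r = 1 := by rw [← map_pow, hg, map_one]
  have h2 : (signPair Q α g) ^ 2 = 1 := by
    apply Prod.ext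
    · simp [Prod.pow_fst]
    · simp [Prod.pow_snd]
  obtain ⟨k, rfl⟩ := hr
  rw [pow_succ, pow_mul, h2, one_pow, one_mul] at h1
  exact h1

end Cfsg.Agent.Lib.Helper37

namespace Cfsg.Agent.Lib.Helper37

variable {κ : Type} [Fintype κ] [DecidableEq κ] {F : Type*} [Field F] [Fintype F]
  {Q : (κ → F) → F} {G : Matrix κ κ F}

/-- `GL`-level version: an isometry `x : GL κ F` with `x ^ r = 1`, `r` odd, lies in
`Cfsg.Geo.omegaGL Q` -/
theorem IsGram.mem_omegaGL_of_pow_odd (h : IsGram Q G) (hdet : G.det ≠ 0)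
    (x : GL κ F) (hx : x ∈ Cfsg.isometryGroup F Q) (r : ℕ) (hr : Odd r) (hxr : x ^ r = 1) :
    x ∈ Cfsg.Geo.omegaGL Q := by
  have hg : (⟨x, hx⟩ : ↥(Cfsg.isometryGroup F Q)) ^ r = 1 := by
    apply Subtype.ext
    simpa using hxr
  exact ⟨⟨x, hx⟩, h.mem_omega_of_pow_odd hdet ⟨x, hx⟩ r hr hg, by simp⟩

/-- order version -/
theorem IsGram.mem_omegaGL_of_orderOf_odd (h : IsGram Q G) (hdet : G.det ≠ 0)
    (x : GL κ F) (hx : x ∈ Cfsg.isometryGroup F Q) (hr : Odd (orderOf x)) :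
    x ∈ Cfsg.Geo.omegaGL Q :=
  h.mem_omegaGL_of_pow_odd hdet x hx _ hr (pow_orderOf_eq_one x)

end Cfsg.Agent.Lib.Helper37
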