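import Mathlib
import Cfsg.Agent.Lib.Helper40.OpBNDefs
import Cfsg.Agent.Lib.Helper8.OrthForms
import Cfsg.Agent.Lib.Helper37.OmegaCenter3
import Cfsg.Agent.Lib.Helper37.OrthPlus

/-! # OpBN hive (helper40, S2548): LEAF CENTER (the centre of `Ω⁺_{2m}(q)` consists of scalars) -/

set_option autoImplicit false

namespace Cfsg.Agent.Lib.Helper40.OpBN

open Matrix Cfsg Cfsg.Agent.Lib.Helper13 Cfsg.Agent.Lib.Helper41.SpBN

variable {F : Type*} [Field F] {m : ℕ}

open QuadraticMap in
/-- with two hyperbolic pairs, no norm class lies in a plane -/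
theorem center_exists_not_mem_span {ι : Type} [Fintype ι] [DecidableEq ι]
    {Q : QuadraticForm F (ι → F)} {k : ℕ} {e f : Fin k → ι → F}
    (h : Cfsg.Agent.Lib.Helper37.HypFam Q k e f) (hk : 2 ≤ k) (c : F) (hc : c ≠ 0)
    (u v : ι → F) : ∃ b, Q b = c ∧ b ∉ Submodule.span F {u, v} := by
  classical
  by_contra hcon
  push Not at hcon
  set i0 : Fin k := ⟨0, by omega⟩ with hi0
  set i1 : Fin k := ⟨1, by omega⟩ with hi1
  have h01 : i0 ≠ i1 := by
    intro hh
    have := congrArg Fin.val hh
    simp [hi0, hi1] at this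
  set b0 : ι → F := (1 : F) • e i0 + c • f i0 with hb0
  set b1 : ι → F := (1 : F) • e i1 + c • f i1 with hb1
  set b2 : ι → F := e i1 + ((1 : F) • e i0 + c • f i0) with hb2
  have hQ0 : Q b0 = c := by rw [hb0, h.Q_comb, one_mul]
  have hQ1 : Q b1 = c := by rw [hb1, h.Q_comb, one_mul]
  have hQ2 : Q b2 = c := by
    rw [hb2, h.Q_add_comb i0 1 c (e i1) (h.ee i0 i1)
      (by rw [polar_comm, h.ef, if_neg (Ne.symm h01)]), h.qe, zero_add, one_mul]
  set b : Fin 3 → ι → F := ![b0, b1, b2] with hb
  have hmem : ∀ j, b j ∈ Submodule.span F {u, v} := by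
    intro j
    fin_cases j
    · exact hcon b0 hQ0
    · exact hcon b1 hQ1
    · exact hcon b2 hQ2
  have hli : LinearIndependent F b := by
    rw [Fintype.linearIndependent_iff]
    intro g hg
    rw [Fin.sum_univ_three] at hg
    simp only [hb, Matrix.cons_val_zero, Matrix.cons_val_one, Matrix.cons_val_two,
      Matrix.head_cons, Matrix.tail_cons] at hg
    have key : ∀ x : ι → F, g 0 * polar ⇑Q b0 x + g 1 * polar ⇑Q b1 x + g 2 * polar ⇑Q b2 x = 0 := by
      intro x
      have h1 := congrArg (fun y => QuadraticMap.polarBilin Q y x) hg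
      simpa [QuadraticMap.polarBilin_apply_apply] using h1
    have p0e1 : polar ⇑Q b0 (e i1) = 0 := by
      rw [hb0, polar_add_left, polar_smul_left, polar_smul_left, h.ee, polar_comm, h.ef,
        if_neg (Ne.symm h01)]
      simp
    have p1e1 : polar ⇑Q b1 (e i1) = c := by
      rw [hb1, polar_add_left, polar_smul_left, polar_smul_left, h.ee, polar_comm, h.ef,
        if_pos rfl]
      simp
    have p2e1 : polar ⇑Q b2 (e i1) = 0 := by
      rw [hb2, polar_add_left, polar_add_left, polar_smul_left, polar_smul_left, h.ee, h.ee,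
        polar_comm, h.ef, if_neg (Ne.symm h01)]
      simp
    have p0f1 : polar ⇑Q b0 (f i1) = 0 := by
      rw [hb0, polar_add_left, polar_smul_left, polar_smul_left, h.ef, h.ff, if_neg h01]
      simp
    have p1f1 : polar ⇑Q b1 (f i1) = 1 := by
      rw [hb1, polar_add_left, polar_smul_left, polar_smul_left, h.ef, h.ff, if_pos rfl]
      simp
    have p2f1 : polar ⇑Q b2 (f i1) = 1 := by
      rw [hb2, polar_add_left, polar_add_left, polar_smul_left, polar_smul_left, h.ef, h.ef,
        h.ff, if_pos rfl, if_neg h01]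
      simp
    have p0f0 : polar ⇑Q b0 (f i0) = 1 := by
      rw [hb0, polar_add_left, polar_smul_left, polar_smul_left, h.ef, h.ff, if_pos rfl]
      simp
    have p1f0 : polar ⇑Q b1 (f i0) = 0 := by
      rw [hb1, polar_add_left, polar_smul_left, polar_smul_left, h.ef, h.ff,
        if_neg (Ne.symm h01)]
      simp
    have p2f0 : polar ⇑Q b2 (f i0) = 1 := by
      rw [hb2, polar_add_left, polar_add_left, polar_smul_left, polar_smul_left, h.ef, h.ef,
        h.ff, if_pos rfl, if_neg (Ne.symm h01)]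
      simp
    have k1 := key (e i1)
    rw [p0e1, p1e1, p2e1] at k1
    have k2 := key (f i1)
    rw [p0f1, p1f1, p2f1] at k2
    have k3 := key (f i0)
    rw [p0f0, p1f0, p2f0] at k3
    have g1 : g 1 = 0 := by
      have : g 1 * c = 0 := by linear_combination k1
      rcases mul_eq_zero.mp this with h' | h'
      · exact h'
      · exact absurd h' hc
    have g2 : g 2 = 0 := by linear_combination k2 - g1
    have g0 : g 0 = 0 := by linear_combination k3 - g2
    intro i
    fin_cases i
    · exact g0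
    · exact g1
    · exact g2
  have hli' : LinearIndependent F (fun j => (⟨b j, hmem j⟩ : ↥(Submodule.span F {u, v}))) := by
    apply LinearIndependent.of_comp (Submodule.span F {u, v}).subtype
    exact hli
  have h1 := hli'.fintype_card_le_finrank
  have h2 : Module.finrank F ↥(Submodule.span F ({u, v} : Set (ι → F))) ≤ 2 := by
    have h3 : ({u, v} : Set (ι → F)) = ↑({u, v} : Finset (ι → F)) := by simp
    rw [h3]
    exact le_trans (finrank_span_finset_le_card _) Finset.card_le_two
  rw [Fintype.card_fin] at h1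
  omega

/-- generic: an isometry centralising `Ω` is `±1` (Witt index at least two) -/
theorem center_gen {ι : Type} [Fintype ι] [DecidableEq ι] (Q : (ι → F) → F)
    (Q' : QuadraticForm F (ι → F)) (hQQ : Q = ⇑Q')
    (hnd : (QuadraticMap.polarBilin Q').Nondegenerate) {k : ℕ} {e f : Fin k → ι → F}
    (hfam : Cfsg.Agent.Lib.Helper37.HypFam Q' k e f) (hk : 2 ≤ k)
    (z : ↥(Cfsg.isometryGroup F Q))
    (hc : ∀ g ∈ commutator ↥(Cfsg.isometryGroup F Q), g * z = z * g) :
    ((z : Matrix.GeneralLinearGroup ι F) : Matrix ι ι F) = 1 ∨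
      ((z : Matrix.GeneralLinearGroup ι F) : Matrix ι ι F) = -1 := by
  subst hQQ
  apply Cfsg.Agent.Lib.Helper37.eq_one_or_neg_one Q' hnd z ?_
    (center_exists_not_mem_span hfam hk) (hfam.span_eq_top hk)
  intro a b ha hb hab
  exact (hc _ (Cfsg.Agent.Lib.Helper37.refl_mul_refl_mem_omega Q' hnd a b ha hb hab)).symm

/-- LEAF CENTER -/
theorem center_scalar [Fintype F] (hm : 2 ≤ m) (hgood : ¬ (m = 2 ∧ Fintype.card F = 2))
    (z : OG F m) (hz : z ∈ commutator (OG F m))
    (hc : ∀ g ∈ commutator (OG F m), g * z = z * g) : ∃ c : F, mt z = c • (1 : Matrix (Idx m) (Idx m) F) := by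
  rcases center_gen (Cfsg.quadFormPlus m F) (Cfsg.Agent.Lib.Helper8.plusForm m F)
    (Cfsg.Agent.Lib.Helper8.plusForm_coe m F) (Cfsg.Agent.Lib.Helper8.plusForm_nondegenerate m F)
    (Cfsg.Agent.Lib.Helper37.OrthField.plus_hypFam37 m F) hm z hc with h | h
  · exact ⟨1, by rw [one_smul]; exact h⟩
  · exact ⟨-1, by rw [neg_smul, one_smul]; exact h⟩

end Cfsg.Agent.Lib.Helper40.OpBN
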