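import Cfsg.Agent.Lib.Helper37.OmegaKernel

set_option autoImplicit false
set_option linter.unusedSectionVars false
set_option linter.unusedVariables false

namespace Cfsg.Agent.Lib.Helper37

open Matrix Module QuadraticMap
open Cfsg.Agent.Lib.Helper8 Cfsg.Agent.Lib.Helper13

variable {ι : Type} [Fintype ι] [DecidableEq ι] {F : Type*} [Field F]

section simple

variable [Fintype F] (Q : QuadraticForm F (ι → F))
  (hQ : (QuadraticMap.polarBilin Q).Nondegenerate) {k : ℕ} {e f : Fin k → ι → F}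
  (hfam : HypFam Q k e f) (hk : 3 ≤ k)
  (hcard : Fintype.card F ≠ 2 ∨ finrank F (ι → F) ≠ 4)

include hQ hfam hk hcard

/-- a normal subgroup of `Ω` inside a point stabiliser is central -/
theorem normal_le_center_of_le_stabPt (u : ι → F) (hu0 : u ≠ 0) (hu : Q u = 0)
    (N : Subgroup ↥(Cfsg.Omega F ⇑Q)) [hN : N.Normal] (hNH : N ≤ stabPt Q u) :
    N ≤ Subgroup.center ↥(Cfsg.Omega F ⇑Q) := by
  intro n hnN
  have hfix : ∀ v, Q v = 0 → ∃ c : F, act Q n.1 v = c • v := by
    intro v hv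
    by_cases hv0 : v = 0
    · exact ⟨0, by rw [hv0, act_zero, smul_zero]⟩
    obtain ⟨g₁, hg₁, h1⟩ := omega_to_e0 Q hQ hfam hk hcard u hu0 hu
    obtain ⟨g₂, hg₂, h2⟩ := omega_to_e0 Q hQ hfam hk hcard v hv0 hv
    set g : ↥(Cfsg.Omega F ⇑Q) := ⟨g₂⁻¹ * g₁, Subgroup.mul_mem _ (Subgroup.inv_mem _ hg₂) hg₁⟩
      with hg
    have hgu : act Q g.1 u = v := by
      rw [hg]
      simp only
      rw [act_mul, h1]
      exact act_inv_eq Q g₂ _ _ h2
    have hmem := normal_le_conj (stabPt Q u) N hNH g n hnN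
    obtain ⟨c, hc⟩ := hmem
    refine ⟨c, ?_⟩
    rw [Subgroup.coe_mul, Subgroup.coe_mul, Subgroup.coe_inv, act_mul, act_mul, hgu] at hc
    have h3 := congrArg (act Q g.1) hc
    rw [← act_mul, mul_inv_cancel, act_one, act_smul, hgu] at h3
    exact h3
  have hpm := fix_singular_pm_one Q hQ hfam hk hcard n.1 hfix
  rw [Subgroup.mem_center_iff]
  intro w
  apply omega_elt_ext
  show ((((w * n : ↥(Cfsg.Omega F ⇑Q)) : ↥(Cfsg.isometryGroup F ⇑Q)) : GL ι F) :
    Matrix ι ι F) = _
  rw [Subgroup.coe_mul, Subgroup.coe_mul, Subgroup.coe_mul, Subgroup.coe_mul, Units.val_mul,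
    Units.val_mul]
  rcases hpm with h | h
  · rw [h]; simp
  · rw [h]; simp

/-- Iwasawa's criterion for `PΩ`: it is simple as soon as `Ω` is perfect and is generated
by the conjugates of a commutative subgroup normalised by a point stabiliser -/
theorem pomega_simple_of (hperf : commutator ↥(Cfsg.Omega F ⇑Q) = ⊤)
    (u : ι → F) (hu0 : u ≠ 0) (hu : Q u = 0)
    (A : Subgroup ↥(Cfsg.Omega F ⇑Q)) (hAc : IsMulCommutative A)
    (hAn : ∀ h ∈ stabPt Q u, ∀ a ∈ A, h * a * h⁻¹ ∈ A)
    (hgen : Subgroup.normalClosure (A : Set ↥(Cfsg.Omega F ⇑Q)) = ⊤) :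
    IsSimpleGroup (Cfsg.POmega F ⇑Q) := by
  set G := ↥(Cfsg.Omega F ⇑Q) with hG
  have hmax := stabPt_isCoatom Q hQ hfam hk hcard u hu0 hu
  have key : ∀ N : Subgroup G, N.Normal → N ≤ Subgroup.center G ∨ N = ⊤ := by
    intro N hN
    rcases iwasawa_subgroup (stabPt Q u) A hmax hAc hAn hgen hperf N with h | h
    · left
      exact normal_le_center_of_le_stabPt Q hQ hfam hk hcard u hu0 hu N h
    · right; exact h
  have hcne : Subgroup.center G ≠ ⊤ := by
    intro hc
    have hcomm : commutator G = ⊥ := by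
      rw [eq_bot_iff, commutator_def, Subgroup.commutator_le]
      intro a _ b _
      rw [Subgroup.mem_bot, commutatorElement_eq_one_iff_mul_comm]
      have : b ∈ Subgroup.center G := by rw [hc]; exact Subgroup.mem_top b
      exact (Subgroup.mem_center_iff.1 this a)
    rw [hperf] at hcomm
    apply stabPt_ne_top Q hQ hfam hk hcard u hu0 hu
    rw [eq_top_iff, hcomm]
    exact bot_le
  have hnt : Nontrivial (G ⧸ Subgroup.center G) := by
    obtain ⟨g, hg⟩ : ∃ g : G, g ∉ Subgroup.center G := by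
      by_contra hcon
      push Not at hcon
      exact hcne (eq_top_iff.2 (fun g _ => hcon g))
    refine ⟨⟨(g : G ⧸ Subgroup.center G), 1, ?_⟩⟩
    intro h1
    exact hg ((QuotientGroup.eq_one_iff g).1 h1)
  show IsSimpleGroup (G ⧸ Subgroup.center G)
  refine @IsSimpleGroup.mk _ _ hnt ?_
  intro H hH
  have hN : (H.comap (QuotientGroup.mk' (Subgroup.center G))).Normal := hH.comap _
  rcases key _ hN with h1 | h1
  · left
    rw [eq_bot_iff]
    intro x hx
    obtain ⟨g, rfl⟩ := QuotientGroup.mk_surjective x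
    have hg : g ∈ H.comap (QuotientGroup.mk' (Subgroup.center G)) := hx
    rw [Subgroup.mem_bot]
    exact (QuotientGroup.eq_one_iff g).2 (h1 hg)
  · right
    rw [eq_top_iff]
    intro x _
    obtain ⟨g, rfl⟩ := QuotientGroup.mk_surjective x
    have hg : g ∈ H.comap (QuotientGroup.mk' (Subgroup.center G)) := by
      rw [h1]; exact Subgroup.mem_top g
    exact hg

end simple

end Cfsg.Agent.Lib.Helper37
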