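import Cfsg.Agent.Lib.Helper37.OmegaPerfect

set_option autoImplicit false
set_option linter.unusedSectionVars false
set_option linter.unusedVariables false

namespace Cfsg.Agent.Lib.Helper37

open Matrix Module QuadraticMap
open Cfsg.Agent.Lib.Helper8 Cfsg.Agent.Lib.Helper13

variable {ι : Type} [Fintype ι] [DecidableEq ι] {F : Type*} [Field F]

/-- `PΩ(Q)` is simple for a nondegenerate quadratic form over a finite field containing
three pairwise orthogonal hyperbolic pairs (excluding dimension four over the field of two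
elements, which cannot occur here) -/
theorem pomega_simple [Fintype F] (Q : QuadraticForm F (ι → F))
    (hQ : (QuadraticMap.polarBilin Q).Nondegenerate) {k : ℕ} {e f : Fin k → ι → F}
    (hfam : HypFam Q k e f) (hk : 3 ≤ k)
    (hcard : Fintype.card F ≠ 2 ∨ finrank F (ι → F) ≠ 4) :
    IsSimpleGroup (Cfsg.POmega F ⇑Q) :=
  pomega_simple_of Q hQ hfam hk hcard (omega_perfect Q hQ hfam hk hcard)
    (e ⟨0, by omega⟩) (hfam.e_ne_zero _) (hfam.qe _)
    (eichlerGroup Q (e ⟨0, by omega⟩) (hfam.qe _))
    (eichlerGroup_comm Q _ _)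
    (eichlerGroup_normalized Q _ (hfam.e_ne_zero _) _)
    (normalClosure_eichlerGroup Q hQ hfam hk hcard _ (hfam.e_ne_zero _) _)

end Cfsg.Agent.Lib.Helper37
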