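import Mathlib
import Cfsg.Agent.Lib.Helper37.PSUAut1

set_option autoImplicit false
set_option linter.unusedSectionVars false
set_option linter.unusedVariables false

/-!
# The kernel of `GU_n → Aut(PSU_n)` and field automorphisms which are inner-diagonal
-/

namespace Cfsg.Agent.Lib.Helper37.PSUAut

open Matrix Cfsg.Agent.Lib.Helper5.AutPSLn Cfsg.Agent.Lib.Helper99 Cfsg.Agent.Lib.Helper99.SURoot

variable {F : Type*} [Field F] [Fintype F] {q : ℕ} {n : ℕ}

local notation "hh" => Cfsg.hermForm n F q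

/-- `SU_n(q)` is perfect -/
theorem su_perfect (hF : Fintype.card F = q ^ 2) (hn : 3 ≤ n) (hs : ¬ (n = 3 ∧ q = 2)) :
    commutator ↥(Cfsg.SU n F q) = ⊤ := by
  have hq := q_ge_two hF
  have hn' : 4 ≤ n ∨ (n = 3 ∧ 3 ≤ q) := by
    by_cases h4 : 4 ≤ n
    · exact Or.inl h4
    · right
      have h3 : n = 3 := by omega
      refine ⟨h3, ?_⟩
      by_contra hq3
      exact hs ⟨h3, by omega⟩
  exact Cfsg.Agent.Lib.Helper5.PSUS.commutator_eq_top n hF hn' (Cfsg.Agent.S0780.result hF n hn hs)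

/-- two non-orthogonal isotropic eigenvectors have the same eigenvalue -/
theorem eigen_eq_of_not_orth (hF : Fintype.card F = q ^ 2) (g : Matrix (Fin n) (Fin n) F)
    (hg : ∀ r : Fin n → F, r ≠ 0 → hh r r = 0 → ∃ a : F, g *ᵥ r = a • r)
    (r s : Fin n → F) (hr : hh r r = 0) (hs : hh s s = 0) (hsr : hh s r ≠ 0) (a b : F)
    (ha : g *ᵥ r = a • r) (hb : g *ᵥ s = b • s) : a = b := by
  have hrs : hh r s ≠ 0 := not_orth_symm n hF hsr
  obtain ⟨ε, hε0, hε⟩ := exists_trace_zero hF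
  obtain ⟨α, hα⟩ : ∃ α : F, α = ε / hh s r := ⟨_, rfl⟩
  have hαs : α * hh s r = ε := by
    rw [hα, div_mul_cancel₀ _ hsr]
  have hα0 : α ≠ 0 := by rw [hα]; exact div_ne_zero hε0 hsr
  obtain ⟨t, ht⟩ : ∃ t : Fin n → F, t = r + α • s := ⟨_, rfl⟩
  have htt : hh t t = 0 := by
    rw [ht, hf_add_left, hf_add_right n hF, hf_add_right n hF, hr, hf_smul_left, hf_smul_left,
      hf_smul_right, hf_smul_right, hs, ← hf_conj n hF s r]
    have : α ^ q * hh s r ^ q = ε ^ q := by rw [← mul_pow, hαs]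
    linear_combination hε + this + hαs
  have htr : hh t r = ε := by
    rw [ht, hf_add_left, hr, hf_smul_left, hαs, zero_add]
  have ht0 : t ≠ 0 := by
    intro h0
    rw [h0, hermForm_zero_left] at htr
    exact hε0 htr.symm
  obtain ⟨d, hd⟩ := hg t ht0 htt
  have hlin : d • r + (d * α) • s = a • r + (α * b) • s := by
    have : g *ᵥ t = a • r + (α * b) • s := by
      rw [ht, mulVec_add, mulVec_smul, ha, hb, smul_smul]
    rw [← this, hd, ht, smul_add, smul_smul]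
  have hda : d = a := by
    have := congrArg (fun z => hh z s) hlin
    simp only [hf_add_left, hf_smul_left, hs, mul_zero, add_zero] at this
    exact mul_right_cancel₀ hrs this
  have hdb : d = b := by
    have := congrArg (fun z => hh z r) hlin
    simp only [hf_add_left, hf_smul_left, hr, mul_zero, zero_add] at this
    have h2 : d * (α * hh s r) = b * (α * hh s r) := by linear_combination this
    rw [hαs] at h2
    exact mul_right_cancel₀ hε0 h2
  rw [← hda, hdb]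

theorem hperp_bot (hF : Fintype.card F = q ^ 2) :
    hperp q (⊥ : Submodule F (Fin n → F)) = ⊤ := by
  rw [eq_top_iff]
  intro x _ w hw
  rw [Submodule.mem_bot] at hw
  rw [hw]
  exact hermForm_zero_right hF x

/-- a matrix having every isotropic vector as an eigenvector is scalar -/
theorem scalar_of_fix (hF : Fintype.card F = q ^ 2) (hn : 2 ≤ n) (g : Matrix (Fin n) (Fin n) F)
    (hg : ∀ r : Fin n → F, r ≠ 0 → hh r r = 0 → ∃ a : F, g *ᵥ r = a • r) :
    ∃ a : F, g = a • (1 : Matrix (Fin n) (Fin n) F) := by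
  obtain ⟨m, rfl⟩ : ∃ m, n = m + 2 := ⟨n - 2, by omega⟩
  obtain ⟨p, hp0, hp⟩ := exists_isotropic m hF
  obtain ⟨a, ha⟩ := hg p hp0 hp
  have hall : ∀ r : Fin (m + 2) → F, Cfsg.hermForm (m + 2) F q r r = 0 → g *ᵥ r = a • r := by
    intro r hr
    by_cases hr0 : r = 0
    · rw [hr0, mulVec_zero, smul_zero]
    obtain ⟨s, hs, hsp, hsr⟩ := exists_connect (m + 2) hF p r hp0 hr0 hp hr
    have hs0 : s ≠ 0 := by
      rintro rfl
      exact hsp (hermForm_zero_left p)
    obtain ⟨b, hb⟩ := hg s hs0 hs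
    obtain ⟨c, hc⟩ := hg r hr0 hr
    have h1 : a = b := eigen_eq_of_not_orth hF g hg p s hp hs hsp a b ha hb
    have h2 : c = b := eigen_eq_of_not_orth hF g hg r s hr hs hsr c b hc hb
    rw [hc, h2, ← h1]
  have hspan : ∀ x : Fin (m + 2) → F, g *ᵥ x = a • x := by
    intro x
    have hx := span_isotropic_hperp hF (⊥ : Submodule F (Fin (m + 2) → F)) p
      (by rw [hperp_bot hF]; exact Submodule.mem_top) hp
      (by rw [Submodule.mem_bot]; exact hp0) x (by rw [hperp_bot hF]; exact Submodule.mem_top)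
    refine Submodule.span_induction ?_ ?_ ?_ ?_ hx
    · rintro z ⟨_, hz⟩
      exact hall z hz
    · rw [mulVec_zero, smul_zero]
    · intro y z _ _ hy hz
      rw [mulVec_add, hy, hz, smul_add]
    · intro c y _ hy
      rw [mulVec_smul, hy, smul_comm]
  refine ⟨a, ?_⟩
  ext i j
  have := congrFun (hspan (Pi.single j 1)) i
  rw [mulVec_single_one] at this
  simp only [Matrix.col_apply, Pi.smul_apply, smul_eq_mul] at this
  rw [Matrix.smul_apply, Matrix.one_apply, smul_eq_mul]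
  rw [this, Pi.single_apply]

/-- a matrix commuting with all unitary transvections is scalar -/
theorem scalar_of_commute (hF : Fintype.card F = q ^ 2) (hn : 2 ≤ n)
    (g : Matrix (Fin n) (Fin n) F)
    (hg : ∀ s : ↥(Cfsg.SU n F q), g * mat n s = mat n s * g) :
    ∃ a : F, g = a • (1 : Matrix (Fin n) (Fin n) F) := by
  apply scalar_of_fix hF hn
  intro r hr0 hr
  obtain ⟨c, hc0, hc⟩ := exists_trace_zero hF
  obtain ⟨x, hx⟩ := exists_not_orth n hF r hr0
  have h1 := congrArg (fun M => M *ᵥ x) (hg (tvElt n hF r c))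
  simp only [← mulVec_mulVec] at h1
  rw [tvElt_mulVec n hF r hr c hc, tvElt_mulVec n hF r hr c hc, mulVec_add, mulVec_smul] at h1
  have h2 : (c * hh x r) • g *ᵥ r = (c * hh (g *ᵥ x) r) • r := add_left_cancel h1
  have h3 : c * hh x r ≠ 0 := mul_ne_zero hc0 hx
  refine ⟨(c * hh x r)⁻¹ * (c * hh (g *ᵥ x) r), ?_⟩
  rw [← smul_smul, ← h2, smul_smul, inv_mul_cancel₀ h3, one_smul]

theorem conjU_eq_one_iff (hF : Fintype.card F = q ^ 2) (hn : 2 ≤ n) (g : ↥(Cfsg.GU n F q)) :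
    conjU g = 1 ↔ ∃ a : F, g.1.1 = a • (1 : Matrix (Fin n) (Fin n) F) := by
  constructor
  · intro h
    apply scalar_of_commute hF hn
    intro s
    have h1 : conjU g s = s := by rw [h]; rfl
    have h2 := congrArg (fun x : ↥(Cfsg.SU n F q) => x.1.1) h1
    simp only [conjU_coe] at h2
    have h3 : (g.1⁻¹).1 * g.1.1 = 1 := by
      rw [← Units.val_mul, inv_mul_cancel]; rfl
    show g.1.1 * s.1.1 = s.1.1 * g.1.1
    calc g.1.1 * s.1.1 = g.1.1 * s.1.1 * ((g.1⁻¹).1 * g.1.1) := by rw [h3, Matrix.mul_one]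
      _ = (g.1.1 * s.1.1 * (g.1⁻¹).1) * g.1.1 := by simp only [Matrix.mul_assoc]
      _ = s.1.1 * g.1.1 := by rw [h2]
  · rintro ⟨a, ha⟩
    refine MulEquiv.ext fun s => ?_
    apply su_ext'
    rw [conjU_coe]
    have h3 : g.1.1 * (g.1⁻¹).1 = 1 := by
      rw [← Units.val_mul, mul_inv_cancel]; rfl
    show g.1.1 * s.1.1 * (g.1⁻¹).1 = s.1.1
    have hcomm : g.1.1 * s.1.1 = s.1.1 * g.1.1 := by
      rw [ha, Matrix.smul_mul, Matrix.one_mul, Matrix.mul_smul, Matrix.mul_one]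
    rw [hcomm, Matrix.mul_assoc, h3, Matrix.mul_one]

/-- the kernel of `GU_n → Aut(PSU_n)` consists of the scalar matrices -/
theorem GamU_eq_one_iff (hF : Fintype.card F = q ^ 2) (hn : 3 ≤ n) (hs : ¬ (n = 3 ∧ q = 2))
    (g : ↥(Cfsg.GU n F q)) :
    GamU g = 1 ↔ ∃ a : F, g.1.1 = a • (1 : Matrix (Fin n) (Fin n) F) := by
  rw [← conjU_eq_one_iff hF (by omega) g]
  unfold GamU
  rw [MonoidHom.comp_apply]
  constructor
  · intro h
    apply desc_injective (su_perfect hF hn hs)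
    rw [h, map_one]
  · intro h
    rw [h, map_one]


theorem GamU_eq_iff (hF : Fintype.card F = q ^ 2) (hn : 3 ≤ n) (hs : ¬ (n = 3 ∧ q = 2))
    (g g' : ↥(Cfsg.GU n F q)) :
    GamU g = GamU g' ↔ ∃ a : F, g'.1.1 = a • g.1.1 := by
  have h1 : GamU g = GamU g' ↔ GamU (g⁻¹ * g') = 1 := by
    rw [map_mul, map_inv, inv_mul_eq_one]
  rw [h1, GamU_eq_one_iff hF hn hs]
  have h2 : (g⁻¹ * g').1.1 = (g.1⁻¹).1 * g'.1.1 := rfl
  have h3 : g.1.1 * (g.1⁻¹).1 = 1 := by
    rw [← Units.val_mul, mul_inv_cancel]; rfl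
  have h4 : (g.1⁻¹).1 * g.1.1 = 1 := by
    rw [← Units.val_mul, inv_mul_cancel]; rfl
  rw [h2]
  constructor
  · rintro ⟨a, ha⟩
    refine ⟨a, ?_⟩
    calc g'.1.1 = (g.1.1 * (g.1⁻¹).1) * g'.1.1 := by rw [h3, Matrix.one_mul]
      _ = g.1.1 * ((g.1⁻¹).1 * g'.1.1) := by rw [Matrix.mul_assoc]
      _ = a • g.1.1 := by rw [ha, Matrix.mul_smul, Matrix.mul_one]
  · rintro ⟨a, ha⟩
    refine ⟨a, ?_⟩
    rw [ha, Matrix.mul_smul, h4]

/-! ### field automorphisms are not inner-diagonal -/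

theorem tv_eq (hF : Fintype.card F = q ^ 2) (τ : F ≃+* F) (g : ↥(Cfsg.GU n F q))
    (h : (fieldU τ : MulAut ↥(Cfsg.SU n F q)) = conjU g) (p x : Fin n → F) (hp : hh p p = 0)
    (c : F) (hc : c + c ^ q = 0) :
    τ (c * hh x p) • (fun i => τ (p i)) =
      (c * hh ((g.1⁻¹).1 *ᵥ (fun i => τ (x i))) p) • (g.1.1 *ᵥ p) := by
  have h1 := congrArg (fun s : ↥(Cfsg.SU n F q) => s.1.1 *ᵥ (fun i => τ (x i)))
    (DFunLike.congr_fun h (tvElt n hF p c))
  simp only [fieldU_coe, conjU_coe] at h1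
  rw [← sigma_mulVec'] at h1
  have e1 : (tvElt n hF p c).1.1 = mat n (tvElt n hF p c) := rfl
  rw [e1, tvElt_mulVec n hF p hp c hc, ← mulVec_mulVec, ← mulVec_mulVec,
    tvElt_mulVec n hF p hp c hc, mulVec_add, mulVec_smul, mulVec_mulVec] at h1
  have h3 : g.1.1 * (g.1⁻¹).1 = 1 := by
    rw [← Units.val_mul, mul_inv_cancel]; rfl
  rw [h3, one_mulVec] at h1
  have h4 : (fun i => τ ((x + (c * hh x p) • p) i)) =
      (fun i => τ (x i)) + τ (c * hh x p) • (fun i => τ (p i)) := by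
    ext i
    simp only [Pi.add_apply, Pi.smul_apply, smul_eq_mul, map_add, map_mul]
  rw [h4] at h1
  exact add_left_cancel h1

/-- a field automorphism agreeing on `SU_n` with a conjugation fixes the fixed field of the
`q`-th power map -/
theorem tau_fix (hF : Fintype.card F = q ^ 2) (hn : 2 ≤ n) (τ : F ≃+* F) (g : ↥(Cfsg.GU n F q))
    (h : (fieldU τ : MulAut ↥(Cfsg.SU n F q)) = conjU g) (l : F) (hl : l ^ q = l) : τ l = l := by
  obtain ⟨m, rfl⟩ : ∃ m, n = m + 2 := ⟨n - 2, by omega⟩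
  obtain ⟨p, hp0, hp⟩ := exists_isotropic m hF
  obtain ⟨c, hc0, hc⟩ := exists_trace_zero hF
  obtain ⟨x, hx⟩ := exists_not_orth (m + 2) hF p hp0
  have hlc : l * c + (l * c) ^ q = 0 := by
    rw [mul_pow, hl]
    linear_combination l * hc
  have e1 := tv_eq hF τ g h p x hp c hc
  have e2 := tv_eq hF τ g h p x hp (l * c) hlc
  have e3 : τ l • (τ (c * Cfsg.hermForm (m + 2) F q x p) • (fun i => τ (p i))) =
      l • (τ (c * Cfsg.hermForm (m + 2) F q x p) • (fun i => τ (p i))) := by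
    calc τ l • (τ (c * Cfsg.hermForm (m + 2) F q x p) • (fun i => τ (p i)))
        = τ (l * c * Cfsg.hermForm (m + 2) F q x p) • (fun i => τ (p i)) := by
          rw [smul_smul, ← map_mul, mul_assoc]
      _ = (l * c * Cfsg.hermForm (m + 2) F q ((g.1⁻¹).1 *ᵥ (fun i => τ (x i))) p) •
            (g.1.1 *ᵥ p) := e2
      _ = l • ((c * Cfsg.hermForm (m + 2) F q ((g.1⁻¹).1 *ᵥ (fun i => τ (x i))) p) •
            (g.1.1 *ᵥ p)) := by rw [smul_smul, mul_assoc]
      _ = _ := by rw [← e1]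
  have hw : τ (c * Cfsg.hermForm (m + 2) F q x p) • (fun i => τ (p i)) ≠ 0 := by
    intro h0
    rcases smul_eq_zero.1 h0 with h5 | h5
    · rw [map_eq_zero_iff τ τ.injective] at h5
      exact mul_ne_zero hc0 hx h5
    · apply hp0
      ext i
      have := congrFun h5 i
      simp only [Pi.zero_apply] at this
      rw [map_eq_zero_iff τ τ.injective] at this
      exact this
  by_contra hne
  have h6 : (τ l - l) • (τ (c * Cfsg.hermForm (m + 2) F q x p) • (fun i => τ (p i))) = 0 := by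
    rw [sub_smul, e3, sub_self]
  rcases smul_eq_zero.1 h6 with h7 | h7
  · exact hne (sub_eq_zero.1 h7)
  · exact hw h7

/-- an automorphism fixing the fixed field of the `q`-th power map is the identity or the
`q`-th power map -/
theorem tau_cases (hF : Fintype.card F = q ^ 2) (τ : F ≃+* F)
    (hfix : ∀ l : F, l ^ q = l → τ l = l) : (∀ a, τ a = a) ∨ (∀ a, τ a = a ^ q) := by
  have hpt : ∀ a : F, τ a = a ∨ τ a = a ^ q := by
    intro a
    have hs : τ (a + a ^ q) = a + a ^ q := by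
      apply hfix
      rw [frob_add hF, pow_q_pow_q hF, add_comm]
    have hp : τ (a * a ^ q) = a * a ^ q := by
      apply hfix
      rw [mul_pow, pow_q_pow_q hF, mul_comm]
    rw [map_add, map_pow] at hs
    rw [map_mul, map_pow] at hp
    have h0 : (τ a - a) * (τ a - a ^ q) = 0 := by
      linear_combination (τ a) * hs - hp
    rcases mul_eq_zero.1 h0 with h | h
    · exact Or.inl (sub_eq_zero.1 h)
    · exact Or.inr (sub_eq_zero.1 h)
  by_contra hcon
  rw [not_or] at hcon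
  obtain ⟨h1, h2⟩ := hcon
  push Not at h1 h2
  obtain ⟨a₁, ha₁⟩ := h1
  obtain ⟨a₂, ha₂⟩ := h2
  have e1 : τ a₁ = a₁ ^ q := (hpt a₁).resolve_left ha₁
  have e2 : τ a₂ = a₂ := (hpt a₂).resolve_right ha₂
  rcases hpt (a₁ + a₂) with h | h
  · rw [map_add, e1, e2] at h
    apply ha₁
    rw [e1]
    exact add_right_cancel h
  · rw [map_add, e1, e2, frob_add hF] at h
    apply ha₂
    rw [e2]
    exact add_left_cancel h

/-- an element of norm one whose square is not one -/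
theorem exists_zeta (hF : Fintype.card F = q ^ 2) : ∃ ζ : Fˣ, ζ ^ (q + 1) = 1 ∧ ζ ^ 2 ≠ 1 := by
  classical
  have hq := q_ge_two hF
  obtain ⟨ω, hω⟩ := IsCyclic.exists_generator (α := Fˣ)
  have hord : orderOf ω = q ^ 2 - 1 := by
    rw [orderOf_eq_card_of_forall_mem_zpowers hω, Nat.card_units, Nat.card_eq_fintype_card, hF]
  have hfac : q ^ 2 - 1 = (q - 1) * (q + 1) := by
    obtain ⟨r, rfl⟩ : ∃ r, q = r + 1 := ⟨q - 1, by omega⟩
    simp only [Nat.add_sub_cancel]
    have : (r + 1) ^ 2 = r * (r + 1 + 1) + 1 := by ring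
    rw [this, Nat.add_sub_cancel]
  refine ⟨ω ^ (q - 1), ?_, ?_⟩
  · rw [← pow_mul, ← hfac, ← hord, pow_orderOf_eq_one]
  · intro h
    rw [← pow_mul] at h
    have h1 := orderOf_dvd_of_pow_eq_one h
    rw [hord, hfac] at h1
    have h2 := Nat.le_of_dvd (by omega) h1
    have h3 : q - 1 ≥ 1 := by omega
    nlinarith

theorem not_frob (hF : Fintype.card F = q ^ 2) (hn : 3 ≤ n) (τ : F ≃+* F)
    (hτ : ∀ a, τ a = a ^ q) (g : ↥(Cfsg.GU n F q))
    (h : (fieldU τ : MulAut ↥(Cfsg.SU n F q)) = conjU g) : False := by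
  obtain ⟨m, rfl⟩ : ∃ m, n = m + 3 := ⟨n - 3, by omega⟩
  obtain ⟨ζ, hζ, hζ2⟩ := exists_zeta hF
  have hζ' : (ζ : F) ^ (q + 1) = 1 := by
    rw [← Units.val_pow_eq_pow_val, hζ, Units.val_one]
  have hζ0 : (ζ : F) ≠ 0 := ζ.ne_zero
  have hζq : (ζ : F) ^ q = (ζ : F)⁻¹ := by
    rw [pow_succ] at hζ'
    exact eq_inv_of_mul_eq_one_left hζ'
  let d : Fin (m + 3) → F :=
    Matrix.vecCons (ζ : F) (Matrix.vecCons (ζ : F) (Matrix.vecCons (((ζ : F)⁻¹) ^ 2)
      (fun _ : Fin m => (1 : F))))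
  have hd : ∀ i, d i * d i ^ q = 1 := by
    intro i
    refine Fin.cases ?_ (fun i => ?_) i
    · show (ζ : F) * (ζ : F) ^ q = 1
      rw [hζq, mul_inv_cancel₀ hζ0]
    · refine Fin.cases ?_ (fun i => ?_) i
      · show (ζ : F) * (ζ : F) ^ q = 1
        rw [hζq, mul_inv_cancel₀ hζ0]
      · refine Fin.cases ?_ (fun i => ?_) i
        · show ((ζ : F)⁻¹) ^ 2 * (((ζ : F)⁻¹) ^ 2) ^ q = 1
          rw [← pow_mul, mul_comm 2 q, pow_mul, inv_pow (ζ : F) q, hζq, inv_inv]
          field_simp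
        · show (1 : F) * 1 ^ q = 1
          rw [one_pow, mul_one]
  have hdet : (Matrix.diagonal d).det = 1 := by
    rw [Matrix.det_diagonal, Fin.prod_univ_succ, Fin.prod_univ_succ, Fin.prod_univ_succ]
    show (ζ : F) * ((ζ : F) * (((ζ : F)⁻¹) ^ 2 * ∏ i : Fin m, (1 : F))) = 1
    rw [Finset.prod_const_one]
    field_simp
  have hmem : (⟨Matrix.diagonal d, hdet⟩ : SpecialLinearGroup (Fin (m + 3)) F) ∈
      Cfsg.SU (m + 3) F q := by
    intro u v
    show Cfsg.hermForm _ F q (Matrix.diagonal d *ᵥ u) (Matrix.diagonal d *ᵥ v) = _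
    unfold Cfsg.hermForm
    apply Finset.sum_congr rfl
    intro i _
    rw [Matrix.mulVec_diagonal, Matrix.mulVec_diagonal, mul_pow]
    linear_combination (u i * v i ^ q) * hd i
  have h1 := congrArg (fun s : ↥(Cfsg.SU (m + 3) F q) => Matrix.trace s.1.1)
    (DFunLike.congr_fun h ⟨⟨Matrix.diagonal d, hdet⟩, hmem⟩)
  simp only [fieldU_coe, conjU_coe] at h1
  rw [Matrix.trace_units_conj] at h1
  have h2 : (Matrix.diagonal d).map τ = Matrix.diagonal (fun i => τ (d i)) := by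
    rw [Matrix.diagonal_map (map_zero τ)]
  have h1' : Matrix.trace ((Matrix.diagonal d).map τ) = Matrix.trace (Matrix.diagonal d) := h1
  rw [h2, Matrix.trace_diagonal, Matrix.trace_diagonal, Fin.sum_univ_succ, Fin.sum_univ_succ,
    Fin.sum_univ_succ, Fin.sum_univ_succ, Fin.sum_univ_succ, Fin.sum_univ_succ] at h1'
  have h3 : τ (ζ : F) + (τ (ζ : F) + (τ (((ζ : F)⁻¹) ^ 2) + ∑ i : Fin m, τ (1 : F))) =
      (ζ : F) + ((ζ : F) + (((ζ : F)⁻¹) ^ 2 + ∑ i : Fin m, (1 : F))) := h1'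
  rw [map_one, hτ, hτ, hζq, ← pow_mul, mul_comm 2 q, pow_mul, inv_pow, hζq, inv_inv] at h3
  have h4 : ((ζ : F) - 1) ^ 3 * ((ζ : F) + 1) = 0 := by
    have h5 : (ζ : F)⁻¹ + ((ζ : F)⁻¹ + (ζ : F) ^ 2) = (ζ : F) + ((ζ : F) + ((ζ : F)⁻¹) ^ 2) := by
      linear_combination h3
    field_simp at h5
    linear_combination h5
  apply hζ2
  apply Units.ext
  rw [Units.val_pow_eq_pow_val, Units.val_one]
  rcases mul_eq_zero.1 h4 with h6 | h6
  · have := pow_eq_zero_iff (n := 3) (by norm_num) |>.1 h6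
    have h7 : (ζ : F) = 1 := sub_eq_zero.1 this
    rw [h7, one_pow]
  · have h7 : (ζ : F) = -1 := eq_neg_of_add_eq_zero_left h6
    rw [h7]
    ring

/-- a field automorphism of `PSU_n(q)` which is inner-diagonal is trivial -/
theorem PhiU_eq_GamU (hF : Fintype.card F = q ^ 2) (hn : 3 ≤ n) (hs : ¬ (n = 3 ∧ q = 2))
    (τ : F ≃+* F) (g : ↥(Cfsg.GU n F q))
    (h : (PhiU τ : MulAut (Cfsg.PSU n F q)) = GamU g) : τ = 1 := by
  have h1 : (fieldU τ : MulAut ↥(Cfsg.SU n F q)) = conjU g :=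
    desc_injective (su_perfect hF hn hs) h
  rcases tau_cases hF τ (tau_fix hF (by omega) τ g h1) with h2 | h2
  · ext a
    exact h2 a
  · exact (not_frob hF hn τ h2 g h1).elim

end Cfsg.Agent.Lib.Helper37.PSUAut
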