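import Mathlib
import Cfsg.Agent.Lib.Helper37.PSUAut2
import Cfsg.Agent.Lib.Helper37.GraphSplit
import Cfsg.Agent.Lib.Helper45.AutPSLField
import Cfsg.Agent.Lib.Helper13.Involution
import Cfsg.Agent.Lib.Helper99.UnitaryND1

set_option autoImplicit false
set_option linter.unusedSectionVars false
set_option linter.unusedVariables false

/-!
# Graph automorphisms of `PSU_n(q)`: projective calculus in `GL_n(F)`
-/

namespace Cfsg.Agent.Lib.Helper37.PSUAut

open Matrix Cfsg.Agent.Lib.Helper37.GraphPSL Cfsg.Agent.Lib.Helper45.AutPSL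
  Cfsg.Agent.Lib.Helper99

variable {F : Type*} [Field F] {q n : ℕ}

/-- the projection `GL_n → PGL_n` -/
def pi (n : ℕ) (F : Type*) [Field F] :
    GL (Fin n) F →* GL (Fin n) F ⧸ Subgroup.center (GL (Fin n) F) := QuotientGroup.mk' _

theorem pi_eq_iff (x y : GL (Fin n) F) :
    pi n F x = pi n F y ↔ ∃ c : Fˣ, y = sc (Fin n) c * x := by
  unfold pi
  rw [QuotientGroup.mk'_apply, QuotientGroup.mk'_apply, QuotientGroup.eq, mem_center_iff_sc]
  constructor
  · rintro ⟨c, hc⟩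
    refine ⟨c, ?_⟩
    rw [sc_comm, ← hc, mul_inv_cancel_left]
  · rintro ⟨c, rfl⟩
    refine ⟨c, ?_⟩
    rw [sc_comm, inv_mul_cancel_left]

theorem pi_sc (c : Fˣ) : pi n F (sc (Fin n) c) = 1 := by
  have : pi n F 1 = pi n F (sc (Fin n) c) := (pi_eq_iff _ _).2 ⟨c, by rw [mul_one]⟩
  rw [← this, map_one]

theorem pi_eq_one_iff (x : GL (Fin n) F) : pi n F x = 1 ↔ ∃ c : Fˣ, x = sc (Fin n) c := by
  rw [← map_one (pi n F), eq_comm, pi_eq_iff]
  simp only [mul_one]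

theorem glS_glT (σ : F ≃+* F) (x : GL (Fin n) F) : glS σ (glT x) = glT (glS σ x) := by
  apply Units.ext
  rw [glS_val, glT_val, glT_val, glS_val, Matrix.transpose_map]

theorem glS_sc (σ : F ≃+* F) (c : Fˣ) : glS σ (sc (Fin n) c) = sc (Fin n) (uS σ c) :=
  glS_scalar σ c

theorem glS_glS (σ : F ≃+* F) (hσ2 : ∀ a, σ (σ a) = a) (x : GL (Fin n) F) :
    glS σ (glS σ x) = x := by
  apply Units.ext
  rw [glS_val, glS_val]
  ext i j
  exact hσ2 _

theorem pi_glS (σ : F ≃+* F) {x y : GL (Fin n) F} (h : pi n F x = pi n F y) :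
    pi n F (glS σ x) = pi n F (glS σ y) := by
  obtain ⟨c, rfl⟩ := (pi_eq_iff _ _).1 h
  rw [map_mul, glS_sc, map_mul, pi_sc, one_mul]

theorem pi_glT {x y : GL (Fin n) F} (h : pi n F x = pi n F y) :
    pi n F (glT x) = pi n F (glT y) := by
  obtain ⟨c, rfl⟩ := (pi_eq_iff _ _).1 h
  rw [glT_mul, glT_sc, map_mul, pi_sc, mul_one]

/-- conjugate transpose -/
noncomputable def star (σ : F ≃+* F) (x : GL (Fin n) F) : GL (Fin n) F := glT (glS σ x)

theorem star_mul (σ : F ≃+* F) (x y : GL (Fin n) F) : star σ (x * y) = star σ y * star σ x := by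
  unfold star
  rw [map_mul, glT_mul]

theorem star_one (σ : F ≃+* F) : star σ (1 : GL (Fin n) F) = 1 := by
  unfold star
  rw [map_one, glT_one]

theorem star_inv (σ : F ≃+* F) (x : GL (Fin n) F) : star σ x⁻¹ = (star σ x)⁻¹ := by
  unfold star
  rw [map_inv, glT_inv]

theorem star_star (σ : F ≃+* F) (hσ2 : ∀ a, σ (σ a) = a) (x : GL (Fin n) F) :
    star σ (star σ x) = x := by
  unfold star
  rw [glS_glT, glT_glT, glS_glS σ hσ2]

theorem star_sc (σ : F ≃+* F) (c : Fˣ) : star σ (sc (Fin n) c) = sc (Fin n) (uS σ c) := by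
  unfold star
  rw [glS_sc, glT_sc]

theorem pi_star (σ : F ≃+* F) {x y : GL (Fin n) F} (h : pi n F x = pi n F y) :
    pi n F (star σ x) = pi n F (star σ y) := pi_glT (pi_glS σ h)

variable [Fintype F]

theorem mem_GU_iff_star (σ : F ≃+* F) (hσ : ∀ a, σ a = a ^ q) (g : GL (Fin n) F) :
    g ∈ Cfsg.GU n F q ↔ star σ g * g = 1 := by
  rw [Cfsg.Agent.Lib.Helper5.AutPSLn.mem_GU_iff_mul σ hσ g]
  constructor
  · intro h
    apply Units.ext
    have h1 := congrArg Matrix.transpose h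
    rw [Matrix.transpose_mul, Matrix.transpose_transpose, Matrix.transpose_one] at h1
    exact h1
  · intro h
    have h1 := congrArg (fun x : GL (Fin n) F => x.1ᵀ) h
    simp only [Units.val_mul, Units.val_one, Matrix.transpose_mul, Matrix.transpose_one] at h1
    unfold star at h1
    rw [glT_val, Matrix.transpose_transpose, glS_val] at h1
    exact h1

theorem mem_GU_iff_glS (σ : F ≃+* F) (hσ : ∀ a, σ a = a ^ q) (g : GL (Fin n) F) :
    g ∈ Cfsg.GU n F q ↔ glS σ g = (glT g)⁻¹ := by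
  rw [mem_GU_iff_star σ hσ]
  unfold star
  rw [← glS_glT]
  constructor
  · intro h
    have h1 : glS σ (glT g) = g⁻¹ := eq_inv_of_mul_eq_one_left h
    have h2 := congrArg glT h1
    rw [← glS_glT, glT_glT, glT_inv] at h2
    exact h2
  · intro h
    rw [glS_glT, h, glT_inv, glT_glT, inv_mul_cancel]

theorem sigma_invol (hF : Fintype.card F = q ^ 2) (σ : F ≃+* F) (hσ : ∀ a, σ a = a ^ q)
    (a : F) : σ (σ a) = a := by
  rw [hσ, hσ]
  exact Cfsg.Agent.Lib.Helper99.SURoot.pow_q_pow_q hF a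

/-- a conformal unitary matrix is a scalar multiple of a unitary matrix -/
theorem rescale (hF : Fintype.card F = q ^ 2) (hn : 1 ≤ n) (σ : F ≃+* F)
    (hσ : ∀ a, σ a = a ^ q) (x : GL (Fin n) F) (hx : pi n F (star σ x * x) = 1) :
    ∃ h : ↥(Cfsg.GU n F q), pi n F h.1 = pi n F x := by
  have : Nonempty (Fin n) := ⟨⟨0, by omega⟩⟩
  have hσ2 := sigma_invol hF σ hσ
  obtain ⟨μ, hμ⟩ := (pi_eq_one_iff _).1 hx
  have h1 : star σ (star σ x * x) = star σ x * x := by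
    rw [star_mul, star_star σ hσ2]
  rw [hμ, star_sc] at h1
  have h2 : uS σ μ = μ := sc_injective h1
  have h3 : (μ : F) ^ q = (μ : F) := by
    have := congrArg (fun u : Fˣ => (u : F)) h2
    simp only [uS_val, hσ] at this
    exact this
  obtain ⟨w, hw⟩ := exists_norm_eq hF (μ : F) h3
  have hw0 : w ≠ 0 := by
    rintro rfl
    rw [zero_pow (by omega)] at hw
    exact μ.ne_zero hw.symm
  let wu : Fˣ := Units.mk0 w hw0
  have hwu : wu * uS σ wu = μ := by
    apply Units.ext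
    rw [Units.val_mul, uS_val, hσ]
    show w * w ^ q = (μ : F)
    rw [← hw, pow_succ, mul_comm]
  have hmem : sc (Fin n) wu⁻¹ * x ∈ Cfsg.GU n F q := by
    rw [mem_GU_iff_star σ hσ, star_mul, star_sc]
    calc star σ x * sc (Fin n) (uS σ wu⁻¹) * (sc (Fin n) wu⁻¹ * x)
        = sc (Fin n) (uS σ wu⁻¹) * sc (Fin n) wu⁻¹ * (star σ x * x) := by
          rw [← sc_comm (uS σ wu⁻¹) (star σ x), mul_assoc, ← mul_assoc (star σ x),
            ← sc_comm wu⁻¹ (star σ x), mul_assoc (sc (Fin n) wu⁻¹), ← mul_assoc]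
      _ = 1 := by
          rw [hμ, ← sc_mul, ← sc_mul, ← hwu, map_inv, ← sc_one]
          congr 1
          rw [mul_assoc, inv_mul_cancel_left, inv_mul_cancel]
  refine ⟨⟨_, hmem⟩, ?_⟩
  rw [map_mul, pi_sc, one_mul]

theorem GamU_eq_iff_pi (hF : Fintype.card F = q ^ 2) (hn : 3 ≤ n) (hs : ¬ (n = 3 ∧ q = 2))
    (g g' : ↥(Cfsg.GU n F q)) : GamU g = GamU g' ↔ pi n F g.1 = pi n F g'.1 := by
  have : Nonempty (Fin n) := ⟨⟨0, by omega⟩⟩
  rw [GamU_eq_iff hF hn hs, pi_eq_iff]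
  constructor
  · rintro ⟨a, ha⟩
    have ha0 : a ≠ 0 := by
      rintro rfl
      rw [zero_smul] at ha
      have h1 : g'.1.1 * (g'.1⁻¹).1 = 1 := by
        rw [← Units.val_mul, mul_inv_cancel]; rfl
      rw [ha, Matrix.zero_mul] at h1
      exact zero_ne_one h1
    refine ⟨Units.mk0 a ha0, ?_⟩
    apply Units.ext
    rw [Units.val_mul, sc_val, Matrix.smul_mul, Matrix.one_mul]
    exact ha
  · rintro ⟨c, hc⟩
    refine ⟨(c : F), ?_⟩
    have := congrArg (fun x : GL (Fin n) F => x.1) hc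
    simp only [Units.val_mul, sc_val, Matrix.smul_mul, Matrix.one_mul] at this
    exact this

theorem GamU_eq_one_iff_pi (hF : Fintype.card F = q ^ 2) (hn : 3 ≤ n) (hs : ¬ (n = 3 ∧ q = 2))
    (g : ↥(Cfsg.GU n F q)) : GamU g = 1 ↔ pi n F g.1 = 1 := by
  rw [← map_one (GamU : ↥(Cfsg.GU n F q) →* _), GamU_eq_iff_pi hF hn hs, eq_comm]
  rw [show ((1 : ↥(Cfsg.GU n F q)).1 : GL (Fin n) F) = 1 from rfl, map_one]
  exact eq_comm

/-- the graph automorphism `GamU g * PhiU σ` -/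
noncomputable def betaU (σ : F ≃+* F) (g : ↥(Cfsg.GU n F q)) : MulAut (Cfsg.PSU n F q) :=
  GamU g * PhiU σ

theorem mapGU_val' (σ : F ≃+* F) (h : ↥(Cfsg.GU n F q)) : (mapGU σ h).1 = glS σ h.1 := rfl

theorem conj_betaU (σ : F ≃+* F) (h g : ↥(Cfsg.GU n F q)) :
    GamU h * betaU σ g * (GamU h)⁻¹ = betaU σ (h * g * (mapGU σ h)⁻¹) := by
  unfold betaU
  rw [← map_inv, mul_assoc, mul_assoc, PhiU_mul_GamU, ← mul_assoc, ← mul_assoc, ← map_mul,
    ← map_mul, map_inv]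

theorem betaU_eq_iff (σ : F ≃+* F) (g g' : ↥(Cfsg.GU n F q)) :
    betaU σ g = betaU σ g' ↔ GamU g = GamU g' := by
  unfold betaU
  rw [mul_left_inj]

theorem betaU_sq (σ : F ≃+* F) (g : ↥(Cfsg.GU n F q)) :
    betaU σ g * betaU σ g = GamU (g * mapGU σ g) * PhiU (σ * σ) := by
  unfold betaU
  rw [mul_assoc, ← mul_assoc (PhiU σ), PhiU_mul_GamU, mul_assoc, ← map_mul PhiU, ← mul_assoc,
    ← map_mul]

theorem isGraphAut_betaU (hn : 3 ≤ n) (σ : F ≃+* F) (hσ : Even (orderOf σ))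
    (g : ↥(Cfsg.GU n F q)) : Cfsg.IsGraphAutClassPSU (betaU σ g) :=
  ⟨hn, GamU g, PhiU σ, σ, hσ, (isInnerDiag_iff _).2 ⟨g, rfl⟩, (isFieldAutOf_iff σ _).2 rfl, rfl⟩

/-- the `q`-th power map as a ring automorphism -/
noncomputable def frobE (hF : Fintype.card F = q ^ 2) : F ≃+* F :=
  RingEquiv.ofBijective (frobU hF) ((Finite.injective_iff_bijective).1 (frobU hF).injective)

theorem frobE_apply (hF : Fintype.card F = q ^ 2) (a : F) : frobE hF a = a ^ q :=
  frobU_apply hF a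

theorem orderOf_of_frob (hF : Fintype.card F = q ^ 2) (σ : F ≃+* F) (hσ : ∀ a, σ a = a ^ q) :
    orderOf σ = 2 := by
  have : Fact (Nat.Prime 2) := ⟨Nat.prime_two⟩
  apply orderOf_eq_prime
  · ext a
    rw [pow_two]
    exact sigma_invol hF σ hσ a
  · intro h
    obtain ⟨a, ha⟩ := exists_pow_q_ne hF
    apply ha
    rw [← hσ, h]
    rfl

theorem eq_frob_of_invol (hF : Fintype.card F = q ^ 2) (σ : F ≃+* F) (h2 : σ * σ = 1)
    (h1 : σ ≠ 1) (a : F) : σ a = a ^ q := by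
  have hne : (σ : F →+* F) ≠ RingHom.id F := by
    intro h
    apply h1
    ext x
    exact DFunLike.congr_fun h x
  have hinv : ∀ x : F, (σ : F →+* F) ((σ : F →+* F) x) = x := by
    intro x
    exact DFunLike.congr_fun h2 x
  obtain ⟨q', hq', hpow⟩ := Cfsg.Agent.Lib.Helper13.exists_card_sq_and_pow (σ : F →+* F) hne hinv
  have : q' = q := by
    rw [hF] at hq'
    exact (Nat.pow_left_injective (by norm_num : 2 ≠ 0) hq').symm
  rw [← this]
  exact hpow a

/-- an involutory graph automorphism is `GamU g * PhiU σ₀` with `σ₀` the `q`-th power map -/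
theorem graph_struct (hF : Fintype.card F = q ^ 2) (hs : ¬ (n = 3 ∧ q = 2)) (σ₀ : F ≃+* F)
    (hσ₀ : ∀ a, σ₀ a = a ^ q) (γ : MulAut (Cfsg.PSU n F q)) (hγ : Cfsg.IsGraphAutClassPSU γ)
    (hγ2 : orderOf γ = 2) : ∃ g : ↥(Cfsg.GU n F q), γ = betaU σ₀ g := by
  obtain ⟨hn, δ, φ, σ, hev, hδ, hφ, rfl⟩ := hγ
  obtain ⟨g, rfl⟩ := (isInnerDiag_iff _).1 hδ
  rw [isFieldAutOf_iff] at hφ
  subst hφ
  have hsq : betaU σ g * betaU σ g = 1 := by
    have := pow_orderOf_eq_one (GamU g * PhiU σ : MulAut (Cfsg.PSU n F q))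
    rw [hγ2, pow_two] at this
    exact this
  rw [betaU_sq] at hsq
  have h1 : (PhiU (σ * σ) : MulAut (Cfsg.PSU n F q)) = GamU (g * mapGU σ g)⁻¹ := by
    rw [map_inv]
    exact eq_inv_of_mul_eq_one_right hsq
  have h2 : σ * σ = 1 := PhiU_eq_GamU hF hn hs _ _ h1
  have h3 : σ ≠ 1 := by
    rintro rfl
    rw [orderOf_one] at hev
    exact absurd hev (by decide)
  have h4 : σ = σ₀ := by
    ext a
    rw [eq_frob_of_invol hF σ h2 h3 a, hσ₀]
  exact ⟨g, by rw [← h4]; rfl⟩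

end Cfsg.Agent.Lib.Helper37.PSUAut
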