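import Mathlib
import Cfsg.Agent.Lib.Helper37.PSUGraph1
import Cfsg.Agent.Lib.Helper5.AutPSLnFieldCent
import Cfsg.Agent.Lib.Helper45.AutPSLFrob

set_option autoImplicit false
set_option linter.unusedSectionVars false
set_option linter.unusedVariables false

/-!
# Graph automorphisms of `PSU_n(q)`: descent to forms over the fixed field
-/

namespace Cfsg.Agent.Lib.Helper37.PSUAut

open Matrix Cfsg.Agent.Lib.Helper37.GraphPSL Cfsg.Agent.Lib.Helper45.AutPSL
  Cfsg.Agent.Lib.Helper99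

variable {F : Type*} [Field F] [Fintype F] {q n : ℕ} {F₀ : Type*} [Field F₀]

/-- base change `GL_n(F₀) → GL_n(F)` -/
def mapJ (j : F₀ →+* F) : GL (Fin n) F₀ →* GL (Fin n) F := Matrix.GeneralLinearGroup.map j

theorem mapJ_val (j : F₀ →+* F) (A : GL (Fin n) F₀) : (mapJ j A).1 = A.1.map j := rfl

theorem mapJ_injective (j : F₀ →+* F) : Function.Injective (mapJ j : GL (Fin n) F₀ → _) := by
  intro A B h
  apply Units.ext
  have h1 := congrArg (fun x : GL (Fin n) F => x.1) h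
  simp only [mapJ_val] at h1
  ext i k
  have h2 := congrFun (congrFun h1 i) k
  simp only [Matrix.map_apply] at h2
  exact j.injective h2

theorem glS_mapJ (σ : F ≃+* F) (j : F₀ →+* F) (hj : ∀ y, σ (j y) = j y) (A : GL (Fin n) F₀) :
    glS σ (mapJ j A) = mapJ j A := by
  apply Units.ext
  rw [glS_val, mapJ_val]
  ext i k
  simp only [Matrix.map_apply]
  exact hj _

theorem mapJ_glT (j : F₀ →+* F) (A : GL (Fin n) F₀) : mapJ j (glT A) = glT (mapJ j A) := by
  apply Units.ext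
  rw [mapJ_val, glT_val, glT_val, mapJ_val, Matrix.transpose_map]

theorem mapJ_sc (j : F₀ →+* F) (c : F₀ˣ) :
    mapJ j (sc (Fin n) c) = sc (Fin n) (Units.map (j : F₀ →* F) c) :=
  Matrix.GeneralLinearGroup.map_scalar _ _

theorem star_mapJ (σ : F ≃+* F) (j : F₀ →+* F) (hj : ∀ y, σ (j y) = j y) (A : GL (Fin n) F₀) :
    star σ (mapJ j A) = glT (mapJ j A) := by
  unfold star
  rw [glS_mapJ σ j hj]

theorem exists_mapJ (σ : F ≃+* F) (j : F₀ →+* F) (hj : ∀ a : F, σ a = a → a ∈ Set.range j)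
    (k : GL (Fin n) F) (hk : glS σ k = k) : ∃ k₀ : GL (Fin n) F₀, mapJ j k₀ = k := by
  apply Cfsg.Agent.Lib.Helper5.AutPSLn.exists_map_eq
  intro i l
  apply hj
  have := congrArg (fun x : GL (Fin n) F => x.1 i l) hk
  simp only [glS_val, Matrix.map_apply] at this
  exact this

/-- the link between a form `A` over the fixed field and a unitary matrix `g` -/
def Link (σ : F ≃+* F) (j : F₀ →+* F) (A : GL (Fin n) F₀) (g : GL (Fin n) F) : Prop :=
  ∃ P : GL (Fin n) F, pi n F g = pi n F (P * (glS σ P)⁻¹) ∧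
    pi n F (star σ P * P) = pi n F (mapJ j A)⁻¹

theorem conj_core (σ : F ≃+* F) (P P' K : GL (Fin n) F) (hK : glS σ K = K) :
    (P' * K * P⁻¹) * (P * (glS σ P)⁻¹) * (glS σ (P' * K * P⁻¹))⁻¹ = P' * (glS σ P')⁻¹ := by
  rw [map_mul, map_mul, map_inv, hK]
  group

/-- a matrix projectively fixed by the Frobenius is a scalar multiple of a rational matrix -/
theorem rationalize (hF : Fintype.card F = q ^ 2) (hn : 1 ≤ n) (σ : F ≃+* F)
    (hσ : ∀ a, σ a = a ^ q) (j : F₀ →+* F) (hj : ∀ a : F, σ a = a → a ∈ Set.range j)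
    (k : GL (Fin n) F) (h : pi n F k = pi n F (glS σ k)) :
    ∃ (w : Fˣ) (k₀ : GL (Fin n) F₀), k = sc (Fin n) w * mapJ j k₀ := by
  have : Nonempty (Fin n) := ⟨⟨0, by omega⟩⟩
  have hσ2 := sigma_invol hF σ hσ
  obtain ⟨z, hz⟩ := (pi_eq_iff _ _).1 h
  have h1 : k = sc (Fin n) (uS σ z * z) * k := by
    have := congrArg (glS σ) hz
    rw [glS_glS σ hσ2, map_mul, glS_sc, hz, ← mul_assoc, ← sc_mul] at this
    exact this
  have h2 : uS σ z * z = 1 := by
    have h3 : sc (Fin n) (uS σ z * z) = 1 := by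
      have := congrArg (fun x => x * k⁻¹) h1
      simp only [mul_inv_cancel, mul_assoc, mul_one] at this
      exact this.symm
    rw [← sc_one (ι := Fin n)] at h3
    exact sc_injective h3
  have h4 : (z : F) ^ (q + 1) = 1 := by
    have := congrArg (fun u : Fˣ => (u : F)) h2
    simp only [Units.val_mul, uS_val, hσ, Units.val_one] at this
    rw [pow_succ]
    exact this
  obtain ⟨a, ha0, ha⟩ := exists_hilbert90 hF (z : F) h4
  let w : Fˣ := Units.mk0 a ha0
  have hw : uS σ w = z * w := by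
    apply Units.ext
    rw [uS_val, hσ, Units.val_mul]
    exact ha
  have h5 : glS σ (sc (Fin n) w⁻¹ * k) = sc (Fin n) w⁻¹ * k := by
    rw [map_mul, glS_sc, hz, map_inv, hw, ← mul_assoc, ← sc_mul]
    congr 2
    rw [_root_.mul_inv_rev, mul_assoc, inv_mul_cancel, mul_one]
  obtain ⟨k₀, hk₀⟩ := exists_mapJ σ j hj _ h5
  refine ⟨w, k₀, ?_⟩
  rw [hk₀, ← mul_assoc, ← sc_mul, mul_inv_cancel, sc_one, one_mul]

theorem conf_iff (σ : F ≃+* F) (P P' K JA JB : GL (Fin n) F) (hK : glS σ K = K)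
    (hA : pi n F (star σ P * P) = pi n F JA⁻¹) (hB : pi n F (star σ P' * P') = pi n F JB⁻¹) :
    pi n F (star σ (P' * K * P⁻¹) * (P' * K * P⁻¹)) = 1 ↔
      pi n F (K * JA * glT K) = pi n F JB := by
  have hsK : star σ K = glT K := by unfold star; rw [hK]
  rw [star_mul, star_mul, star_inv, hsK]
  simp only [map_mul, map_inv] at hA hB ⊢
  constructor
  · intro h
    have h1 : pi n F (glT K) * (pi n F (star σ P') * pi n F P') * pi n F K =
        pi n F (star σ P) * pi n F P := by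
      calc pi n F (glT K) * (pi n F (star σ P') * pi n F P') * pi n F K
          = pi n F (star σ P) * ((pi n F (star σ P))⁻¹ * (pi n F (glT K) * pi n F (star σ P')) *
              (pi n F P' * pi n F K * (pi n F P)⁻¹)) * pi n F P := by group
        _ = pi n F (star σ P) * pi n F P := by rw [h, mul_one]
    rw [hA, hB] at h1
    calc pi n F K * pi n F JA * pi n F (glT K)
        = pi n F K * ((pi n F JA)⁻¹)⁻¹ * pi n F (glT K) := by rw [inv_inv]
      _ = pi n F K * (pi n F (glT K) * (pi n F JB)⁻¹ * pi n F K)⁻¹ * pi n F (glT K) := by rw [h1]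
      _ = pi n F JB := by group
  · intro h
    have h1 : pi n F (glT K) * (pi n F JB)⁻¹ * pi n F K = (pi n F JA)⁻¹ := by
      rw [← h]; group
    calc (pi n F (star σ P))⁻¹ * (pi n F (glT K) * pi n F (star σ P')) *
          (pi n F P' * pi n F K * (pi n F P)⁻¹)
        = (pi n F (star σ P))⁻¹ * (pi n F (glT K) * (pi n F (star σ P') * pi n F P') * pi n F K) *
            (pi n F P)⁻¹ := by group
      _ = (pi n F (star σ P))⁻¹ * (pi n F (star σ P) * pi n F P) * (pi n F P)⁻¹ := by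
          rw [hB, h1, hA]
      _ = 1 := by group

/-- a projective congruence between rational forms is defined over the fixed field -/
theorem rational_scalar (hF : Fintype.card F = q ^ 2) (hn : 1 ≤ n) (σ : F ≃+* F)
    (hσ : ∀ a, σ a = a ^ q) (j : F₀ →+* F) (hj : ∀ a : F, σ a = a ↔ a ∈ Set.range j)
    (k₀ A B : GL (Fin n) F₀)
    (h : pi n F (mapJ j k₀ * mapJ j A * glT (mapJ j k₀)) = pi n F (mapJ j B)) :
    ∃ l : F₀ˣ, k₀ * A * glT k₀ = sc (Fin n) l * B := by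
  have : Nonempty (Fin n) := ⟨⟨0, by omega⟩⟩
  have hj' : ∀ y, σ (j y) = j y := fun y => (hj _).2 ⟨y, rfl⟩
  rw [← mapJ_glT, ← map_mul, ← map_mul] at h
  obtain ⟨μ, hμ⟩ := (pi_eq_iff _ _).1 h
  have h1 := congrArg (glS σ) hμ
  rw [map_mul, glS_mapJ σ j hj', glS_mapJ σ j hj', glS_sc, hμ] at h1
  have h2 : uS σ μ = μ := by
    have := congrArg (fun x => x * (mapJ j (k₀ * A * glT k₀))⁻¹) h1
    simp only [mul_assoc, mul_inv_cancel, mul_one] at this
    exact (sc_injective this).symm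
  have h3 : σ (μ : F) = (μ : F) := by
    have := congrArg (fun u : Fˣ => (u : F)) h2
    simpa using this
  obtain ⟨y, hy⟩ := (hj _).1 h3
  have hy0 : y ≠ 0 := by
    rintro rfl
    rw [map_zero] at hy
    exact μ.ne_zero hy.symm
  let l : F₀ˣ := Units.mk0 y hy0
  have hl : Units.map (j : F₀ →* F) l = μ := by
    apply Units.ext
    exact hy
  rw [← hl, ← mapJ_sc, ← map_mul] at hμ
  have h4 := mapJ_injective j hμ
  refine ⟨l⁻¹, ?_⟩
  rw [h4, ← mul_assoc, ← sc_mul, inv_mul_cancel, sc_one, one_mul]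


theorem coe_conj_elt (σ : F ≃+* F) (h g : ↥(Cfsg.GU n F q)) :
    ((h * g * (mapGU σ h)⁻¹ : ↥(Cfsg.GU n F q)) : GL (Fin n) F) =
      h.1 * g.1 * (glS σ h.1)⁻¹ := rfl

theorem isConjUnder_betaU_iff (hF : Fintype.card F = q ^ 2) (hn : 3 ≤ n)
    (hs : ¬ (n = 3 ∧ q = 2)) (σ : F ≃+* F) (g g' : ↥(Cfsg.GU n F q)) :
    Cfsg.IsConjUnder (Cfsg.inndiagPSU n F q) (betaU σ g) (betaU σ g') ↔
      ∃ h : ↥(Cfsg.GU n F q), pi n F (h.1 * g.1 * (glS σ h.1)⁻¹) = pi n F g'.1 := by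
  unfold Cfsg.IsConjUnder
  constructor
  · rintro ⟨β, hβ, e⟩
    obtain ⟨h, rfl⟩ := (mem_inndiag_iff β).1 hβ
    refine ⟨h, ?_⟩
    rw [conj_betaU, betaU_eq_iff, GamU_eq_iff_pi hF hn hs, coe_conj_elt] at e
    exact e.symm
  · rintro ⟨h, e⟩
    refine ⟨GamU h, (mem_inndiag_iff _).2 ⟨h, rfl⟩, ?_⟩
    rw [conj_betaU, betaU_eq_iff, GamU_eq_iff_pi hF hn hs, coe_conj_elt]
    exact e.symm

theorem comm_betaU_iff (hF : Fintype.card F = q ^ 2) (hn : 3 ≤ n)
    (hs : ¬ (n = 3 ∧ q = 2)) (σ : F ≃+* F) (h g : ↥(Cfsg.GU n F q)) :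
    GamU h * betaU σ g = betaU σ g * GamU h ↔
      pi n F (h.1 * g.1 * (glS σ h.1)⁻¹) = pi n F g.1 := by
  have h1 : GamU h * betaU σ g = betaU σ g * GamU h ↔
      betaU σ g = GamU h * betaU σ g * (GamU h)⁻¹ := by
    rw [eq_mul_inv_iff_mul_eq, eq_comm]
  rw [h1, conj_betaU, betaU_eq_iff, GamU_eq_iff_pi hF hn hs, coe_conj_elt, eq_comm]

/-- conjugacy of linked graph automorphisms is projective congruence of the forms -/
theorem link_conj_iff (hF : Fintype.card F = q ^ 2) (hn : 3 ≤ n) (hs : ¬ (n = 3 ∧ q = 2))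
    (σ : F ≃+* F) (hσ : ∀ a, σ a = a ^ q) (j : F₀ →+* F)
    (hj : ∀ a : F, σ a = a ↔ a ∈ Set.range j) (A B : GL (Fin n) F₀)
    (g g' : ↥(Cfsg.GU n F q)) (hA : Link σ j A g.1) (hB : Link σ j B g'.1) :
    Cfsg.IsConjUnder (Cfsg.inndiagPSU n F q) (betaU σ g) (betaU σ g') ↔
      ∃ (k₀ : GL (Fin n) F₀) (l : F₀ˣ), k₀ * A * glT k₀ = sc (Fin n) l * B := by
  have hj' : ∀ y, σ (j y) = j y := fun y => (hj _).2 ⟨y, rfl⟩
  rw [isConjUnder_betaU_iff hF hn hs]
  obtain ⟨P, hP1, hP2⟩ := hA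
  obtain ⟨P', hP1', hP2'⟩ := hB
  constructor
  · rintro ⟨h, e⟩
    have hk : pi n F (P'⁻¹ * h.1 * P) = pi n F (glS σ (P'⁻¹ * h.1 * P)) := by
      simp only [map_mul, map_inv] at e hP1 hP1' ⊢
      rw [hP1, hP1'] at e
      calc (pi n F P')⁻¹ * pi n F h.1 * pi n F P
          = (pi n F P')⁻¹ * (pi n F h.1 * (pi n F P * (pi n F (glS σ P))⁻¹) *
              (pi n F (glS σ h.1))⁻¹) * pi n F (glS σ h.1) * pi n F (glS σ P) := by group
        _ = (pi n F P')⁻¹ * (pi n F P' * (pi n F (glS σ P'))⁻¹) * pi n F (glS σ h.1) *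
              pi n F (glS σ P) := by rw [e]
        _ = _ := by group
    obtain ⟨w, k₀, hk₀⟩ := rationalize hF (by omega) σ hσ j (fun a ha => (hj a).1 ha) _ hk
    have hh' : pi n F h.1 = pi n F (P' * mapJ j k₀ * P⁻¹) := by
      have : h.1 = P' * (P'⁻¹ * h.1 * P) * P⁻¹ := by group
      rw [this, hk₀]
      simp only [map_mul, map_inv, pi_sc, one_mul]
    have hconf : pi n F (star σ (P' * mapJ j k₀ * P⁻¹) * (P' * mapJ j k₀ * P⁻¹)) = 1 := by
      rw [map_mul, ← pi_star σ hh', ← hh', ← map_mul, (mem_GU_iff_star σ hσ h.1).1 h.2, map_one]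
    have h2 := (conf_iff σ P P' (mapJ j k₀) (mapJ j A) (mapJ j B) (glS_mapJ σ j hj' k₀)
      hP2 hP2').1 hconf
    obtain ⟨l, hl⟩ := rational_scalar hF (by omega) σ hσ j hj k₀ A B h2
    exact ⟨k₀, l, hl⟩
  · rintro ⟨k₀, l, e⟩
    have hK := glS_mapJ σ j hj' k₀
    have h1 : pi n F (mapJ j k₀ * mapJ j A * glT (mapJ j k₀)) = pi n F (mapJ j B) := by
      rw [← mapJ_glT, ← map_mul, ← map_mul, e, map_mul, mapJ_sc, map_mul, pi_sc, one_mul]
    have hconf := (conf_iff σ P P' (mapJ j k₀) (mapJ j A) (mapJ j B) hK hP2 hP2').2 h1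
    obtain ⟨h, hh⟩ := rescale hF (by omega) σ hσ _ hconf
    refine ⟨h, ?_⟩
    calc pi n F (h.1 * g.1 * (glS σ h.1)⁻¹)
        = pi n F h.1 * pi n F g.1 * (pi n F (glS σ h.1))⁻¹ := by
          rw [map_mul, map_mul, map_inv]
      _ = pi n F (P' * mapJ j k₀ * P⁻¹) * pi n F (P * (glS σ P)⁻¹) *
            (pi n F (glS σ (P' * mapJ j k₀ * P⁻¹)))⁻¹ := by rw [hh, hP1, pi_glS σ hh]
      _ = pi n F ((P' * mapJ j k₀ * P⁻¹) * (P * (glS σ P)⁻¹) *
            (glS σ (P' * mapJ j k₀ * P⁻¹))⁻¹) := by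
          rw [← map_inv (pi n F), ← map_mul, ← map_mul]
      _ = pi n F (P' * (glS σ P')⁻¹) := by rw [conj_core σ P P' _ hK]
      _ = pi n F g'.1 := hP1'.symm

theorem sigma_sq (hF : Fintype.card F = q ^ 2) (σ : F ≃+* F) (hσ : ∀ a, σ a = a ^ q) :
    σ * σ = 1 := by
  ext a
  exact sigma_invol hF σ hσ a

theorem sigma_ne_one (hF : Fintype.card F = q ^ 2) (σ : F ≃+* F) (hσ : ∀ a, σ a = a ^ q) :
    σ ≠ 1 := by
  intro h
  have := orderOf_of_frob hF σ hσ
  rw [h, orderOf_one] at this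
  omega

theorem betaU_ne_one (hF : Fintype.card F = q ^ 2) (hn : 3 ≤ n) (hs : ¬ (n = 3 ∧ q = 2))
    (σ : F ≃+* F) (hσ : ∀ a, σ a = a ^ q) (g : ↥(Cfsg.GU n F q)) : betaU σ g ≠ 1 := by
  intro h
  unfold betaU at h
  have h1 : (PhiU σ : MulAut (Cfsg.PSU n F q)) = GamU g⁻¹ := by
    rw [map_inv]
    exact eq_inv_of_mul_eq_one_right h
  exact sigma_ne_one hF σ hσ (PhiU_eq_GamU hF hn hs σ _ h1)

theorem orderOf_betaU_iff (hF : Fintype.card F = q ^ 2) (hn : 3 ≤ n) (hs : ¬ (n = 3 ∧ q = 2))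
    (σ : F ≃+* F) (hσ : ∀ a, σ a = a ^ q) (g : ↥(Cfsg.GU n F q)) :
    orderOf (betaU σ g) = 2 ↔ pi n F (g.1 * glS σ g.1) = 1 := by
  have : Fact (Nat.Prime 2) := ⟨Nat.prime_two⟩
  have hsq : betaU σ g ^ 2 = 1 ↔ pi n F (g.1 * glS σ g.1) = 1 := by
    rw [pow_two, betaU_sq, sigma_sq hF σ hσ, map_one, mul_one, GamU_eq_one_iff_pi hF hn hs]
    rfl
  constructor
  · intro h
    rw [← hsq, ← h]
    exact pow_orderOf_eq_one _
  · intro h
    exact orderOf_eq_prime (hsq.2 h) (betaU_ne_one hF hn hs σ hσ g)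

theorem link_order (hF : Fintype.card F = q ^ 2) (hn : 3 ≤ n) (hs : ¬ (n = 3 ∧ q = 2))
    (σ : F ≃+* F) (hσ : ∀ a, σ a = a ^ q) (j : F₀ →+* F) (A : GL (Fin n) F₀)
    (g : ↥(Cfsg.GU n F q)) (hA : Link σ j A g.1) : orderOf (betaU σ g) = 2 := by
  obtain ⟨P, hP1, _⟩ := hA
  rw [orderOf_betaU_iff hF hn hs σ hσ, map_mul, pi_glS σ hP1, hP1, ← map_mul, map_mul (glS σ),
    map_inv, glS_glS σ (sigma_invol hF σ hσ)]
  have : P * (glS σ P)⁻¹ * (glS σ P * P⁻¹) = 1 := by group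
  rw [this, map_one]

/-- an invertible Hermitian matrix is `P* P` -/
theorem exists_herm_factor (hF : Fintype.card F = q ^ 2) (σ : F ≃+* F)
    (hσ : ∀ a, σ a = a ^ q) (H : GL (Fin n) F) (hH : star σ H = H) :
    ∃ P : GL (Fin n) F, star σ P * P = H := by
  have hH' : ∀ i k, σ (H.1 i k) = H.1 k i := by
    intro i k
    have := congrArg (fun x : GL (Fin n) F => x.1 k i) hH
    unfold star at this
    simp only [glT_val, glS_val, Matrix.transpose_apply, Matrix.map_apply] at this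
    exact this
  obtain ⟨E, hE⟩ := herm_normal_form hF σ hσ H.1 H.isUnit hH'
  rw [Matrix.mul_assoc] at hE
  have hE' : H.1 * (E.map σ)ᵀ * E = 1 := mul_eq_one_comm.1 hE
  rw [← Matrix.mul_assoc] at hE
  obtain ⟨Eu, rfl⟩ : ∃ Eu : GL (Fin n) F, Eu.1 = E :=
    ⟨⟨E, H.1 * (E.map σ)ᵀ, by rw [← Matrix.mul_assoc]; exact hE, hE'⟩, rfl⟩
  have h1 : Eu * H * star σ Eu = 1 := by
    apply Units.ext
    rw [Units.val_mul, Units.val_mul]
    unfold star
    rw [glT_val, glS_val]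
    exact hE
  refine ⟨(star σ Eu)⁻¹, ?_⟩
  rw [← star_inv, star_star σ (sigma_invol hF σ hσ), star_inv]
  calc Eu⁻¹ * (star σ Eu)⁻¹ = Eu⁻¹ * (Eu * H * star σ Eu) * (star σ Eu)⁻¹ := by rw [h1, mul_one]
    _ = H := by group

theorem exists_neg_conj (hF : Fintype.card F = q ^ 2) (σ : F ≃+* F) (hσ : ∀ a, σ a = a ^ q) :
    ∃ u : Fˣ, uS σ u = -u := by
  obtain ⟨c, hc0, hc⟩ := exists_trace_zero hF
  refine ⟨Units.mk0 c hc0, ?_⟩
  apply Units.ext
  rw [uS_val, hσ, Units.val_neg]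
  show c ^ q = -c
  linear_combination hc

theorem units_map_neg_one (j : F₀ →+* F) : Units.map (j : F₀ →* F) (-1) = -1 := by
  apply Units.ext
  simp

/-- every symmetric or skew-symmetric form over the fixed field is linked to a unitary matrix -/
theorem exists_link (hF : Fintype.card F = q ^ 2) (hn : 1 ≤ n) (σ : F ≃+* F)
    (hσ : ∀ a, σ a = a ^ q) (j : F₀ →+* F) (hj : ∀ y, σ (j y) = j y) (A : GL (Fin n) F₀)
    (hA : glT A = A ∨ glT A = sc (Fin n) (-1) * A) :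
    ∃ g : ↥(Cfsg.GU n F q), Link σ j A g.1 := by
  have hσ2 := sigma_invol hF σ hσ
  obtain ⟨v, hv⟩ : ∃ v : Fˣ, star σ (sc (Fin n) v * (mapJ j A)⁻¹) =
      sc (Fin n) v * (mapJ j A)⁻¹ := by
    rcases hA with hA | hA
    · refine ⟨1, ?_⟩
      rw [sc_one, one_mul, star_inv, star_mapJ σ j hj, ← mapJ_glT, hA]
    · obtain ⟨u, hu⟩ := exists_neg_conj hF σ hσ
      refine ⟨u, ?_⟩
      rw [star_mul, star_inv, star_mapJ σ j hj, ← mapJ_glT, hA, map_mul, mapJ_sc,
        units_map_neg_one, star_sc, hu, _root_.mul_inv_rev, ← sc_inv, mul_assoc, ← sc_mul,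
        inv_neg, inv_one, neg_mul_neg, one_mul, sc_comm]
  obtain ⟨P, hP⟩ := exists_herm_factor hF σ hσ _ hv
  have hP2 : pi n F (star σ P * P) = pi n F (mapJ j A)⁻¹ := by
    rw [hP, map_mul, pi_sc, one_mul]
  have hbar : pi n F (glT P) * pi n F (glS σ P) = pi n F (mapJ j A)⁻¹ := by
    have h1 := pi_glS σ hP2
    rw [map_mul, map_inv, glS_mapJ σ j hj] at h1
    unfold star at h1
    rw [glS_glT, glS_glS σ hσ2, map_mul] at h1
    exact h1
  have hconf : pi n F (star σ (P * (glS σ P)⁻¹) * (P * (glS σ P)⁻¹)) = 1 := by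
    have e1 : star σ (P * (glS σ P)⁻¹) = (glT P)⁻¹ * star σ P := by
      rw [star_mul, star_inv]
      unfold star
      rw [glS_glS σ hσ2]
    rw [e1]
    have e2 : (glT P)⁻¹ * star σ P * (P * (glS σ P)⁻¹) =
        (glT P)⁻¹ * (star σ P * P) * (glS σ P)⁻¹ := by group
    rw [e2, map_mul, map_mul, hP2, ← hbar, map_inv, map_inv]
    group
  obtain ⟨g, hg⟩ := rescale hF hn σ hσ _ hconf
  exact ⟨g, P, hg, hP2⟩

/-- every involutory graph automorphism is linked to a symmetric or skew-symmetric form over the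
fixed field -/
theorem link_of_order_two (hF : Fintype.card F = q ^ 2) (hn : 3 ≤ n) (hs : ¬ (n = 3 ∧ q = 2))
    (σ : F ≃+* F) (hσ : ∀ a, σ a = a ^ q) (j : F₀ →+* F)
    (hj : ∀ a : F, σ a = a ↔ a ∈ Set.range j) (g : ↥(Cfsg.GU n F q))
    (hg2 : orderOf (betaU σ g) = 2) :
    ∃ A : GL (Fin n) F₀, (glT A = A ∨ glT A = sc (Fin n) (-1) * A) ∧ Link σ j A g.1 := by
  have : Nonempty (Fin n) := ⟨⟨0, by omega⟩⟩
  have hσ2 := sigma_invol hF σ hσ
  have hj' : ∀ y, σ (j y) = j y := fun y => (hj _).2 ⟨y, rfl⟩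
  obtain ⟨z, hz⟩ := (pi_eq_one_iff _).1 ((orderOf_betaU_iff hF hn hs σ hσ g).1 hg2)
  have hgU := (mem_GU_iff_glS σ hσ g.1).1 g.2
  have hgs := (mem_GU_iff_star σ hσ g.1).1 g.2
  -- `g = z gᵀ`
  have h1 : g.1 = sc (Fin n) z * glT g.1 := by
    rw [hgU] at hz
    rw [← hz, inv_mul_cancel_right]
  have h2 : glT g.1 = sc (Fin n) z * g.1 := by
    have := congrArg glT h1
    rw [glT_mul, glT_glT, glT_sc, ← sc_comm] at this
    exact this
  have hzz : z * z = 1 := by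
    have h3 : g.1 = sc (Fin n) (z * z) * g.1 := by
      rw [sc_mul, mul_assoc, ← h2, ← h1]
    have h4 : sc (Fin n) (z * z) = 1 := by
      have := congrArg (fun x => x * g.1⁻¹) h3
      simp only [mul_inv_cancel, mul_assoc, mul_one] at this
      exact this.symm
    rw [← sc_one (ι := Fin n)] at h4
    exact sc_injective h4
  have hzinv : z⁻¹ = z := inv_eq_of_mul_eq_one_right hzz
  have hzcases : z = 1 ∨ z = -1 := by
    have h5 : (z : F) * (z : F) = 1 := by
      rw [← Units.val_mul, hzz, Units.val_one]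
    rcases mul_self_eq_one_iff.1 h5 with h | h
    · left; exact Units.ext h
    · right; apply Units.ext; rw [h]; simp
  have hzfix : (z : F) ^ q = (z : F) := by
    rcases hzcases with rfl | rfl
    · simp
    · rw [Units.val_neg, Units.val_one, frob_neg hF, one_pow]
  obtain ⟨c₀, hc₀⟩ := exists_norm_eq hF (z : F) hzfix
  have hc₀0 : c₀ ≠ 0 := by
    rintro rfl
    rw [zero_pow (by omega)] at hc₀
    exact z.ne_zero hc₀.symm
  let c : Fˣ := Units.mk0 c₀ hc₀0
  have hc : c * uS σ c = z := by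
    apply Units.ext
    rw [Units.val_mul, uS_val, hσ]
    show c₀ * c₀ ^ q = (z : F)
    rw [← hc₀, pow_succ, mul_comm]
  have hx : tw (glS σ) (sc (Fin n) c * g.1) 2 = 1 := by
    rw [tw_two, map_mul, glS_sc]
    calc sc (Fin n) c * g.1 * (sc (Fin n) (uS σ c) * glS σ g.1)
        = sc (Fin n) c * sc (Fin n) (uS σ c) * (g.1 * glS σ g.1) := by
          rw [mul_assoc, ← mul_assoc g.1, ← sc_comm (uS σ c) g.1, mul_assoc, ← mul_assoc]
      _ = 1 := by rw [hz, ← sc_mul, ← sc_mul, hc, hzz, sc_one]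
  obtain ⟨P, hP⟩ := h90_GL σ 2 (orderOf_of_frob hF σ hσ) (by norm_num) _ hx
  have hxP : sc (Fin n) c * g.1 = P * (glS σ P)⁻¹ := by
    rw [eq_mul_inv_iff_mul_eq]
    exact hP
  have hP1 : pi n F g.1 = pi n F (P * (glS σ P)⁻¹) := by
    rw [← hxP, map_mul, pi_sc, one_mul]
  -- the Hermitian matrix `H = P* P`
  have hstarH : star σ (star σ P * P) = star σ P * P := by
    rw [star_mul, star_star σ hσ2]
  have hstx : star σ (sc (Fin n) c * g.1) * (sc (Fin n) c * g.1) = sc (Fin n) z := by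
    rw [star_mul, star_sc]
    calc star σ g.1 * sc (Fin n) (uS σ c) * (sc (Fin n) c * g.1)
        = sc (Fin n) (uS σ c) * sc (Fin n) c * (star σ g.1 * g.1) := by
          rw [← sc_comm (uS σ c) (star σ g.1), mul_assoc, ← mul_assoc (star σ g.1),
            ← sc_comm c (star σ g.1), mul_assoc (sc (Fin n) c), ← mul_assoc]
      _ = sc (Fin n) z := by rw [hgs, mul_one, ← sc_mul, mul_comm, hc]
  have hTH : glT (star σ P * P) = sc (Fin n) z * (star σ P * P) := by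
    have e1 : star σ (P * (glS σ P)⁻¹) = (glT P)⁻¹ * star σ P := by
      rw [star_mul, star_inv]
      unfold star
      rw [glS_glS σ hσ2]
    rw [hxP, e1] at hstx
    have e2 : star σ P * P = sc (Fin n) z * (glT P * glS σ P) := by
      calc star σ P * P = glT P * ((glT P)⁻¹ * star σ P * (P * (glS σ P)⁻¹)) * glS σ P := by
            group
        _ = sc (Fin n) z * (glT P * glS σ P) := by
            rw [hstx, ← sc_comm, mul_assoc]
    have e3 : glT (star σ P * P) = glT P * glS σ P := by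
      rw [glT_mul]
      unfold star
      rw [glT_glT]
    rw [e3]
    rw [e2, ← mul_assoc, ← sc_mul, hzz, sc_one, one_mul]
  have hbH : glS σ (star σ P * P) = sc (Fin n) z * (star σ P * P) := by
    have := congrArg glT hstarH
    unfold star at this
    rw [glT_glT] at this
    rw [← hTH]
    exact this
  rcases hzcases with hz1 | hz1
  · rw [hz1, sc_one, one_mul] at hTH hbH
    obtain ⟨B₀, hB₀⟩ := exists_mapJ σ j (fun a ha => (hj a).1 ha) _ hbH
    refine ⟨B₀⁻¹, Or.inl ?_, P, hP1, ?_⟩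
    · rw [glT_inv]
      congr 1
      apply mapJ_injective j
      rw [mapJ_glT, hB₀, hTH]
    · rw [map_inv (mapJ j), inv_inv, hB₀]
  · obtain ⟨u, hu⟩ := exists_neg_conj hF σ hσ
    have hb' : glS σ (sc (Fin n) u * (star σ P * P)) = sc (Fin n) u * (star σ P * P) := by
      rw [map_mul, glS_sc, hbH, hu, hz1, ← mul_assoc, ← sc_mul, neg_mul_neg, mul_one]
    obtain ⟨B₀, hB₀⟩ := exists_mapJ σ j (fun a ha => (hj a).1 ha) _ hb'
    have hTB : glT B₀ = sc (Fin n) (-1) * B₀ := by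
      apply mapJ_injective j
      rw [mapJ_glT, map_mul, mapJ_sc, units_map_neg_one, hB₀, glT_mul, glT_sc, hTH, hz1,
        sc_comm u, mul_assoc]
    refine ⟨B₀⁻¹, Or.inr ?_, P, hP1, ?_⟩
    · rw [glT_inv, hTB, _root_.mul_inv_rev, ← sc_inv, inv_neg, inv_one, sc_comm]
    · rw [map_inv (mapJ j), inv_inv, hB₀, map_mul (pi n F) (sc (Fin n) u), pi_sc, one_mul]

end Cfsg.Agent.Lib.Helper37.PSUAut
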