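import Mathlib
import Cfsg.Agent.Lib.Helper37.PSUGraph2
import Cfsg.Agent.Lib.Helper37.GraphSplit4

set_option autoImplicit false
set_option linter.unusedSectionVars false
set_option linter.unusedVariables false

/-!
# Graph automorphisms of `PSU_n(q)`: centralizers
-/

namespace Cfsg.Agent.Lib.Helper37.PSUAut

open Matrix Cfsg.Agent.Lib.Helper37.GraphPSL Cfsg.Agent.Lib.Helper45.AutPSL
  Cfsg.Agent.Lib.Helper99

variable {F : Type*} [Field F] [Fintype F] {q n : ℕ} {F₀ : Type*} [Field F₀]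

/-- the projectively unitary matrices -/
noncomputable def CU (n : ℕ) (σ : F ≃+* F) : Subgroup (GL (Fin n) F) where
  carrier := {x | pi n F (star σ x * x) = 1}
  one_mem' := by
    show pi n F (star σ 1 * 1) = 1
    rw [star_one, mul_one, map_one]
  mul_mem' := by
    intro a b ha hb
    show pi n F (star σ (a * b) * (a * b)) = 1
    have ha' : pi n F (star σ a) * pi n F a = 1 := by rw [← map_mul]; exact ha
    have hb' : pi n F (star σ b) * pi n F b = 1 := by rw [← map_mul]; exact hb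
    rw [star_mul]
    simp only [map_mul]
    calc pi n F (star σ b) * pi n F (star σ a) * (pi n F a * pi n F b)
        = pi n F (star σ b) * (pi n F (star σ a) * pi n F a) * pi n F b := by group
      _ = 1 := by rw [ha', mul_one, hb']
  inv_mem' := by
    intro a ha
    show pi n F (star σ a⁻¹ * a⁻¹) = 1
    have ha' : pi n F (star σ a) * pi n F a = 1 := by rw [← map_mul]; exact ha
    have ha'' : pi n F a * pi n F (star σ a) = 1 := mul_eq_one_comm.1 ha'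
    rw [star_inv, map_mul, map_inv, map_inv, ← _root_.mul_inv_rev, ha'', inv_one]

theorem mem_CU (σ : F ≃+* F) (x : GL (Fin n) F) :
    x ∈ CU n σ ↔ pi n F (star σ x * x) = 1 := Iff.rfl

/-- the automorphism of `PSU_n` induced by a projectively unitary matrix -/
noncomputable def GamC (hF : Fintype.card F = q ^ 2) (hn : 3 ≤ n) (hs : ¬ (n = 3 ∧ q = 2))
    (σ : F ≃+* F) (hσ : ∀ a, σ a = a ^ q) : ↥(CU n σ) →* MulAut (Cfsg.PSU n F q) :=
  MonoidHom.mk' (fun x => GamU (Classical.choose (rescale hF (by omega) σ hσ x.1 x.2)))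
    (by
      intro x y
      rw [← map_mul, GamU_eq_iff_pi hF hn hs]
      have hx := Classical.choose_spec (rescale hF (by omega) σ hσ x.1 x.2)
      have hy := Classical.choose_spec (rescale hF (by omega) σ hσ y.1 y.2)
      have hxy := Classical.choose_spec (rescale hF (by omega) σ hσ (x * y).1 (x * y).2)
      rw [hxy]
      show pi n F (x.1 * y.1) = pi n F (_ * _)
      rw [map_mul, map_mul, hx, hy])

theorem GamC_eq (hF : Fintype.card F = q ^ 2) (hn : 3 ≤ n) (hs : ¬ (n = 3 ∧ q = 2))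
    (σ : F ≃+* F) (hσ : ∀ a, σ a = a ^ q) (x : ↥(CU n σ)) (h : ↥(Cfsg.GU n F q))
    (hh : pi n F h.1 = pi n F x.1) : GamC hF hn hs σ hσ x = GamU h := by
  show GamU (Classical.choose (rescale hF (by omega) σ hσ x.1 x.2)) = GamU h
  rw [GamU_eq_iff_pi hF hn hs, hh]
  exact Classical.choose_spec (rescale hF (by omega) σ hσ x.1 x.2)

theorem exists_GamC_eq (hF : Fintype.card F = q ^ 2) (hn : 3 ≤ n) (hs : ¬ (n = 3 ∧ q = 2))
    (σ : F ≃+* F) (hσ : ∀ a, σ a = a ^ q) (x : ↥(CU n σ)) :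
    ∃ h : ↥(Cfsg.GU n F q), pi n F h.1 = pi n F x.1 ∧ GamC hF hn hs σ hσ x = GamU h :=
  ⟨_, Classical.choose_spec (rescale hF (by omega) σ hσ x.1 x.2), rfl⟩

/-- lifting a projective congruence of forms to a unitary matrix -/
theorem link_lift (hF : Fintype.card F = q ^ 2) (hn : 1 ≤ n)
    (σ : F ≃+* F) (hσ : ∀ a, σ a = a ^ q) (j : F₀ →+* F) (hj' : ∀ y, σ (j y) = j y)
    (A B : GL (Fin n) F₀) (g g' : GL (Fin n) F) (P P' : GL (Fin n) F)
    (hP1 : pi n F g = pi n F (P * (glS σ P)⁻¹))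
    (hP2 : pi n F (star σ P * P) = pi n F (mapJ j A)⁻¹)
    (hP1' : pi n F g' = pi n F (P' * (glS σ P')⁻¹))
    (hP2' : pi n F (star σ P' * P') = pi n F (mapJ j B)⁻¹)
    (k₀ : GL (Fin n) F₀) (l : F₀ˣ) (e : k₀ * A * glT k₀ = sc (Fin n) l * B) :
    P' * mapJ j k₀ * P⁻¹ ∈ CU n σ ∧
      ∀ h : GL (Fin n) F, pi n F h = pi n F (P' * mapJ j k₀ * P⁻¹) →
        pi n F (h * g * (glS σ h)⁻¹) = pi n F g' := by
  have hK := glS_mapJ σ j hj' k₀
  have h1 : pi n F (mapJ j k₀ * mapJ j A * glT (mapJ j k₀)) = pi n F (mapJ j B) := by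
    rw [← mapJ_glT, ← map_mul, ← map_mul, e, map_mul, mapJ_sc, map_mul, pi_sc, one_mul]
  have hconf := (conf_iff σ P P' (mapJ j k₀) (mapJ j A) (mapJ j B) hK hP2 hP2').2 h1
  refine ⟨hconf, ?_⟩
  intro h hh
  calc pi n F (h * g * (glS σ h)⁻¹)
      = pi n F h * pi n F g * (pi n F (glS σ h))⁻¹ := by
        rw [map_mul, map_mul, map_inv]
    _ = pi n F (P' * mapJ j k₀ * P⁻¹) * pi n F (P * (glS σ P)⁻¹) *
          (pi n F (glS σ (P' * mapJ j k₀ * P⁻¹)))⁻¹ := by rw [hh, hP1, pi_glS σ hh]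
    _ = pi n F ((P' * mapJ j k₀ * P⁻¹) * (P * (glS σ P)⁻¹) *
          (glS σ (P' * mapJ j k₀ * P⁻¹))⁻¹) := by
        rw [← map_inv (pi n F), ← map_mul, ← map_mul]
    _ = pi n F (P' * (glS σ P')⁻¹) := by rw [conj_core σ P P' _ hK]
    _ = pi n F g' := hP1'.symm

/-- descending a unitary conjugation to a projective congruence of forms -/
theorem link_descend (hF : Fintype.card F = q ^ 2) (hn : 1 ≤ n)
    (σ : F ≃+* F) (hσ : ∀ a, σ a = a ^ q) (j : F₀ →+* F)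
    (hj : ∀ a : F, σ a = a ↔ a ∈ Set.range j)
    (A B : GL (Fin n) F₀) (g g' : GL (Fin n) F) (P P' : GL (Fin n) F)
    (hP1 : pi n F g = pi n F (P * (glS σ P)⁻¹))
    (hP2 : pi n F (star σ P * P) = pi n F (mapJ j A)⁻¹)
    (hP1' : pi n F g' = pi n F (P' * (glS σ P')⁻¹))
    (hP2' : pi n F (star σ P' * P') = pi n F (mapJ j B)⁻¹)
    (h : GL (Fin n) F) (hU : star σ h * h = 1)
    (e : pi n F (h * g * (glS σ h)⁻¹) = pi n F g') :
    ∃ (k₀ : GL (Fin n) F₀) (l : F₀ˣ), k₀ * A * glT k₀ = sc (Fin n) l * B ∧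
      pi n F h = pi n F (P' * mapJ j k₀ * P⁻¹) := by
  have hj' : ∀ y, σ (j y) = j y := fun y => (hj _).2 ⟨y, rfl⟩
  have hk : pi n F (P'⁻¹ * h * P) = pi n F (glS σ (P'⁻¹ * h * P)) := by
    simp only [map_mul, map_inv] at e hP1 hP1' ⊢
    rw [hP1, hP1'] at e
    calc (pi n F P')⁻¹ * pi n F h * pi n F P
        = (pi n F P')⁻¹ * (pi n F h * (pi n F P * (pi n F (glS σ P))⁻¹) *
            (pi n F (glS σ h))⁻¹) * pi n F (glS σ h) * pi n F (glS σ P) := by group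
      _ = (pi n F P')⁻¹ * (pi n F P' * (pi n F (glS σ P'))⁻¹) * pi n F (glS σ h) *
            pi n F (glS σ P) := by rw [e]
      _ = _ := by group
  obtain ⟨w, k₀, hk₀⟩ := rationalize hF hn σ hσ j (fun a ha => (hj a).1 ha) _ hk
  have hh' : pi n F h = pi n F (P' * mapJ j k₀ * P⁻¹) := by
    have : h = P' * (P'⁻¹ * h * P) * P⁻¹ := by group
    rw [this, hk₀]
    simp only [map_mul, map_inv, pi_sc, one_mul]
  have hconf : pi n F (star σ (P' * mapJ j k₀ * P⁻¹) * (P' * mapJ j k₀ * P⁻¹)) = 1 := by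
    rw [map_mul, ← pi_star σ hh', ← hh', ← map_mul, hU, map_one]
  have h2 := (conf_iff σ P P' (mapJ j k₀) (mapJ j A) (mapJ j B) (glS_mapJ σ j hj' k₀)
    hP2 hP2').1 hconf
  obtain ⟨l, hl⟩ := rational_scalar hF hn σ hσ j hj k₀ A B h2
  exact ⟨k₀, l, hl, hh'⟩

/-- the centralizer of a linked graph automorphism -/
theorem link_centralizer (hF : Fintype.card F = q ^ 2) (hn : 3 ≤ n) (hs : ¬ (n = 3 ∧ q = 2))
    (σ : F ≃+* F) (hσ : ∀ a, σ a = a ^ q) (j : F₀ →+* F)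
    (hj : ∀ a : F, σ a = a ↔ a ∈ Set.range j) (A : GL (Fin n) F₀)
    (g : ↥(Cfsg.GU n F q)) (hA : Link σ j A g.1) :
    Nonempty (↥(Cfsg.inndiagPSU n F q ⊓ Subgroup.centralizer {betaU σ g}) ≃*
      Cfsg.projQuot (simGrp A)) := by
  have hj' : ∀ y, σ (j y) = j y := fun y => (hj _).2 ⟨y, rfl⟩
  obtain ⟨P, hP1, hP2⟩ := hA
  have hmemCU : ∀ k : ↥(simGrp A), (MulAut.conj P).toMonoidHom (mapJ j k.1) ∈ CU n σ := by
    intro k
    obtain ⟨l, hl⟩ := k.2
    exact (link_lift hF (by omega) σ hσ j hj' A A g.1 g.1 P P hP1 hP2 hP1 hP2 k.1 l hl).1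
  let ψ : ↥(simGrp A) →* ↥(CU n σ) :=
    (((MulAut.conj P).toMonoidHom.comp (mapJ j)).comp (simGrp A).subtype).codRestrict (CU n σ)
      hmemCU
  have hψ : ∀ k : ↥(simGrp A), (ψ k).1 = P * mapJ j k.1 * P⁻¹ := fun k => rfl
  let Θ : ↥(simGrp A) →* MulAut (Cfsg.PSU n F q) := (GamC hF hn hs σ hσ).comp ψ
  have hΘ : ∀ k, Θ k = GamC hF hn hs σ hσ (ψ k) := fun k => rfl
  have hker : Θ.ker = (Cfsg.Geo.scalars (Fin n) F₀).subgroupOf (simGrp A) := by
    ext k
    obtain ⟨h, hh, hG⟩ := exists_GamC_eq hF hn hs σ hσ (ψ k)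
    rw [MonoidHom.mem_ker, hΘ, hG, GamU_eq_one_iff_pi hF hn hs, hh, hψ, Subgroup.mem_subgroupOf,
      ← center_eq_scalars, ← Cfsg.Agent.Lib.Helper5.AutPSLn.map_mem_center_iff j]
    have h1 : pi n F (P * mapJ j k.1 * P⁻¹) = 1 ↔ pi n F (mapJ j k.1) = 1 := by
      simp only [map_mul, map_inv]
      constructor
      · intro h
        calc pi n F (mapJ j k.1) = (pi n F P)⁻¹ * (pi n F P * pi n F (mapJ j k.1) * (pi n F P)⁻¹) *
              pi n F P := by group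
          _ = 1 := by rw [h]; group
      · intro h
        rw [h]; group
    rw [h1]
    unfold pi
    rw [QuotientGroup.mk'_apply, QuotientGroup.eq_one_iff]
    rfl
  have hrange : Θ.range = Cfsg.inndiagPSU n F q ⊓ Subgroup.centralizer {betaU σ g} := by
    ext β
    rw [Subgroup.mem_inf, mem_inndiag_iff, Subgroup.mem_centralizer_singleton_iff]
    constructor
    · rintro ⟨k, rfl⟩
      obtain ⟨h, hh, hG⟩ := exists_GamC_eq hF hn hs σ hσ (ψ k)
      rw [hΘ, hG]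
      refine ⟨⟨h, rfl⟩, ?_⟩
      obtain ⟨l, hl⟩ := k.2
      have := (link_lift hF (by omega) σ hσ j hj' A A g.1 g.1 P P hP1 hP2 hP1 hP2 k.1 l hl).2
        h.1 (by rw [hh, hψ])
      exact ((comm_betaU_iff hF hn hs σ h g).2 this)
    · rintro ⟨⟨h, rfl⟩, hcomm⟩
      have e := (comm_betaU_iff hF hn hs σ h g).1 hcomm
      obtain ⟨k₀, l, hl, hh⟩ := link_descend hF (by omega) σ hσ j hj A A g.1 g.1 P P hP1 hP2
        hP1 hP2 h.1 ((mem_GU_iff_star σ hσ h.1).1 h.2) e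
      refine ⟨⟨k₀, l, hl⟩, ?_⟩
      rw [hΘ]
      exact GamC_eq hF hn hs σ hσ _ h (by rw [hh, hψ])
  exact ⟨(((QuotientGroup.quotientMulEquivOfEq hker).symm.trans
    (QuotientGroup.quotientKerEquivRange Θ)).trans (MulEquiv.subgroupCongr hrange)).symm⟩

/-- the centralizer of a linked graph automorphism of `PSU_n(q)` is the centralizer of the
corresponding graph automorphism of `PSL_n(q)` -/
theorem link_centralizer_psl [Fintype F₀] (hF : Fintype.card F = q ^ 2) (hn : 3 ≤ n)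
    (hs : ¬ (n = 3 ∧ q = 2))
    (σ : F ≃+* F) (hσ : ∀ a, σ a = a ^ q) (j : F₀ →+* F)
    (hj : ∀ a : F, σ a = a ↔ a ∈ Set.range j) (A : GL (Fin n) F₀)
    (g : ↥(Cfsg.GU n F q)) (hA : Link σ j A g.1) :
    Nonempty (↥(Cfsg.inndiagPSU n F q ⊓ Subgroup.centralizer {betaU σ g}) ≃*
      ↥(Cfsg.inndiagPSL n F₀ ⊓ Subgroup.centralizer {beta A})) := by
  obtain ⟨E1⟩ := link_centralizer hF hn hs σ hσ j hj A g hA
  obtain ⟨E2⟩ := centralizer_beta_equiv (F := F₀) (n := n) (by omega) (Equiv.refl (Fin n)) A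
    (simGrp A) (fun k => mem_simGrp A k)
  rw [reindexGL_refl_symm] at E2
  exact ⟨E1.trans E2.symm⟩

end Cfsg.Agent.Lib.Helper37.PSUAut
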