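import Mathlib
import Cfsg.Agent.Lib.Helper37.PSUGraph3

set_option autoImplicit false
set_option linter.unusedSectionVars false
set_option linter.unusedVariables false

/-!
# Graph automorphisms of `PSU_n(q)`: the embedding of the fixed field and transfer lemmas
-/

namespace Cfsg.Agent.Lib.Helper37.PSUAut

open Matrix Cfsg.Agent.Lib.Helper37.GraphPSL Cfsg.Agent.Lib.Helper45.AutPSL
  Cfsg.Agent.Lib.Helper99

variable {F : Type*} [Field F] [Fintype F] {q n : ℕ} {F₀ : Type*} [Field F₀] [Fintype F₀]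

theorem exists_ringHom_sq (h : Fintype.card F₀ ^ 2 = Fintype.card F) : Nonempty (F₀ →+* F) := by
  obtain ⟨p, hp⟩ := CharP.exists F₀
  have : Fact p.Prime := ⟨CharP.char_is_prime F₀ p⟩
  have : NeZero 2 := ⟨by omega⟩
  let L := FiniteField.Extension F₀ p 2
  have : Fintype L := Fintype.ofFinite L
  have hL : Fintype.card L = Fintype.card F := by
    rw [← h, Fintype.card_eq_nat_card, FiniteField.natCard_extension, Nat.card_eq_fintype_card]
  exact ⟨(FiniteField.ringEquivOfCardEq hL).toRingHom.comp (algebraMap F₀ L)⟩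

/-- the field with `q` elements embeds in the field with `q²` elements as the fixed field of
the `q`-th power map -/
theorem exists_embedding (hF : Fintype.card F = q ^ 2) (hF₀ : Fintype.card F₀ = q) :
    ∃ j : F₀ →+* F, ∀ a : F, a ^ q = a ↔ a ∈ Set.range j := by
  obtain ⟨j⟩ := exists_ringHom_sq (F := F) (F₀ := F₀) (by rw [hF₀, hF])
  have hfix : ∀ y : F₀, (j y) ^ q = j y := by
    intro y
    rw [← map_pow, ← hF₀, FiniteField.pow_card]
  refine ⟨j, fun a => ⟨fun ha => ?_, ?_⟩⟩
  · let f : F₀ → {x : F // x ^ q = x} := fun y => ⟨j y, hfix y⟩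
    have hinj : Function.Injective f := by
      intro y y' h
      exact j.injective (congrArg Subtype.val h)
    have hbij : Function.Bijective f := by
      apply Function.Injective.bijective_of_nat_card_le hinj
      rw [Cfsg.Agent.Lib.Helper99.SURoot.card_fixed hF, Nat.card_eq_fintype_card, hF₀]
    obtain ⟨y, hy⟩ := hbij.2 ⟨a, ha⟩
    exact ⟨y, congrArg Subtype.val hy⟩
  · rintro ⟨y, rfl⟩
    exact hfix y

theorem transfer_setup (hF : Fintype.card F = q ^ 2) (hF₀ : Fintype.card F₀ = q) :
    ∃ (σ : F ≃+* F) (j : F₀ →+* F), (∀ a, σ a = a ^ q) ∧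
      (∀ a : F, σ a = a ↔ a ∈ Set.range j) ∧ Even (orderOf σ) := by
  obtain ⟨j, hj⟩ := exists_embedding hF hF₀
  refine ⟨frobE hF, j, frobE_apply hF, ?_, ?_⟩
  · intro a
    rw [frobE_apply]
    exact hj a
  · rw [orderOf_of_frob hF _ (frobE_apply hF)]
    exact even_two

end Cfsg.Agent.Lib.Helper37.PSUAut
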