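import Mathlib
import Cfsg.Agent.Lib.Helper37.PSUGraph4
import Cfsg.Agent.Lib.Helper5.SUCard
import Cfsg.Agent.Lib.Helper45.SplitCount
import Cfsg.Agent.Lib.Helper13.GU

set_option autoImplicit false
set_option linter.unusedSectionVars false
set_option linter.unusedVariables false

/-!
# Class splitting in `Inndiag(PSU_n(q))`: the index formula
-/

namespace Cfsg.Agent.Lib.Helper37.PSUAut

open Matrix Cfsg.Agent.Lib.Helper37.GraphPSL Cfsg.Agent.Lib.Helper45.AutPSL
  Cfsg.Agent.Lib.Helper99 Cfsg.Agent.Lib.Helper5 Cfsg.Agent.Lib.Helper13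

variable {F : Type*} [Field F] [Fintype F] {q n : ℕ}

/-- `SU_n` inside `GU_n` -/
def toGU : ↥(Cfsg.SU n F q) →* ↥(Cfsg.GU n F q) where
  toFun s := ⟨Matrix.SpecialLinearGroup.toGL s.1, fun u v => s.2 u v⟩
  map_one' := by
    apply Subtype.ext
    show Matrix.SpecialLinearGroup.toGL (1 : SpecialLinearGroup (Fin n) F) = 1
    rw [map_one]
  map_mul' a b := by
    apply Subtype.ext
    show Matrix.SpecialLinearGroup.toGL (a.1 * b.1) = _
    rw [map_mul]
    rfl

theorem toGU_val (s : ↥(Cfsg.SU n F q)) : (toGU s).1.1 = s.1.1 := rfl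

theorem conj_prU (s : ↥(Cfsg.SU n F q)) :
    MulAut.conj (prU s) = GamU (toGU s) := by
  ext y
  obtain ⟨z, rfl⟩ := prU_surjective y
  rw [GamU_pr, MulAut.conj_apply, ← map_inv, ← map_mul, ← map_mul]
  congr 1

theorem detGU_toGU (s : ↥(Cfsg.SU n F q)) : detGU n F q (toGU s) = 1 := by
  apply Units.ext
  rw [detGU_val, toGU_val]
  exact s.1.2

theorem Inn_eq : Cfsg.Inn (Cfsg.PSU n F q) = (detGU n F q).ker.map GamU := by
  ext β
  constructor
  · rintro ⟨y, rfl⟩
    obtain ⟨s, rfl⟩ := prU_surjective y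
    exact ⟨toGU s, MonoidHom.mem_ker.2 (detGU_toGU s), (conj_prU s).symm⟩
  · rintro ⟨g, hg, rfl⟩
    have hdet : g.1.1.det = 1 := by
      have := congrArg Units.val (MonoidHom.mem_ker.1 hg)
      rw [detGU_val] at this
      exact this
    let s : ↥(Cfsg.SU n F q) := ⟨⟨g.1.1, hdet⟩, fun u v => g.2 u v⟩
    have hs : toGU s = g := by
      apply Subtype.ext
      apply Units.ext
      rfl
    exact ⟨prU s, by rw [← hs]; exact conj_prU s⟩

theorem detGU_mem_normOne (hF : Fintype.card F = q ^ 2) (g : ↥(Cfsg.GU n F q)) :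
    detGU n F q g ∈ normOne F q := by
  rw [mem_normOne]
  apply Units.ext
  rw [Units.val_pow_eq_pow_val, detGU_val, Units.val_one]
  exact GU_det_pow hF n g.1 g.2

/-- the determinant `GU_n → μ_{q+1}` -/
def detN (hF : Fintype.card F = q ^ 2) : ↥(Cfsg.GU n F q) →* ↥(normOne F q) :=
  (detGU n F q).codRestrict _ (detGU_mem_normOne hF)

theorem detN_val (hF : Fintype.card F = q ^ 2) (g : ↥(Cfsg.GU n F q)) :
    ((detN hF g : ↥(normOne F q)) : Fˣ) = detGU n F q g := rfl

theorem detN_surjective (hF : Fintype.card F = q ^ 2) (hn : 1 ≤ n) :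
    Function.Surjective (detN (n := n) hF) := by
  obtain ⟨m, rfl⟩ : ∃ m, n = m + 1 := ⟨n - 1, by omega⟩
  rintro ⟨z, hz⟩
  have : z ∈ (detGU (m + 1) F q).range := by
    rw [range_detGU hF m]
    exact hz
  obtain ⟨g, hg⟩ := this
  exact ⟨g, Subtype.ext hg⟩

instance : IsCyclic ↥(normOne F q) := Subgroup.isCyclic _

/-- **the class-splitting count** for an automorphism `z` of `PSU_n(q)` whose centralizer in
`PGU_n(q)` is the image of the subgroup `CS` of `GU_n(q)` -/
theorem split_count_GamU (hF : Fintype.card F = q ^ 2) (hn : 1 ≤ n)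
    (z : MulAut (Cfsg.PSU n F q)) (CS : Subgroup ↥(Cfsg.GU n F q))
    (hCS : ∀ g : ↥(Cfsg.GU n F q), GamU g * z = z * GamU g ↔ g ∈ CS) (e : ℕ) (he : e ∣ q + 1)
    (ha : ∀ c ∈ CS, (detGU n F q c) ^ ((q + 1) / e) = 1)
    (hc : ∀ ν : Fˣ, ν ^ ((q + 1) / e) = 1 → ∃ c ∈ CS, detGU n F q c = ν) :
    Cfsg.splitClassCount (Cfsg.inndiagPSU n F q) (Cfsg.Inn (Cfsg.PSU n F q)) z = e := by
  rw [inndiag_eq, Inn_eq, splitClassCount_eq_index GamU (detGU n F q).ker z]
  have hS : (Subgroup.centralizer ({z} : Set (MulAut (Cfsg.PSU n F q)))).comap GamU = CS := by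
    ext g
    rw [Subgroup.mem_comap, Subgroup.mem_centralizer_singleton_iff]
    exact hCS g
  have hK : (detGU n F q).ker ⊔ CS =
      (powMonoidHom ((q + 1) / e) : ↥(normOne F q) →* ↥(normOne F q)).ker.comap (detN hF) := by
    apply le_antisymm
    · rw [sup_le_iff]
      constructor
      · intro g hg
        rw [Subgroup.mem_comap, MonoidHom.mem_ker, powMonoidHom_apply]
        apply Subtype.ext
        rw [Subgroup.coe_pow, detN_val, MonoidHom.mem_ker.1 hg, one_pow]
        rfl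
      · intro c hc'
        rw [Subgroup.mem_comap, MonoidHom.mem_ker, powMonoidHom_apply]
        apply Subtype.ext
        rw [Subgroup.coe_pow, detN_val, ha c hc']
        rfl
    · intro g hg
      rw [Subgroup.mem_comap, MonoidHom.mem_ker, powMonoidHom_apply] at hg
      have h1 : (detGU n F q g) ^ ((q + 1) / e) = 1 := by
        have := congrArg Subtype.val hg
        rw [Subgroup.coe_pow, detN_val] at this
        exact this
      obtain ⟨c, hcCS, hcd⟩ := hc _ h1
      have h2 : g = (g * c⁻¹) * c := by group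
      rw [h2]
      refine Subgroup.mul_mem_sup ?_ hcCS
      rw [MonoidHom.mem_ker, map_mul, map_inv, hcd, mul_inv_cancel]
  rw [hS, hK, Subgroup.index_comap_of_surjective _ (detN_surjective hF hn), Subgroup.index_ker]
  exact Cfsg.Agent.Lib.Helper5.AutPSLn.card_pow_range (card_normOne hF) he

end Cfsg.Agent.Lib.Helper37.PSUAut
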