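import Mathlib
import Cfsg.Agent.Lib.Helper37.PSUSplit1
import Cfsg.Agent.Lib.Helper37.GraphSplit2
import Cfsg.Agent.Lib.Helper5.AutPSLnSplit

set_option autoImplicit false
set_option linter.unusedSectionVars false
set_option linter.unusedVariables false

/-!
# Class splitting of involutory graph automorphisms of `PSU_n(q)`
-/

namespace Cfsg.Agent.Lib.Helper37.PSUAut

open Matrix Cfsg.Agent.Lib.Helper37.GraphPSL Cfsg.Agent.Lib.Helper45.AutPSL
  Cfsg.Agent.Lib.Helper99 Cfsg.Agent.Lib.Helper5 Cfsg.Agent.Lib.Helper13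

variable {F : Type*} [Field F] [Fintype F] {q n : ℕ} {F₀ : Type*} [Field F₀]

theorem sc_lc (c : Fˣ) (x y : GL (Fin n) F) :
    x * (sc (Fin n) c * y) = sc (Fin n) c * (x * y) := by
  rw [← mul_assoc, ← sc_comm, mul_assoc]

theorem sc_rc' (c : Fˣ) (x : GL (Fin n) F) : x * sc (Fin n) c = sc (Fin n) c * x :=
  (sc_comm c x).symm

theorem conf_exact (σ : F ≃+* F) (P K J : GL (Fin n) F) (l : Fˣ) (hK : glS σ K = K)
    (hP2 : pi n F (star σ P * P) = pi n F J⁻¹) (hsim : K * J * glT K = sc (Fin n) l * J) :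
    star σ (P * K * P⁻¹) * (P * K * P⁻¹) = sc (Fin n) l := by
  obtain ⟨v, hv⟩ := (pi_eq_iff _ _).1 hP2
  have h1 : glT K * J⁻¹ * K = sc (Fin n) l * J⁻¹ := (cong_inv_iff K J l).1 hsim
  rw [hv] at h1
  have h2 : glT K * (star σ P * P) * K = sc (Fin n) l * (star σ P * P) := by
    have e1 : glT K * (sc (Fin n) v * (star σ P * P)) * K =
        sc (Fin n) v * (glT K * (star σ P * P) * K) := by
      rw [sc_lc, mul_assoc]
    have e2 : sc (Fin n) l * (sc (Fin n) v * (star σ P * P)) =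
        sc (Fin n) v * (sc (Fin n) l * (star σ P * P)) := sc_lc v _ _
    rw [e1, e2] at h1
    exact mul_left_cancel h1
  have hsK : star σ K = glT K := by unfold star; rw [hK]
  rw [star_mul, star_mul, star_inv, hsK]
  calc (star σ P)⁻¹ * (glT K * star σ P) * (P * K * P⁻¹)
      = (star σ P)⁻¹ * (glT K * (star σ P * P) * K) * P⁻¹ := by group
    _ = (star σ P)⁻¹ * ((star σ P * P) * sc (Fin n) l) * P⁻¹ := by rw [h2, sc_comm]
    _ = P * sc (Fin n) l * P⁻¹ := by group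
    _ = sc (Fin n) l := by rw [← sc_comm, mul_assoc, mul_inv_cancel, mul_one]

theorem mapJ_isSim (j : F₀ →+* F) {A k₀ : GL (Fin n) F₀} {l : F₀ˣ} (hk : IsSim A k₀ l) :
    mapJ j k₀ * mapJ j A * glT (mapJ j k₀) =
      sc (Fin n) (Units.map (j : F₀ →* F) l) * mapJ j A := by
  unfold IsSim at hk
  rw [← mapJ_glT, ← map_mul, ← map_mul, hk, map_mul, mapJ_sc]

theorem det_mapJ (j : F₀ →+* F) (k₀ : GL (Fin n) F₀) :
    Matrix.GeneralLinearGroup.det (mapJ j k₀) =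
      Units.map (j : F₀ →* F) (Matrix.GeneralLinearGroup.det k₀) := by
  apply Units.ext
  show (mapJ j k₀).1.det = j k₀.1.det
  rw [mapJ_val, RingHom.map_det]
  rfl

theorem det_lift (j : F₀ →+* F) (c : ↥(Cfsg.GU n F q)) (w : Fˣ) (P : GL (Fin n) F)
    (k₀ : GL (Fin n) F₀) (hc : c.1 = sc (Fin n) w * (P * mapJ j k₀ * P⁻¹)) :
    detGU n F q c = w ^ n * Units.map (j : F₀ →* F) (Matrix.GeneralLinearGroup.det k₀) := by
  show Matrix.GeneralLinearGroup.det c.1 = _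
  rw [hc, map_mul, map_mul, map_mul, map_inv, det_sc', Fintype.card_fin, det_mapJ,
    mul_right_comm (Matrix.GeneralLinearGroup.det P), mul_inv_cancel, one_mul]

/-- lifting a similitude of the form to the centralizer, with exact scalars -/
theorem lift_exact (hF : Fintype.card F = q ^ 2) (hn : 3 ≤ n) (hs : ¬ (n = 3 ∧ q = 2))
    (σ : F ≃+* F) (hσ : ∀ a, σ a = a ^ q) (j : F₀ →+* F) (hj' : ∀ y, σ (j y) = j y)
    (A : GL (Fin n) F₀) (g : ↥(Cfsg.GU n F q)) (P : GL (Fin n) F)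
    (hP1 : pi n F g.1 = pi n F (P * (glS σ P)⁻¹))
    (hP2 : pi n F (star σ P * P) = pi n F (mapJ j A)⁻¹)
    (k₀ : GL (Fin n) F₀) (l : F₀ˣ) (hk : IsSim A k₀ l) (w : Fˣ)
    (hw : w * uS σ w * Units.map (j : F₀ →* F) l = 1) :
    ∃ c : ↥(Cfsg.GU n F q), c.1 = sc (Fin n) w * (P * mapJ j k₀ * P⁻¹) ∧
      GamU c * betaU σ g = betaU σ g * GamU c := by
  have hK := glS_mapJ σ j hj' k₀
  have h1 := conf_exact σ P (mapJ j k₀) (mapJ j A) _ hK hP2 (mapJ_isSim j hk)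
  have hmem : sc (Fin n) w * (P * mapJ j k₀ * P⁻¹) ∈ Cfsg.GU n F q := by
    rw [mem_GU_iff_star σ hσ, star_mul, star_sc]
    calc star σ (P * mapJ j k₀ * P⁻¹) * sc (Fin n) (uS σ w) *
          (sc (Fin n) w * (P * mapJ j k₀ * P⁻¹))
        = sc (Fin n) (uS σ w) * sc (Fin n) w *
            (star σ (P * mapJ j k₀ * P⁻¹) * (P * mapJ j k₀ * P⁻¹)) := by
          rw [← sc_comm (uS σ w), mul_assoc, ← mul_assoc (star σ (P * mapJ j k₀ * P⁻¹)),
            ← sc_comm w, mul_assoc (sc (Fin n) w), ← mul_assoc]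
      _ = 1 := by
          rw [h1, ← sc_mul, ← sc_mul, mul_comm (uS σ w), hw, sc_one]
  refine ⟨⟨_, hmem⟩, rfl, ?_⟩
  rw [comm_betaU_iff hF hn hs]
  have := (link_lift hF (by omega) σ hσ j hj' A A g.1 g.1 P P hP1 hP2 hP1 hP2 k₀ l hk).2
    (sc (Fin n) w * (P * mapJ j k₀ * P⁻¹)) (by rw [map_mul, pi_sc, one_mul])
  exact this

/-- describing the centralizer through similitudes of the form, with exact scalars -/
theorem descend_exact (hF : Fintype.card F = q ^ 2) (hn : 3 ≤ n) (hs : ¬ (n = 3 ∧ q = 2))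
    (σ : F ≃+* F) (hσ : ∀ a, σ a = a ^ q) (j : F₀ →+* F)
    (hj : ∀ a : F, σ a = a ↔ a ∈ Set.range j)
    (A : GL (Fin n) F₀) (g : ↥(Cfsg.GU n F q)) (P : GL (Fin n) F)
    (hP1 : pi n F g.1 = pi n F (P * (glS σ P)⁻¹))
    (hP2 : pi n F (star σ P * P) = pi n F (mapJ j A)⁻¹)
    (c : ↥(Cfsg.GU n F q)) (hc : GamU c * betaU σ g = betaU σ g * GamU c) :
    ∃ (k₀ : GL (Fin n) F₀) (l : F₀ˣ) (w : Fˣ), IsSim A k₀ l ∧
      c.1 = sc (Fin n) w * (P * mapJ j k₀ * P⁻¹) ∧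
      w * uS σ w * Units.map (j : F₀ →* F) l = 1 := by
  have : Nonempty (Fin n) := ⟨⟨0, by omega⟩⟩
  have hj' : ∀ y, σ (j y) = j y := fun y => (hj _).2 ⟨y, rfl⟩
  have e := (comm_betaU_iff hF hn hs σ c g).1 hc
  have hU := (mem_GU_iff_star σ hσ c.1).1 c.2
  obtain ⟨k₀, l, hl, hh⟩ := link_descend hF (by omega) σ hσ j hj A A g.1 g.1 P P hP1 hP2
    hP1 hP2 c.1 hU e
  obtain ⟨w, hw⟩ := (pi_eq_iff _ _).1 hh.symm
  refine ⟨k₀, l, w, hl, hw, ?_⟩
  have hK := glS_mapJ σ j hj' k₀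
  have h1 := conf_exact σ P (mapJ j k₀) (mapJ j A) _ hK hP2 (mapJ_isSim j hl)
  rw [hw, star_mul, star_sc] at hU
  have h2 : sc (Fin n) (uS σ w) * sc (Fin n) w *
      (star σ (P * mapJ j k₀ * P⁻¹) * (P * mapJ j k₀ * P⁻¹)) = 1 := by
    have e : star σ (P * mapJ j k₀ * P⁻¹) * sc (Fin n) (uS σ w) *
        (sc (Fin n) w * (P * mapJ j k₀ * P⁻¹)) = sc (Fin n) (uS σ w) * sc (Fin n) w *
        (star σ (P * mapJ j k₀ * P⁻¹) * (P * mapJ j k₀ * P⁻¹)) := by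
      rw [sc_rc' (uS σ w), mul_assoc, sc_lc, ← mul_assoc]
    rw [← e]
    exact hU
  rw [h1, ← sc_mul, ← sc_mul, ← sc_one (ι := Fin n)] at h2
  have h3 := sc_injective h2
  rw [mul_comm (uS σ w)] at h3
  exact h3

/-- arithmetic of the exponents -/
theorem arith_exp (N N₁ m : ℕ) (hN : 0 < N) (h1 : N₁ ∣ N) :
    N₁ ∣ N / Nat.gcd m (N / N₁) ∧ N ∣ m * (N / Nat.gcd m (N / N₁)) := by
  obtain ⟨x, rfl⟩ := h1
  have hN₁ : 0 < N₁ := Nat.pos_of_ne_zero (by rintro rfl; simp at hN)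
  have hx : 0 < x := Nat.pos_of_ne_zero (by rintro rfl; simp at hN)
  rw [Nat.mul_div_cancel_left x hN₁]
  have he : 0 < Nat.gcd m x := Nat.gcd_pos_of_pos_right _ hx
  obtain ⟨x', hx'⟩ := Nat.gcd_dvd_right m x
  obtain ⟨m', hm'⟩ := Nat.gcd_dvd_left m x
  have h2 : N₁ * x / Nat.gcd m x = N₁ * x' :=
    Nat.div_eq_of_eq_mul_left he (by rw [mul_assoc, mul_comm x', ← hx'])
  rw [h2]
  refine ⟨Dvd.intro _ rfl, ?_⟩
  refine ⟨m', ?_⟩
  calc m * (N₁ * x') = (Nat.gcd m x * m') * (N₁ * x') := by rw [← hm']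
    _ = N₁ * (Nat.gcd m x * x') * m' := by ring
    _ = N₁ * x * m' := by rw [← hx']

theorem zeta_pow (hF : Fintype.card F = q ^ 2) (σ : F ≃+* F) (hσ : ∀ a, σ a = a ^ q) (w : Fˣ) :
    (w * (uS σ w)⁻¹) ^ (q + 1) = 1 := by
  have h1 : ∀ u : Fˣ, u ^ q = uS σ u := by
    intro u
    apply Units.ext
    rw [Units.val_pow_eq_pow_val, uS_val, hσ]
  have h2 : uS σ (uS σ w) = w := by
    apply Units.ext
    rw [uS_val, uS_val]
    exact sigma_invol hF σ hσ _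
  rw [pow_succ, h1, map_mul, map_inv, h2]
  group

theorem pow_eq_one_of_dvd {G : Type*} [Monoid G] {x : G} {a b : ℕ} (hx : x ^ a = 1)
    (hab : a ∣ b) : x ^ b = 1 := by
  obtain ⟨c, rfl⟩ := hab
  rw [pow_mul, hx, one_pow]

/-- Hilbert 90 for norm one units -/
theorem exists_quot (hF : Fintype.card F = q ^ 2) (σ : F ≃+* F) (hσ : ∀ a, σ a = a ^ q)
    (b : Fˣ) (hb : b ^ (q + 1) = 1) : ∃ w : Fˣ, w * (uS σ w)⁻¹ = b := by
  have hb' : ((b⁻¹ : Fˣ) : F) ^ (q + 1) = 1 := by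
    rw [← Units.val_pow_eq_pow_val, inv_pow, hb, inv_one, Units.val_one]
  obtain ⟨a, ha0, ha⟩ := exists_hilbert90 hF _ hb'
  refine ⟨Units.mk0 a ha0, ?_⟩
  have h1 : uS σ (Units.mk0 a ha0) = b⁻¹ * Units.mk0 a ha0 := by
    apply Units.ext
    rw [uS_val, hσ, Units.val_mul]
    exact ha
  rw [h1, _root_.mul_inv_rev, inv_inv, mul_inv_cancel_left]

/-- the norm of a unit comes from the fixed field -/
theorem exists_norm_unit (hF : Fintype.card F = q ^ 2) (σ : F ≃+* F) (hσ : ∀ a, σ a = a ^ q)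
    (j : F₀ →+* F) (hj : ∀ a : F, σ a = a ↔ a ∈ Set.range j) (w : Fˣ) :
    ∃ l : F₀ˣ, w * uS σ w * Units.map (j : F₀ →* F) l = 1 := by
  have h1 : σ ((w : F) * σ (w : F)) = (w : F) * σ (w : F) := by
    rw [map_mul, sigma_invol hF σ hσ, mul_comm]
  obtain ⟨y, hy⟩ := (hj _).1 h1
  have hy0 : y ≠ 0 := by
    rintro rfl
    rw [map_zero] at hy
    have h2 : (w : F) * σ (w : F) ≠ 0 :=
      mul_ne_zero w.ne_zero ((map_ne_zero_iff σ σ.injective).2 w.ne_zero)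
    exact h2 hy.symm
  refine ⟨(Units.mk0 y hy0)⁻¹, ?_⟩
  have h3 : Units.map (j : F₀ →* F) (Units.mk0 y hy0) = w * uS σ w := by
    apply Units.ext
    rw [Units.val_mul, uS_val]
    exact hy
  rw [map_inv, h3, mul_inv_cancel]

end Cfsg.Agent.Lib.Helper37.PSUAut
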