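import Mathlib
import Cfsg.Agent.Lib.Helper37.PSUSplit2
import Cfsg.Agent.Lib.Helper37.CharTwoGraph

set_option autoImplicit false
set_option linter.unusedSectionVars false
set_option linter.unusedVariables false

/-!
# Class splitting of involutory graph automorphisms of `PSU_n(q)`: the counts
-/

namespace Cfsg.Agent.Lib.Helper37.PSUAut

open Matrix Cfsg.Agent.Lib.Helper37.GraphPSL Cfsg.Agent.Lib.Helper45.AutPSL
  Cfsg.Agent.Lib.Helper99 Cfsg.Agent.Lib.Helper5 Cfsg.Agent.Lib.Helper13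

variable {F : Type*} [Field F] [Fintype F] {q n : ℕ} {F₀ : Type*} [Field F₀]

/-- the subgroup of `GU_n` whose image centralizes `betaU σ g` -/
noncomputable def CSg (σ : F ≃+* F) (g : ↥(Cfsg.GU n F q)) : Subgroup ↥(Cfsg.GU n F q) :=
  (Subgroup.centralizer ({betaU σ g} : Set (MulAut (Cfsg.PSU n F q)))).comap GamU

theorem mem_CSg (σ : F ≃+* F) (g c : ↥(Cfsg.GU n F q)) :
    GamU c * betaU σ g = betaU σ g * GamU c ↔ c ∈ CSg σ g := by
  unfold CSg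
  rw [Subgroup.mem_comap, Subgroup.mem_centralizer_singleton_iff]

theorem uS_pow_q (σ : F ≃+* F) (hσ : ∀ a, σ a = a ^ q) (u : Fˣ) : u ^ q = uS σ u := by
  apply Units.ext
  rw [Units.val_pow_eq_pow_val, uS_val, hσ]

theorem uS_map_j (σ : F ≃+* F) (j : F₀ →+* F) (hj' : ∀ y, σ (j y) = j y) (t : F₀ˣ) :
    uS σ (Units.map (j : F₀ →* F) t) = Units.map (j : F₀ →* F) t := by
  apply Units.ext
  rw [uS_val]
  exact hj' _

/-- if determinants of similitudes are `n`-th powers compatibly with multipliers, the count is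
`gcd n (q + 1)` -/
theorem count_betaU_pow (hF : Fintype.card F = q ^ 2) (hn : 3 ≤ n) (hs : ¬ (n = 3 ∧ q = 2))
    (σ : F ≃+* F) (hσ : ∀ a, σ a = a ^ q) (j : F₀ →+* F)
    (hj : ∀ a : F, σ a = a ↔ a ∈ Set.range j) (A : GL (Fin n) F₀)
    (g : ↥(Cfsg.GU n F q)) (hA : Link σ j A g.1)
    (hpow : ∀ (k₀ : GL (Fin n) F₀) (l : F₀ˣ), IsSim A k₀ l →
      ∃ t : F₀ˣ, Matrix.GeneralLinearGroup.det k₀ = t ^ n ∧ l = t ^ 2) :
    Cfsg.splitClassCount (Cfsg.inndiagPSU n F q) (Cfsg.Inn (Cfsg.PSU n F q)) (betaU σ g) =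
      Nat.gcd n (q + 1) := by
  have hj' : ∀ y, σ (j y) = j y := fun y => (hj _).2 ⟨y, rfl⟩
  obtain ⟨P, hP1, hP2⟩ := hA
  obtain ⟨-, hd2⟩ := arith_exp (q + 1) 1 n (by omega) (one_dvd _)
  rw [Nat.div_one] at hd2
  apply split_count_GamU hF (by omega) (betaU σ g) (CSg σ g) (fun c => mem_CSg σ g c) _
    (Nat.gcd_dvd_right _ _)
  · intro c hc
    obtain ⟨k₀, l, w, hk, hc1, hw⟩ := descend_exact hF hn hs σ hσ j hj A g P hP1 hP2 c
      ((mem_CSg σ g c).2 hc)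
    obtain ⟨t, ht1, ht2⟩ := hpow k₀ l hk
    rw [det_lift j c w P k₀ hc1, ht1, map_pow, ← mul_pow, ← pow_mul]
    refine pow_eq_one_of_dvd ?_ hd2
    rw [pow_succ, uS_pow_q σ hσ, map_mul, uS_map_j σ j hj']
    rw [ht2, map_pow] at hw
    rw [← hw]
    rw [pow_two]
    generalize Units.map (j : F₀ →* F) t = tt
    generalize uS σ w = ww
    rw [mul_mul_mul_comm, mul_comm ww w]
  · intro ν hν
    have hν1 : ν ^ (q + 1) = 1 :=
      pow_eq_one_of_dvd hν (Nat.div_dvd_of_dvd (Nat.gcd_dvd_right _ _))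
    obtain ⟨a₁, b, h1, h3⟩ := Cfsg.Agent.Lib.Helper5.AutPSLn.cyc_decomp (G := ↥(normOne F q))
      (N := q + 1) (N₁ := 1) (n := n) (card_normOne hF) (one_dvd _)
      (⟨ν, (mem_normOne q ν).2 hν1⟩ : ↥(normOne F q)) (by
        rw [Nat.div_one]
        apply Subtype.ext
        rw [Subgroup.coe_pow]
        exact hν)
    rw [pow_one] at h1
    have hb : (b : Fˣ) ^ (q + 1) = 1 := (mem_normOne q b.1).1 b.2
    have hmem : sc (Fin n) (b : Fˣ) ∈ Cfsg.GU n F q := by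
      rw [mem_GU_iff_star σ hσ, star_sc, ← sc_mul, ← uS_pow_q σ hσ, ← pow_succ, hb, sc_one]
    refine ⟨⟨_, hmem⟩, ?_, ?_⟩
    · rw [← mem_CSg]
      have : GamU (⟨_, hmem⟩ : ↥(Cfsg.GU n F q)) = 1 :=
        (GamU_eq_one_iff_pi hF hn hs _).2 (pi_sc _)
      rw [this, one_mul, mul_one]
    · show Matrix.GeneralLinearGroup.det (sc (Fin n) (b : Fˣ)) = ν
      rw [det_sc', Fintype.card_fin]
      have := congrArg Subtype.val h3
      rw [h1, one_mul, Subgroup.coe_pow] at this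
      exact this.symm

/-- even dimension: determinants of similitudes are `N₁`-torsion multiples of the `m`-th power
of the multiplier -/
theorem count_betaU_half (hF : Fintype.card F = q ^ 2) (hn : 3 ≤ n) (hs : ¬ (n = 3 ∧ q = 2))
    (σ : F ≃+* F) (hσ : ∀ a, σ a = a ^ q) (j : F₀ →+* F)
    (hj : ∀ a : F, σ a = a ↔ a ∈ Set.range j) {m : ℕ} (hnm : n = 2 * m) (A : GL (Fin n) F₀)
    (g : ↥(Cfsg.GU n F q)) (hA : Link σ j A g.1) (N₁ : ℕ) (hN₁ : N₁ ∣ q + 1)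
    (H1 : ∀ (k₀ : GL (Fin n) F₀) (l : F₀ˣ), IsSim A k₀ l →
      (Matrix.GeneralLinearGroup.det k₀ * (l ^ m)⁻¹) ^ N₁ = 1)
    (H2 : ∀ a₁ : Fˣ, a₁ ^ N₁ = 1 → ∀ l : F₀ˣ, ∃ k₀ : GL (Fin n) F₀, IsSim A k₀ l ∧
      Units.map (j : F₀ →* F) (Matrix.GeneralLinearGroup.det k₀) =
        a₁ * Units.map (j : F₀ →* F) (l ^ m)) :
    Cfsg.splitClassCount (Cfsg.inndiagPSU n F q) (Cfsg.Inn (Cfsg.PSU n F q)) (betaU σ g) =
      Nat.gcd m ((q + 1) / N₁) := by
  have hj' : ∀ y, σ (j y) = j y := fun y => (hj _).2 ⟨y, rfl⟩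
  obtain ⟨P, hP1, hP2⟩ := hA
  obtain ⟨hd1, hd2⟩ := arith_exp (q + 1) N₁ m (by omega) hN₁
  have he : Nat.gcd m ((q + 1) / N₁) ∣ q + 1 :=
    (Nat.gcd_dvd_right _ _).trans (Nat.div_dvd_of_dvd hN₁)
  have hzeta : ∀ (w : Fˣ) (l : F₀ˣ), w * uS σ w * Units.map (j : F₀ →* F) l = 1 →
      w ^ 2 * Units.map (j : F₀ →* F) l = w * (uS σ w)⁻¹ := by
    intro w l hw
    have hjl : Units.map (j : F₀ →* F) l = (w * uS σ w)⁻¹ := eq_inv_of_mul_eq_one_right hw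
    rw [hjl, _root_.mul_inv_rev, pow_two, mul_comm (uS σ w)⁻¹]
    group
  apply split_count_GamU hF (by omega) (betaU σ g) (CSg σ g) (fun c => mem_CSg σ g c) _ he
  · intro c hc
    obtain ⟨k₀, l, w, hk, hc1, hw⟩ := descend_exact hF hn hs σ hσ j hj A g P hP1 hP2 c
      ((mem_CSg σ g c).2 hc)
    have hd : Matrix.GeneralLinearGroup.det k₀ =
        (Matrix.GeneralLinearGroup.det k₀ * (l ^ m)⁻¹) * l ^ m := by
      rw [inv_mul_cancel_right]
    have hdet : detGU n F q c =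
        Units.map (j : F₀ →* F) (Matrix.GeneralLinearGroup.det k₀ * (l ^ m)⁻¹) *
          (w * (uS σ w)⁻¹) ^ m := by
      have ewn : w ^ n = (w ^ 2) ^ m := by rw [hnm, pow_mul]
      rw [det_lift j c w P k₀ hc1, ← hzeta w l hw]
      conv_lhs => rw [hd]
      rw [map_mul, map_pow, mul_pow, ewn]
      generalize Units.map (j : F₀ →* F) (Matrix.GeneralLinearGroup.det k₀ * (l ^ m)⁻¹) = ee
      generalize Units.map (j : F₀ →* F) l = ll
      rw [mul_left_comm]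
    rw [hdet, mul_pow, ← map_pow, ← pow_mul]
    have e1 : (Matrix.GeneralLinearGroup.det k₀ * (l ^ m)⁻¹) ^ ((q + 1) /
        Nat.gcd m ((q + 1) / N₁)) = 1 := pow_eq_one_of_dvd (H1 k₀ l hk) hd1
    have e2 : (w * (uS σ w)⁻¹) ^ (m * ((q + 1) / Nat.gcd m ((q + 1) / N₁))) = 1 :=
      pow_eq_one_of_dvd (zeta_pow hF σ hσ w) hd2
    rw [e1, e2, map_one, one_mul]
  · intro ν hν
    have hν1 : ν ^ (q + 1) = 1 := pow_eq_one_of_dvd hν (Nat.div_dvd_of_dvd he)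
    obtain ⟨a₁, b, h1, h3⟩ := Cfsg.Agent.Lib.Helper5.AutPSLn.cyc_decomp (G := ↥(normOne F q))
      (N := q + 1) (N₁ := N₁) (n := m) (card_normOne hF) hN₁
      (⟨ν, (mem_normOne q ν).2 hν1⟩ : ↥(normOne F q)) (by
        apply Subtype.ext
        rw [Subgroup.coe_pow]
        exact hν)
    have hb : (b : Fˣ) ^ (q + 1) = 1 := (mem_normOne q b.1).1 b.2
    have ha₁ : (a₁ : Fˣ) ^ N₁ = 1 := by
      have := congrArg Subtype.val h1
      rw [Subgroup.coe_pow] at this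
      exact this
    obtain ⟨w, hwb⟩ := exists_quot hF σ hσ (b : Fˣ) hb
    obtain ⟨l, hl⟩ := exists_norm_unit hF σ hσ j hj w
    obtain ⟨k₀, hk, hkd⟩ := H2 (a₁ : Fˣ) ha₁ l
    obtain ⟨c, hc1, hcomm⟩ := lift_exact hF hn hs σ hσ j hj' A g P hP1 hP2 k₀ l hk w hl
    refine ⟨c, (mem_CSg σ g c).1 hcomm, ?_⟩
    have ewn : w ^ n = (w ^ 2) ^ m := by rw [hnm, pow_mul]
    rw [det_lift j c w P k₀ hc1, hkd, map_pow, ewn, mul_left_comm, ← mul_pow,
      hzeta w l hl, hwb]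
    have := congrArg Subtype.val h3
    rw [Subgroup.coe_mul, Subgroup.coe_pow] at this
    exact this.symm


section Base

variable {K : Type*} [Field K]

/-- odd dimension: the determinant of a similitude is an `n`-th power of a square root of the
multiplier -/
theorem sim_pow_odd {k : ℕ} (hnk : n = 2 * k + 1) {A k₀ : GL (Fin n) K} {l : Kˣ}
    (hk : IsSim A k₀ l) :
    ∃ t : Kˣ, Matrix.GeneralLinearGroup.det k₀ = t ^ n ∧ l = t ^ 2 := by
  have h1 := hk.det_sq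
  rw [Fintype.card_fin] at h1
  set d := Matrix.GeneralLinearGroup.det k₀ with hd
  have e1 : l ^ n = l ^ (2 * k) * l := by rw [hnk, pow_succ]
  have ht2 : (d * (l ^ k)⁻¹) ^ 2 = l := by
    rw [mul_pow, h1, e1, inv_pow, ← pow_mul, mul_comm k 2, mul_right_comm, mul_inv_cancel, one_mul]
  refine ⟨d * (l ^ k)⁻¹, ?_, ht2.symm⟩
  have e2 : (d * (l ^ k)⁻¹) ^ n = ((d * (l ^ k)⁻¹) ^ 2) ^ k * (d * (l ^ k)⁻¹) := by
    rw [hnk, pow_succ, pow_mul]
  rw [e2, ht2, mul_left_comm, mul_inv_cancel, mul_one]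

/-- characteristic two, even dimension -/
theorem sim_pow_char_two [Fintype K] [CharP K 2] {m : ℕ} (hnm : n = 2 * m)
    {A k₀ : GL (Fin n) K} {l : Kˣ} (hk : IsSim A k₀ l) :
    ∃ t : Kˣ, Matrix.GeneralLinearGroup.det k₀ = t ^ n ∧ l = t ^ 2 := by
  have h1 := hk.det_sq
  rw [Fintype.card_fin] at h1
  obtain ⟨t, ht⟩ := exists_unit_sq l
  rw [← pow_two] at ht
  refine ⟨t, ?_, ht⟩
  set d := Matrix.GeneralLinearGroup.det k₀ with hd
  have h2 : (d * (t ^ n)⁻¹) ^ 2 = 1 := by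
    rw [mul_pow, h1, ht, inv_pow, ← pow_mul, ← pow_mul, mul_comm 2 n, mul_inv_cancel]
  have h3 : ((d * (t ^ n)⁻¹ : Kˣ) : K) = 1 := by
    apply eq_one_of_sq_eq_one_char_two
    rw [← Units.val_pow_eq_pow_val, h2, Units.val_one]
  have h4 : d * (t ^ n)⁻¹ = 1 := Units.ext h3
  exact mul_inv_eq_one.1 h4

end Base

end Cfsg.Agent.Lib.Helper37.PSUAut
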