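import Cfsg.Agent.Lib.Helper37.Reflection
import Cfsg.Agent.Lib.Helper37.CountMod4

set_option autoImplicit false

namespace Cfsg.Agent.Lib.Helper37

open Module Matrix Finset

/-- the sign of an involution in terms of its support -/
theorem sign_of_involution {X : Type*} [Fintype X] [DecidableEq X] (σ : Equiv.Perm X)
    (hσ2 : σ ^ 2 = 1) :
    (σ.support.card % 4 = 2 → Equiv.Perm.sign σ = -1) ∧
      (σ.support.card % 4 = 0 → Equiv.Perm.sign σ = 1) := by
  by_cases hσ1 : σ = 1
  · subst hσ1
    simp
  · have hord : orderOf σ = 2 := orderOf_eq_prime hσ2 hσ1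
    have hprime : (orderOf σ).Prime := by rw [hord]; exact Nat.prime_two
    obtain ⟨k, hk⟩ := Equiv.Perm.cycleType_prime_order hprime
    rw [hord] at hk
    have hsum := Equiv.Perm.sum_cycleType σ
    rw [hk, Multiset.sum_replicate, smul_eq_mul] at hsum
    rw [Equiv.Perm.sign_of_cycleType, hk, Multiset.sum_replicate, Multiset.card_replicate,
      smul_eq_mul]
    constructor
    · intro h
      have hodd : Odd ((k + 1) * 2 + (k + 1)) := by
        rw [Nat.odd_iff]; omega
      exact hodd.neg_one_pow
    · intro h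
      have hev : Even ((k + 1) * 2 + (k + 1)) := by
        rw [Nat.even_iff]; omega
      exact hev.neg_one_pow

section
variable {F : Type*} [Field F] [Fintype F] [DecidableEq F]

theorem four_dvd_sum_ne_zero' (h2 : (2 : F) ≠ 0) (g : F → ℕ) (hg : ∀ t, g (-t) = g t)
    (hev : ∀ t, t ≠ 0 → 2 ∣ g t) : 4 ∣ ∑ t ∈ univ.filter (fun t : F => t ≠ 0), g t := by
  have h1 := four_dvd_sum_ne_zero h2 (fun t => if t = 0 then 0 else g t)
    (by
      intro t
      by_cases ht : t = 0
      · simp [ht]
      · simp [ht, hg])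
    (by
      intro t
      by_cases ht : t = 0
      · simp [ht]
      · simp [ht, hev t ht])
  have h3 : ∑ t ∈ univ.filter (fun t : F => t ≠ 0), (fun t => if t = 0 then 0 else g t) t =
      ∑ t ∈ univ.filter (fun t : F => t ≠ 0), g t := by
    apply Finset.sum_congr rfl
    intro t ht
    have : t ≠ 0 := by simpa using ht
    simp [this]
  rw [← h3]
  exact h1

/-- two even functions which agree modulo `2` have sums over nonzero elements agreeing
modulo `4` -/
theorem sum_ne_zero_mod_four (h2 : (2 : F) ≠ 0) (a e : F → ℕ) (ha : ∀ t, a (-t) = a t)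
    (he : ∀ t, e (-t) = e t) (hae : ∀ t, t ≠ 0 → a t % 2 = e t % 2) :
    (∑ t ∈ univ.filter (fun t : F => t ≠ 0), a t) % 4 =
      (∑ t ∈ univ.filter (fun t : F => t ≠ 0), e t) % 4 := by
  have h1 := four_dvd_sum_ne_zero' h2 (fun t => a t + e t) (fun t => by simp only [ha, he])
    (fun t ht => by
      have := hae t ht
      omega)
  have h3 := even_sum_ne_zero h2 e he
  rw [Finset.sum_add_distrib] at h1
  omega

end

section
variable {M : Type*} [AddGroup M] [Fintype M] [DecidableEq M]

theorem even_sum_ne_zero_gen (hM : ∀ x : M, -x = x → x = 0) (h : M → ℕ)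
    (hh : ∀ t, h (-t) = h t) :
    2 ∣ ∑ t ∈ univ.filter (fun t : M => t ≠ 0), h t := by
  have key : ((∑ t ∈ univ.filter (fun t : M => t ≠ 0), h t : ℕ) : ZMod 2) = 0 := by
    rw [Nat.cast_sum]
    apply Finset.sum_involution (fun t _ => -t)
    · intro t _
      rw [hh]
      exact CharTwo.add_self_eq_zero _
    · intro t ht _ hneg
      have ht0 : t ≠ 0 := by simpa using ht
      exact ht0 (hM t hneg)
    · intro t _
      simp
    · intro t ht
      simpa using ht
  exact (ZMod.natCast_eq_zero_iff _ 2).mp key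

/-- a symmetric set containing at most the fixed point `0` of negation has parity given by
membership of `0` -/
theorem card_symm_mod_two (hM : ∀ x : M, -x = x → x = 0) (p : M → Prop) [DecidablePred p]
    (hp : ∀ x, p (-x) ↔ p x) :
    (univ.filter p).card % 2 = if p 0 then 1 else 0 := by
  have h1 := even_sum_ne_zero_gen hM (fun x => if p x then 1 else 0)
    (fun x => by simp only [hp])
  have h3 : (univ.filter p).card = (if p 0 then 1 else 0) +
      ∑ t ∈ univ.filter (fun t : M => t ≠ 0), (if p t then 1 else 0) := by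
    rw [Finset.card_filter, ← Finset.sum_filter_add_sum_filter_not univ (fun t : M => t = 0)]
    congr 1
    rw [Finset.filter_eq' univ (0 : M), if_pos (Finset.mem_univ _), Finset.sum_singleton]
  rw [h3]
  split_ifs <;> omega

end

/-- the sign character of `O(Q)` acting on the level set `{Q = c}` -/
def signChar {κ : Type} [Fintype κ] [DecidableEq κ] {F : Type*} [Field F] [Fintype F]
    [DecidableEq F] (Q : (κ → F) → F) (c : F) : ↥(Cfsg.isometryGroup F Q) →* ℤˣ :=
  Equiv.Perm.sign.comp (levelPerm Q c)

theorem signChar_eq_one_of_mem_omega {κ : Type} [Fintype κ] [DecidableEq κ] {F : Type*} [Field F]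
    [Fintype F] [DecidableEq F] (Q : (κ → F) → F) (c : F) (g : ↥(Cfsg.isometryGroup F Q))
    (hg : g ∈ Cfsg.Omega F Q) : signChar Q c g = 1 := by
  have hle : commutator ↥(Cfsg.isometryGroup F Q) ≤ (signChar Q c).ker :=
    Abelianization.commutator_subset_ker _
  exact hle hg

namespace IsGram

variable {κ : Type} [Fintype κ] [DecidableEq κ] {F : Type*} [Field F] [Fintype F] [DecidableEq F]
  {Q : (κ → F) → F} {G : Matrix κ κ F}

theorem neg_eq_self (h : IsGram Q G) (x : κ → F) (hx : -x = x) : x = 0 := by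
  funext k
  have h5 : -x k = x k := congrFun hx k
  have h6 : (2 : F) * x k = 0 := by
    rw [two_mul]; nth_rewrite 1 [← h5]; simp
  rcases mul_eq_zero.mp h6 with h' | h'
  · exact absurd h' h.two_ne
  · exact h'

theorem perp_count_mod_two (h : IsGram Q G) (v : κ → F) (c' : F) :
    (univ.filter (fun w : κ → F => Matrix.toBilin' G v w = 0 ∧ Q w = c')).card % 2 =
      if c' = 0 then 1 else 0 := by
  have h1 := card_symm_mod_two (M := κ → F) h.neg_eq_self
    (fun w : κ → F => Matrix.toBilin' G v w = 0 ∧ Q w = c')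
    (fun x => by simp only [map_neg, neg_eq_zero, h.Q_neg])
  rw [h1]
  simp only [map_zero, h.Q_zero, true_and]
  by_cases hc : c' = 0
  · simp [hc]
  · simp [hc, Ne.symm hc]

theorem fiber_card (h : IsGram Q G) (v : κ → F) (c t : F) :
    (univ.filter (fun x : κ → F => Q x = c ∧ Matrix.toBilin' G v x = t * (2 * Q v))).card =
      (univ.filter (fun w : κ → F => Matrix.toBilin' G v w = 0 ∧ Q w = c - t ^ 2 * Q v)).card := by
  apply Finset.card_nbij' (fun x => x - t • v) (fun w => w + t • v)
  · intro x hx
    simp only [Finset.coe_filter, Finset.mem_univ, true_and, Set.mem_ofPred_eq] at hx ⊢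
    obtain ⟨hx1, hx2⟩ := hx
    constructor
    · simp only [map_sub, map_smul, smul_eq_mul, hx2, h.self v]
      ring
    · rw [h.Q_sub, h.Q_smul, hx1]
      simp only [map_smul, smul_eq_mul]
      rw [h.symmB x v, hx2]
      ring
  · intro w hw
    simp only [Finset.coe_filter, Finset.mem_univ, true_and, Set.mem_ofPred_eq] at hw ⊢
    obtain ⟨hw1, hw2⟩ := hw
    constructor
    · rw [h.Q_add, h.Q_smul, hw2]
      simp only [map_smul, smul_eq_mul]
      rw [h.symmB w v, hw1]
      ring
    · simp only [map_add, map_smul, smul_eq_mul, hw1, h.self v]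
      ring
  · intro x _
    simp
  · intro w _
    simp

/-- the number of vectors of norm `c` moved by the reflection in `v`, modulo `4` -/
theorem supp_count (h : IsGram Q G) (v : κ → F) (hv : Q v ≠ 0) (c : F) :
    (univ.filter (fun x : κ → F => Q x = c ∧ Matrix.toBilin' G v x ≠ 0)).card % 4 =
      (∑ t ∈ univ.filter (fun t : F => t ≠ 0), if Q v * t ^ 2 = c then 1 else 0) % 4 := by
  have h2' : (2 : F) ≠ 0 := h.two_ne
  have h2Q : (2 * Q v) ≠ 0 := mul_ne_zero h.two_ne hv
  have H : ((univ.filter (fun x : κ → F => Q x = c ∧ Matrix.toBilin' G v x ≠ 0) :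
      Finset (κ → F)) : Set (κ → F)).MapsTo
      (fun x => (2 * Q v)⁻¹ * Matrix.toBilin' G v x) (univ.filter (fun t : F => t ≠ 0)) := by
    intro x hx
    simp only [Finset.coe_filter, Finset.mem_univ, true_and, Set.mem_ofPred_eq] at hx ⊢
    exact mul_ne_zero (inv_ne_zero h2Q) hx.2
  rw [Finset.card_eq_sum_card_fiberwise H]
  have h1 : ∀ t ∈ univ.filter (fun t : F => t ≠ 0),
      ((univ.filter (fun x : κ → F => Q x = c ∧ Matrix.toBilin' G v x ≠ 0)).filter
        (fun x => (2 * Q v)⁻¹ * Matrix.toBilin' G v x = t)).card =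
      (univ.filter (fun w : κ → F => Matrix.toBilin' G v w = 0 ∧ Q w = c - t ^ 2 * Q v)).card := by
    intro t ht
    have ht0 : t ≠ 0 := by simpa using ht
    rw [← h.fiber_card v c t]
    congr 1
    ext x
    simp only [Finset.mem_filter, Finset.mem_univ, true_and]
    constructor
    · rintro ⟨⟨hx1, _⟩, hx3⟩
      refine ⟨hx1, ?_⟩
      rw [← hx3]
      field_simp
    · rintro ⟨hx1, hx2⟩
      refine ⟨⟨hx1, ?_⟩, ?_⟩
      · rw [hx2]
        exact mul_ne_zero ht0 h2Q
      · rw [hx2]
        field_simp
  rw [Finset.sum_congr rfl h1]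
  apply sum_ne_zero_mod_four h.two_ne
  · intro t
    simp
  · intro t
    simp
  · intro t _
    rw [h.perp_count_mod_two]
    have : (c - t ^ 2 * Q v = 0) ↔ (Q v * t ^ 2 = c) := by
      rw [sub_eq_zero, eq_comm, mul_comm]
    simp only [this]
    split_ifs <;> simp

theorem axis_sum_eq (h : IsGram Q G) (v : κ → F) (hv : Q v ≠ 0) (c : F) :
    ((∃ t : F, t ≠ 0 ∧ Q v * t ^ 2 = c) →
      (∑ t ∈ univ.filter (fun t : F => t ≠ 0), if Q v * t ^ 2 = c then 1 else 0) = 2) ∧
    ((¬ ∃ t : F, t ≠ 0 ∧ Q v * t ^ 2 = c) →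
      (∑ t ∈ univ.filter (fun t : F => t ≠ 0), if Q v * t ^ 2 = c then 1 else 0) = 0) := by
  constructor
  · rintro ⟨t₀, ht₀, ht⟩
    rw [← Finset.card_filter]
    have hne : t₀ ≠ -t₀ := by
      intro h'
      apply ht₀
      have h3 : (2 : F) * t₀ = 0 := by
        rw [two_mul]; nth_rewrite 2 [h']; simp
      rcases mul_eq_zero.mp h3 with h'' | h''
      · exact absurd h'' h.two_ne
      · exact h''
    have : (univ.filter (fun t : F => t ≠ 0)).filter (fun t => Q v * t ^ 2 = c) = {t₀, -t₀} := by
      ext t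
      simp only [Finset.mem_filter, Finset.mem_univ, true_and, Finset.mem_insert,
        Finset.mem_singleton]
      constructor
      · rintro ⟨_, h'⟩
        have h3 : Q v * ((t - t₀) * (t + t₀)) = 0 := by
          have : Q v * t ^ 2 = Q v * t₀ ^ 2 := by rw [h', ht]
          linear_combination this
        rcases mul_eq_zero.mp h3 with h4 | h4
        · exact absurd h4 hv
        · rcases mul_eq_zero.mp h4 with h5 | h5
          · left; exact sub_eq_zero.mp h5
          · right; exact eq_neg_of_add_eq_zero_left h5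
      · rintro (rfl | rfl)
        · exact ⟨ht₀, ht⟩
        · refine ⟨by simpa using ht₀, ?_⟩
          rw [← ht]; ring
    rw [this, Finset.card_pair hne]
  · intro hno
    apply Finset.sum_eq_zero
    intro t ht
    have ht0 : t ≠ 0 := by simpa using ht
    rw [if_neg]
    intro h'
    exact hno ⟨t, ht0, h'⟩

theorem ne_zero_of_Q_ne_zero (h : IsGram Q G) (v : κ → F) (hv : Q v ≠ 0) : v ≠ 0 := by
  rintro rfl
  exact hv h.Q_zero

theorem support_card (h : IsGram Q G) (v : κ → F) (hv : Q v ≠ 0) (c : F) :
    (levelPerm Q c (h.reflG v hv)).support.card =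
      (univ.filter (fun x : κ → F => Q x = c ∧ Matrix.toBilin' G v x ≠ 0)).card := by
  have h1 : (levelPerm Q c (h.reflG v hv)).support =
      Finset.subtype (fun x => Q x = c)
        (univ.filter (fun x : κ → F => Matrix.toBilin' G v x ≠ 0)) := by
    ext x
    rw [Equiv.Perm.mem_support, Finset.mem_subtype, Finset.mem_filter]
    simp only [Finset.mem_univ, true_and]
    rw [Ne, Subtype.ext_iff, levelPerm_apply, h.reflG_val, h.refl_mulVec]
    constructor
    · intro h' h0
      apply h'
      rw [h0]; simp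
    · intro h' h0
      have h3 : ((Q v)⁻¹ * Matrix.toBilin' G v x.1) • v = 0 := by
        have := sub_eq_self.mp h0
        exact this
      rcases smul_eq_zero.mp h3 with h4 | h4
      · rcases mul_eq_zero.mp h4 with h5 | h5
        · exact (inv_ne_zero hv) h5
        · exact h' h5
      · exact h.ne_zero_of_Q_ne_zero v hv h4
  rw [h1, Finset.card_subtype, Finset.filter_filter]
  congr 1
  ext x
  simp only [Finset.mem_filter, Finset.mem_univ, true_and]
  tauto

theorem signChar_refl (h : IsGram Q G) (v : κ → F) (hv : Q v ≠ 0) (c : F) :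
    ((∃ t : F, t ≠ 0 ∧ Q v * t ^ 2 = c) → signChar Q c (h.reflG v hv) = -1) ∧
    ((¬ ∃ t : F, t ≠ 0 ∧ Q v * t ^ 2 = c) → signChar Q c (h.reflG v hv) = 1) := by
  have hσ2 : (levelPerm Q c (h.reflG v hv)) ^ 2 = 1 := by
    rw [← map_pow, pow_two, h.reflG_mul_self, map_one]
  have hs := sign_of_involution _ hσ2
  have hc := h.support_card v hv c
  have hm := h.supp_count v hv c
  have ha := h.axis_sum_eq v hv c
  constructor
  · intro hex
    apply hs.1
    rw [hc, hm, ha.1 hex]
  · intro hno
    apply hs.2
    rw [hc, hm, ha.2 hno]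

end IsGram

end Cfsg.Agent.Lib.Helper37
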