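import Cfsg.Agent.Lib.Helper37.SignChar
import Cfsg.Prelude.Def_ClassicalGeometry

set_option autoImplicit false

namespace Cfsg.Agent.Lib.Helper37

open Module Matrix
open scoped commutatorElement

/-- `G` is a symmetric Gram matrix for the polar form of `Q` (in characteristic not two) -/
structure IsGram {κ : Type} [Fintype κ] [DecidableEq κ] {F : Type*} [Field F]
    (Q : (κ → F) → F) (G : Matrix κ κ F) : Prop where
  two_ne : (2 : F) ≠ 0
  symm : G.IsSymm
  self : ∀ u, Matrix.toBilin' G u u = 2 * Q u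

namespace IsGram

variable {κ : Type} [Fintype κ] [DecidableEq κ] {F : Type*} [Field F]
  {Q : (κ → F) → F} {G : Matrix κ κ F}

theorem symmB (h : IsGram Q G) (u w : κ → F) :
    Matrix.toBilin' G u w = Matrix.toBilin' G w u := by
  have hS : (Matrix.toBilin' G).IsSymm := Matrix.isSymm_toBilin'_iff_isSymm.mpr h.symm
  simpa using hS.eq u w

theorem Q_add (h : IsGram Q G) (u w : κ → F) :
    Q (u + w) = Q u + Q w + Matrix.toBilin' G u w := by
  have h1 := h.self (u + w)
  have h2 := h.self u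
  have h3 := h.self w
  have hs := h.symmB w u
  simp only [map_add, LinearMap.add_apply] at h1
  apply mul_left_cancel₀ h.two_ne
  linear_combination -h1 + h2 + h3 + hs

theorem Q_smul (h : IsGram Q G) (a : F) (u : κ → F) : Q (a • u) = a ^ 2 * Q u := by
  have h1 := h.self (a • u)
  have h2 := h.self u
  simp only [map_smul, LinearMap.smul_apply, smul_eq_mul] at h1
  apply mul_left_cancel₀ h.two_ne
  linear_combination -h1 + a ^ 2 * h2

theorem Q_zero (h : IsGram Q G) : Q 0 = 0 := by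
  have := h.Q_smul 0 0
  simpa using this

theorem Q_neg (h : IsGram Q G) (u : κ → F) : Q (-u) = Q u := by
  have := h.Q_smul (-1) u
  simpa using this

theorem Q_sub (h : IsGram Q G) (u w : κ → F) :
    Q (u - w) = Q u + Q w - Matrix.toBilin' G u w := by
  rw [sub_eq_add_neg, h.Q_add, h.Q_neg]
  simp only [map_neg]
  ring

theorem polar_eq (h : IsGram Q G) (u w : κ → F) :
    QuadraticMap.polar Q u w = Matrix.toBilin' G u w := by
  unfold QuadraticMap.polar
  rw [h.Q_add]; ring

theorem polarVec_dot (h : IsGram Q G) (v x : κ → F) :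
    Cfsg.polarVec Q v ⬝ᵥ x = Matrix.toBilin' G v x := by
  have h1 : Cfsg.polarVec Q v = Matrix.vecMul v G := by
    funext j
    unfold Cfsg.polarVec
    rw [h.polar_eq, Matrix.toBilin'_apply', Matrix.mulVec_single_one]
    rfl
  rw [h1, Matrix.toBilin'_apply', Matrix.dotProduct_mulVec]

/-- action of the reflection matrix -/
theorem refl_mulVec (h : IsGram Q G) (v x : κ → F) :
    Cfsg.reflectionMatrix Q v *ᵥ x = x - ((Q v)⁻¹ * Matrix.toBilin' G v x) • v := by
  unfold Cfsg.reflectionMatrix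
  rw [Matrix.sub_mulVec, Matrix.one_mulVec, Matrix.smul_mulVec, Matrix.vecMulVec_mulVec,
    h.polarVec_dot]
  congr 1
  funext i
  simp only [Pi.smul_apply, smul_eq_mul, MulOpposite.smul_eq_mul_unop, MulOpposite.unop_op]
  ring

theorem isometry_bilin (h : IsGram Q G) (M : Matrix κ κ F) (hM : ∀ u, Q (M *ᵥ u) = Q u)
    (u w : κ → F) : Matrix.toBilin' G (M *ᵥ u) (M *ᵥ w) = Matrix.toBilin' G u w := by
  have h1 := h.Q_add u w
  have h2 := h.Q_add (M *ᵥ u) (M *ᵥ w)
  rw [← Matrix.mulVec_add, hM, hM, hM] at h2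
  linear_combination h1 - h2

theorem refl_Q (h : IsGram Q G) (v : κ → F) (hv : Q v ≠ 0) (x : κ → F) :
    Q (Cfsg.reflectionMatrix Q v *ᵥ x) = Q x := by
  rw [h.refl_mulVec, h.Q_sub, h.Q_smul]
  simp only [map_smul, smul_eq_mul]
  rw [h.symmB x v]
  field_simp
  ring

theorem refl_refl (h : IsGram Q G) (v : κ → F) (hv : Q v ≠ 0) :
    Cfsg.reflectionMatrix Q v * Cfsg.reflectionMatrix Q v = 1 := by
  apply Matrix.mulVec_injective
  funext x
  rw [← Matrix.mulVec_mulVec, Matrix.one_mulVec, h.refl_mulVec v (Cfsg.reflectionMatrix Q v *ᵥ x),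
    h.refl_mulVec v x]
  simp only [map_sub, map_smul, smul_eq_mul]
  rw [h.self v]
  have : (Q v)⁻¹ * (Matrix.toBilin' G v x - (Q v)⁻¹ * Matrix.toBilin' G v x * (2 * Q v)) =
      -((Q v)⁻¹ * Matrix.toBilin' G v x) := by
    field_simp
    ring
  rw [this]
  simp

/-- the reflection as an element of the isometry group -/
noncomputable def reflG (h : IsGram Q G) (v : κ → F) (hv : Q v ≠ 0) :
    ↥(Cfsg.isometryGroup F Q) :=
  ⟨⟨Cfsg.reflectionMatrix Q v, Cfsg.reflectionMatrix Q v, h.refl_refl v hv, h.refl_refl v hv⟩,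
    (mem_isometryGroup_iff' Q _).mpr (fun u => h.refl_Q v hv u)⟩

theorem reflG_val (h : IsGram Q G) (v : κ → F) (hv : Q v ≠ 0) :
    (((h.reflG v hv : ↥(Cfsg.isometryGroup F Q)) : Matrix.GeneralLinearGroup κ F) :
      Matrix κ κ F) = Cfsg.reflectionMatrix Q v := rfl

theorem reflG_mul_self (h : IsGram Q G) (v : κ → F) (hv : Q v ≠ 0) :
    h.reflG v hv * h.reflG v hv = 1 := by
  apply Subtype.ext
  apply Units.ext
  exact h.refl_refl v hv

theorem reflG_inv (h : IsGram Q G) (v : κ → F) (hv : Q v ≠ 0) :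
    (h.reflG v hv)⁻¹ = h.reflG v hv := by
  rw [inv_eq_iff_mul_eq_one]
  exact h.reflG_mul_self v hv

/-- scaling the vector does not change the reflection -/
theorem refl_smul (h : IsGram Q G) (v : κ → F) (t : F) (ht : t ≠ 0) :
    Cfsg.reflectionMatrix Q (t • v) = Cfsg.reflectionMatrix Q v := by
  apply Matrix.mulVec_injective
  funext x
  rw [h.refl_mulVec, h.refl_mulVec, h.Q_smul]
  simp only [map_smul, LinearMap.smul_apply, smul_eq_mul]
  congr 1
  rw [smul_smul]
  congr 1
  by_cases hv : Q v = 0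
  · simp [hv]
  · field_simp

/-- conjugating a reflection by an isometry -/
theorem conj_refl (h : IsGram Q G) (g : ↥(Cfsg.isometryGroup F Q)) (v : κ → F) :
    ((g : Matrix.GeneralLinearGroup κ F) : Matrix κ κ F) * Cfsg.reflectionMatrix Q v *
      (((g⁻¹ : ↥(Cfsg.isometryGroup F Q)) : Matrix.GeneralLinearGroup κ F) : Matrix κ κ F) =
    Cfsg.reflectionMatrix Q (((g : Matrix.GeneralLinearGroup κ F) : Matrix κ κ F) *ᵥ v) := by
  have hg := (mem_isometryGroup_iff' Q g.1).mp g.2
  have hinv : ∀ x, ((g : Matrix.GeneralLinearGroup κ F) : Matrix κ κ F) *ᵥ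
      ((((g⁻¹ : ↥(Cfsg.isometryGroup F Q)) : Matrix.GeneralLinearGroup κ F) : Matrix κ κ F) *ᵥ x)
      = x := by
    intro x
    rw [Matrix.mulVec_mulVec, ← Units.val_mul, ← Subgroup.coe_mul, mul_inv_cancel]
    simp
  apply Matrix.mulVec_injective
  funext x
  rw [← Matrix.mulVec_mulVec, ← Matrix.mulVec_mulVec, h.refl_mulVec, h.refl_mulVec,
    Matrix.mulVec_sub, Matrix.mulVec_smul, hinv, hg]
  congr 3
  conv_rhs => rw [← hinv x]
  rw [h.isometry_bilin _ hg]

end IsGram

end Cfsg.Agent.Lib.Helper37
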