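import Mathlib

set_option autoImplicit false

namespace Cfsg.Agent.Lib.Helper37

open Module Matrix

theorem isCompl_ker_of_involution {K : Type*} [Field K] (h2 : (2 : K) ≠ 0) {V : Type*}
    [AddCommGroup V] [Module K V] (a : End K V) (ha : a * a = 1) :
    IsCompl (LinearMap.ker (a - 1)) (LinearMap.ker (a + 1)) := by
  have haa : ∀ v, a (a v) = v := fun v => by
    have := congrArg (fun f => f v) ha
    simpa using this
  constructor
  · rw [Submodule.disjoint_def]
    intro v hv1 hv2
    rw [LinearMap.mem_ker] at hv1 hv2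
    have e1 : a v = v := by
      have : a v - v = 0 := by simpa using hv1
      exact sub_eq_zero.mp this
    have e2 : a v = -v := by
      have : a v + v = 0 := by simpa using hv2
      exact eq_neg_of_add_eq_zero_left this
    have : (2 : K) • v = 0 := by
      rw [two_smul]
      nth_rewrite 1 [← e1]
      rw [e2]
      simp
    exact (smul_eq_zero.mp this).resolve_left h2
  · rw [codisjoint_iff, eq_top_iff]
    intro v _
    have hv : v = (2 : K)⁻¹ • (v + a v) + (2 : K)⁻¹ • (v - a v) := by
      rw [← smul_add]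
      have : v + a v + (v - a v) = (2 : K) • v := by rw [two_smul]; abel
      rw [this, smul_smul, inv_mul_cancel₀ h2, one_smul]
    rw [hv]
    apply Submodule.add_mem_sup
    · apply Submodule.smul_mem
      rw [LinearMap.mem_ker]
      simp [haa]
      abel
    · apply Submodule.smul_mem
      rw [LinearMap.mem_ker]
      simp [haa]


theorem simDiag {K : Type*} [Field K] (h2 : (2 : K) ≠ 0) {V : Type*} [AddCommGroup V] [Module K V]
    [FiniteDimensional K V] (S : Set (End K V)) (hc : ∀ a ∈ S, ∀ b ∈ S, a * b = b * a)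
    (hi : ∀ a ∈ S, a * a = 1) :
    ∃ (ι : Type) (_ : Fintype ι) (b : Basis ι K V), ∀ a ∈ S, ∀ i, a (b i) = b i ∨ a (b i) = - b i := by
  generalize hn : finrank K V = n
  induction n using Nat.strong_induction_on generalizing V with
  | _ n ih =>
  by_cases hall : ∀ a ∈ S, a = 1 ∨ a = -1
  · refine ⟨Fin (finrank K V), inferInstance, Module.finBasis K V, ?_⟩
    intro a ha i
    rcases hall a ha with rfl | rfl
    · left; simp
    · right; simp
  · push Not at hall
    obtain ⟨a, haS, ha1, ha2⟩ := hall
    have hPQ : IsCompl (LinearMap.ker (a - 1)) (LinearMap.ker (a + 1)) :=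
      isCompl_ker_of_involution h2 a (hi a haS)
    have hPtop : LinearMap.ker (a - 1) ≠ ⊤ := by
      intro h
      apply ha1
      rw [LinearMap.ker_eq_top] at h
      exact sub_eq_zero.mp h
    have hQtop : LinearMap.ker (a + 1) ≠ ⊤ := by
      intro h
      apply ha2
      rw [LinearMap.ker_eq_top] at h
      exact eq_neg_of_add_eq_zero_left h
    have hP : finrank K (LinearMap.ker (a - 1)) < n := by
      rw [← hn]; exact Submodule.finrank_lt hPtop
    have hQ : finrank K (LinearMap.ker (a + 1)) < n := by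
      rw [← hn]; exact Submodule.finrank_lt hQtop
    have hmapP : ∀ s ∈ S, ∀ v ∈ LinearMap.ker (a - 1), s v ∈ LinearMap.ker (a - 1) := by
      intro s hs v hv
      rw [LinearMap.mem_ker] at hv ⊢
      have e1 : a v = v := by
        have : a v - v = 0 := by simpa using hv
        exact sub_eq_zero.mp this
      have hcomm : a (s v) = s (a v) := by
        have := congrArg (fun f => f v) (hc a haS s hs)
        simpa using this
      simp [hcomm, e1]
    have hmapQ : ∀ s ∈ S, ∀ v ∈ LinearMap.ker (a + 1), s v ∈ LinearMap.ker (a + 1) := by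
      intro s hs v hv
      rw [LinearMap.mem_ker] at hv ⊢
      have e1 : a v = -v := by
        have : a v + v = 0 := by simpa using hv
        exact eq_neg_of_add_eq_zero_left this
      have hcomm : a (s v) = s (a v) := by
        have := congrArg (fun f => f v) (hc a haS s hs)
        simpa using this
      simp [hcomm, e1]
    let SP : Set (End K (LinearMap.ker (a - 1))) :=
      {t | ∃ s, ∃ hs : s ∈ S, t = s.restrict (hmapP s hs)}
    let SQ : Set (End K (LinearMap.ker (a + 1))) :=
      {t | ∃ s, ∃ hs : s ∈ S, t = s.restrict (hmapQ s hs)}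
    have hSPc : ∀ x ∈ SP, ∀ y ∈ SP, x * y = y * x := by
      rintro x ⟨s, hs, rfl⟩ y ⟨t, ht, rfl⟩
      ext v
      have := congrArg (fun f => f (v : V)) (hc s hs t ht)
      simpa using this
    have hSQc : ∀ x ∈ SQ, ∀ y ∈ SQ, x * y = y * x := by
      rintro x ⟨s, hs, rfl⟩ y ⟨t, ht, rfl⟩
      ext v
      have := congrArg (fun f => f (v : V)) (hc s hs t ht)
      simpa using this
    have hSPi : ∀ x ∈ SP, x * x = 1 := by
      rintro x ⟨s, hs, rfl⟩
      ext v
      have := congrArg (fun f => f (v : V)) (hi s hs)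
      simpa using this
    have hSQi : ∀ x ∈ SQ, x * x = 1 := by
      rintro x ⟨s, hs, rfl⟩
      ext v
      have := congrArg (fun f => f (v : V)) (hi s hs)
      simpa using this
    obtain ⟨ι₁, _, b₁, hb₁⟩ := ih _ hP SP hSPc hSPi rfl
    obtain ⟨ι₂, _, b₂, hb₂⟩ := ih _ hQ SQ hSQc hSQi rfl
    refine ⟨ι₁ ⊕ ι₂, inferInstance,
      (b₁.prod b₂).map (Submodule.prodEquivOfIsCompl _ _ hPQ), ?_⟩
    intro s hs i
    rcases i with i | i
    · have := hb₁ _ ⟨s, hs, rfl⟩ i
      rcases this with h | h
      · left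
        have := congrArg Subtype.val h
        simpa using this
      · right
        have := congrArg Subtype.val h
        simpa using this
    · have := hb₂ _ ⟨s, hs, rfl⟩ i
      rcases this with h | h
      · left
        have := congrArg Subtype.val h
        simpa using this
      · right
        have := congrArg Subtype.val h
        simpa using this

theorem exists_eigenbasis_matrices {F : Type*} [Field F] (h2 : (2 : F) ≠ 0) {n : Type*} [Fintype n]
    [DecidableEq n] (A : Set (Matrix n n F)) (hc : ∀ a ∈ A, ∀ b ∈ A, a * b = b * a)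
    (hi : ∀ a ∈ A, a * a = 1) :
    ∃ (ι : Type) (_ : Fintype ι) (b : Basis ι F (n → F)), Fintype.card ι = Fintype.card n ∧
      ∀ a ∈ A, ∀ i, a *ᵥ b i = b i ∨ a *ᵥ b i = - b i := by
  obtain ⟨ι, hι, b, hb⟩ := simDiag h2 (Matrix.toLin' '' A)
    (by
      rintro _ ⟨a, ha, rfl⟩ _ ⟨b, hb, rfl⟩
      rw [Module.End.mul_eq_comp, Module.End.mul_eq_comp, ← Matrix.toLin'_mul, ← Matrix.toLin'_mul,
        hc a ha b hb])
    (by
      rintro _ ⟨a, ha, rfl⟩
      rw [Module.End.mul_eq_comp, ← Matrix.toLin'_mul, hi a ha, Matrix.toLin'_one]; rfl)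
  refine ⟨ι, hι, b, ?_, ?_⟩
  · rw [← Module.finrank_eq_card_basis b, Module.finrank_fintype_fun_eq_card]
  · intro a ha i
    have := hb _ ⟨a, ha, rfl⟩ i
    simpa [Matrix.toLin'_apply] using this

/-- sign of the eigenvalue of `M` on the basis vector `b i` -/
noncomputable def sgn {F : Type*} [Field F] {n ι : Type*} [Fintype n] (b : Basis ι F (n → F))
    (M : Matrix n n F) (i : ι) : ℤˣ :=
  haveI := Classical.dec (M *ᵥ b i = b i)
  if M *ᵥ b i = b i then 1 else -1

theorem mulVec_eq_sgn {F : Type*} [Field F] {n ι : Type*} [Fintype n] (b : Basis ι F (n → F))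
    (M : Matrix n n F) (i : ι) (h : M *ᵥ b i = b i ∨ M *ᵥ b i = - b i) :
    M *ᵥ b i = (((sgn b M i : ℤˣ) : ℤ) : F) • b i := by
  unfold sgn
  split_ifs with h1
  · simp [h1]
  · rcases h with h | h
    · exact absurd h h1
    · simp [h]

theorem eq_of_sgn_eq {F : Type*} [Field F] {n ι : Type*} [Fintype n] [DecidableEq n]
    (b : Basis ι F (n → F))
    (M M' : Matrix n n F) (h : ∀ i, M *ᵥ b i = b i ∨ M *ᵥ b i = - b i)
    (h' : ∀ i, M' *ᵥ b i = b i ∨ M' *ᵥ b i = - b i) (hs : sgn b M = sgn b M') : M = M' := by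
  apply Matrix.toLin'.injective
  apply b.ext
  intro i
  rw [Matrix.toLin'_apply, Matrix.toLin'_apply, mulVec_eq_sgn b M i (h i),
    mulVec_eq_sgn b M' i (h' i), hs]

theorem det_eq_prod_sgn {F : Type*} [Field F] {n ι : Type*} [Fintype n] [DecidableEq n]
    [Fintype ι] [DecidableEq ι] (b : Basis ι F (n → F))
    (M : Matrix n n F) (h : ∀ i, M *ᵥ b i = b i ∨ M *ᵥ b i = - b i) :
    M.det = ∏ i, (((sgn b M i : ℤˣ) : ℤ) : F) := by
  rw [← LinearMap.det_toLin', ← LinearMap.det_toMatrix b]
  have : LinearMap.toMatrix b b (Matrix.toLin' M) =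
      Matrix.diagonal (fun i => (((sgn b M i : ℤˣ) : ℤ) : F)) := by
    ext i j
    rw [LinearMap.toMatrix_apply, Matrix.toLin'_apply, mulVec_eq_sgn b M j (h j)]
    simp [Matrix.diagonal_apply, Finsupp.single_apply]
    split_ifs with h1 h2 h3 <;> simp_all
  rw [this, Matrix.det_diagonal]

/-- the product homomorphism on sign vectors -/
def prodHom (ι : Type*) [Fintype ι] : (ι → ℤˣ) →* ℤˣ where
  toFun ε := ∏ i, ε i
  map_one' := by simp
  map_mul' a b := by simp [Finset.prod_mul_distrib]

theorem prodHom_surjective (ι : Type*) [Fintype ι] [Nonempty ι] :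
    Function.Surjective (prodHom ι) := by
  classical
  intro u
  obtain ⟨i₀⟩ := ‹Nonempty ι›
  refine ⟨Function.update 1 i₀ u, ?_⟩
  show ∏ i, (Function.update (1 : ι → ℤˣ) i₀ u) i = u
  rw [Finset.prod_eq_single i₀]
  · simp
  · intro j _ hj
    simp [Function.update_of_ne hj]
  · intro h; exact absurd (Finset.mem_univ _) h

theorem card_ker_prodHom (ι : Type*) [Fintype ι] [Nonempty ι] :
    Nat.card (prodHom ι).ker * 2 = 2 ^ Fintype.card ι := by
  classical
  have h1 := Subgroup.card_mul_index (prodHom ι).ker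
  rw [Subgroup.index_ker, MonoidHom.range_eq_top.mpr (prodHom_surjective ι)] at h1
  rw [Subgroup.card_top] at h1
  have h2 : Nat.card ℤˣ = 2 := by
    rw [Nat.card_eq_fintype_card, Fintype.card_units_int]
  have h3 : Nat.card (ι → ℤˣ) = 2 ^ Fintype.card ι := by
    rw [Nat.card_eq_fintype_card, Fintype.card_fun, Fintype.card_units_int]
  rw [h2, h3] at h1
  exact h1

theorem two_ne_zero_of_odd_card {F : Type*} [Field F] [Fintype F] (hF : Odd (Fintype.card F)) :
    (2 : F) ≠ 0 := by
  intro h
  have h2 : ringChar F ∣ 2 := by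
    have := (CharP.cast_eq_zero_iff F (ringChar F) 2).mp (by exact_mod_cast h)
    exact this
  have hp : (ringChar F).Prime := CharP.char_is_prime F (ringChar F)
  have h3 : ringChar F = 2 := (Nat.prime_dvd_prime_iff_eq hp Nat.prime_two).mp h2
  have := FiniteField.even_card_of_char_two h3
  rw [Nat.odd_iff] at hF
  omega

end Cfsg.Agent.Lib.Helper37
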