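import Cfsg.Agent.Lib.Helper37.SimIndex
import Cfsg.Agent.Lib.Helper37.DihedralKlein

set_option autoImplicit false
set_option linter.unusedSectionVars false
set_option linter.unusedVariables false

namespace Cfsg.Agent.Lib.Helper37

open Matrix Module IsGram

universe u

variable {κ : Type} [Fintype κ] [DecidableEq κ] {F : Type u} [Field F] [Fintype F] [DecidableEq F]
  {Q : (κ → F) → F} {G : Matrix κ κ F}

/-- the similarities inducing inner automorphisms of `PΩ` -/
def innPre (Q : (κ → F) → F) : Subgroup ↥(Cfsg.Geo.quadSimilarityGroup (F := F) Q) :=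
  (Cfsg.Inn (Cfsg.POmega F Q)).comap (Phi Q)

instance innPre_normal (Q : (κ → F) → F) : (innPre Q).Normal :=
  Subgroup.Normal.comap (Cfsg.innNormal _) _

theorem mem_innPre_iff (h : IsGram Q G) (hne : ∃ v, Q v ≠ 0)
    (hker : ∀ g : ↥(Cfsg.Geo.quadSimilarityGroup (F := F) Q),
      Phi Q g = 1 ↔ ∃ c : F, ((g.1 : GL κ F) : Matrix κ κ F) = c • (1 : Matrix κ κ F))
    (g : ↥(Cfsg.Geo.quadSimilarityGroup (F := F) Q)) :
    g ∈ innPre Q ↔ ∃ (c : Fˣ) (s : ↥(Cfsg.isometryGroup F Q)), s ∈ Cfsg.Omega F Q ∧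
      g = scalarGO h c * isoGO Q s := by
  unfold innPre
  rw [Subgroup.mem_comap, mem_inn_iff]
  constructor
  · rintro ⟨s, hs, hgs⟩
    obtain ⟨c, hc⟩ := Phi_eq_imp h hne hker _ _ hgs
    exact ⟨c, s, hs, hc⟩
  · rintro ⟨c, s, hs, rfl⟩
    refine ⟨s, hs, ?_⟩
    rw [map_mul, Phi_scalarGO h hker, one_mul]

/-- the image of the conformal group modulo the inner automorphisms is dihedral of order eight
when `-1 ∈ Ω` -/
theorem pgo_mod_inn_dihedral (h : IsGram Q G) (hdet : G.det ≠ 0) {N : ℕ}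
    (hN : Fintype.card κ = 2 * N) (hn : 2 ≤ Fintype.card κ)
    (hker : ∀ g : ↥(Cfsg.Geo.quadSimilarityGroup (F := F) Q),
      Phi Q g = 1 ↔ ∃ c : F, ((g.1 : GL κ F) : Matrix κ κ F) = c • (1 : Matrix κ κ F))
    (d : ↥(Cfsg.Geo.quadSimilarityGroup (F := F) Q)) (hd : ¬ IsSquare (simMult Q d : F))
    (hneg : h.negO ∈ Cfsg.Omega F Q) :
    ∃ φ : ↥(Cfsg.pgoAut F Q) →* DihedralGroup 4, Function.Surjective φ ∧
      φ.ker = (Cfsg.Inn (Cfsg.POmega F Q)).subgroupOf (Cfsg.pgoAut F Q) := by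
  have hne := exists_Q_eq_one h hdet hn
  obtain ⟨α, hα⟩ := FiniteField.exists_nonsquare (ringChar_ne_two_of_two_ne_zero h.two_ne) (F := F)
  have hΩ : ∀ k : ↥(Cfsg.isometryGroup F Q), k ∈ Cfsg.Omega F Q ↔ signPair Q α k = 1 := by
    intro k
    rw [← h.ker_signPair hdet α hα, MonoidHom.mem_ker]
  have hisoN : ∀ k : ↥(Cfsg.isometryGroup F Q), isoGO Q k ∈ innPre Q ↔ signPair Q α k = 1 := by
    intro k
    unfold innPre
    rw [Subgroup.mem_comap, Phi_iso_mem_inn_iff h hne hker, ← hΩ]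
    constructor
    · rintro (hk | hk)
      · exact hk
      · have := Subgroup.mul_mem _ hneg hk
        rwa [← mul_assoc, negO_mul_self, one_mul] at this
    · intro hk
      exact Or.inl hk
  have hNa : innPre Q ≤ (simA hne).ker := by
    intro g hg
    obtain ⟨c, s, -, rfl⟩ := (mem_innPre_iff h hne hker g).1 hg
    rw [MonoidHom.mem_ker, map_mul, simA_scalarGO h hne, simA_isoGO hne, one_mul]
  have hmkiso : ∀ k k' : ↥(Cfsg.isometryGroup F Q), signPair Q α k = signPair Q α k' →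
      (QuotientGroup.mk (isoGO Q k) : ↥(Cfsg.Geo.quadSimilarityGroup (F := F) Q) ⧸ innPre Q) =
        QuotientGroup.mk (isoGO Q k') := by
    intro k k' hkk
    rw [QuotientGroup.eq, ← map_inv, ← map_mul, hisoN, map_mul, map_inv, hkk, inv_mul_cancel]
  have hmkscalar : ∀ c : Fˣ,
      (QuotientGroup.mk (scalarGO h c) : ↥(Cfsg.Geo.quadSimilarityGroup (F := F) Q) ⧸ innPre Q)
        = 1 := by
    intro c
    rw [QuotientGroup.eq_one_iff, mem_innPre_iff h hne hker]
    exact ⟨c, 1, Subgroup.one_mem _, by rw [map_one, mul_one]⟩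
  -- the two reflections
  obtain ⟨v₁, hv₁⟩ := h.universal hdet hn 1
  have hv₁0 : Q v₁ ≠ 0 := by rw [hv₁]; exact one_ne_zero
  have hv₂0 : Q ((d.1 : Matrix κ κ F) *ᵥ v₁) ≠ 0 := IsGram.Q_sim_ne_zero d v₁ hv₁0
  have hv₂ : ¬ IsSquare (Q ((d.1 : Matrix κ κ F) *ᵥ v₁)) := by
    rw [simMult_spec Q, hv₁, mul_one]
    exact hd
  have e1 : signPair Q α (h.reflG v₁ hv₁0) = (-1, 1) :=
    (h.signPair_reflG v₁ hv₁0 α hα).1 (by rw [hv₁]; exact ⟨1, by ring⟩)
  have e2 : signPair Q α (h.reflG _ hv₂0) = (1, -1) :=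
    (h.signPair_reflG _ hv₂0 α hα).2 hv₂
  have hconj := h.conj_reflG_sim d v₁ hv₁0
  obtain ⟨E⟩ := dihedral_of_klein_swap
    (QuotientGroup.lift (innPre Q) (simA hne) hNa)
    (QuotientGroup.mk (isoGO Q (h.reflG v₁ hv₁0)))
    (QuotientGroup.mk d)
    (by
      rw [← QuotientGroup.mk_mul, ← map_mul, h.reflG_mul_self, map_one]
      rfl)
    (by
      rw [← QuotientGroup.mk_inv, ← QuotientGroup.mk_mul, ← QuotientGroup.mk_mul, hconj,
        ← QuotientGroup.mk_mul, ← QuotientGroup.mk_mul, ← map_mul, ← map_mul]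
      apply hmkiso
      rw [map_mul, map_mul, mul_comm])
    (by
      rw [QuotientGroup.lift_mk]
      exact simA_isoGO hne _)
    (by
      rw [QuotientGroup.lift_mk]
      exact (simA_eq_neg_one_iff hne d).2 hd)
    (by
      rw [← QuotientGroup.mk_inv, ← QuotientGroup.mk_mul, ← QuotientGroup.mk_mul, hconj]
      intro heq
      rw [QuotientGroup.eq, ← map_inv, ← map_mul, hisoN, map_mul, map_inv, e1, e2] at heq
      exact absurd heq (by decide))
    (by
      intro g
      induction g using QuotientGroup.induction_on with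
      | H g =>
        intro hg
        rw [QuotientGroup.lift_mk] at hg
        obtain ⟨c, k, rfl⟩ := exists_of_simA_eq_one h hne g hg
        rw [← QuotientGroup.mk_inv, ← QuotientGroup.mk_mul, ← QuotientGroup.mk_mul, hconj,
          ← QuotientGroup.mk_mul, ← map_mul, QuotientGroup.mk_mul, hmkscalar, one_mul]
        have hk4 : signPair Q α k = 1 ∨ signPair Q α k = (-1, 1) ∨ signPair Q α k = (1, -1) ∨
            signPair Q α k = (-1, -1) := by
          generalize signPair Q α k = p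
          revert p
          decide
        rcases hk4 with h1 | h1 | h1 | h1
        · left
          rw [QuotientGroup.eq_one_iff, hisoN]
          exact h1
        · right; left
          apply hmkiso
          rw [h1, e1]
        · right; right; left
          apply hmkiso
          rw [h1, e2]
        · right; right; right
          apply hmkiso
          rw [h1, map_mul, e1, e2]
          rfl)
  have hψs : Function.Surjective
      (E.symm.toMonoidHom.comp (QuotientGroup.mk' (innPre Q))) :=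
    E.symm.surjective.comp (QuotientGroup.mk'_surjective (innPre Q))
  have hψk : (E.symm.toMonoidHom.comp (QuotientGroup.mk' (innPre Q))).ker = innPre Q := by
    ext g
    rw [MonoidHom.mem_ker, MonoidHom.comp_apply]
    rw [show E.symm.toMonoidHom (QuotientGroup.mk' (innPre Q) g) = 1 ↔
      QuotientGroup.mk' (innPre Q) g = 1 from E.symm.map_eq_one_iff]
    exact QuotientGroup.eq_one_iff g
  have hΦker : (Phi Q).ker ≤ (E.symm.toMonoidHom.comp (QuotientGroup.mk' (innPre Q))).ker := by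
    rw [hψk]
    intro g hg
    rw [MonoidHom.mem_ker] at hg
    unfold innPre
    rw [Subgroup.mem_comap, hg]
    exact Subgroup.one_mem _
  obtain ⟨φ, hφs, hφk⟩ := transfer_hom (Phi Q) _ hψs hΦker
  rw [hψk] at hφk
  unfold innPre at hφk
  rw [Subgroup.map_comap_eq, Subgroup.inf_subgroupOf_left] at hφk
  have key : ∀ R : Subgroup (MulAut (Cfsg.POmega F Q)), R = (Phi Q).range →
      ∃ φ : ↥R →* DihedralGroup 4, Function.Surjective φ ∧
        φ.ker = (Cfsg.Inn (Cfsg.POmega F Q)).subgroupOf R := by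
    rintro R rfl
    exact ⟨φ, hφs, hφk⟩
  exact key _ (pgoAut_eq Q)

theorem negOne_iff (h : IsGram Q G) :
    (∃ g : ↥(Cfsg.isometryGroup F Q), g ∈ Cfsg.Omega F Q ∧
      ((g : GL κ F) : Matrix κ κ F) = -1) ↔ h.negO ∈ Cfsg.Omega F Q := by
  constructor
  · rintro ⟨g, hg, hg1⟩
    have : g = h.negO := by
      apply toMat_injective
      rw [h.toMat_negO]
      exact hg1
    rw [← this]; exact hg
  · intro hneg
    exact ⟨h.negO, hneg, h.toMat_negO⟩

theorem inn_le_psoAut (h : IsGram Q G) (hdet : G.det ≠ 0) :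
    Cfsg.Inn (Cfsg.POmega F Q) ≤ Cfsg.psoAut F Q := by
  obtain ⟨α, hα⟩ := FiniteField.exists_nonsquare (ringChar_ne_two_of_two_ne_zero h.two_ne) (F := F)
  intro β hβ
  obtain ⟨s, hs, rfl⟩ := (mem_inn_iff β).1 hβ
  rw [mem_psoAut_iff]
  refine ⟨s, ?_, rfl⟩
  rw [← h.signChar_mul_eq_one_iff hdet α hα, signChar_eq_one_of_mem_omega Q 1 s hs,
    signChar_eq_one_of_mem_omega Q α s hs, one_mul]

/-- the image of the conformal group modulo the inner automorphisms -/
theorem pgo_mod_inn (h : IsGram Q G) (hdet : G.det ≠ 0) {N : ℕ}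
    (hN : Fintype.card κ = 2 * N) (hn : 2 ≤ Fintype.card κ)
    (hker : ∀ g : ↥(Cfsg.Geo.quadSimilarityGroup (F := F) Q),
      Phi Q g = 1 ↔ ∃ c : F, ((g.1 : GL κ F) : Matrix κ κ F) = c • (1 : Matrix κ κ F))
    (d : ↥(Cfsg.Geo.quadSimilarityGroup (F := F) Q)) (hd : ¬ IsSquare (simMult Q d : F)) :
    ((∃ g : ↥(Cfsg.isometryGroup F Q), g ∈ Cfsg.Omega F Q ∧
        ((g : GL κ F) : Matrix κ κ F) = -1) →
      ∃ φ : ↥(Cfsg.pgoAut F Q) →* DihedralGroup 4, Function.Surjective φ ∧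
        φ.ker = (Cfsg.Inn (Cfsg.POmega F Q)).subgroupOf (Cfsg.pgoAut F Q)) ∧
    ((¬ ∃ g : ↥(Cfsg.isometryGroup F Q), g ∈ Cfsg.Omega F Q ∧
        ((g : GL κ F) : Matrix κ κ F) = -1) →
      ∃ φ : ↥(Cfsg.pgoAut F Q) →* Multiplicative (ZMod 2 × ZMod 2), Function.Surjective φ ∧
        φ.ker = (Cfsg.Inn (Cfsg.POmega F Q)).subgroupOf (Cfsg.pgoAut F Q)) := by
  constructor
  · intro hneg
    exact pgo_mod_inn_dihedral h hdet hN hn hker d hd ((negOne_iff h).1 hneg)
  · intro hneg
    have h1 := (inn_relIndex_pso h hdet hN hn hker).2 hneg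
    rw [Subgroup.relIndex_eq_one] at h1
    have heq : Cfsg.Inn (Cfsg.POmega F Q) = Cfsg.psoAut F Q :=
      le_antisymm (inn_le_psoAut h hdet) h1
    rw [heq]
    exact pgo_mod_pso h hdet hN hn hker d hd

end Cfsg.Agent.Lib.Helper37
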