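import Cfsg.Agent.Lib.Helper37.SimGroup

set_option autoImplicit false
set_option linter.unusedSectionVars false
set_option linter.unusedVariables false

namespace Cfsg.Agent.Lib.Helper37

open Matrix Module IsGram

universe u

variable {κ : Type} [Fintype κ] [DecidableEq κ] {F : Type u} [Field F] [Fintype F] [DecidableEq F]
  {Q : (κ → F) → F} {G : Matrix κ κ F}

theorem Phi_eq_imp (h : IsGram Q G) (hne : ∃ v, Q v ≠ 0)
    (hker : ∀ g : ↥(Cfsg.Geo.quadSimilarityGroup (F := F) Q),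
      Phi Q g = 1 ↔ ∃ c : F, ((g.1 : GL κ F) : Matrix κ κ F) = c • (1 : Matrix κ κ F))
    (g g' : ↥(Cfsg.Geo.quadSimilarityGroup (F := F) Q)) (hgg : Phi Q g = Phi Q g') :
    ∃ c : Fˣ, g = scalarGO h c * g' := by
  have h1 : Phi Q (g * g'⁻¹) = 1 := by
    rw [map_mul, map_inv, hgg, mul_inv_cancel]
  obtain ⟨c, hc⟩ := (hker _).1 h1
  obtain ⟨c', -, hc'⟩ := eq_scalarGO_of_val h hne _ c hc
  refine ⟨c', ?_⟩
  rw [← hc']
  group

theorem isoGO_injective : Function.Injective (isoGO Q) := by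
  intro a b hab
  apply Subtype.ext
  have := congrArg (fun x : ↥(Cfsg.Geo.quadSimilarityGroup (F := F) Q) => (x.1 : GL κ F)) hab
  exact this

theorem scalarGO_one (h : IsGram Q G) : scalarGO h (1 : Fˣ) = 1 := by
  apply Subtype.ext
  apply Units.ext
  rw [scalarGO_val, Units.val_one, one_smul]
  rfl

theorem scalarGO_neg_one (h : IsGram Q G) : scalarGO h (-1 : Fˣ) = isoGO Q h.negO := by
  apply Subtype.ext
  apply Units.ext
  rw [scalarGO_val, Units.val_neg, Units.val_one, neg_smul, one_smul]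
  exact h.toMat_negO.symm

theorem negO_mul_self (h : IsGram Q G) : h.negO * h.negO = 1 := by
  apply toMat_injective
  rw [map_mul, h.toMat_negO, map_one]
  simp

theorem scalar_iso_cases (h : IsGram Q G) (hne : ∃ v, Q v ≠ 0) (c : Fˣ)
    (k k' : ↥(Cfsg.isometryGroup F Q)) (hk : isoGO Q k = scalarGO h c * isoGO Q k') :
    k = k' ∨ k = h.negO * k' := by
  have h1 := congrArg (simMult Q) hk
  have h2 : simMult Q (scalarGO h c * isoGO Q k') = simMult Q (scalarGO h c) *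
      simMult Q (isoGO Q k') := (simMultHom hne).map_mul _ _
  rw [h2, simMult_isoGO hne, simMult_isoGO hne, simMult_scalarGO h hne, mul_one] at h1
  have h3 : (c : F) * (c : F) = 1 := by
    have := congrArg Units.val h1
    rw [Units.val_mul, Units.val_one] at this
    exact this.symm
  rcases mul_self_eq_one_iff.1 h3 with h4 | h4
  · left
    have : c = 1 := Units.ext h4
    rw [this, scalarGO_one, one_mul] at hk
    exact isoGO_injective hk
  · right
    have : c = -1 := Units.ext (by rw [h4, Units.val_neg, Units.val_one])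
    rw [this, scalarGO_neg_one, ← map_mul] at hk
    exact isoGO_injective hk

theorem mem_inn_iff (β : MulAut (Cfsg.POmega F Q)) :
    β ∈ Cfsg.Inn (Cfsg.POmega F Q) ↔
      ∃ s : ↥(Cfsg.isometryGroup F Q), s ∈ Cfsg.Omega F Q ∧ β = Phi Q (isoGO Q s) := by
  rw [inn_eq]
  constructor
  · rintro ⟨g, hg, rfl⟩
    rw [SetLike.mem_coe, Subgroup.mem_subgroupOf, mem_omegaGL_iff] at hg
    obtain ⟨s, hs⟩ := hg
    refine ⟨s.1, s.2, ?_⟩
    congr 1
    apply Subtype.ext
    exact hs.symm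
  · rintro ⟨s, hs, rfl⟩
    refine ⟨isoGO Q s, ?_, rfl⟩
    rw [SetLike.mem_coe, Subgroup.mem_subgroupOf, mem_omegaGL_iff]
    exact ⟨⟨s, hs⟩, rfl⟩

theorem mem_psoAut_iff (β : MulAut (Cfsg.POmega F Q)) :
    β ∈ Cfsg.psoAut F Q ↔
      ∃ k : ↥(Cfsg.isometryGroup F Q), (toMat Q k).det = 1 ∧ β = Phi Q (isoGO Q k) := by
  rw [psoAut_eq]
  constructor
  · rintro ⟨g, hg, rfl⟩
    obtain ⟨k, hk, rfl⟩ := (mem_SO_iff g).1 hg
    exact ⟨k, hk, rfl⟩
  · rintro ⟨k, hk, rfl⟩
    exact ⟨isoGO Q k, (isoGO_mem_SO_iff k).2 hk, rfl⟩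

theorem Phi_iso_mem_inn_iff (h : IsGram Q G) (hne : ∃ v, Q v ≠ 0)
    (hker : ∀ g : ↥(Cfsg.Geo.quadSimilarityGroup (F := F) Q),
      Phi Q g = 1 ↔ ∃ c : F, ((g.1 : GL κ F) : Matrix κ κ F) = c • (1 : Matrix κ κ F))
    (k : ↥(Cfsg.isometryGroup F Q)) :
    Phi Q (isoGO Q k) ∈ Cfsg.Inn (Cfsg.POmega F Q) ↔
      (k ∈ Cfsg.Omega F Q ∨ h.negO * k ∈ Cfsg.Omega F Q) := by
  rw [mem_inn_iff]
  constructor
  · rintro ⟨s, hs, hks⟩
    obtain ⟨c, hc⟩ := Phi_eq_imp h hne hker _ _ hks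
    rcases scalar_iso_cases h hne c k s hc with h1 | h1
    · left; rw [h1]; exact hs
    · right
      rw [h1, ← mul_assoc, negO_mul_self, one_mul]
      exact hs
  · rintro (hk | hk)
    · exact ⟨k, hk, rfl⟩
    · refine ⟨h.negO * k, hk, ?_⟩
      rw [map_mul, map_mul, ← scalarGO_neg_one, Phi_scalarGO h hker, one_mul]

/-- the index of the inner automorphisms in the image of the special orthogonal group -/
theorem inn_relIndex_pso (h : IsGram Q G) (hdet : G.det ≠ 0) {N : ℕ}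
    (hN : Fintype.card κ = 2 * N) (hn : 2 ≤ Fintype.card κ)
    (hker : ∀ g : ↥(Cfsg.Geo.quadSimilarityGroup (F := F) Q),
      Phi Q g = 1 ↔ ∃ c : F, ((g.1 : GL κ F) : Matrix κ κ F) = c • (1 : Matrix κ κ F)) :
    ((∃ g : ↥(Cfsg.isometryGroup F Q), g ∈ Cfsg.Omega F Q ∧
        ((g : GL κ F) : Matrix κ κ F) = -1) →
      (Cfsg.Inn (Cfsg.POmega F Q)).relIndex (Cfsg.psoAut F Q) = 2) ∧
    ((¬ ∃ g : ↥(Cfsg.isometryGroup F Q), g ∈ Cfsg.Omega F Q ∧
        ((g : GL κ F) : Matrix κ κ F) = -1) →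
      (Cfsg.Inn (Cfsg.POmega F Q)).relIndex (Cfsg.psoAut F Q) = 1) := by
  have hne := exists_Q_eq_one h hdet hn
  obtain ⟨α, hα⟩ := FiniteField.exists_nonsquare (ringChar_ne_two_of_two_ne_zero h.two_ne) (F := F)
  have hΩ : ∀ k : ↥(Cfsg.isometryGroup F Q), k ∈ Cfsg.Omega F Q ↔ signPair Q α k = 1 := by
    intro k
    rw [← h.ker_signPair hdet α hα, MonoidHom.mem_ker]
  have hiff : (∃ g : ↥(Cfsg.isometryGroup F Q), g ∈ Cfsg.Omega F Q ∧
      ((g : GL κ F) : Matrix κ κ F) = -1) ↔ h.negO ∈ Cfsg.Omega F Q := by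
    constructor
    · rintro ⟨g, hg, hg1⟩
      have : g = h.negO := by
        apply toMat_injective
        rw [h.toMat_negO]
        exact hg1
      rw [← this]; exact hg
    · intro hneg
      exact ⟨h.negO, hneg, h.toMat_negO⟩
  rw [hiff]
  constructor
  · intro hneg
    obtain ⟨v₁, hv₁⟩ := h.universal hdet hn 1
    obtain ⟨v₂, hv₂⟩ := h.universal hdet hn α
    have hα0 : α ≠ 0 := by
      rintro rfl
      exact hα ⟨0, by simp⟩
    have hv₁0 : Q v₁ ≠ 0 := by rw [hv₁]; exact one_ne_zero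
    have hv₂0 : Q v₂ ≠ 0 := by rw [hv₂]; exact hα0
    have e1 : signPair Q α (h.reflG v₁ hv₁0) = (-1, 1) :=
      (h.signPair_reflG v₁ hv₁0 α hα).1 (by rw [hv₁]; exact ⟨1, by ring⟩)
    have e2 : signPair Q α (h.reflG v₂ hv₂0) = (1, -1) :=
      (h.signPair_reflG v₂ hv₂0 α hα).2 (by rw [hv₂]; exact hα)
    have e12 : signPair Q α (h.reflG v₁ hv₁0 * h.reflG v₂ hv₂0) = (-1, -1) := by
      rw [map_mul, e1, e2]; rfl
    have hd12 : (toMat Q (h.reflG v₁ hv₁0 * h.reflG v₂ hv₂0)).det = 1 := by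
      rw [map_mul, Matrix.det_mul, toMat_apply, toMat_apply, h.reflG_val, h.reflG_val,
        h.det_refl v₁ hv₁0, h.det_refl v₂ hv₂0]
      norm_num
    have hinn : ∀ k : ↥(Cfsg.isometryGroup F Q),
        Phi Q (isoGO Q k) ∈ Cfsg.Inn (Cfsg.POmega F Q) ↔ signPair Q α k = 1 := by
      intro k
      rw [Phi_iso_mem_inn_iff h hne hker, ← hΩ]
      constructor
      · rintro (hk | hk)
        · exact hk
        · have := Subgroup.mul_mem _ hneg hk
          rwa [← mul_assoc, negO_mul_self, one_mul] at this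
      · intro hk
        exact Or.inl hk
    rw [Subgroup.relIndex_eq_two_iff]
    refine ⟨Phi Q (isoGO Q (h.reflG v₁ hv₁0 * h.reflG v₂ hv₂0)),
      (mem_psoAut_iff _).2 ⟨_, hd12, rfl⟩, ?_⟩
    intro b hb
    obtain ⟨k, hk, rfl⟩ := (mem_psoAut_iff b).1 hb
    rw [← map_mul, ← map_mul, hinn, hinn, map_mul, e12]
    rcases h.signPair_of_det_one hdet α hα k hk with h1 | h1
    · rw [h1]
      right
      exact ⟨rfl, by decide⟩
    · rw [h1]
      left
      exact ⟨by decide, by decide⟩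
  · intro hneg
    rw [Subgroup.relIndex_eq_one]
    intro β hβ
    obtain ⟨k, hk, rfl⟩ := (mem_psoAut_iff β).1 hβ
    rw [Phi_iso_mem_inn_iff h hne hker, hΩ, hΩ, map_mul]
    have hnegpair : signPair Q α h.negO = (-1, -1) := by
      rcases h.signPair_of_det_one hdet α hα h.negO (h.det_negO hN) with h1 | h1
      · exact absurd ((hΩ _).2 h1) hneg
      · exact h1
    rw [hnegpair]
    rcases h.signPair_of_det_one hdet α hα k hk with h1 | h1
    · left; exact h1
    · right; rw [h1]; decide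

end Cfsg.Agent.Lib.Helper37
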