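import Mathlib
import Cfsg.Agent.Lib.Helper37.ParabolicMax
import Cfsg.Agent.Lib.Helper37.OrthPlus

/-! # 2-generation of `Ω⁺_{2k}(q)` (S2414 hive, helper37): definitions

`V = ⟨e1,f1,e2,f2⟩ ⊕ M ⊕ M'` with `M = iM (Fin n → F)`, `M' = iM' (Fin n → F)` totally singular
and in duality.  Generators: `x = E(f1,e2) * xs`, `y = E(e1, iM e_0) * z`, where `xs` is the
square of `1 ⊕ (A on M) ⊕ (A' on M')` (`A` a Singer cycle) and `z` a small element of order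
prime to the characteristic. -/

set_option autoImplicit false

namespace Cfsg.Agent.Lib.Helper37.TwoGen

open Matrix Module QuadraticMap
open Cfsg.Agent.Lib.Helper8 Cfsg.Agent.Lib.Helper13 Cfsg.Agent.Lib.Helper37

variable {ι : Type} [Fintype ι] [DecidableEq ι] {F : Type*} [Field F]

/-- every `A`-invariant additive subgroup containing a nonzero vector is everything -/
def SpanProp {n : ℕ} (A : Matrix (Fin n) (Fin n) F) : Prop :=
  ∀ S : AddSubgroup (Fin n → F), (∀ v ∈ S, A *ᵥ v ∈ S) → ∀ e ∈ S, e ≠ 0 → S = ⊤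

/-- abstract configuration `V = ⟨e1,f1,e2,f2⟩ ⊕ M ⊕ M'` -/
structure Cfg (Q : QuadraticForm F (ι → F)) (n : ℕ) where
  e1 : ι → F
  f1 : ι → F
  e2 : ι → F
  f2 : ι → F
  iM : (Fin n → F) →ₗ[F] (ι → F)
  iM' : (Fin n → F) →ₗ[F] (ι → F)
  qe1 : Q e1 = 0
  qf1 : Q f1 = 0
  qe2 : Q e2 = 0
  qf2 : Q f2 = 0
  qM : ∀ v, Q (iM v) = 0
  qM' : ∀ v, Q (iM' v) = 0
  e1f1 : polar ⇑Q e1 f1 = 1
  e2f2 : polar ⇑Q e2 f2 = 1
  e1e2 : polar ⇑Q e1 e2 = 0
  e1f2 : polar ⇑Q e1 f2 = 0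
  f1e2 : polar ⇑Q f1 e2 = 0
  f1f2 : polar ⇑Q f1 f2 = 0
  e1M : ∀ v, polar ⇑Q e1 (iM v) = 0
  f1M : ∀ v, polar ⇑Q f1 (iM v) = 0
  e2M : ∀ v, polar ⇑Q e2 (iM v) = 0
  f2M : ∀ v, polar ⇑Q f2 (iM v) = 0
  e1M' : ∀ v, polar ⇑Q e1 (iM' v) = 0
  f1M' : ∀ v, polar ⇑Q f1 (iM' v) = 0
  e2M' : ∀ v, polar ⇑Q e2 (iM' v) = 0
  f2M' : ∀ v, polar ⇑Q f2 (iM' v) = 0
  MM : ∀ v w, polar ⇑Q (iM v) (iM w) = 0
  M'M' : ∀ v w, polar ⇑Q (iM' v) (iM' w) = 0
  MM' : ∀ v w, polar ⇑Q (iM v) (iM' w) = v ⬝ᵥ w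
  span : ∀ x : ι → F, ∃ (a b c d : F) (v w : Fin n → F),
    x = a • e1 + b • f1 + c • e2 + d • f2 + iM v + iM' w

/-! ## the concrete configuration of `plusForm (n+2) F` -/

variable (F)

/-- the embedding `M = ⟨e_2, …, e_{n+1}⟩` (0-based indices) -/
def pM (n : ℕ) : (Fin n → F) →ₗ[F] (Fin (n + 2) ⊕ Fin (n + 2) → F) where
  toFun v := Sum.elim (Fin.cons 0 (Fin.cons 0 v)) 0
  map_add' v w := by
    funext s
    rcases s with i | i
    · refine Fin.cases ?_ (fun i => ?_) i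
      · simp
      · refine Fin.cases ?_ (fun j => ?_) i
        · simp
        · simp
    · simp
  map_smul' c v := by
    funext s
    rcases s with i | i
    · refine Fin.cases ?_ (fun i => ?_) i
      · simp
      · refine Fin.cases ?_ (fun j => ?_) i
        · simp
        · simp
    · simp

/-- the embedding `M' = ⟨f_2, …, f_{n+1}⟩` -/
def pM' (n : ℕ) : (Fin n → F) →ₗ[F] (Fin (n + 2) ⊕ Fin (n + 2) → F) where
  toFun v := Sum.elim 0 (Fin.cons 0 (Fin.cons 0 v))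
  map_add' v w := by
    funext s
    rcases s with i | i
    · simp
    · refine Fin.cases ?_ (fun i => ?_) i
      · simp
      · refine Fin.cases ?_ (fun j => ?_) i
        · simp
        · simp
  map_smul' c v := by
    funext s
    rcases s with i | i
    · simp
    · refine Fin.cases ?_ (fun i => ?_) i
      · simp
      · refine Fin.cases ?_ (fun j => ?_) i
        · simp
        · simp

/-- `e_0, f_0, e_1, f_1` (0-based) -/
def pe1 (n : ℕ) : Fin (n + 2) ⊕ Fin (n + 2) → F := Pi.single (Sum.inl 0) 1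
def pf1 (n : ℕ) : Fin (n + 2) ⊕ Fin (n + 2) → F := Pi.single (Sum.inr 0) 1
def pe2 (n : ℕ) : Fin (n + 2) ⊕ Fin (n + 2) → F := Pi.single (Sum.inl 1) 1
def pf2 (n : ℕ) : Fin (n + 2) ⊕ Fin (n + 2) → F := Pi.single (Sum.inr 1) 1

end Cfsg.Agent.Lib.Helper37.TwoGen
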