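import Mathlib
import Cfsg.Agent.Lib.Helper37.TwoGenDefs
import Cfsg.Agent.Lib.Helper78.OgCOPRIME

/-! # Tg hive (helper37, S2414 backup route): the two easy leaves TG-POW and TG-EPOW -/

set_option autoImplicit false

namespace Cfsg.Agent.Lib.Helper37.TwoGen

open Matrix Module QuadraticMap
open Cfsg.Agent.Lib.Helper8 Cfsg.Agent.Lib.Helper13 Cfsg.Agent.Lib.Helper37

section leaves
variable {F : Type*} [Field F]

/-- TG-POW: in a group, commuting elements of coprime orders are powers of their product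
(= helper78 `Og.mem_zpowers_of_coprime`). -/
theorem mem_zpowers_of_commute_coprime {G : Type*} [Group G] (a b : G) (hab : Commute a b)
    (m n : ℕ) (ha : a ^ m = 1) (hb : b ^ n = 1) (hmn : Nat.Coprime m n) :
    a ∈ Subgroup.zpowers (a * b) ∧ b ∈ Subgroup.zpowers (a * b) :=
  Cfsg.Agent.Lib.Helper67.Og.mem_zpowers_of_coprime a b hab m n ha hb hmn

/-- TG-EPOW: powers of an Eichler transformation. -/
theorem eichlerElt_pow {ι : Type} [Fintype ι] [DecidableEq ι] (Q : QuadraticForm F (ι → F))
    (hQ : (QuadraticMap.polarBilin Q).Nondegenerate) (u v : ι → F) (hu : Q u = 0)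
    (huv : polar ⇑Q u v = 0) (k : ℕ) :
    eichlerElt Q hQ u v hu huv ^ k
      = eichlerElt Q hQ u ((k : F) • v) hu (by rw [polar_smul_right, huv, smul_zero]) := by
  induction k with
  | zero =>
    rw [pow_zero]
    have h0 : ((0 : ℕ) : F) • v = 0 := by rw [Nat.cast_zero, zero_smul]
    rw [← eichlerElt_zero Q hQ u hu]
    exact eichlerElt_congr Q hQ _ _ _ _ _ _ _ _ rfl h0.symm
  | succ k ih =>
    have h3 : polar ⇑Q u ((k : F) • v) = 0 := by rw [polar_smul_right, huv, smul_zero]
    rw [pow_succ, ih, eichlerElt_mul Q hQ u ((k : F) • v) v hu h3 huv]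
    exact eichlerElt_congr Q hQ _ _ _ _ _ _ _ _ rfl (by rw [Nat.cast_succ, add_smul, one_smul])

end leaves

end Cfsg.Agent.Lib.Helper37.TwoGen
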