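import Mathlib
import Cfsg.Agent.Lib.Helper37.TwoGenDefs
import Cfsg.Agent.Lib.Helper40.SpGen3

/-! # Tg hive (helper37, S2414 backup route): leaf TG-SINGER -/

set_option autoImplicit false

namespace Cfsg.Agent.Lib.Helper37.TwoGen

open Matrix Module QuadraticMap
open Cfsg.Agent.Lib.Helper8 Cfsg.Agent.Lib.Helper13 Cfsg.Agent.Lib.Helper37

section leaves
variable {F : Type*} [Field F]

/-- a ring hom from a field kills no nonzero vector -/
theorem tgsinger_inj {E : Type*} [Field E] {n : ℕ} (ψ : E →+* Matrix (Fin n) (Fin n) F)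
    (x : E) (hx : x ≠ 0) (v : Fin n → F) (hv : ψ x *ᵥ v = 0) : v = 0 := by
  calc v = (ψ x⁻¹ * ψ x) *ᵥ v := by
        rw [← map_mul, inv_mul_cancel₀ hx, map_one, one_mulVec]
    _ = 0 := by rw [← mulVec_mulVec, hv, mulVec_zero]

/-- the abstract Singer spreading: squares of a generator still spread -/
theorem tgsinger_span [Fintype F] {E : Type*} [Field E] [Fintype E] {n : ℕ}
    (ψ : E →+* Matrix (Fin n) (Fin n) F) (hcard : Fintype.card E = Fintype.card F ^ n)
    (y : E) (hy : ∀ a : E, a ≠ 0 → ∃ i : ℕ, y ^ i = a) : SpanProp (ψ y ^ 2) := by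
  classical
  intro S hS e he he0
  have hinj : Function.Injective (fun x : E => ψ x *ᵥ e) := by
    intro x z hxz
    by_contra hne
    have h1 : ψ (x - z) *ᵥ e = 0 := by
      rw [map_sub, sub_mulVec]
      exact sub_eq_zero.2 hxz
    exact he0 (tgsinger_inj ψ (x - z) (sub_ne_zero.2 hne) e h1)
  have hbij : Function.Bijective (fun x : E => ψ x *ᵥ e) := by
    rw [Fintype.bijective_iff_injective_and_card]
    refine ⟨hinj, ?_⟩
    rw [hcard, Fintype.card_fun, Fintype.card_fin]
  have hsq : ∀ a : E, ψ a ^ 2 *ᵥ e ∈ S := by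
    intro a
    by_cases ha : a = 0
    · rw [ha, map_zero, zero_pow (by norm_num), zero_mulVec]
      exact S.zero_mem
    · obtain ⟨i, hi⟩ := hy a ha
      rw [← hi, map_pow, ← pow_mul, mul_comm, pow_mul]
      exact Cfsg.Agent.Lib.Helper40.SpGen.orbit_mem (ψ y ^ 2) (S : Set (Fin n → F)) hS he i
  rw [eq_top_iff]
  intro w _
  obtain ⟨x, hx⟩ := hbij.2 w
  obtain ⟨a, b, hab⟩ := Cfsg.Agent.Lib.Helper40.SpGen.exists_sq_add_sq x
  have : w = ψ a ^ 2 *ᵥ e + ψ b ^ 2 *ᵥ e := by
    rw [← hx]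
    simp only
    rw [← hab, map_add, map_pow, map_pow, add_mulVec]
  rw [this]
  exact S.add_mem (hsq a) (hsq b)

/-- TG-SINGER -/
theorem exists_singer_sq [Fintype F] (n : ℕ) (hn : 2 ≤ n) :
    ∃ (A A' : Matrix (Fin n) (Fin n) F) (N : ℕ), A * A'ᵀ = 1 ∧ A ^ N = 1 ∧ A' ^ N = 1 ∧
      Nat.Coprime N (ringChar F) ∧ SpanProp (A ^ 2) ∧ SpanProp (A' ^ 2) ∧
      ∀ v : Fin n → F, v ≠ 0 → (A' ^ 2) *ᵥ v ≠ v := by
  classical
  obtain ⟨p, hp⟩ := CharP.exists F
  haveI : Fact p.Prime := ⟨CharP.char_is_prime F p⟩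
  have hpr : ringChar F = p := ringChar.eq F p
  have hq2 : 2 ≤ Fintype.card F := Fintype.one_lt_card
  have : NeZero n := ⟨by omega⟩
  letI := Fintype.ofFinite (FiniteField.Extension F p n)
  have hE : Module.finrank F (FiniteField.Extension F p n) = n :=
    FiniteField.finrank_extension F p n
  have hcE : Fintype.card (FiniteField.Extension F p n) = Fintype.card F ^ n := by
    rw [Module.card_eq_pow_finrank (K := F), hE]
  obtain ⟨u, hu⟩ := IsCyclic.exists_generator (α := (FiniteField.Extension F p n)ˣ)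
  have hou : orderOf u = Fintype.card (FiniteField.Extension F p n)ˣ := by
    rw [orderOf_eq_card_of_forall_mem_zpowers hu, Nat.card_eq_fintype_card]
  set N := Fintype.card (FiniteField.Extension F p n)ˣ with hNdef
  have hN1 : N + 1 = Fintype.card F ^ n := by
    rw [hNdef, Fintype.card_units, ← hcE]
    have : 0 < Fintype.card (FiniteField.Extension F p n) := Fintype.card_pos
    omega
  have hN3 : 3 ≤ N := by
    have h4 : 2 ^ 2 ≤ Fintype.card F ^ n :=
      le_trans (Nat.pow_le_pow_left hq2 2) (Nat.pow_le_pow_right (by omega) hn)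
    omega
  set y : FiniteField.Extension F p n := (u : FiniteField.Extension F p n) with hydef
  have hy0 : y ≠ 0 := u.ne_zero
  have hyN : y ^ N = 1 := by
    rw [hydef, ← Units.val_pow_eq_pow_val, ← hou, pow_orderOf_eq_one, Units.val_one]
  have hgen : ∀ a : FiniteField.Extension F p n, a ≠ 0 → ∃ i : ℕ, y ^ i = a := by
    intro a ha
    have h1 : Units.mk0 a ha ∈ Subgroup.zpowers u := hu _
    rw [← (isOfFinOrder_of_finite u).mem_powers_iff_mem_zpowers] at h1
    obtain ⟨i, hi⟩ := Submonoid.mem_powers_iff _ _ |>.1 h1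
    refine ⟨i, ?_⟩
    have := congrArg (fun t : (FiniteField.Extension F p n)ˣ => (t : FiniteField.Extension F p n)) hi
    simpa using this
  have hy2 : y ^ 2 ≠ 1 := by
    intro h
    have h1 : u ^ 2 = 1 := by
      apply Units.ext
      rw [Units.val_pow_eq_pow_val, Units.val_one]
      exact h
    have h2 := orderOf_dvd_of_pow_eq_one h1
    rw [hou] at h2
    have := Nat.le_of_dvd (by norm_num) h2
    omega
  have hgen' : ∀ a : FiniteField.Extension F p n, a ≠ 0 → ∃ i : ℕ, y⁻¹ ^ i = a := by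
    intro a ha
    obtain ⟨i, hi⟩ := hgen a⁻¹ (inv_ne_zero ha)
    exact ⟨i, by rw [inv_pow, hi, inv_inv]⟩
  let b : Module.Basis (Fin n) F (FiniteField.Extension F p n) := Module.finBasisOfFinrankEq F _ hE
  let φ : FiniteField.Extension F p n →+* Matrix (Fin n) (Fin n) F :=
    (Algebra.leftMulMatrix b).toRingHom
  let φ' : FiniteField.Extension F p n →+* Matrix (Fin n) (Fin n) F :=
    { toFun := fun x => (φ x)ᵀ
      map_one' := by rw [map_one, transpose_one]
      map_mul' := fun x z => by rw [mul_comm x z, map_mul, transpose_mul]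
      map_zero' := by rw [map_zero, transpose_zero]
      map_add' := fun x z => by rw [map_add, transpose_add] }
  have hφ' : ∀ x, φ' x = (φ x)ᵀ := fun x => rfl
  refine ⟨φ y, φ' y⁻¹, N, ?_, ?_, ?_, ?_, ?_, ?_, ?_⟩
  · rw [hφ', transpose_transpose, ← map_mul, mul_inv_cancel₀ hy0, map_one]
  · rw [← map_pow, hyN, map_one]
  · rw [← map_pow, inv_pow, hyN, inv_one, map_one]
  · rw [hpr]
    have hdiv : p ∣ N + 1 := by
      rw [hN1]
      have h1 : p ∣ Fintype.card F := by
        rw [← CharP.cast_eq_zero_iff F p (Fintype.card F)]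
        exact Nat.cast_card_eq_zero F
      exact dvd_pow h1 (by omega)
    refine Nat.Coprime.symm ((Nat.Prime.coprime_iff_not_dvd (Fact.out : p.Prime)).2 ?_)
    intro h
    have h1 : p ∣ 1 := (Nat.dvd_add_right h).1 hdiv
    exact (Fact.out : p.Prime).one_lt.ne' (Nat.dvd_one.1 h1)
  · exact tgsinger_span φ hcE y hgen
  · exact tgsinger_span φ' hcE y⁻¹ hgen'
  · intro v hv0 hv
    apply hv0
    have hne : (y⁻¹ ^ 2 - 1) ≠ 0 := by
      rw [sub_ne_zero, inv_pow]
      intro h
      exact hy2 (inv_eq_one.1 h)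
    apply tgsinger_inj φ' (y⁻¹ ^ 2 - 1) hne v
    rw [map_sub, map_pow, map_one, sub_mulVec, hv, one_mulVec, sub_self]

end leaves

end Cfsg.Agent.Lib.Helper37.TwoGen
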