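import Mathlib
import Cfsg.Prelude.Def_ClassicalGeometry
import Cfsg.Prelude.Def_GeometricClasses
import Cfsg.Agent.Lib.Helper99.SympForm
import Cfsg.Agent.Lib.Helper59.TqDefs
import Cfsg.Agent.Lib.Helper37.TqTWODERcore
import Cfsg.Agent.Lib.Helper37.CartanDieudonne
import Cfsg.Agent.Lib.Helper33.TqTYPEODD

/-! # Tq hive (helper59), chunk TQ-TWODER (helper37): the involution case

`q ≡ 3 (mod 4)`, plus type, `m = d - 1`: `x = r_u r_v` with `u ⟂ v` nonsingular, `Q u * Q v` a square:
`x ∈ Ω`, `x = -1` on the ANISOTROPIC plane `P = ⟨u, v⟩` and `+1` on `P^⟂`; an invariant totally singular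
`W` lies in `P^⟂`, and if `dim W = d - 1` then `P` would be of plus type (TQ-TYPEODD). -/

set_option autoImplicit false

namespace Cfsg.Agent.Lib.Helper59.Tq

open Module Matrix
open Cfsg.Agent.Lib.Helper99 Cfsg.Agent.Lib.Helper37

section invol

variable {ι : Type} [Fintype ι] [DecidableEq ι] {F : Type*} [Field F] [Fintype F]

theorem twoder_isSquare_mul_of_iff (h2 : (2 : F) ≠ 0) {a b : F} (ha : a ≠ 0) (hb : b ≠ 0)
    (hab : IsSquare a ↔ IsSquare b) : IsSquare (a * b) := by
  classical
  by_cases hsa : IsSquare a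
  · exact hsa.mul (hab.mp hsa)
  · have hsb : ¬ IsSquare b := fun hh => hsa (hab.mpr hh)
    have hF : ringChar F ≠ 2 := ringChar_ne_two_of_two_ne_zero h2
    rw [← quadraticChar_one_iff_isSquare (mul_ne_zero ha hb), map_mul,
      quadraticChar_neg_one_iff_not_isSquare.mpr hsa, quadraticChar_neg_one_iff_not_isSquare.mpr hsb]
    norm_num

/-- anisotropy of the plane -/
theorem twoder_aniso (hm1 : ¬ IsSquare (-1 : F)) {a b : F} (ha : a ≠ 0) (hb : b ≠ 0)
    (hab : IsSquare (a * b)) (α β : F) (h0 : α ^ 2 * a + β ^ 2 * b = 0) : α = 0 ∧ β = 0 := by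
  obtain ⟨s, hs⟩ := hab
  have hs0 : s ≠ 0 := by
    rintro rfl
    rw [mul_zero] at hs
    exact mul_ne_zero ha hb hs
  by_cases hβ : β = 0
  · subst hβ
    refine ⟨?_, rfl⟩
    have : α ^ 2 * a = 0 := by linear_combination h0
    rcases mul_eq_zero.mp this with h' | h'
    · exact pow_eq_zero_iff (two_ne_zero) |>.mp h'
    · exact absurd h' ha
  · exfalso
    apply hm1
    refine ⟨α * a / (β * s), ?_⟩
    field_simp
    linear_combination (-a) * h0 + β ^ 2 * hs

/-- pigeonhole: among three nonzero scalars two have a square product -/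
theorem twoder_pigeon (h2 : (2 : F) ≠ 0) {a b c : F} (ha : a ≠ 0) (hb : b ≠ 0) (hc : c ≠ 0) :
    IsSquare (a * b) ∨ IsSquare (a * c) ∨ IsSquare (b * c) := by
  by_cases hsa : IsSquare a <;> by_cases hsb : IsSquare b <;> by_cases hsc : IsSquare c
  · exact Or.inl (hsa.mul hsb)
  · exact Or.inl (hsa.mul hsb)
  · exact Or.inr (Or.inl (hsa.mul hsc))
  · exact Or.inr (Or.inr (twoder_isSquare_mul_of_iff h2 hb hc ⟨fun h => absurd h hsb, fun h => absurd h hsc⟩))
  · exact Or.inr (Or.inr (hsb.mul hsc))
  · exact Or.inr (Or.inl (twoder_isSquare_mul_of_iff h2 ha hc ⟨fun h => absurd h hsa, fun h => absurd h hsc⟩))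
  · exact Or.inl (twoder_isSquare_mul_of_iff h2 ha hb ⟨fun h => absurd h hsa, fun h => absurd h hsb⟩)
  · exact Or.inl (twoder_isSquare_mul_of_iff h2 ha hb ⟨fun h => absurd h hsa, fun h => absurd h hsb⟩)

/-- the core of the involution case, for given `u ⟂ v` and a third vector `t` -/
theorem twoder_invol_core (h2 : (2 : F) ≠ 0) (hm1 : ¬ IsSquare (-1 : F))
    (QF : QuadraticForm F (ι → F)) (hnd : (QuadraticMap.polarBilin QF).Nondegenerate) (d : ℕ)
    (hcard : Fintype.card ι = 2 * d) (hplus : IsPlus ⇑QF) (hd : 2 ≤ d)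
    (u v t : ι → F) (hu : QF u ≠ 0) (hv : QF v ≠ 0) (ht : QF t ≠ 0)
    (huv : QuadraticMap.polar ⇑QF u v = 0) (hut : QuadraticMap.polar ⇑QF u t = 0)
    (hvt : QuadraticMap.polar ⇑QF v t = 0) (hsq : IsSquare (QF u * QF v)) :
    ∃ x : GL ι F, x ∈ Cfsg.Geo.omegaGL ⇑QF ∧
      (∃ z : F, ((x ^ 2 : GL ι F) : Matrix ι ι F) = z • 1) ∧ NonScalar x ∧
      ¬ FixTS ⇑QF (d - 1) x := by
  classical
  have h := isGram_of_quadraticForm h2 QF
  set G : Matrix ι ι F := Matrix.of (fun i j : ι =>
      QuadraticMap.polar ⇑QF (Pi.single i 1) (Pi.single j 1)) with hG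
  have hpol : ∀ a b : ι → F, Matrix.toBilin' G a b = QuadraticMap.polar ⇑QF a b :=
    fun a b => (h.polar_eq a b).symm
  set g : ↥(Cfsg.isometryGroup F ⇑QF) := ([u, v].map h.reflG').prod with hgdef
  have hvs : ∀ y ∈ [u, v], QF y ≠ 0 := by
    intro y hy
    simp only [List.mem_cons, List.not_mem_nil, or_false] at hy
    rcases hy with rfl | rfl
    · exact hu
    · exact hv
  set M : Matrix ι ι F := Cfsg.reflectionMatrix ⇑QF u * Cfsg.reflectionMatrix ⇑QF v with hM
  have hgM : ((g : Matrix.GeneralLinearGroup ι F) : Matrix ι ι F) = M := by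
    have := h.toMat_list [u, v] hvs
    rw [toMat_apply] at this
    rw [this, hM]
    simp
  have hΩ : g ∈ Cfsg.Omega F ⇑QF := by
    rw [mem_omega_iff h g [u, v] hvs (by rw [hgM, hM]; simp)]
    refine ⟨⟨1, rfl⟩, ?_⟩
    simpa using hsq
  -- the action
  have hact : ∀ x : ι → F, M *ᵥ x = x - ((QF u)⁻¹ * QuadraticMap.polar ⇑QF u x) • u
      - ((QF v)⁻¹ * QuadraticMap.polar ⇑QF v x) • v := by
    intro x
    rw [hM, ← Matrix.mulVec_mulVec, h.refl_mulVec v x, h.refl_mulVec u]
    simp only [map_sub, map_smul, smul_eq_mul]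
    simp only [hpol, huv, mul_zero, sub_zero]
    abel
  have hpu : ∀ x, QuadraticMap.polar ⇑QF u (M *ᵥ x) = - QuadraticMap.polar ⇑QF u x := by
    intro x
    rw [hact, QuadraticMap.polar_sub_right, QuadraticMap.polar_sub_right,
      QuadraticMap.polar_smul_right, QuadraticMap.polar_smul_right, huv,
      QuadraticMap.polar_self]
    simp only [smul_eq_mul, mul_zero, sub_zero]
    field_simp
    ring
  have hvu : QuadraticMap.polar ⇑QF v u = 0 := by rw [QuadraticMap.polar_comm]; exact huv
  have hpv : ∀ x, QuadraticMap.polar ⇑QF v (M *ᵥ x) = - QuadraticMap.polar ⇑QF v x := by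
    intro x
    rw [hact, QuadraticMap.polar_sub_right, QuadraticMap.polar_sub_right,
      QuadraticMap.polar_smul_right, QuadraticMap.polar_smul_right, hvu,
      QuadraticMap.polar_self]
    simp only [smul_eq_mul, mul_zero, sub_zero]
    field_simp
    ring
  have hMM : ∀ x, M *ᵥ (M *ᵥ x) = x := by
    intro x
    rw [hact (M *ᵥ x), hpu, hpv, hact x]
    simp only [mul_neg, neg_smul]
    abel
  -- anisotropy of the plane
  have hani : ∀ α β : F, QF (α • u + β • v) = 0 → α = 0 ∧ β = 0 := by
    intro α β h0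
    rw [QuadraticMap.map_add QF, QuadraticMap.map_smul, QuadraticMap.map_smul,
      QuadraticMap.polar_smul_left, QuadraticMap.polar_smul_right, huv] at h0
    apply twoder_aniso hm1 hu hv hsq α β
    simp only [smul_eq_mul, mul_zero, add_zero] at h0
    linear_combination h0
  refine ⟨(g : Matrix.GeneralLinearGroup ι F), ⟨g, hΩ, rfl⟩, ⟨1, ?_⟩, ?_, ?_⟩
  · rw [Units.val_pow_eq_pow_val, hgM, sq, one_smul]
    apply Matrix.mulVec_injective
    funext x
    rw [← Matrix.mulVec_mulVec, hMM, Matrix.one_mulVec]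
  · intro z hz
    rw [hgM] at hz
    have e1 := hact u
    rw [hz, Matrix.smul_mulVec, Matrix.one_mulVec, QuadraticMap.polar_self, hvu] at e1
    have e2 := hact t
    rw [hz, Matrix.smul_mulVec, Matrix.one_mulVec, hut, hvt] at e2
    simp only [mul_zero, zero_smul, sub_zero] at e1 e2
    have hu0 : u ≠ 0 := by
      rintro rfl
      exact hu (map_zero QF)
    have ht0 : t ≠ 0 := by
      rintro rfl
      exact ht (map_zero QF)
    have hz1 : z = 1 := by
      have : (z - 1) • t = 0 := by rw [sub_smul, one_smul, e2, sub_self]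
      rcases smul_eq_zero.mp this with h' | h'
      · exact sub_eq_zero.mp h'
      · exact absurd h' ht0
    have hzm : z = -1 := by
      have h3 : (QF u)⁻¹ * (2 • QF u) = 2 := by
        rw [two_smul, ← two_mul]
        field_simp
      rw [h3] at e1
      have : (z + 1) • u = 0 := by
        rw [add_smul, one_smul, e1, two_smul]
        abel
      rcases smul_eq_zero.mp this with h' | h'
      · exact eq_neg_of_add_eq_zero_left h'
      · exact absurd h' hu0
    apply h2
    have : (1 : F) = -1 := hz1.symm.trans hzm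
    linear_combination this
  · rintro ⟨W, hWm, hWts, hWx⟩
    rw [hgM] at hWx
    -- W is orthogonal to u and v
    have hWperp : ∀ x ∈ W, QuadraticMap.polar ⇑QF u x = 0 ∧ QuadraticMap.polar ⇑QF v x = 0 := by
      intro x hx
      have h1 : M *ᵥ x ∈ W := hWx ⟨x, hx, by rw [Matrix.toLin'_apply]⟩
      have h3 : ((QF u)⁻¹ * QuadraticMap.polar ⇑QF u x) • u +
          ((QF v)⁻¹ * QuadraticMap.polar ⇑QF v x) • v ∈ W := by
        have : ((QF u)⁻¹ * QuadraticMap.polar ⇑QF u x) • u +
          ((QF v)⁻¹ * QuadraticMap.polar ⇑QF v x) • v = x - M *ᵥ x := by rw [hact]; abel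
        rw [this]
        exact W.sub_mem hx h1
      obtain ⟨ha, hb⟩ := hani _ _ (hWts _ h3)
      constructor
      · rcases mul_eq_zero.mp ha with h' | h'
        · exact absurd (inv_eq_zero.mp h') hu
        · exact h'
      · rcases mul_eq_zero.mp hb with h' | h'
        · exact absurd (inv_eq_zero.mp h') hv
        · exact h'
    -- the plane and its perp
    set C : Submodule F (ι → F) := Submodule.span F {u, v} with hC
    set R : Submodule F (ι → F) :=
      LinearMap.ker (QuadraticMap.polarBilin QF u) ⊓ LinearMap.ker (QuadraticMap.polarBilin QF v)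
      with hR
    have hmemR : ∀ x, x ∈ R ↔ QuadraticMap.polar ⇑QF u x = 0 ∧ QuadraticMap.polar ⇑QF v x = 0 := by
      intro x
      rw [hR, Submodule.mem_inf, LinearMap.mem_ker, LinearMap.mem_ker]
      rfl
    have hmemC : ∀ x, x ∈ C ↔ ∃ α β : F, α • u + β • v = x := fun x => Submodule.mem_span_pair
    have h2u : (2 : F) * QF u ≠ 0 := mul_ne_zero h2 hu
    have h2v : (2 : F) * QF v ≠ 0 := mul_ne_zero h2 hv
    have hCR : IsCompl C R := by
      constructor
      · rw [Submodule.disjoint_def]
        intro x hxC hxR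
        obtain ⟨α, β, rfl⟩ := (hmemC x).mp hxC
        obtain ⟨e1, e2⟩ := (hmemR _).mp hxR
        rw [QuadraticMap.polar_add_right, QuadraticMap.polar_smul_right,
          QuadraticMap.polar_smul_right, huv, QuadraticMap.polar_self] at e1
        rw [QuadraticMap.polar_add_right, QuadraticMap.polar_smul_right,
          QuadraticMap.polar_smul_right, hvu, QuadraticMap.polar_self] at e2
        simp only [smul_eq_mul, mul_zero, add_zero, zero_add, two_smul] at e1 e2
        have hα : α = 0 := by
          have : α * (2 * QF u) = 0 := by linear_combination e1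
          rcases mul_eq_zero.mp this with h' | h'
          · exact h'
          · exact absurd h' h2u
        have hβ : β = 0 := by
          have : β * (2 * QF v) = 0 := by linear_combination e2
          rcases mul_eq_zero.mp this with h' | h'
          · exact h'
          · exact absurd h' h2v
        rw [hα, hβ]; simp
      · rw [codisjoint_iff, eq_top_iff]
        intro x _
        set α : F := (2 * QF u)⁻¹ * QuadraticMap.polar ⇑QF u x with hα
        set β : F := (2 * QF v)⁻¹ * QuadraticMap.polar ⇑QF v x with hβ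
        have hx : x = (α • u + β • v) + (x - (α • u + β • v)) := by abel
        rw [hx]
        apply Submodule.add_mem_sup
        · exact (hmemC _).mpr ⟨α, β, rfl⟩
        · rw [hmemR]
          constructor
          · rw [QuadraticMap.polar_sub_right, QuadraticMap.polar_add_right,
              QuadraticMap.polar_smul_right, QuadraticMap.polar_smul_right, huv,
              QuadraticMap.polar_self, hα]
            simp only [smul_eq_mul, mul_zero, add_zero, two_smul]
            field_simp
            ring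
          · rw [QuadraticMap.polar_sub_right, QuadraticMap.polar_add_right,
              QuadraticMap.polar_smul_right, QuadraticMap.polar_smul_right, hvu,
              QuadraticMap.polar_self, hβ]
            simp only [smul_eq_mul, mul_zero, zero_add, two_smul]
            field_simp
            ring
    have horth : ∀ c ∈ C, ∀ x ∈ R, QuadraticMap.polar QF c x = 0 := by
      intro c hc x hx
      obtain ⟨α, β, rfl⟩ := (hmemC c).mp hc
      obtain ⟨e1, e2⟩ := (hmemR x).mp hx
      rw [QuadraticMap.polar_add_left, QuadraticMap.polar_smul_left, QuadraticMap.polar_smul_left,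
        e1, e2]
      simp
    have hWR : W ≤ R := fun x hx => (hmemR x).mpr (hWperp x hx)
    -- dimension of the plane
    have hli : LinearIndependent F ![u, v] := by
      rw [LinearIndependent.pair_iff]
      intro α β hαβ
      have hx : α • u + β • v ∈ R := by rw [hαβ]; exact R.zero_mem
      have hxC : α • u + β • v ∈ C := (hmemC _).mpr ⟨α, β, rfl⟩
      have := hani α β (by rw [hαβ]; exact map_zero QF)
      exact this
    have hCdim : finrank F C = 2 := by
      have hr : Set.range ![u, v] = {u, v} := by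
        ext y
        simp [Fin.exists_fin_two, eq_comm, or_comm]
      rw [hC, ← hr, finrank_span_eq_card hli]
      simp
    have hsum := Submodule.finrank_add_eq_of_isCompl hCR
    rw [hCdim, Module.finrank_pi, hcard] at hsum
    have hRdim : finrank F R = 2 * d - 2 := by omega
    have hkey := plusOn_of_lagrangian QF (fun a _ ha => hnd.1 a (fun b => ha b Submodule.mem_top))
      hCR horth hWR hWts (by rw [hWm, hRdim]; omega)
    have hplusT : PlusOn QF ⊤ := by
      obtain ⟨U, hU, hUd⟩ := hplus
      exact ⟨U, le_top, hU, by rw [hUd, finrank_top, Module.finrank_pi]⟩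
    obtain ⟨U, hUC, hUts, hUd⟩ := hkey.mp hplusT
    rw [hCdim] at hUd
    have hU1 : finrank F U = 1 := by omega
    have hUne : U ≠ ⊥ := by
      intro hb
      rw [hb, finrank_bot] at hU1
      omega
    obtain ⟨y, hyU, hy0⟩ := Submodule.exists_mem_ne_zero_of_ne_bot hUne
    obtain ⟨α, β, rfl⟩ := (hmemC y).mp (hUC hyU)
    obtain ⟨hα, hβ⟩ := hani α β (hUts _ hyU)
    apply hy0
    rw [hα, hβ]; simp

/-- SUB-LEAF TWODER-A: the involution `r_u r_v` -/
theorem twoder_invol (h2 : (2 : F) ≠ 0) (hm1 : ¬ IsSquare (-1 : F)) (Q : (ι → F) → F) (d : ℕ)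
    (hS : Std Q d) (he : TypeE Q 0) (hd : 4 ≤ d) :
    ∃ x : GL ι F, x ∈ Cfsg.Geo.omegaGL Q ∧
      (∃ z : F, ((x ^ 2 : GL ι F) : Matrix ι ι F) = z • 1) ∧ NonScalar x ∧ ¬ FixTS Q (d - 1) x := by
  classical
  obtain ⟨QF, hQF, hnd⟩ := hS.exists_form
  subst hQF
  have hplus : IsPlus ⇑QF := by
    rcases he with ⟨-, hp⟩ | ⟨h1, -⟩
    · exact hp
    · omega
  have h := isGram_of_quadraticForm h2 QF
  set G : Matrix ι ι F := Matrix.of (fun i j : ι =>
      QuadraticMap.polar ⇑QF (Pi.single i 1) (Pi.single j 1)) with hG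
  have hpol : ∀ a b : ι → F, Matrix.toBilin' G a b = QuadraticMap.polar ⇑QF a b :=
    fun a b => (h.polar_eq a b).symm
  have hGB : G = LinearMap.BilinForm.toMatrix' (QuadraticMap.polarBilin QF) := by
    ext i j
    simp [hG, LinearMap.BilinForm.toMatrix'_apply]
  have hdet : G.det ≠ 0 := by
    rw [hGB, ← Matrix.nondegenerate_iff_det_ne_zero]
    exact LinearMap.BilinForm.nondegenerate_toMatrix'_iff.mpr hnd
  have hcard := hS.card
  obtain ⟨u₁, hu₁, -⟩ := h.exists_nonsingular_perp hdet (k := 0) (fun i => i.elim0)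
    (fun i => i.elim0) (fun i => i.elim0) (by omega)
  obtain ⟨u₂, hu₂, hp₂⟩ := h.exists_nonsingular_perp hdet (k := 1) (fun _ => u₁)
    (fun i j hij => absurd (Subsingleton.elim i j) hij) (fun _ => hu₁) (by omega)
  have h12 : QuadraticMap.polar ⇑QF u₁ u₂ = 0 := by rw [← hpol]; exact hp₂ 0
  obtain ⟨u₃, hu₃, hp₃⟩ := h.exists_nonsingular_perp hdet (k := 2) ![u₁, u₂]
    (by
      intro i j hij
      fin_cases i <;> fin_cases j
      · exact absurd rfl hij
      · simpa [hpol] using h12
      · simp only [hpol]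
        show QuadraticMap.polar ⇑QF u₂ u₁ = 0
        rw [QuadraticMap.polar_comm]; exact h12
      · exact absurd rfl hij)
    (by
      intro i
      fin_cases i
      · exact hu₁
      · exact hu₂) (by omega)
  have h13 : QuadraticMap.polar ⇑QF u₁ u₃ = 0 := by rw [← hpol]; exact hp₃ 0
  have h23 : QuadraticMap.polar ⇑QF u₂ u₃ = 0 := by rw [← hpol]; exact hp₃ 1
  have h21 : QuadraticMap.polar ⇑QF u₂ u₁ = 0 := by rw [QuadraticMap.polar_comm]; exact h12
  have h31 : QuadraticMap.polar ⇑QF u₃ u₁ = 0 := by rw [QuadraticMap.polar_comm]; exact h13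
  have h32 : QuadraticMap.polar ⇑QF u₃ u₂ = 0 := by rw [QuadraticMap.polar_comm]; exact h23
  rcases twoder_pigeon h2 hu₁ hu₂ hu₃ with hs | hs | hs
  · exact twoder_invol_core h2 hm1 QF hnd d hcard hplus (by omega) u₁ u₂ u₃ hu₁ hu₂ hu₃ h12 h13 h23 hs
  · exact twoder_invol_core h2 hm1 QF hnd d hcard hplus (by omega) u₁ u₃ u₂ hu₁ hu₃ hu₂ h13 h12 h32 hs
  · exact twoder_invol_core h2 hm1 QF hnd d hcard hplus (by omega) u₂ u₃ u₁ hu₂ hu₃ hu₁ h23 h21 h31 hs

end invol

end Cfsg.Agent.Lib.Helper59.Tq
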