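import Mathlib
import Cfsg.Prelude.Def_ClassicalGeometry
import Cfsg.Prelude.Def_GeometricClasses
import Cfsg.Agent.Lib.Helper99.SympForm
import Cfsg.Agent.Lib.Helper59.TqDefs
import Cfsg.Agent.Lib.Helper37.TqTWODERcore
import Cfsg.Agent.Lib.Helper37.TqTWODERinvol
import Cfsg.Agent.Lib.Helper43.TqTRANS
import Cfsg.Agent.Lib.Helper83.TqBRP
import Cfsg.Agent.Lib.Helper83.TqBRM
import Cfsg.Agent.Lib.Helper64.TqTWODERMP
import Cfsg.Agent.Lib.Helper31.TqTWODERMM

/-! # Tq hive (helper59): chunk TQ-TWODER `two_der` (sub-owner helper37)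

Sub-leaves: TWODER-MP (helper64), TWODER-MM (helper31); chunks used: TQ-TRANS (helper43), TQ-BRP/BRM
(helper83), TQ-TYPEODD (helper33). -/

set_option autoImplicit false

namespace Cfsg.Agent.Lib.Helper59.Tq

open Module
open Cfsg.Agent.Lib.Helper99

section assembly

variable {ι : Type} [Fintype ι] [DecidableEq ι] {F : Type*} [Field F] [Fintype F]

/-- the rotation element for a general index type -/
theorem twoder_rot' {J : Type} [Fintype J] [Nonempty J] (QF : QuadraticForm F (ι → F))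
    (h2 : (2 : F) ≠ 0) (hm1 : ¬ IsSquare (-1 : F)) (v w : J → ι → F) (hfam : twoder_Fam ⇑QF v w)
    (hsq : Even (Fintype.card J) ∨ IsSquare (2 : F)) :
    ∃ x : GL ι F, x ∈ Cfsg.Geo.omegaGL ⇑QF ∧
      ((x ^ 2 : GL ι F) : Matrix ι ι F) = (-1 : F) • (1 : Matrix ι ι F) ∧ NonScalar x ∧
      ∀ W : Submodule F (ι → F), W.map (Matrix.toLin' (x : Matrix ι ι F)) ≤ W →
        Even (finrank F W) := by
  set n := Fintype.card J with hn
  let e : Fin n ≃ J := (Fintype.equivFin J).symm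
  have hn0 : 0 < n := Fintype.card_pos
  apply twoder_rot QF h2 hm1 n hn0 (v ∘ e) (w ∘ e) (fun j => hfam.hQ _) (fun j => hfam.hne _)
    (fun j j' => hfam.hvw _ _) (fun j j' hjj => hfam.hvv _ _ (fun h => hjj (e.injective h)))
    (fun j j' hjj => hfam.hww _ _ (fun h => hjj (e.injective h))) ?_ hsq
  rw [e.surjective.range_comp, e.surjective.range_comp]
  exact hfam.hspan

/-- transport of a plane family along an isometry -/
theorem twoder_Fam_map {ι' : Type} [Fintype ι'] (QF' : QuadraticForm F (ι' → F))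
    (QF : QuadraticForm F (ι → F)) (Θ : (ι' → F) ≃ₗ[F] (ι → F)) (hΘ : ∀ x, QF (Θ x) = QF' x)
    {J : Type} (v w : J → ι' → F) (hfam : twoder_Fam ⇑QF' v w) :
    twoder_Fam ⇑QF (fun j => Θ (v j)) (fun j => Θ (w j)) := by
  have hpol : ∀ a b, QuadraticMap.polar ⇑QF (Θ a) (Θ b) = QuadraticMap.polar ⇑QF' a b := by
    intro a b
    unfold QuadraticMap.polar
    rw [← map_add, hΘ, hΘ, hΘ]
  refine ⟨fun j => ?_, fun j => ?_, fun j j' => ?_, fun j j' hjj => ?_, fun j j' hjj => ?_, ?_⟩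
  · rw [hΘ, hΘ]; exact hfam.hQ j
  · rw [hΘ]; exact hfam.hne j
  · rw [hpol]; exact hfam.hvw j j'
  · rw [hpol]; exact hfam.hvv j j' hjj
  · rw [hpol]; exact hfam.hww j j' hjj
  · have h1 : (Set.range (fun j => Θ (v j)) ∪ Set.range (fun j => Θ (w j))) =
        (Θ : (ι' → F) →ₗ[F] (ι → F)) '' (Set.range v ∪ Set.range w) := by
      rw [Set.image_union, ← Set.range_comp, ← Set.range_comp]
      rfl
    rw [h1, ← Submodule.map_span, hfam.hspan, Submodule.map_top, LinearEquiv.range]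

theorem twoder_nd_top (QF : QuadraticForm F (ι → F))
    (hnd : (QuadraticMap.polarBilin QF).Nondegenerate) : Nd (QuadraticMap.polarBilin QF) ⊤ := by
  intro u _ hu
  exact hnd.1 u (fun v => hu v Submodule.mem_top)

theorem twoder_plusOn_top_iff (QF : QuadraticForm F (ι → F)) : PlusOn QF ⊤ ↔ IsPlus ⇑QF := by
  have hfr : finrank F (⊤ : Submodule F (ι → F)) = Fintype.card ι := by
    rw [finrank_top, Module.finrank_pi]
  constructor
  · rintro ⟨U, -, hU, hd⟩
    exact ⟨U, hU, by rw [hd, hfr]⟩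
  · rintro ⟨U, hU, hd⟩
    exact ⟨U, le_top, hU, by rw [hd, hfr]⟩

/-- transport of a plane family from a model of the same dimension and type -/
theorem twoder_transport {ι' : Type} [Fintype ι'] [DecidableEq ι'] (Q : (ι → F) → F)
    (Q' : (ι' → F) → F) (d e : ℕ) (hS : Std Q d) (hS' : Std Q' d) (he : TypeE Q e)
    (he' : TypeE Q' e) {J : Type} (v w : J → ι' → F) (hfam : twoder_Fam Q' v w) :
    ∃ QF : QuadraticForm F (ι → F), ⇑QF = Q ∧ ∃ v₁ w₁ : J → ι → F, twoder_Fam ⇑QF v₁ w₁ := by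
  obtain ⟨QF, hQF, hnd⟩ := hS.exists_form
  obtain ⟨QF', hQF', hnd'⟩ := hS'.exists_form
  have hdim : finrank F (ι' → F) = finrank F (ι → F) := by
    rw [Module.finrank_pi, Module.finrank_pi, hS.card, hS'.card]
  have hev : Even (finrank F (ι' → F)) := by
    rw [Module.finrank_pi, hS'.card]; exact even_two_mul d
  have ht : PlusOn QF' ⊤ ↔ PlusOn QF ⊤ := by
    rw [twoder_plusOn_top_iff, twoder_plusOn_top_iff, hQF, hQF']
    rcases he with ⟨h0, hp⟩ | ⟨h1, hp⟩ <;> rcases he' with ⟨h0', hp'⟩ | ⟨h1', hp'⟩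
    · exact ⟨fun _ => hp, fun _ => hp'⟩
    · omega
    · omega
    · exact ⟨fun h => absurd h hp', fun h => absurd h hp⟩
  obtain ⟨Θ, hΘ⟩ := exists_isometry_of_type QF' QF (twoder_nd_top QF' hnd') (twoder_nd_top QF hnd)
    hdim hev ht
  refine ⟨QF, hQF, _, _, twoder_Fam_map QF' QF Θ hΘ v w ?_⟩
  rw [hQF']
  exact hfam

/-- TQ-TWODER (`r = 2`, `⟹`) -/
theorem two_der {p : ℕ} [Fact p.Prime] [CharP F p] (hp2 : p ≠ 2) (Q : (ι → F) → F) (d e m : ℕ)
    (hS : Std Q d) (he : TypeE Q e) (hd : 4 ≤ d) (hm : 1 ≤ m) (hmd : m + 1 ≤ d)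
    (hcond : ¬ ((e = 0 ∧ (Fintype.card F % 4 = 1 ∨
        (Fintype.card F % 4 = 3 ∧ m + 2 ≤ d ∧ (Even m ∨ Odd d)))) ∨
      (e = 1 ∧ (Even d ∨ Even m ∨ Fintype.card F % 8 ≠ 7)))) :
    ∃ x : GL ι F, x ∈ Cfsg.Geo.omegaGL Q ∧
      (∃ z : F, ((x ^ 2 : GL ι F) : Matrix ι ι F) = z • 1) ∧ NonScalar x ∧ ¬ FixTS Q m x := by
  have hrc : ringChar F ≠ 2 := by rw [ringChar.eq F p]; exact hp2
  have h2 : (2 : F) ≠ 0 := Ring.two_ne_zero hrc
  have hodd : Fintype.card F % 2 = 1 := FiniteField.odd_card_of_char_ne_two hrc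
  -- the rotation case, given a model
  have key : ∀ {ι' : Type} [Fintype ι'] [DecidableEq ι'] (Q' : (ι' → F) → F) (hS' : Std Q' d)
      (he' : TypeE Q' e) {J : Type} [Fintype J] [Nonempty J] (v w : J → ι' → F)
      (hfam : twoder_Fam Q' v w) (hm1 : ¬ IsSquare (-1 : F))
      (hsq : Even (Fintype.card J) ∨ IsSquare (2 : F)) (hmo : Odd m),
      ∃ x : GL ι F, x ∈ Cfsg.Geo.omegaGL Q ∧
      (∃ z : F, ((x ^ 2 : GL ι F) : Matrix ι ι F) = z • 1) ∧ NonScalar x ∧ ¬ FixTS Q m x := by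
    intro ι' _ _ Q' hS' he' J _ _ v w hfam hm1 hsq hmo
    obtain ⟨QF, hQF, v₁, w₁, hfam₁⟩ := twoder_transport Q Q' d e hS hS' he he' v w hfam
    obtain ⟨x, hxΩ, hx2, hns, hev⟩ := twoder_rot' QF h2 hm1 v₁ w₁ hfam₁ hsq
    rw [hQF] at hxΩ
    refine ⟨x, hxΩ, ⟨-1, hx2⟩, hns, ?_⟩
    rintro ⟨W, hWm, -, hWx⟩
    have := hev W hWx
    rw [hWm] at this
    exact (Nat.not_even_iff_odd.mpr hmo) this
  rcases he with ⟨he0, hplus⟩ | ⟨he1, hnplus⟩
  · -- plus type
    subst he0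
    have hq3 : Fintype.card F % 4 = 3 := by
      by_contra h3
      apply hcond
      left
      exact ⟨rfl, Or.inl (by omega)⟩
    have hm1 : ¬ IsSquare (-1 : F) := by
      rw [FiniteField.isSquare_neg_one_iff]; omega
    by_cases hmd2 : m + 2 ≤ d
    · have hmo : Odd m := by
        rw [← Nat.not_even_iff_odd]
        intro hme
        exact hcond (Or.inl ⟨rfl, Or.inr ⟨hq3, hmd2, Or.inl hme⟩⟩)
      have hde : Even d := by
        rw [← Nat.not_odd_iff_even]
        intro hdo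
        exact hcond (Or.inl ⟨rfl, Or.inr ⟨hq3, hmd2, Or.inr hdo⟩⟩)
      obtain ⟨d', hd'⟩ := hde
      have hd2 : d = 2 * d' := by omega
      subst hd2
      obtain ⟨v, w, hfam⟩ := twoder_model_plus (F := F) h2 d'
      haveI : Nonempty (Fin d' × Bool) := ⟨(⟨0, by omega⟩, false)⟩
      exact key (Cfsg.quadFormPlus (2 * d') F) (std_plus (2 * d')) (typeE_plus (2 * d')) v w hfam hm1
        (Or.inl (by rw [Fintype.card_prod, Fintype.card_bool, Fintype.card_fin]; exact even_two.mul_left _))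
        hmo
    · have hmd1 : m = d - 1 := by omega
      subst hmd1
      exact twoder_invol h2 hm1 Q d hS (Or.inl ⟨rfl, hplus⟩) hd
  · -- minus type
    subst he1
    have hdo : Odd d := by
      rw [← Nat.not_even_iff_odd]
      intro hde
      exact hcond (Or.inr ⟨rfl, Or.inl hde⟩)
    have hmo : Odd m := by
      rw [← Nat.not_even_iff_odd]
      intro hme
      exact hcond (Or.inr ⟨rfl, Or.inr (Or.inl hme)⟩)
    have hq7 : Fintype.card F % 8 = 7 := by
      by_contra h7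
      exact hcond (Or.inr ⟨rfl, Or.inr (Or.inr h7)⟩)
    have hm1 : ¬ IsSquare (-1 : F) := by
      rw [FiniteField.isSquare_neg_one_iff]; omega
    have hs2 : IsSquare (2 : F) := by
      rw [FiniteField.isSquare_two_iff]; omega
    obtain ⟨d'', hd''⟩ := hdo
    subst hd''
    have hab : ∀ x y : F, x ^ 2 + (0 : F) * x * y + 1 * y ^ 2 = 0 → x = 0 ∧ y = 0 := by
      intro x y hxy
      by_cases hy : y = 0
      · subst hy
        refine ⟨?_, rfl⟩
        have : x ^ 2 = 0 := by linear_combination hxy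
        exact pow_eq_zero_iff (two_ne_zero) |>.mp this
      · exfalso
        apply hm1
        refine ⟨x / y, ?_⟩
        field_simp
        linear_combination -hxy
    obtain ⟨v, w, hfam⟩ := twoder_model_minus (F := F) h2 d''
    have hS' := std_minus (F := F) (2 * d'' + 1) (by omega) 0 1 hab
    have hE' := typeE_minus (F := F) (2 * d'' + 1) (by omega) 0 1 hab
    rw [show 2 * d'' + 1 - 1 = 2 * d'' by omega] at hS' hE'
    exact key (Cfsg.quadFormMinus (2 * d'') F 0 1) hS' hE' v w hfam hm1 (Or.inr hs2) hmo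

end assembly

end Cfsg.Agent.Lib.Helper59.Tq
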