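import Mathlib
import Cfsg.Agent.Lib.Helper37.TwoGenDefs

/-! # S2414 hive (helper37): the abstract core -/

set_option autoImplicit false
set_option linter.unusedSectionVars false
set_option linter.unusedVariables false

namespace Cfsg.Agent.Lib.Helper37.TwoGen

open Matrix Module QuadraticMap
open Cfsg.Agent.Lib.Helper8 Cfsg.Agent.Lib.Helper13 Cfsg.Agent.Lib.Helper37

variable {ι : Type} [Fintype ι] [DecidableEq ι] {F : Type*} [Field F]

section calculus
variable (Q : QuadraticForm F (ι → F)) (hQ : (QuadraticMap.polarBilin Q).Nondegenerate)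
  (H : Subgroup ↥(Cfsg.isometryGroup F ⇑Q))

/-- `E(u,v) ∈ H` whenever it makes sense -/
def InH (u v : ι → F) : Prop :=
  ∀ (hu : Q u = 0) (huv : polar ⇑Q u v = 0), eichlerElt Q hQ u v hu huv ∈ H

theorem act_eichlerElt' (u v : ι → F) (hu : Q u = 0) (huv : polar ⇑Q u v = 0) (x : ι → F) :
    act Q (eichlerElt Q hQ u v hu huv) x
      = x + polar ⇑Q u x • v - polar ⇑Q v x • u - (Q v * polar ⇑Q u x) • u :=
  eichlerElt_mulVec Q hQ u v hu huv x

theorem InH_add {u v w : ι → F} (huv : polar ⇑Q u v = 0) (huw : polar ⇑Q u w = 0)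
    (h1 : InH Q hQ H u v) (h2 : InH Q hQ H u w) : InH Q hQ H u (v + w) := by
  intro hu huvw
  have e := eichlerElt_mul Q hQ u v w hu huv huw
  have := H.mul_mem (h1 hu huv) (h2 hu huw)
  rw [e] at this
  exact this

theorem InH_neg {u v : ι → F} (h1 : InH Q hQ H u v) : InH Q hQ H u (-v) := by
  intro hu huv'
  have huv : polar ⇑Q u v = 0 := by
    rw [polar_neg_right] at huv'
    exact neg_eq_zero.mp huv'
  have e := eichlerElt_inv Q hQ u v hu huv
  have := H.inv_mem (h1 hu huv)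
  rw [e] at this
  exact this

theorem InH_sub {u v w : ι → F} (huv : polar ⇑Q u v = 0) (huw : polar ⇑Q u w = 0)
    (h1 : InH Q hQ H u v) (h2 : InH Q hQ H u w) : InH Q hQ H u (v - w) := by
  rw [sub_eq_add_neg]
  exact InH_add Q hQ H huv (by rw [polar_neg_right, huw, neg_zero]) h1 (InH_neg Q hQ H h2)

theorem InH_zero (u : ι → F) : InH Q hQ H u 0 := by
  intro hu huv
  rw [eichlerElt_zero]
  exact H.one_mem

theorem InH_smul_self (u : ι → F) (t : F) : InH Q hQ H u (t • u) := by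
  intro hu huv
  have e := eichlerElt_add_smul Q hQ u 0 hu (by simp) t
  rw [eichlerElt_zero] at e
  have e2 : eichlerElt Q hQ u (t • u) hu huv = 1 := by
    rw [← e]
    exact eichlerElt_congr Q hQ _ _ _ _ _ _ _ _ rfl (by rw [zero_add])
  rw [e2]
  exact H.one_mem

theorem InH_conj {g : ↥(Cfsg.isometryGroup F ⇑Q)} (hg : g ∈ H) {u v : ι → F}
    (h : InH Q hQ H u v) : InH Q hQ H (act Q g u) (act Q g v) := by
  intro hu' huv'
  have hu : Q u = 0 := by rw [← Q_act Q g u]; exact hu'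
  have huv : polar ⇑Q u v = 0 := by rw [← polar_act Q g]; exact huv'
  have h1 := conj_eichlerElt Q hQ g u v hu huv
  have := H.mul_mem (H.mul_mem hg (h hu huv)) (H.inv_mem hg)
  rw [h1] at this
  exact this

theorem eichlerElt_swap (u v : ι → F) (hu : Q u = 0) (hv : Q v = 0) (huv : polar ⇑Q u v = 0) :
    eichlerElt Q hQ u v hu huv
      = eichlerElt Q hQ v (-u) hv (by rw [polar_neg_right, polar_comm, huv, neg_zero]) := by
  apply iso_ext
  intro x
  rw [eichlerElt_mulVec, eichlerElt_mulVec]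
  have : Q (-u) = 0 := by rw [QuadraticMap.map_neg, hu]
  rw [hv, this, polar_neg_left]
  module

theorem InH_swap {u v : ι → F} (hu : Q u = 0) (hv : Q v = 0) (huv : polar ⇑Q u v = 0)
    (h : InH Q hQ H u v) : InH Q hQ H v (-u) := by
  intro hv' hvu
  have := h hu huv
  rw [eichlerElt_swap Q hQ u v hu hv huv] at this
  exact this

theorem InH_swap' {u v : ι → F} (hu : Q u = 0) (hv : Q v = 0) (huv : polar ⇑Q u v = 0)
    (h : InH Q hQ H u v) : InH Q hQ H v u := by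
  have := InH_neg Q hQ H (InH_swap Q hQ H hu hv huv h)
  rwa [neg_neg] at this

theorem InH_smul_left {u v : ι → F} (l : F) (hu : Q u = 0) (huv : polar ⇑Q u v = 0)
    (h : InH Q hQ H u (l • v)) : InH Q hQ H (l • u) v := by
  intro hu' huv'
  have := h hu (by rw [polar_smul_right, huv, smul_zero])
  rw [← eichlerElt_smul_left Q hQ u v hu huv l] at this
  exact this

theorem InH_smul_left' {u v : ι → F} (l : F) (hu : Q u = 0) (huv : polar ⇑Q u v = 0)
    (h : InH Q hQ H (l • u) v) : InH Q hQ H u (l • v) := by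
  intro hu' huv'
  have := h (by rw [QuadraticMap.map_smul, hu, smul_zero]) (by rw [polar_smul_left, huv, smul_zero])
  rw [eichlerElt_smul_left Q hQ u v hu huv l] at this
  exact this


/-- `E(a - b, m) = E(a, m) E(b, -m)` for pairwise orthogonal singular `a, b, m` -/
theorem eichlerElt_sub_left (a b m : ι → F) (ha : Q a = 0) (hb : Q b = 0) (hm : Q m = 0)
    (hab : polar ⇑Q a b = 0) (ham : polar ⇑Q a m = 0) (hbm : polar ⇑Q b m = 0)
    (hab' : Q (a - b) = 0) (habm : polar ⇑Q (a - b) m = 0) :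
    eichlerElt Q hQ (a - b) m hab' habm
      = eichlerElt Q hQ a m ha ham *
        eichlerElt Q hQ b (-m) hb (by rw [polar_neg_right, hbm, neg_zero]) := by
  apply iso_ext
  intro x
  have hmb : polar ⇑Q m b = 0 := by rw [polar_comm]; exact hbm
  have hma : polar ⇑Q m a = 0 := by rw [polar_comm]; exact ham
  have hmm : polar ⇑Q m m = 0 := by rw [polar_self, hm, smul_zero]
  have hm' : Q (-m) = 0 := by rw [QuadraticMap.map_neg, hm]
  rw [coe_mul_mulVec, eichlerElt_mulVec, eichlerElt_mulVec, eichlerElt_mulVec]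
  simp only [hm, hm', polar_add_right, polar_sub_right, polar_smul_right, polar_neg_right,
    polar_neg_left, polar_sub_left, hab, hma, hmb, hmm, ham, hbm, smul_eq_mul, mul_zero, zero_mul,
    zero_smul, sub_zero, add_zero, neg_zero]
  module

theorem InH_sub_left {a b m : ι → F} (ha : Q a = 0) (hb : Q b = 0) (hm : Q m = 0)
    (hab : polar ⇑Q a b = 0) (ham : polar ⇑Q a m = 0) (hbm : polar ⇑Q b m = 0)
    (h1 : InH Q hQ H a m) (h2 : InH Q hQ H b m) : InH Q hQ H (a - b) m := by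
  intro hab' habm
  rw [eichlerElt_sub_left Q hQ a b m ha hb hm hab ham hbm hab' habm]
  exact H.mul_mem (h1 ha ham) (InH_neg Q hQ H h2 hb _)

end calculus

section derive
variable (Q : QuadraticForm F (ι → F)) (hQ : (QuadraticMap.polarBilin Q).Nondegenerate)
  (H : Subgroup ↥(Cfsg.isometryGroup F ⇑Q)) {n : ℕ} (C : Cfg Q n)
  (A2 A2' : Matrix (Fin n) (Fin n) F) (xs : ↥(Cfsg.isometryGroup F ⇑Q))
  (hsp : SpanProp A2) (hsp' : SpanProp A2')
  (xsM : ∀ v, act Q xs (C.iM v) = C.iM (A2 *ᵥ v))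
  (xsM' : ∀ v, act Q xs (C.iM' v) = C.iM' (A2' *ᵥ v))
  (hxs : xs ∈ H)

include hsp xsM hxs in
/-- spreading a seed over `M` -/
theorem spreadM (a : ι → F) (haM : ∀ v, polar ⇑Q a (C.iM v) = 0) (hfx : act Q xs a = a)
    (v0 : Fin n → F) (hv0 : v0 ≠ 0) (h : InH Q hQ H a (C.iM v0)) :
    ∀ v, InH Q hQ H a (C.iM v) := by
  let S : AddSubgroup (Fin n → F) :=
    { carrier := {v | InH Q hQ H a (C.iM v)}
      zero_mem' := by
        show InH Q hQ H a (C.iM 0)
        rw [map_zero]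
        exact InH_zero Q hQ H a
      add_mem' := by
        intro v w hv hw
        show InH Q hQ H a (C.iM (v + w))
        rw [map_add]
        exact InH_add Q hQ H (haM v) (haM w) hv hw
      neg_mem' := by
        intro v hv
        show InH Q hQ H a (C.iM (-v))
        rw [map_neg]
        exact InH_neg Q hQ H hv }
  have hinv : ∀ v ∈ S, A2 *ᵥ v ∈ S := by
    intro v hv
    show InH Q hQ H a (C.iM (A2 *ᵥ v))
    have := InH_conj Q hQ H hxs (show InH Q hQ H a (C.iM v) from hv)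
    rwa [hfx, xsM] at this
  have htop := hsp S hinv v0 h hv0
  intro v
  have : v ∈ S := by rw [htop]; trivial
  exact this

include hsp' xsM' hxs in
/-- spreading a seed over `M'` -/
theorem spreadM' (a : ι → F) (haM : ∀ v, polar ⇑Q a (C.iM' v) = 0) (hfx : act Q xs a = a)
    (v0 : Fin n → F) (hv0 : v0 ≠ 0) (h : InH Q hQ H a (C.iM' v0)) :
    ∀ v, InH Q hQ H a (C.iM' v) := by
  let S : AddSubgroup (Fin n → F) :=
    { carrier := {v | InH Q hQ H a (C.iM' v)}
      zero_mem' := by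
        show InH Q hQ H a (C.iM' 0)
        rw [map_zero]
        exact InH_zero Q hQ H a
      add_mem' := by
        intro v w hv hw
        show InH Q hQ H a (C.iM' (v + w))
        rw [map_add]
        exact InH_add Q hQ H (haM v) (haM w) hv hw
      neg_mem' := by
        intro v hv
        show InH Q hQ H a (C.iM' (-v))
        rw [map_neg]
        exact InH_neg Q hQ H hv }
  have hinv : ∀ v ∈ S, A2' *ᵥ v ∈ S := by
    intro v hv
    show InH Q hQ H a (C.iM' (A2' *ᵥ v))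
    have := InH_conj Q hQ H hxs (show InH Q hQ H a (C.iM' v) from hv)
    rwa [hfx, xsM'] at this
  have htop := hsp' S hinv v0 h hv0
  intro v
  have : v ∈ S := by rw [htop]; trivial
  exact this


/-- `E(b, c • m')`-conjugation: from `E(a, M)` and `E(b, M')` to `E(a, F b)` -/
theorem InH_cross (a b : ι → F) (ha : Q a = 0) (hb : Q b = 0) (hab : polar ⇑Q a b = 0)
    (haM : ∀ v, polar ⇑Q a (C.iM v) = 0) (haM' : ∀ v, polar ⇑Q a (C.iM' v) = 0)
    (hbM : ∀ v, polar ⇑Q b (C.iM v) = 0) (hbM' : ∀ v, polar ⇑Q b (C.iM' v) = 0)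
    (h1 : ∀ v, InH Q hQ H a (C.iM v)) (h2 : ∀ v, InH Q hQ H b (C.iM' v)) (j : Fin n) (c : F) :
    InH Q hQ H a (c • b) := by
  set s : Fin n → F := Pi.single j 1 with hs
  have hss : s ⬝ᵥ s = 1 := by simp [hs]
  have hpol : polar ⇑Q b (c • C.iM' s) = 0 := by rw [polar_smul_right, hbM', smul_zero]
  set g := eichlerElt Q hQ b (c • C.iM' s) hb hpol with hg
  have hgH : g ∈ H := by
    have := h2 (c • s) hb (by rw [hbM'])
    rw [hg]
    convert this using 2
    rw [map_smul]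
  have hba : polar ⇑Q b a = 0 := by rw [polar_comm]; exact hab
  have e1 : act Q g a = a := by
    rw [hg, act_eichlerElt', hba, polar_smul_left, polar_comm, haM']
    simp
  have e2 : act Q g (C.iM s) = C.iM s - c • b := by
    rw [hg, act_eichlerElt', hbM, polar_smul_left, polar_comm, C.MM', hss]
    simp
  have h3 := InH_conj Q hQ H hgH (h1 s)
  rw [e1, e2] at h3
  have h4 := InH_sub Q hQ H (haM s)
    (show polar ⇑Q a (C.iM s - c • b) = 0 by
      rw [polar_sub_right, haM, polar_smul_right, hab]; simp) (h1 s) h3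
  have : C.iM s - (C.iM s - c • b) = c • b := by abel
  rwa [this] at h4

variable (z : ↥(Cfsg.isometryGroup F ⇑Q)) (dd : F) (j0 j1 : Fin n)
  (hfpf : ∀ v : Fin n → F, v ≠ 0 → A2' *ᵥ v ≠ v)
  (xs1 : act Q xs C.e1 = C.e1) (xs2 : act Q xs C.f1 = C.f1)
  (xs3 : act Q xs C.e2 = C.e2) (xs4 : act Q xs C.f2 = C.f2)
  (z1 : act Q z C.e1 = C.e1)
  (z2 : act Q z (C.iM (Pi.single j0 1)) = C.iM (Pi.single j0 1))
  (z3 : act Q z (C.iM' (Pi.single j0 1)) = C.iM' (Pi.single j0 1))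
  (z4 : act Q z C.e2 = - C.f2)
  (z5 : act Q z (C.iM (Pi.single j1 1)) = dd • C.f2 - C.iM' (Pi.single j1 1))
  (hr : eichlerElt Q hQ C.e1 (C.iM (Pi.single j0 1)) C.qe1 (C.e1M _) ∈ H)
  (hxu : eichlerElt Q hQ C.f1 C.e2 C.qf1 C.f1e2 ∈ H)
  (hz : z ∈ H)

include hsp hsp' xsM xsM' hxs hfpf xs1 xs2 xs3 xs4 z1 z2 z3 z4 z5 hr hxu hz in
/-- the block root groups at `e1, f1, e2, f2` all lie in `H` -/
theorem blocks_mem :
    ((∀ v, InH Q hQ H C.e1 (C.iM v)) ∧ (∀ v, InH Q hQ H C.e1 (C.iM' v))) ∧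
    ((∀ v, InH Q hQ H C.f1 (C.iM v)) ∧ (∀ v, InH Q hQ H C.f1 (C.iM' v))) ∧
    ((∀ v, InH Q hQ H C.e2 (C.iM v)) ∧ (∀ v, InH Q hQ H C.e2 (C.iM' v))) ∧
    ((∀ v, InH Q hQ H C.f2 (C.iM v)) ∧ (∀ v, InH Q hQ H C.f2 (C.iM' v))) := by
  have hs0 : (Pi.single j0 1 : Fin n → F) ≠ 0 := by
    intro h; have := congrFun h j0; simp at this
  have hs1 : (Pi.single j1 1 : Fin n → F) ≠ 0 := by
    intro h; have := congrFun h j1; simp at this
  -- step 1 : E(e1, M)
  have a1 : ∀ v, InH Q hQ H C.e1 (C.iM v) :=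
    spreadM Q hQ H C A2 xs hsp xsM hxs C.e1 C.e1M xs1 _ hs0 (fun _ _ => hr)
  -- step 2 : E(e1, M')
  have a1' : ∀ v, InH Q hQ H C.e1 (C.iM' v) := by
    have h1 := InH_conj Q hQ H hz (a1 (Pi.single j1 1))
    rw [z1, z5] at h1
    have h2 := InH_conj Q hQ H hxs h1
    rw [xs1] at h2
    have e : act Q xs (dd • C.f2 - C.iM' (Pi.single j1 1))
        = dd • C.f2 - C.iM' (A2' *ᵥ Pi.single j1 1) := by
      unfold act
      rw [Matrix.mulVec_sub, Matrix.mulVec_smul]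
      have h4 := xs4; have h5 := xsM' (Pi.single j1 1)
      unfold act at h4 h5
      rw [h4, h5]
    rw [e] at h2
    have p1 : polar ⇑Q C.e1 (dd • C.f2 - C.iM' (Pi.single j1 1)) = 0 := by
      rw [polar_sub_right, polar_smul_right, C.e1f2, C.e1M']; simp
    have p2 : polar ⇑Q C.e1 (dd • C.f2 - C.iM' (A2' *ᵥ Pi.single j1 1)) = 0 := by
      rw [polar_sub_right, polar_smul_right, C.e1f2, C.e1M']; simp
    have h3 := InH_sub Q hQ H p1 p2 h1 h2
    have e2 : dd • C.f2 - C.iM' (Pi.single j1 1) - (dd • C.f2 - C.iM' (A2' *ᵥ Pi.single j1 1))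
        = C.iM' (A2' *ᵥ Pi.single j1 1 - Pi.single j1 1) := by
      rw [map_sub]; abel
    rw [e2] at h3
    exact spreadM' Q hQ H C A2' xs hsp' xsM' hxs C.e1 C.e1M' xs1 _
      (sub_ne_zero.mpr (hfpf _ hs1)) h3
  -- the unipotent `xu = E(f1, e2)`
  have hfe : polar ⇑Q C.f1 C.e1 = 1 := by rw [polar_comm]; exact C.e1f1
  have hee : polar ⇑Q C.e2 C.e1 = 0 := by rw [polar_comm]; exact C.e1e2
  have hff : polar ⇑Q C.f1 C.f2 = 0 := C.f1f2
  have xu_e1 : act Q (eichlerElt Q hQ C.f1 C.e2 C.qf1 C.f1e2) C.e1 = C.e1 + C.e2 := by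
    rw [act_eichlerElt', hfe, hee, C.qe2]; simp
  have xu_f2 : act Q (eichlerElt Q hQ C.f1 C.e2 C.qf1 C.f1e2) C.f2 = C.f2 - C.f1 := by
    rw [act_eichlerElt', hff, C.e2f2, C.qe2]; simp [sub_eq_add_neg]
  have xu_M : ∀ v, act Q (eichlerElt Q hQ C.f1 C.e2 C.qf1 C.f1e2) (C.iM v) = C.iM v := by
    intro v
    rw [act_eichlerElt', C.f1M, C.e2M]; simp
  have xu_M' : ∀ v, act Q (eichlerElt Q hQ C.f1 C.e2 C.qf1 C.f1e2) (C.iM' v) = C.iM' v := by
    intro v
    rw [act_eichlerElt', C.f1M', C.e2M']; simp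
  -- step 3 : e2
  have q12 : Q (C.e1 + C.e2) = 0 := by
    rw [QuadraticMap.map_add Q, C.qe1, C.qe2, C.e1e2]; simp
  have b2 : ∀ v, InH Q hQ H C.e2 (C.iM v) := by
    intro v
    have h1 := InH_conj Q hQ H hxu (a1 v)
    rw [xu_e1, xu_M] at h1
    have h2 := InH_sub_left Q hQ H q12 C.qe1 (C.qM v)
      (by rw [polar_add_left, polar_self, C.qe1, polar_comm, C.e1e2]; simp)
      (by rw [polar_add_left, C.e1M, C.e2M]; simp) (C.e1M v) h1 (a1 v)
    have : C.e1 + C.e2 - C.e1 = C.e2 := by abel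
    rwa [this] at h2
  have b2' : ∀ v, InH Q hQ H C.e2 (C.iM' v) := by
    intro v
    have h1 := InH_conj Q hQ H hxu (a1' v)
    rw [xu_e1, xu_M'] at h1
    have h2 := InH_sub_left Q hQ H q12 C.qe1 (C.qM' v)
      (by rw [polar_add_left, polar_self, C.qe1, polar_comm, C.e1e2]; simp)
      (by rw [polar_add_left, C.e1M', C.e2M']; simp) (C.e1M' v) h1 (a1' v)
    have : C.e1 + C.e2 - C.e1 = C.e2 := by abel
    rwa [this] at h2
  -- step 4 : f2
  have c2 : ∀ v, InH Q hQ H C.f2 (C.iM v) := by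
    have h1 := InH_conj Q hQ H hz (b2 (Pi.single j0 1))
    rw [z4, z2] at h1
    have h2 : InH Q hQ H ((-1 : F) • C.f2) (C.iM (Pi.single j0 1)) := by
      rwa [neg_one_smul]
    have h3 := InH_smul_left' Q hQ H (-1 : F) C.qf2 (C.f2M _) h2
    have h4 := InH_neg Q hQ H h3
    rw [neg_one_smul, neg_neg] at h4
    exact spreadM Q hQ H C A2 xs hsp xsM hxs C.f2 C.f2M xs4 _ hs0 h4
  have c2' : ∀ v, InH Q hQ H C.f2 (C.iM' v) := by
    have h1 := InH_conj Q hQ H hz (b2' (Pi.single j0 1))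
    rw [z4, z3] at h1
    have h2 : InH Q hQ H ((-1 : F) • C.f2) (C.iM' (Pi.single j0 1)) := by
      rwa [neg_one_smul]
    have h3 := InH_smul_left' Q hQ H (-1 : F) C.qf2 (C.f2M' _) h2
    have h4 := InH_neg Q hQ H h3
    rw [neg_one_smul, neg_neg] at h4
    exact spreadM' Q hQ H C A2' xs hsp' xsM' hxs C.f2 C.f2M' xs4 _ hs0 h4
  -- step 5 : f1
  have q21 : Q (C.f2 - C.f1) = 0 := by
    rw [sub_eq_add_neg, QuadraticMap.map_add Q, QuadraticMap.map_neg, C.qf1, C.qf2,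
      polar_neg_right, polar_comm, C.f1f2]; simp
  have hf2f1 : polar ⇑Q C.f2 C.f1 = 0 := by rw [polar_comm]; exact C.f1f2
  have d1 : ∀ v, InH Q hQ H C.f1 (C.iM v) := by
    intro v
    have h1 := InH_conj Q hQ H hxu (c2 v)
    rw [xu_f2, xu_M] at h1
    have h2 := InH_sub_left Q hQ H C.qf2 q21 (C.qM v)
      (by rw [polar_sub_right, polar_self, C.qf2, hf2f1]; simp)
      (C.f2M v) (by rw [polar_sub_left, C.f2M, C.f1M]; simp) (c2 v) h1
    have : C.f2 - (C.f2 - C.f1) = C.f1 := by abel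
    rwa [this] at h2
  have d1' : ∀ v, InH Q hQ H C.f1 (C.iM' v) := by
    intro v
    have h1 := InH_conj Q hQ H hxu (c2' v)
    rw [xu_f2, xu_M'] at h1
    have h2 := InH_sub_left Q hQ H C.qf2 q21 (C.qM' v)
      (by rw [polar_sub_right, polar_self, C.qf2, hf2f1]; simp)
      (C.f2M' v) (by rw [polar_sub_left, C.f2M', C.f1M']; simp) (c2' v) h1
    have : C.f2 - (C.f2 - C.f1) = C.f1 := by abel
    rwa [this] at h2
  exact ⟨⟨a1, a1'⟩, ⟨d1, d1'⟩, ⟨b2, b2'⟩, ⟨c2, c2'⟩⟩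


omit hsp hsp' xsM xsM' hxs in
/-- a point `a ∈ {e1, f1}` whose block root groups lie in `H` is root-full -/
theorem full_of (a a' : ι → F) (j : Fin n) (ha : Q a = 0) (haa' : polar ⇑Q a a' = 1)
    (hae2 : polar ⇑Q a C.e2 = 0) (haf2 : polar ⇑Q a C.f2 = 0)
    (haM : ∀ v, polar ⇑Q a (C.iM v) = 0) (haM' : ∀ v, polar ⇑Q a (C.iM' v) = 0)
    (hdec : ∀ x : ι → F, ∃ (α β c d : F) (v w : Fin n → F),
      x = α • a + β • a' + c • C.e2 + d • C.f2 + C.iM v + C.iM' w)
    (hSa : (∀ v, InH Q hQ H a (C.iM v)) ∧ (∀ v, InH Q hQ H a (C.iM' v)))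
    (hSe : (∀ v, InH Q hQ H C.e2 (C.iM v)) ∧ (∀ v, InH Q hQ H C.e2 (C.iM' v)))
    (hSf : (∀ v, InH Q hQ H C.f2 (C.iM v)) ∧ (∀ v, InH Q hQ H C.f2 (C.iM' v))) :
    rootFull Q hQ H a := by
  intro x hu hux
  obtain ⟨α, β, c, d, v, w, rfl⟩ := hdec x
  have haa : polar ⇑Q a a = 0 := by rw [polar_self, ha, smul_zero]
  have hβ : β = 0 := by
    have := hux
    simp only [polar_add_right, polar_smul_right, haa, haa', hae2, haf2, haM, haM', smul_eq_mul,
      mul_zero, mul_one, add_zero, zero_add] at this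
    exact this
  subst hβ
  have p1 : polar ⇑Q a (α • a) = 0 := by rw [polar_smul_right, haa, smul_zero]
  have p2 : polar ⇑Q a (c • C.e2) = 0 := by rw [polar_smul_right, hae2, smul_zero]
  have p3 : polar ⇑Q a (d • C.f2) = 0 := by rw [polar_smul_right, haf2, smul_zero]
  have i1 : InH Q hQ H a (α • a) := InH_smul_self Q hQ H a α
  have i2 : InH Q hQ H a (c • C.e2) :=
    InH_cross Q hQ H C a C.e2 ha C.qe2 hae2 haM haM' C.e2M C.e2M' hSa.1 hSe.2 j c
  have i3 : InH Q hQ H a (d • C.f2) :=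
    InH_cross Q hQ H C a C.f2 ha C.qf2 haf2 haM haM' C.f2M C.f2M' hSa.1 hSf.2 j d
  have s1 := InH_add Q hQ H p1 p2 i1 i2
  have s2 := InH_add Q hQ H (by rw [polar_add_right, p1, p2, add_zero]) p3 s1 i3
  have s3 := InH_add Q hQ H (by rw [polar_add_right, polar_add_right, p1, p2, p3]; simp)
    (haM v) s2 (hSa.1 v)
  have s4 := InH_add Q hQ H
    (by rw [polar_add_right, polar_add_right, polar_add_right, p1, p2, p3, haM]; simp)
    (haM' w) s3 (hSa.2 w)
  have e : α • a + (0 : F) • a' + c • C.e2 + d • C.f2 + C.iM v + C.iM' w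
      = α • a + c • C.e2 + d • C.f2 + C.iM v + C.iM' w := by
    rw [zero_smul, add_zero]
  have := s4 hu (by rw [← e]; exact hux)
  convert this using 2
  

include hsp hsp' xsM xsM' hxs hfpf xs1 xs2 xs3 xs4 z1 z2 z3 z4 z5 hr hxu hz in
/-- **the abstract core**: `Ω ≤ H` -/
theorem core_main [Fintype F] (hn5 : 5 ≤ finrank F (ι → F))
    (hn2 : (2 : F) = 0 → 7 ≤ finrank F (ι → F)) :
    commutator ↥(Cfsg.isometryGroup F ⇑Q) ≤ H := by
  obtain ⟨hS1, hS1', hS2, hS2'⟩ := blocks_mem Q hQ H C A2 A2' xs hsp hsp' xsM xsM' hxs z dd j0 j1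
    hfpf xs1 xs2 xs3 xs4 z1 z2 z3 z4 z5 hr hxu hz
  have hf1e1 : polar ⇑Q C.f1 C.e1 = 1 := by rw [polar_comm]; exact C.e1f1
  have full1 : rootFull Q hQ H C.e1 :=
    full_of Q hQ H C C.e1 C.f1 j0 C.qe1 C.e1f1 C.e1e2 C.e1f2 C.e1M C.e1M' C.span hS1 hS2 hS2'
  have full2 : rootFull Q hQ H C.f1 := by
    refine full_of Q hQ H C C.f1 C.e1 j0 C.qf1 hf1e1 C.f1e2 C.f1f2 C.f1M C.f1M' ?_ hS1' hS2 hS2'
    intro x
    obtain ⟨a, b, c, d, v, w, rfl⟩ := C.span x
    exact ⟨b, a, c, d, v, w, by rw [add_comm (a • C.e1)]⟩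
  apply omega_le_of_rootFull Q hQ hn5 hn2 H
  intro y hy
  exact rootFull_all Q hQ H C.e1 C.f1 C.qe1 C.qf1 full1 full2
    (by rw [C.e1f1]; exact one_ne_zero) y hy

end derive

end Cfsg.Agent.Lib.Helper37.TwoGen
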