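import Mathlib
import Cfsg.Agent.Lib.Helper37.TwoGenCore
import Cfsg.Agent.Lib.Helper39.OgSq
import Cfsg.Agent.Lib.Helper80.TgZ
import Cfsg.Agent.Lib.Helper37.TgPOW
import Cfsg.Agent.Lib.Helper37.TgSINGER
import Cfsg.Agent.Lib.Helper68.TgCFG
import Cfsg.Agent.Lib.Helper95.TgBLOCK

/-! # S2414 hive (helper37): assembly -/

set_option autoImplicit false
set_option linter.unusedSectionVars false
set_option linter.unusedVariables false

namespace Cfsg.Agent.Lib.Helper37.TwoGen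

open Matrix Module QuadraticMap
open Cfsg.Agent.Lib.Helper8 Cfsg.Agent.Lib.Helper13 Cfsg.Agent.Lib.Helper37

variable {ι : Type} [Fintype ι] [DecidableEq ι] {F : Type*} [Field F]

/-- an isometry acting trivially on the six families of a configuration is `1` -/
theorem eq_one_of_cfg (Q : QuadraticForm F (ι → F)) {n : ℕ} (C : Cfg Q n)
    (g : ↥(Cfsg.isometryGroup F ⇑Q)) (h1 : act Q g C.e1 = C.e1) (h2 : act Q g C.f1 = C.f1)
    (h3 : act Q g C.e2 = C.e2) (h4 : act Q g C.f2 = C.f2)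
    (h5 : ∀ v, act Q g (C.iM v) = C.iM v) (h6 : ∀ v, act Q g (C.iM' v) = C.iM' v) : g = 1 := by
  apply iso_ext
  intro x
  obtain ⟨a, b, c, d, v, w, rfl⟩ := C.span x
  have e : ∀ y, ((g : Matrix.GeneralLinearGroup ι F) : Matrix ι ι F) *ᵥ y = act Q g y := fun _ => rfl
  have e1 : ∀ y, (((1 : ↥(Cfsg.isometryGroup F ⇑Q)) : Matrix.GeneralLinearGroup ι F) :
      Matrix ι ι F) *ᵥ y = y := fun y => act_one Q y
  rw [e1, e]
  simp only [act_add, act_smul, h1, h2, h3, h4, h5, h6]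

theorem act_pow_iM (Q : QuadraticForm F (ι → F)) {n : ℕ} (f : (Fin n → F) →ₗ[F] (ι → F))
    (g : ↥(Cfsg.isometryGroup F ⇑Q)) (A : Matrix (Fin n) (Fin n) F)
    (h : ∀ v, act Q g (f v) = f (A *ᵥ v)) (k : ℕ) (v : Fin n → F) :
    act Q (g ^ k) (f v) = f ((A ^ k) *ᵥ v) := by
  induction k generalizing v with
  | zero => simp [act_one]
  | succ k ih =>
    rw [pow_succ, act_mul, h, ih, pow_succ, Matrix.mulVec_mulVec]

theorem act_pow_fix (Q : QuadraticForm F (ι → F)) (g : ↥(Cfsg.isometryGroup F ⇑Q)) (a : ι → F)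
    (h : act Q g a = a) (k : ℕ) : act Q (g ^ k) a = a := by
  induction k with
  | zero => simp [act_one]
  | succ k ih => rw [pow_succ, act_mul, h, ih]

theorem eichlerElt_pow_char (Q : QuadraticForm F (ι → F))
    (hQ : (QuadraticMap.polarBilin Q).Nondegenerate) (u v : ι → F) (hu : Q u = 0)
    (huv : polar ⇑Q u v = 0) : eichlerElt Q hQ u v hu huv ^ (ringChar F) = 1 := by
  rw [eichlerElt_pow]
  have h0 : ((ringChar F : ℕ) : F) = 0 := ringChar.Nat.cast_ringChar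
  rw [eichlerElt_congr Q hQ u _ u 0 hu _ hu (by simp) rfl (by rw [h0, zero_smul])]
  exact eichlerElt_zero Q hQ u hu

theorem commute_eichlerElt_of_fix (Q : QuadraticForm F (ι → F))
    (hQ : (QuadraticMap.polarBilin Q).Nondegenerate) (g : ↥(Cfsg.isometryGroup F ⇑Q))
    (u v : ι → F) (hu : Q u = 0) (huv : polar ⇑Q u v = 0) (h1 : act Q g u = u)
    (h2 : act Q g v = v) : Commute (eichlerElt Q hQ u v hu huv) g := by
  have h := conj_eichlerElt Q hQ g u v hu huv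
  have e : g * eichlerElt Q hQ u v hu huv * g⁻¹ = eichlerElt Q hQ u v hu huv := by
    rw [h]
    exact eichlerElt_congr Q hQ _ _ _ _ _ _ _ _ h1 h2
  show _ * _ = _ * _
  calc eichlerElt Q hQ u v hu huv * g = (g * eichlerElt Q hQ u v hu huv * g⁻¹) * g := by rw [e]
    _ = g * eichlerElt Q hQ u v hu huv := by group

section main
variable [Fintype F]

/-- generic assembly -/
theorem two_gen_of_data (Q : QuadraticForm F (ι → F))
    (hQ : (QuadraticMap.polarBilin Q).Nondegenerate)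
    (hn5 : 5 ≤ finrank F (ι → F)) (hn2 : (2 : F) = 0 → 7 ≤ finrank F (ι → F))
    (hcard : Fintype.card F ≠ 2 ∨ finrank F (ι → F) ≠ 4)
    {n : ℕ} (C : Cfg Q n) (A A' : Matrix (Fin n) (Fin n) F) (N : ℕ)
    (hAN : A ^ N = 1) (hA'N : A' ^ N = 1) (hcop : Nat.Coprime N (ringChar F))
    (hsp : SpanProp (A ^ 2)) (hsp' : SpanProp (A' ^ 2))
    (hfpf : ∀ v : Fin n → F, v ≠ 0 → (A' ^ 2) *ᵥ v ≠ v)
    (X : ↥(Cfsg.isometryGroup F ⇑Q))
    (X1 : act Q X C.e1 = C.e1) (X2 : act Q X C.f1 = C.f1)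
    (X3 : act Q X C.e2 = C.e2) (X4 : act Q X C.f2 = C.f2)
    (XM : ∀ v, act Q X (C.iM v) = C.iM (A *ᵥ v))
    (XM' : ∀ v, act Q X (C.iM' v) = C.iM' (A' *ᵥ v))
    (z : ↥(Cfsg.isometryGroup F ⇑Q)) (o : ℕ) (dd : F)
    (hzΩ : z ∈ commutator ↥(Cfsg.isometryGroup F ⇑Q)) (hzo : z ^ o = 1)
    (hocop : Nat.Coprime o (ringChar F)) (j0 j1 : Fin n)
    (z1 : act Q z C.e1 = C.e1)
    (z2 : act Q z (C.iM (Pi.single j0 1)) = C.iM (Pi.single j0 1))
    (z3 : act Q z (C.iM' (Pi.single j0 1)) = C.iM' (Pi.single j0 1))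
    (z4 : act Q z C.e2 = - C.f2)
    (z5 : act Q z (C.iM (Pi.single j1 1)) = dd • C.f2 - C.iM' (Pi.single j1 1)) :
    ∃ a b : Cfsg.POmega F ⇑Q, Subgroup.closure ({a, b} : Set (Cfsg.POmega F ⇑Q)) = ⊤ := by
  classical
  set xs := X ^ 2 with hxs
  have xs1 : act Q xs C.e1 = C.e1 := act_pow_fix Q X _ X1 2
  have xs2 : act Q xs C.f1 = C.f1 := act_pow_fix Q X _ X2 2
  have xs3 : act Q xs C.e2 = C.e2 := act_pow_fix Q X _ X3 2
  have xs4 : act Q xs C.f2 = C.f2 := act_pow_fix Q X _ X4 2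
  have xsM : ∀ v, act Q xs (C.iM v) = C.iM ((A ^ 2) *ᵥ v) := act_pow_iM Q C.iM X A XM 2
  have xsM' : ∀ v, act Q xs (C.iM' v) = C.iM' ((A' ^ 2) *ᵥ v) := act_pow_iM Q C.iM' X A' XM' 2
  have hXN : X ^ N = 1 := by
    apply eq_one_of_cfg Q C
    · exact act_pow_fix Q X _ X1 N
    · exact act_pow_fix Q X _ X2 N
    · exact act_pow_fix Q X _ X3 N
    · exact act_pow_fix Q X _ X4 N
    · intro v; rw [act_pow_iM Q C.iM X A XM N, hAN, Matrix.one_mulVec]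
    · intro v; rw [act_pow_iM Q C.iM' X A' XM' N, hA'N, Matrix.one_mulVec]
  have hxsN : xs ^ N = 1 := by
    rw [hxs, ← pow_mul, mul_comm, pow_mul, hXN, one_pow]
  set r := eichlerElt Q hQ C.e1 (C.iM (Pi.single j0 1)) C.qe1 (C.e1M _) with hr
  set xu := eichlerElt Q hQ C.f1 C.e2 C.qf1 C.f1e2 with hxu
  have hrp : r ^ (ringChar F) = 1 := eichlerElt_pow_char Q hQ _ _ _ _
  have hxup : xu ^ (ringChar F) = 1 := eichlerElt_pow_char Q hQ _ _ _ _
  have hcomm1 : Commute xu xs := commute_eichlerElt_of_fix Q hQ xs _ _ _ _ xs2 xs3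
  have hcomm2 : Commute r z := commute_eichlerElt_of_fix Q hQ z _ _ _ _ z1 z2
  obtain ⟨m1, m2⟩ := mem_zpowers_of_commute_coprime xu xs hcomm1 (ringChar F) N hxup hxsN
    hcop.symm
  obtain ⟨m3, m4⟩ := mem_zpowers_of_commute_coprime r z hcomm2 (ringChar F) o hrp hzo
    hocop.symm
  set H := Subgroup.closure ({xu * xs, r * z} : Set ↥(Cfsg.isometryGroup F ⇑Q)) with hH
  have hx : xu * xs ∈ H := Subgroup.subset_closure (by simp)
  have hy : r * z ∈ H := Subgroup.subset_closure (by simp)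
  have le1 : Subgroup.zpowers (xu * xs) ≤ H := by
    rw [Subgroup.zpowers_le]; exact hx
  have le2 : Subgroup.zpowers (r * z) ≤ H := by
    rw [Subgroup.zpowers_le]; exact hy
  have key : commutator ↥(Cfsg.isometryGroup F ⇑Q) ≤ H :=
    core_main Q hQ H C (A ^ 2) (A' ^ 2) xs hsp hsp' xsM xsM' (le1 m2) z dd j0 j1 hfpf
      xs1 xs2 xs3 xs4 z1 z2 z3 z4 z5 (le2 m3) (le1 m1) (le2 m4) hn5 hn2
  have hxuΩ : xu ∈ Cfsg.Omega F ⇑Q := eichlerElt_mem_omega Q hQ hn5 hn2 _ _ _ _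
  have hrΩ : r ∈ Cfsg.Omega F ⇑Q := eichlerElt_mem_omega Q hQ hn5 hn2 _ _ _ _
  have hxsΩ : xs ∈ Cfsg.Omega F ⇑Q :=
    Cfsg.Agent.Lib.Helper39.OgSq.pow_two_mem_omega Q hQ hcard X
  exact Cfsg.Agent.Lib.Helper39.OgSq.pomega_two_gen_of_le (⇑Q) (xu * xs) (r * z)
    (Subgroup.mul_mem _ hxuΩ hxsΩ) (Subgroup.mul_mem _ hrΩ hzΩ) key

/-- **`PΩ⁺_{2(n+2)}(F)` is generated by two elements.** -/
theorem two_gen_plus (n : ℕ) (hn : 2 ≤ n) :
    ∃ a b : Cfsg.POmega F ⇑(plusForm (n + 2) F),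
      Subgroup.closure ({a, b} : Set (Cfsg.POmega F ⇑(plusForm (n + 2) F))) = ⊤ := by
  classical
  have hQ : (QuadraticMap.polarBilin (plusForm (n + 2) F)).Nondegenerate :=
    plusForm_nondegenerate (n + 2) F
  have hdim : finrank F (Fin (n + 2) ⊕ Fin (n + 2) → F) = 2 * (n + 2) := by
    rw [Module.finrank_fintype_fun_eq_card, Fintype.card_sum, Fintype.card_fin]; ring
  have hn5 : 5 ≤ finrank F (Fin (n + 2) ⊕ Fin (n + 2) → F) := by rw [hdim]; omega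
  have hn2 : (2 : F) = 0 → 7 ≤ finrank F (Fin (n + 2) ⊕ Fin (n + 2) → F) := by
    intro _; rw [hdim]; omega
  have hcard : Fintype.card F ≠ 2 ∨ finrank F (Fin (n + 2) ⊕ Fin (n + 2) → F) ≠ 4 :=
    Or.inr (by rw [hdim]; omega)
  obtain ⟨C, hC1, hC2, hC3, hC4, hC5, hC6⟩ := exists_plusCfg (F := F) n
  obtain ⟨A, A', N, hAA, hAN, hA'N, hcop, hsp, hsp', hfpf⟩ := exists_singer_sq (F := F) n hn
  obtain ⟨X, X1, X2, X3, X4, XM, XM'⟩ := exists_blockElt n A A' hAA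
  obtain ⟨z, o, dd, hzΩ, hzo, hocop, z1, z2, z3, z4, z5⟩ := exists_zElt (F := F) n hn
  rw [← hC1] at X1 z1
  rw [← hC2] at X2
  rw [← hC3] at X3 z4
  rw [← hC4] at X4 z4 z5
  rw [← hC5] at XM z2 z5
  rw [← hC6] at XM' z3 z5
  exact two_gen_of_data (plusForm (n + 2) F) hQ hn5 hn2 hcard C A A' N hAN hA'N hcop hsp hsp'
    hfpf X X1 X2 X3 X4 XM XM' z o dd hzΩ hzo hocop ⟨0, by omega⟩ ⟨1, by omega⟩ z1 z2 z3 z4 z5

end main

end Cfsg.Agent.Lib.Helper37.TwoGen
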